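import Cfsg.Agent.Lib.KGroups.TripleAlt
import Cfsg.Agent.Lib.Schur.Alternating
import Cfsg.Agent.Lib.Schur.AlternatingMain
import Cfsg.Agent.Lib.Schur.Cover
import Cfsg.Agent.Lib.Char.AltCover.Main

/-!
# The multipliers of the alternating groups of degree six and seven
-/

set_option autoImplicit false
set_option maxRecDepth 20000

open Subgroup Equiv
open scoped commutatorElement

namespace CfsgLib.KGroups.AltMultiplier

open CfsgLib.Schur

universe u v w

/-! ### Fibre products -/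

section Fibre

variable {Q : Type u} [Group Q] {X : Type v} [Group X] {Y : Type w} [Group Y]

/-- The fibre product of two maps. -/
def fib (σ : X →* Q) (τ : Y →* Q) : Subgroup (X × Y) :=
  MonoidHom.eqLocus (σ.comp (MonoidHom.fst X Y)) (τ.comp (MonoidHom.snd X Y))

/-- The first projection. -/
def fibFst (σ : X →* Q) (τ : Y →* Q) : fib σ τ →* X := (MonoidHom.fst X Y).comp (fib σ τ).subtype

theorem fibFst_surjective (σ : X →* Q) (τ : Y →* Q) (hτ : Function.Surjective τ) :
    Function.Surjective (fibFst σ τ) := fun x => by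
  obtain ⟨y, hy⟩ := hτ (σ x)
  exact ⟨⟨(x, y), hy.symm⟩, rfl⟩

theorem fib_spec {σ : X →* Q} {τ : Y →* Q} (d : fib σ τ) : σ d.1.1 = τ d.1.2 := d.2

/-- The kernel of the first projection is the kernel of the second map. -/
def fibKerEquiv (σ : X →* Q) (τ : Y →* Q) : (fibFst σ τ).ker ≃* τ.ker where
  toFun d := ⟨d.1.1.2, by
    have h : σ d.1.1.1 = τ d.1.1.2 := d.1.2
    have h1 : d.1.1.1 = 1 := d.2
    rw [MonoidHom.mem_ker, ← h, h1, map_one]⟩
  invFun y := ⟨⟨(1, y.1), by
    show σ 1 = τ y.1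
    rw [map_one, MonoidHom.mem_ker.1 y.2]⟩, rfl⟩
  left_inv d := Subtype.ext (Subtype.ext (Prod.ext (Eq.symm (show d.1.1.1 = 1 from d.2)) rfl))
  right_inv y := rfl
  map_mul' a b := rfl

/-- With coprime exponents the first projection of a fibre product of a stem extension is a stem
extension. -/
theorem fibFst_isStem (σ : X →* Q) (τ : Y →* Q) (hσ : Function.Surjective σ)
    (hτ : Cfsg.IsStemExtension τ) (a b : ℕ) (hab : Nat.Coprime a b)
    (ha : ∀ x, σ x = 1 → x ^ a = 1) (hb : ∀ y, τ y = 1 → y ^ b = 1) :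
    Cfsg.IsStemExtension (fibFst σ τ) := by
  refine ⟨fibFst_surjective σ τ hτ.1, fun d hd => mem_center_iff.2 fun g => ?_, fun d hd => ?_⟩
  · have h1 : d.1.1 = 1 := hd
    have h2 : τ d.1.2 = 1 := by rw [← fib_spec d, h1, map_one]
    exact Subtype.ext (Prod.ext (show g.1.1 * d.1.1 = d.1.1 * g.1.1 by rw [h1, one_mul, mul_one])
      (mem_center_iff.1 (hτ.2.1 h2) g.1.2))
  · have h1 : d.1.1 = 1 := hd
    have h2 : τ d.1.2 = 1 := by rw [← fib_spec d, h1, map_one]
    let snd : fib σ τ →* Y := (MonoidHom.snd X Y).comp (fib σ τ).subtype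
    have hsnd : Function.Surjective snd := fun y => by
      obtain ⟨x, hx⟩ := hσ (τ y)
      exact ⟨⟨(x, y), hx⟩, rfl⟩
    have hmap : (commutator (fib σ τ)).map snd = commutator Y := by
      rw [_root_.commutator_def, Subgroup.map_commutator, Subgroup.map_top_of_surjective snd hsnd,
        ← _root_.commutator_def]
    obtain ⟨e, he, hey⟩ := hmap.ge (hτ.2.2 h2)
    have hey' : e.1.2 = d.1.2 := hey
    have hx1 : σ e.1.1 = 1 := by rw [fib_spec e, hey', h2]
    have hxa := ha _ hx1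
    have hbez : ((Nat.gcd a b : ℕ) : ℤ) = a * Nat.gcdA a b + b * Nat.gcdB a b := Nat.gcd_eq_gcd_ab a b
    rw [show Nat.gcd a b = 1 from hab, Nat.cast_one] at hbez
    have hd' : d = e ^ ((a : ℤ) * Nat.gcdA a b) := by
      refine Subtype.ext (Prod.ext ?_ ?_)
      · show d.1.1 = e.1.1 ^ ((a : ℤ) * Nat.gcdA a b)
        rw [zpow_mul, zpow_natCast, hxa, one_zpow, h1]
      · show d.1.2 = e.1.2 ^ ((a : ℤ) * Nat.gcdA a b)
        rw [hey', show ((a : ℤ) * Nat.gcdA a b) = 1 - (b : ℤ) * Nat.gcdB a b by linarith,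
          zpow_sub, zpow_one, zpow_mul, zpow_natCast, hb _ h2, one_zpow, inv_one, mul_one]
    rw [hd']
    exact zpow_mem he _

end Fibre

/-! ### Stem extensions in succession -/

theorem isStem_comp {Q : Type u} [Group Q] {X : Type v} [Group X] {Y : Type w} [Group Y]
    (hQ : commutator Q = ⊤) (σ : X →* Q) (hσ : Cfsg.IsStemExtension σ) (τ : Y →* X)
    (hτ : Cfsg.IsStemExtension τ) : commutator Y = ⊤ ∧ Cfsg.IsStemExtension (σ.comp τ) := by
  have perf : ∀ {A : Type v} {B : Type u} [Group A] [Group B] (f : A →* B), Cfsg.IsStemExtension f →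
      commutator B = ⊤ → commutator A = ⊤ := by
    intro A B _ _ f hf hB
    rw [eq_top_iff]
    intro x _
    have hmap : (commutator A).map f = ⊤ := by
      rw [_root_.commutator_def, Subgroup.map_commutator, Subgroup.map_top_of_surjective f hf.1,
        ← _root_.commutator_def, hB]
    obtain ⟨q, hq, hqx⟩ := hmap.ge (Subgroup.mem_top (f x))
    have h := hf.2.2 (show q⁻¹ * x ∈ f.ker by
      rw [MonoidHom.mem_ker, map_mul, map_inv, hqx, inv_mul_cancel])
    simpa using mul_mem hq h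
  have hX := perf σ hσ hQ
  have hY : commutator Y = ⊤ := by
    rw [eq_top_iff]
    intro x _
    have hmap : (commutator Y).map τ = ⊤ := by
      rw [_root_.commutator_def, Subgroup.map_commutator, Subgroup.map_top_of_surjective τ hτ.1,
        ← _root_.commutator_def, hX]
    obtain ⟨q, hq, hqx⟩ := hmap.ge (Subgroup.mem_top (τ x))
    have h := hτ.2.2 (show q⁻¹ * x ∈ τ.ker by
      rw [MonoidHom.mem_ker, map_mul, map_inv, hqx, inv_mul_cancel])
    simpa using mul_mem hq h
  refine ⟨hY, hσ.1.comp hτ.1, fun z hz => ?_, by rw [hY]; exact le_top⟩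
  refine Cover.mem_center_of_isPerfect ⟨hY⟩ z fun g => hτ.2.1 ?_
  have h := Subgroup.mem_center_iff.1 (hσ.2.1 (show σ (τ z) = 1 from hz)) (τ g)
  rw [MonoidHom.mem_ker, map_mul, map_mul, map_mul, map_inv, map_inv, ← h]
  group

/-! ### Bounds -/

/-- Two exponents bound a finite abelian kernel by the sizes of the targets. -/
theorem card_le_of_two {X : Type u} [Group X] [Finite X] (K W₁ W₂ : Subgroup X) (hc : K ≤ center X)
    (a b : ℕ) (h1 : ∀ z ∈ K, z ^ a ∈ W₁) (h2 : ∀ z ∈ K, z ^ b ∈ W₂)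
    (h0 : ∀ z ∈ K, z ^ a = 1 → z ^ b = 1 → z = 1) : Nat.card K ≤ Nat.card W₁ * Nat.card W₂ := by
  rw [← Nat.card_prod]
  refine Nat.card_le_card_of_injective
    (fun z : K => ((⟨z.1 ^ a, h1 _ z.2⟩ : W₁), (⟨z.1 ^ b, h2 _ z.2⟩ : W₂))) fun z w hzw => ?_
  simp only [Prod.mk.injEq, Subtype.mk.injEq] at hzw
  have hcomm : Commute z.1 w.1⁻¹ := (Subgroup.mem_center_iff.1 (hc (inv_mem w.2)) z.1)
  refine Subtype.ext (mul_inv_eq_one.1 (h0 _ (mul_mem z.2 (inv_mem w.2)) ?_ ?_))
  · rw [hcomm.mul_pow, inv_pow, hzw.1, mul_inv_cancel]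
  · rw [hcomm.mul_pow, inv_pow, hzw.2, mul_inv_cancel]

/-- Two commuting elements of order three. -/
theorem three_bound {X : Type v} [Group X] [Finite X] {Q : Type u} [Group Q] [Finite Q] (ξ : X →* Q)
    (hs : Function.Surjective ξ) (hk : ξ.ker ≤ center X) (a b : Q) (ha : a ^ 3 = 1)
    (hab : a * b = b * a) :
    ∃ W : Subgroup X, Nat.card W ≤ 3 ∧
      ∀ z ∈ ξ.ker ⊓ commutator X, z ^ (closure ({a, b} : Set Q)).index ∈ W := by
  obtain ⟨A, hA⟩ := hs a
  obtain ⟨B, hB⟩ := hs b
  set d := ⁅A, B⁆ with hd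
  have hdk : ξ d = 1 := by
    rw [map_commutatorElement, hA, hB, commutatorElement_eq_one_iff_mul_comm]; exact hab
  have hdc := mem_center_iff.1 (hk hdk)
  have hA3 := mem_center_iff.1 (hk (show ξ (A ^ 3) = 1 by rw [map_pow, hA, ha]))
  have hd3 : d * d * d = 1 := by
    have hcA : A * d * A⁻¹ = d := by rw [hdc A, mul_inv_cancel_right]
    calc d * d * d = (A * (A * d * A⁻¹) * A⁻¹) * (A * d * A⁻¹) * d := by rw [hcA, hcA]
      _ = A ^ 3 * B * (A ^ 3)⁻¹ * B⁻¹ := by simp [hd, commutatorElement_def, pow_succ, mul_assoc]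
      _ = 1 := by rw [← hA3 B]; group
  refine ⟨zpowers d, ?_, fun z hz => ?_⟩
  · rw [Nat.card_zpowers]
    exact Nat.le_of_dvd three_pos (orderOf_dvd_of_pow_eq_one (by rw [pow_succ, sq, hd3]))
  · refine Alternating.pow_index_mem_pair ξ hs hk hA hB ?_ ?_ hz.1 hz.2
    · rw [hdc A, mul_inv_cancel_right]; exact mem_zpowers _
    · rw [hdc B, mul_inv_cancel_right]; exact mem_zpowers _

theorem eq_one_of_gcd {X : Type u} [Group X] {z : X} {a b k : ℕ} (ha : z ^ a = 1) (hb : z ^ b = 1)
    (hk : z ^ k = 1) (h : Nat.gcd (Nat.gcd a b) k = 1) : z = 1 := by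
  rw [← pow_one z, ← h]
  exact pow_gcd_eq_one.2 ⟨pow_gcd_eq_one.2 ⟨ha, hb⟩, hk⟩

theorem six_bound {X : Type v} [Group X] [Finite X] (ξ : X →* alternatingGroup (Fin 6))
    (hξ : Cfsg.IsStemExtension ξ) : Nat.card ξ.ker ≤ 6 := by
  obtain ⟨hs, hk, hd⟩ := hξ
  let a : alternatingGroup (Fin 6) := ⟨swap 0 1 * swap 1 2 * swap 2 3 * swap 4 5, by rw [Perm.mem_alternatingGroup]; decide +kernel⟩
  let b : alternatingGroup (Fin 6) := ⟨swap 1 3 * swap 4 5, by rw [Perm.mem_alternatingGroup]; decide +kernel⟩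
  let a' : alternatingGroup (Fin 6) := ⟨swap 0 1 * swap 1 2, by rw [Perm.mem_alternatingGroup]; decide +kernel⟩
  let b' : alternatingGroup (Fin 6) := ⟨swap 3 4 * swap 4 5, by rw [Perm.mem_alternatingGroup]; decide +kernel⟩
  let c : alternatingGroup (Fin 6) := ⟨swap 0 1 * swap 1 2 * swap 2 3 * swap 3 4, by rw [Perm.mem_alternatingGroup]; decide +kernel⟩
  obtain ⟨W, hW, hW'⟩ := Alternating.eight_bound ξ hs hk a b
    ((orderOf_eq_iff (by norm_num)).2 (by decide +kernel)) (by decide +kernel)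
  obtain ⟨V, hV, hV'⟩ := three_bound ξ hs hk a' b' (by decide +kernel) (by decide +kernel)
  have hi : (closure ({a, b} : Set (alternatingGroup (Fin 6)))).index = 45 :=
    Alternating.closure_index a b 4 2 3 8 45 (by norm_num) le_rfl (by decide +kernel) (by decide +kernel)
      (by decide +kernel) (by decide +kernel)
      (by rw [Alternating.card_alt 6 (by norm_num)]; decide) (by norm_num)
  have hi' : (closure ({a', b'} : Set (alternatingGroup (Fin 6)))).index = 40 :=
    Alternating.closure_index a' b' 3 3 1 9 40 (by norm_num) (by norm_num) (by decide +kernel)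
      (by decide +kernel) (by decide +kernel) (by decide +kernel)
      (by rw [Alternating.card_alt 6 (by norm_num)]; decide) (by norm_num)
  rw [hi] at hW'
  rw [hi'] at hV'
  refine (card_le_of_two ξ.ker W V hk 45 40 (fun z hz => hW' z ⟨hz, hd hz⟩)
    (fun z hz => hV' z ⟨hz, hd hz⟩) fun z hz h1 h2 => ?_).trans (Nat.mul_le_mul hW hV)
  exact eq_one_of_gcd h1 h2 (Alternating.pow_eq_one_of_elt ξ hs hk (by norm_num) c 5 72 (by norm_num)
    (by decide +kernel) (by decide +kernel) (by decide +kernel) ⟨hz, hd hz⟩) (by norm_num)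

theorem seven_bound {X : Type v} [Group X] [Finite X] (ξ : X →* alternatingGroup (Fin 7))
    (hξ : Cfsg.IsStemExtension ξ) : Nat.card ξ.ker ≤ 6 := by
  obtain ⟨hs, hk, hd⟩ := hξ
  let a : alternatingGroup (Fin 7) := ⟨swap 0 1 * swap 1 2 * swap 2 3 * swap 4 5, by rw [Perm.mem_alternatingGroup]; decide +kernel⟩
  let b : alternatingGroup (Fin 7) := ⟨swap 1 3 * swap 4 5, by rw [Perm.mem_alternatingGroup]; decide +kernel⟩
  let a' : alternatingGroup (Fin 7) := ⟨swap 0 1 * swap 1 2, by rw [Perm.mem_alternatingGroup]; decide +kernel⟩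
  let b' : alternatingGroup (Fin 7) := ⟨swap 3 4 * swap 4 5, by rw [Perm.mem_alternatingGroup]; decide +kernel⟩
  let c : alternatingGroup (Fin 7) := ⟨swap 0 1 * swap 1 2 * swap 2 3 * swap 3 4, by rw [Perm.mem_alternatingGroup]; decide +kernel⟩
  let c' : alternatingGroup (Fin 7) := ⟨swap 0 1 * swap 1 2 * swap 2 3 * swap 3 4 * swap 4 5 * swap 5 6, by rw [Perm.mem_alternatingGroup]; decide +kernel⟩
  obtain ⟨W, hW, hW'⟩ := Alternating.eight_bound ξ hs hk a b
    ((orderOf_eq_iff (by norm_num)).2 (by decide +kernel)) (by decide +kernel)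
  obtain ⟨V, hV, hV'⟩ := three_bound ξ hs hk a' b' (by decide +kernel) (by decide +kernel)
  have hi : (closure ({a, b} : Set (alternatingGroup (Fin 7)))).index = 315 :=
    Alternating.closure_index a b 4 2 3 8 315 (by norm_num) le_rfl (by decide +kernel) (by decide +kernel)
      (by decide +kernel) (by decide +kernel)
      (by rw [Alternating.card_alt 7 (by norm_num)]; decide) (by norm_num)
  have hi' : (closure ({a', b'} : Set (alternatingGroup (Fin 7)))).index = 280 :=
    Alternating.closure_index a' b' 3 3 1 9 280 (by norm_num) (by norm_num) (by decide +kernel)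
      (by decide +kernel) (by decide +kernel) (by decide +kernel)
      (by rw [Alternating.card_alt 7 (by norm_num)]; decide) (by norm_num)
  rw [hi] at hW'
  rw [hi'] at hV'
  refine (card_le_of_two ξ.ker W V hk 315 280 (fun z hz => hW' z ⟨hz, hd hz⟩)
    (fun z hz => hV' z ⟨hz, hd hz⟩) fun z hz h1 h2 => ?_).trans (Nat.mul_le_mul hW hV)
  have h5 := Alternating.pow_eq_one_of_elt ξ hs hk (by norm_num) c 5 504 (by norm_num)
    (by decide +kernel) (by decide +kernel) (by decide +kernel) ⟨hz, hd hz⟩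
  have h7 := Alternating.pow_eq_one_of_elt ξ hs hk (by norm_num) c' 7 360 (by norm_num)
    (by decide +kernel) (by decide +kernel) (by decide +kernel) ⟨hz, hd hz⟩
  exact eq_one_of_gcd (pow_gcd_eq_one.2 ⟨h1, h2⟩ : z ^ Nat.gcd 315 280 = 1) h5 h7 (by norm_num)

/-! ### The multiplier -/

theorem cyclic_six {K : Type u} [Group K] [Finite K] {A B : Type v} [Group A] [Group B]
    (hA : Nat.card A = 2) (hB : Nat.card B = 3) (e : K ≃* A × B) :
    Nonempty (K ≃* Multiplicative (ZMod 6)) := by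
  have : Fact (Nat.Prime 2) := ⟨Nat.prime_two⟩
  have : Fact (Nat.Prime 3) := ⟨Nat.prime_three⟩
  have : IsCyclic A := isCyclic_of_prime_card hA
  have : IsCyclic B := isCyclic_of_prime_card hB
  have hAB : IsCyclic (A × B) := Group.isCyclic_prod_iff.2 ⟨inferInstance, inferInstance, by rw [hA, hB]; decide⟩
  refine ⟨e.trans (mulEquivOfCyclicCardEq ?_)⟩
  rw [Nat.card_prod, hA, hB, Nat.card_eq_fintype_card, Fintype.card_multiplicative, ZMod.card]

theorem hasCyclicSchurMultiplier_six_of {n : ℕ} (hn : 5 ≤ n)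
    (hcover : ∃ (Γ : Subgroup (Equiv.Perm (Fin n) × TripleAlt.GM)) (σ : ↥Γ →* alternatingGroup (Fin n)),
      Cfsg.IsStemExtension σ ∧ Nat.card σ.ker = 3)
    (hbound : ∀ (X : Type) [Group X] [Finite X] (ξ : X →* alternatingGroup (Fin n)),
      Cfsg.IsStemExtension ξ → Nat.card ξ.ker ≤ 6) :
    Cfsg.HasCyclicSchurMultiplier (alternatingGroup (Fin n)) 6 := by
  classical
  obtain ⟨Γ, σ, hσ, hσ3⟩ := hcover
  have := AltCover.finite_cover (n := n)
  let p := AltCover.proj n
  have hp : Cfsg.IsStemExtension p := ⟨AltCover.proj_surjective,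
    by rw [AltCover.ker_proj, zpowers_le]; exact AltCover.minusOne_mem_center,
    by rw [AltCover.ker_proj, zpowers_le]
       exact AltCover.minusOne_mem_commutator (i := ⟨0, by omega⟩) (j := ⟨1, by omega⟩)
         (k := ⟨2, by omega⟩) (l := ⟨3, by omega⟩) (by simp) (by simp) (by simp) (by simp) (by simp)
         (by simp)⟩
  have hp2 : Nat.card p.ker = 2 := by
    rw [AltCover.ker_proj, Nat.card_zpowers, AltCover.orderOf_minusOne]
  have hker3 : ∀ y, σ y = 1 → y ^ 3 = 1 := fun y hy => by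
    have h := pow_card_eq_one' (x := (⟨y, hy⟩ : σ.ker))
    rw [hσ3] at h
    exact congrArg Subtype.val h
  have hker2 : ∀ y, p y = 1 → y ^ 2 = 1 := fun y hy => by
    have h := pow_card_eq_one' (x := (⟨y, hy⟩ : p.ker))
    rw [hp2] at h
    exact congrArg Subtype.val h
  have hfst := fibFst_isStem p σ hp.1 hσ 2 3 (by decide) hker2 hker3
  have hQ : commutator (alternatingGroup (Fin n)) = ⊤ :=
    commutator_alternatingGroup_eq_top (by simpa using hn)
  obtain ⟨-, hstem⟩ := isStem_comp hQ p hp _ hfst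
  let e : (p.comp (fibFst p σ)).ker ≃* p.ker × σ.ker :=
    { toFun := fun d => (⟨d.1.1.1, d.2⟩, ⟨d.1.1.2, by
        rw [MonoidHom.mem_ker, ← fib_spec d.1]; exact d.2⟩)
      invFun := fun q => ⟨⟨(q.1.1, q.2.1), by
        show p q.1.1 = σ q.2.1
        rw [MonoidHom.mem_ker.1 q.1.2, MonoidHom.mem_ker.1 q.2.2]⟩, q.1.2⟩
      left_inv := fun d => rfl
      right_inv := fun q => rfl
      map_mul' := fun a b => rfl }
  have : Finite ↥(fib p σ) := inferInstance
  obtain ⟨f⟩ := cyclic_six hp2 hσ3 e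
  refine CfsgLib.Schur.Basic.hasSchurMultiplier_of_le _ hstem f fun X _ _ ξ hξ => ?_
  rw [Nat.card_eq_fintype_card (α := Multiplicative (ZMod 6)), Fintype.card_multiplicative, ZMod.card]
  exact hbound X ξ hξ

theorem alt_six : Cfsg.HasCyclicSchurMultiplier (alternatingGroup (Fin 6)) 6 :=
  hasCyclicSchurMultiplier_six_of (by norm_num) TripleAlt.cover_six fun _ _ _ ξ hξ => six_bound ξ hξ

theorem alt_seven : Cfsg.HasCyclicSchurMultiplier (alternatingGroup (Fin 7)) 6 :=
  hasCyclicSchurMultiplier_six_of (by norm_num) TripleAlt.cover_seven fun _ _ _ ξ hξ => seven_bound ξ hξ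

end CfsgLib.KGroups.AltMultiplier
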