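import Cfsg.Prelude.Def_Local
import Cfsg.Agent.Lib.Solvable.Cores
import Cfsg.Agent.Lib.Components.GenFitting

/-!
Thompson's A×B lemma and its consequence: if `C_G(z)` has characteristic `p` then so does the normalizer of
every `p`-subgroup containing `z`.
-/

set_option autoImplicit false

namespace CfsgLib.KGroups.CharP

open Cfsg

variable {G : Type*} [Group G] [Finite G] {p : ℕ} [Fact p.Prime]

omit [Finite G] [Fact p.Prime] in
theorem eq_one_of_pow_coprime {c : G} {n : ℕ} (hn : n.Coprime p) (h1 : c ^ n = 1)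
    {k : ℕ} (h2 : c ^ (p ^ k) = 1) : c = 1 := by
  have h3 : c ^ Nat.gcd n (p ^ k) = 1 := pow_gcd_eq_one.mpr ⟨h1, h2⟩
  rwa [(Nat.Coprime.pow_right k hn : Nat.gcd n (p ^ k) = 1), pow_one] at h3

/-- A subgroup with `⁅P, A⁆ = P` inside a nilpotent overgroup of both is trivial. -/
theorem eq_bot_of_commutator_eq {P A : Subgroup G} (hPA : IsPGroup p ↥(P ⊔ A)) (h : ⁅P, A⁆ = P) :
    P = ⊥ := by
  haveI := hPA.isNilpotent
  obtain ⟨n, hn⟩ := (Subgroup.isNilpotent_iff_lowerCentralSeries (P ⊔ A)).mp inferInstance
  have : ∀ m, P ≤ (P ⊔ A).lowerCentralSeries m := by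
    intro m
    induction m with
    | zero => exact le_sup_left
    | succ m ih =>
      rw [Subgroup.lowerCentralSeries_succ]
      conv_lhs => rw [← h]
      exact Subgroup.commutator_mono ih le_sup_right
  exact eq_bot_iff.mpr (hn ▸ this n)

omit [Finite G] [Fact p.Prime] in
theorem map_conj_eq_of_mem_normalizer {P : Subgroup G} {y : G} (hy : y ∈ Subgroup.normalizer (P : Set G)) :
    P.map (MulAut.conj y).toMonoidHom = P := by
  ext x
  rw [Subgroup.mem_map]
  constructor
  · rintro ⟨u, hu, rfl⟩; exact (Subgroup.mem_normalizer_iff.mp hy u).mp hu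
  · intro hx
    refine ⟨y⁻¹ * x * y, ?_, by simp [mul_assoc]⟩
    rw [Subgroup.mem_normalizer_iff.mp hy]
    simpa [mul_assoc] using hx

/-- Thompson's A×B lemma: `A` a `p`-group and `y` a `p'`-element commuting with `A`, both acting on the
`p`-group `P`; if `y` centralizes `C_P(A)` then it centralizes `P`. -/
theorem commute_of_commute_fixed {P A : Subgroup G} (hP : IsPGroup p ↥P) (hA : IsPGroup p ↥A)
    (hAP : A ≤ Subgroup.normalizer (P : Set G)) {y : G} (hy : (orderOf y).Coprime p)
    (hyA : ∀ a ∈ A, y * a = a * y) (hyP : y ∈ Subgroup.normalizer (P : Set G))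
    (hfix : ∀ x ∈ P, (∀ a ∈ A, a * x = x * a) → y * x = x * y) :
    ∀ x ∈ P, y * x = x * y := by
  induction hn : Nat.card P using Nat.strong_induction_on generalizing P with
  | _ n ih =>
  subst hn
  have hle : ⁅P, A⁆ ≤ P := Subgroup.le_normalizer_iff_commutator_le_left.mp hAP
  have hPA : IsPGroup p ↥(P ⊔ A) := by
    rw [sup_comm]; exact hA.to_sup_of_normal_right' hP hAP
  by_cases heq : ⁅P, A⁆ = P
  · have := eq_bot_of_commutator_eq hPA heq
    subst this
    intro x hx
    rw [Subgroup.mem_bot] at hx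
    simp [hx]
  · have hlt : Nat.card ↥⁅P, A⁆ < Nat.card P := by
      refine lt_of_le_of_ne (Subgroup.card_le_of_le hle) fun h => heq ?_
      exact Subgroup.eq_of_le_of_card_ge hle (le_of_eq h.symm)
    have hAn : A ≤ Subgroup.normalizer ((⁅P, A⁆ : Subgroup G) : Set G) :=
      Subgroup.normalizer_commutator_ge_right _ _
    have hyAn : y ∈ Subgroup.normalizer (A : Set G) := by
      rw [Subgroup.mem_normalizer_iff]
      intro a
      constructor
      · intro ha; rwa [hyA a ha, mul_inv_cancel_right]
      · intro ha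
        have h := hyA _ ha
        have h' : y * a * y⁻¹ = a := by
          have := congrArg (fun u => y⁻¹ * u * y) h
          simp [mul_assoc] at this
          rw [this, mul_inv_cancel_right]
        rwa [h'] at ha
    have hyn : y ∈ Subgroup.normalizer ((⁅P, A⁆ : Subgroup G) : Set G) := by
      rw [Subgroup.mem_normalizer_iff]
      intro x
      have e : (⁅P, A⁆).map (MulAut.conj y).toMonoidHom = ⁅P, A⁆ := by
        rw [Subgroup.map_commutator, map_conj_eq_of_mem_normalizer hyP, map_conj_eq_of_mem_normalizer hyAn]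
      constructor
      · intro hx; rw [← e]; exact ⟨x, hx, rfl⟩
      · intro hx
        rw [← e, Subgroup.mem_map] at hx
        obtain ⟨u, hu, hux⟩ := hx
        have : u = x := (MulAut.conj y).injective hux
        exact this ▸ hu
    have h0 : ∀ x ∈ ⁅P, A⁆, y * x = x * y :=
      ih _ hlt (hP.to_le hle) hAn hyn (fun x hx hxA => hfix x (hle hx) hxA) rfl
    intro x hx
    set c := x⁻¹ * (y * x * y⁻¹) with hc
    have hcP : c ∈ P := mul_mem (inv_mem hx) ((Subgroup.mem_normalizer_iff.mp hyP x).mp hx)
    have hcA : ∀ a ∈ A, a * c = c * a := by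
      intro a ha
      have hd : x * a * x⁻¹ * a⁻¹ ∈ ⁅P, A⁆ := Subgroup.commutator_mem_commutator hx ha
      have h1 := h0 _ hd
      have h2 := hyA a ha
      have key : a * c * a⁻¹ = c := by
        have hyd : y * (x * a * x⁻¹ * a⁻¹) * y⁻¹ = x * a * x⁻¹ * a⁻¹ := by rw [h1, mul_inv_cancel_right]
        have hya : y * a * y⁻¹ = a := by rw [h2, mul_inv_cancel_right]
        have hsplit : y * (x * a * x⁻¹ * a⁻¹) * y⁻¹ =
            (y * x * y⁻¹) * (y * a * y⁻¹) * (y * x * y⁻¹)⁻¹ * (y * a * y⁻¹)⁻¹ := by group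
        rw [hya, hyd] at hsplit
        have hxc : y * x * y⁻¹ = x * c := by rw [hc]; group
        rw [hxc] at hsplit
        have h3 : a = c * a * c⁻¹ := by
          have := congrArg (fun u => x⁻¹ * u * a * x) hsplit
          simp only [mul_inv_rev] at this
          calc a = x⁻¹ * (x * a * x⁻¹ * a⁻¹) * a * x := by group
            _ = _ := this
            _ = c * a * c⁻¹ := by group
        calc a * c * a⁻¹ = (c * a * c⁻¹) * c * a⁻¹ := by rw [← h3]
          _ = c := by group
      calc a * c = a * c * a⁻¹ * a := by group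
        _ = c * a := by rw [key]
    have hyc : y * c = c * y := hfix c hcP hcA
    have hpow : ∀ m : ℕ, y ^ m * x * (y ^ m)⁻¹ = x * c ^ m := by
      intro m
      induction m with
      | zero => simp
      | succ m ihm =>
        have hcm : y * c ^ m = c ^ m * y := (Commute.pow_right (hyc : Commute y c) m).eq
        calc y ^ (m + 1) * x * (y ^ (m + 1))⁻¹ = y * (y ^ m * x * (y ^ m)⁻¹) * y⁻¹ := by
              rw [pow_succ']; group
          _ = y * x * y⁻¹ * (y * c ^ m) * y⁻¹ := by rw [ihm]; group
          _ = x * c * c ^ m := by rw [hcm, hc]; group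
          _ = x * c ^ (m + 1) := by rw [mul_assoc, ← pow_succ']
    have h1 : c ^ orderOf y = 1 := by
      have := hpow (orderOf y)
      rw [pow_orderOf_eq_one, one_mul, inv_one, mul_one] at this
      exact (left_eq_mul.mp this)
    obtain ⟨k, hk⟩ := hP ⟨c, hcP⟩
    have h2 : c ^ (p ^ k) = 1 := by simpa using congrArg Subtype.val hk
    have hc1 := eq_one_of_pow_coprime hy h1 h2
    rw [hc, inv_mul_eq_one] at hc1
    calc y * x = y * x * y⁻¹ * y := by group
      _ = x * y := by rw [← hc1]

/-- `K` has characteristic `p` in elementwise form: no nontrivial `p'`-element of `K` centralizes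
`O_p(K)`. -/
theorem isPGroup_centralizer_pCore {K : Type*} [Group K] [Finite K]
    (h : ∀ d : K, (orderOf d).Coprime p → d ∈ Subgroup.centralizer (pCore p K : Set K) → d = 1) :
    Subgroup.centralizer (pCore p K : Set K) ≤ pCore p K := by
  have hp : p.Prime := Fact.out
  haveI : (Subgroup.centralizer (pCore p K : Set K)).Normal := inferInstance
  refine Solvable.Cores.le_pCore fun u => ?_
  obtain ⟨k, m, hm, hord⟩ := Nat.exists_eq_pow_mul_and_not_dvd (orderOf_pos u).ne' p hp.ne_one
  refine ⟨k, Subtype.ext (h _ ?_ (pow_mem u.2 _))⟩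
  have h1 : orderOf (u ^ (p ^ k)) = m := by
    rw [orderOf_pow' u (pow_ne_zero _ hp.ne_zero), hord,
      Nat.gcd_eq_right (Dvd.intro m rfl), Nat.mul_div_cancel_left _ (pow_pos hp.pos k)]
  rw [Subgroup.orderOf_coe, h1]
  exact Nat.Coprime.symm (hp.coprime_iff_not_dvd.mpr hm)

theorem eq_one_of_centralizer_pCore_le {K : Type*} [Group K] [Finite K]
    (h : Subgroup.centralizer (pCore p K : Set K) ≤ pCore p K) (d : K)
    (hd : (orderOf d).Coprime p) (hdc : d ∈ Subgroup.centralizer (pCore p K : Set K)) : d = 1 := by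
  obtain ⟨k, hk⟩ := Solvable.Cores.isPGroup_pCore p ⟨d, h hdc⟩
  exact eq_one_of_pow_coprime hd (pow_orderOf_eq_one d)
    (by simpa using congrArg Subtype.val hk)

/-- `O_p(C(T))`, as a subgroup of `G`, is normalized by `N(T)`. -/
theorem normalizer_le_normalizer_pCoreCentralizer (T : Subgroup G) :
    Subgroup.normalizer (T : Set G) ≤ Subgroup.normalizer
      (((pCore p ↥(Subgroup.centralizer (T : Set G))).map (Subgroup.centralizer (T : Set G)).subtype :
        Subgroup G) : Set G) := by
  set C := Subgroup.centralizer (T : Set G)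
  set N := Subgroup.normalizer (T : Set G)
  intro n hn
  have hC : ∀ g ∈ N, ∀ c ∈ C, g * c * g⁻¹ ∈ C := by
    intro g hg c hc
    rw [Subgroup.mem_centralizer_iff] at hc ⊢
    intro t ht
    have ht' : g⁻¹ * t * g ∈ T := by
      simpa using (Subgroup.mem_normalizer_iff.mp (inv_mem hg) t).mp ht
    calc t * (g * c * g⁻¹) = g * (g⁻¹ * t * g * c) * g⁻¹ := by group
      _ = g * (c * (g⁻¹ * t * g)) * g⁻¹ := by rw [hc _ ht']
      _ = g * c * g⁻¹ * t := by group
  let e : C ≃* C :=
    { toFun := fun c => ⟨n * c * n⁻¹, hC n hn c c.2⟩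
      invFun := fun c => ⟨n⁻¹ * c * n, by simpa using hC n⁻¹ (inv_mem hn) c c.2⟩
      left_inv := fun c => Subtype.ext (by simp [mul_assoc])
      right_inv := fun c => Subtype.ext (by simp [mul_assoc])
      map_mul' := fun a b => Subtype.ext (by simp [mul_assoc]) }
  have he : (pCore p ↥C).map e.toMonoidHom = pCore p ↥C :=
    Subgroup.characteristic_iff_map_eq.mp inferInstance e
  rw [Subgroup.mem_normalizer_iff]
  intro u
  constructor
  · rintro ⟨v, hv, rfl⟩
    exact ⟨e v, he ▸ ⟨v, hv, rfl⟩, rfl⟩
  · rintro ⟨v, hv, hveq⟩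
    rw [← he] at hv
    obtain ⟨w, hw, rfl⟩ := hv
    refine ⟨w, hw, ?_⟩
    have h1 : n * (w : G) * n⁻¹ = n * u * n⁻¹ := hveq
    exact mul_left_cancel (mul_right_cancel h1)

/-- If `C(A)` has characteristic `p` and the `p`-group `B` normalizes `A` and contains it, then `C(B)` has
characteristic `p`. -/
theorem centralizer_step {A B : Subgroup G} (hB : IsPGroup p ↥B) (hAB : A ≤ B)
    (hn : B ≤ Subgroup.normalizer (A : Set G))
    (h : Subgroup.centralizer (pCore p ↥(Subgroup.centralizer (A : Set G)) : Set ↥(Subgroup.centralizer (A : Set G)))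
      ≤ pCore p ↥(Subgroup.centralizer (A : Set G))) :
    Subgroup.centralizer (pCore p ↥(Subgroup.centralizer (B : Set G)) : Set ↥(Subgroup.centralizer (B : Set G)))
      ≤ pCore p ↥(Subgroup.centralizer (B : Set G)) := by
  set C := Subgroup.centralizer (A : Set G)
  set C' := Subgroup.centralizer (B : Set G)
  refine isPGroup_centralizer_pCore fun d hd hdc => ?_
  have hCC : C' ≤ C := Subgroup.centralizer_le hAB
  set W := (pCore p ↥C).map C.subtype with hW
  have hWp : IsPGroup p ↥W := (Solvable.Cores.isPGroup_pCore p).map _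
  have hNW := normalizer_le_normalizer_pCoreCentralizer (p := p) A
  have hdC : (d : G) ∈ C := hCC d.2
  have hfix : ∀ x ∈ W, (∀ b ∈ B, b * x = x * b) → (d : G) * x = x * d := by
    intro x hx hxb
    have hxC : x ∈ C' := Subgroup.mem_centralizer_iff.mpr hxb
    haveI : (W.subgroupOf C').Normal := by
      refine ⟨fun q hq c => ?_⟩
      rw [Subgroup.mem_subgroupOf] at hq ⊢
      exact (Subgroup.mem_normalizer_iff.mp
        (hNW (Subgroup.centralizer_le_normalizer _ (hCC c.2))) _).mp hq
    have h1 : W.subgroupOf C' ≤ pCore p ↥C' :=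
      Solvable.Cores.le_pCore (hWp.comap_of_injective _ C'.subtype_injective)
    exact congrArg Subtype.val (Subgroup.mem_centralizer_iff.mp hdc ⟨x, hxC⟩ (h1 hx)).symm
  have hall := commute_of_commute_fixed hWp hB (hn.trans hNW)
    (by rwa [Subgroup.orderOf_coe]) (fun b hb => (Subgroup.mem_centralizer_iff.mp d.2 b hb).symm)
    (hNW (Subgroup.centralizer_le_normalizer _ hdC)) hfix
  have h2 : (⟨d, hdC⟩ : C) = 1 := by
    refine eq_one_of_centralizer_pCore_le h _ ?_ ?_
    · simpa only [Subgroup.orderOf_mk, Subgroup.orderOf_coe] using hd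
    · rw [Subgroup.mem_centralizer_iff]
      intro v hv
      exact Subtype.ext (hall _ ⟨v, hv, rfl⟩).symm
  exact Subtype.ext (congrArg Subtype.val h2 :)

/-- If `C(A)` has characteristic `p`, so has `C(T)` for every `p`-group `T ≥ A`. -/
theorem centralizer_of_le {A T : Subgroup G} (hT : IsPGroup p ↥T) (hAT : A ≤ T)
    (h : Subgroup.centralizer (pCore p ↥(Subgroup.centralizer (A : Set G)) : Set ↥(Subgroup.centralizer (A : Set G)))
      ≤ pCore p ↥(Subgroup.centralizer (A : Set G))) :
    Subgroup.centralizer (pCore p ↥(Subgroup.centralizer (T : Set G)) : Set ↥(Subgroup.centralizer (T : Set G)))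
      ≤ pCore p ↥(Subgroup.centralizer (T : Set G)) := by
  induction hk : Nat.card T - Nat.card A using Nat.strong_induction_on generalizing A with
  | _ k ih =>
  subst hk
  rcases eq_or_ne A T with rfl | hne
  · exact h
  haveI := hT.isNilpotent
  have hlt : A.subgroupOf T < ⊤ := by
    rw [lt_top_iff_ne_top, Ne, Subgroup.subgroupOf_eq_top]
    exact fun hle => hne (le_antisymm hAT hle)
  have hlt' := Group.normalizerCondition_of_isNilpotent (A.subgroupOf T) hlt
  set B := T ⊓ Subgroup.normalizer (A : Set G) with hBdef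
  have hAB : A ≤ B := le_inf hAT Subgroup.le_normalizer
  have hstep := centralizer_step (hT.to_le inf_le_left) hAB inf_le_right h
  refine ih _ ?_ inf_le_left hstep rfl
  have h1 : Nat.card A < Nat.card B := by
    refine lt_of_le_of_ne (Subgroup.card_le_of_le hAB) fun heq => ?_
    have heqAB : A = B := Subgroup.eq_of_le_of_card_ge hAB (le_of_eq heq.symm)
    obtain ⟨u, hu, hu'⟩ := SetLike.exists_of_lt hlt'
    refine hu' (Subgroup.mem_subgroupOf.mpr ?_)
    rw [heqAB, hBdef]
    refine ⟨u.2, ?_⟩
    refine Subgroup.mem_normalizer_iff.mpr fun a => ?_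
    rw [Subgroup.mem_normalizer_iff] at hu
    constructor
    · intro ha; exact (hu ⟨a, hAT ha⟩).mp ha
    · intro ha
      have : a ∈ T := by
        have := mul_mem (mul_mem (inv_mem u.2) (hAT ha)) u.2
        simpa [mul_assoc] using this
      exact (hu ⟨a, this⟩).mpr ha
  have h2 : Nat.card B ≤ Nat.card T := Subgroup.card_le_of_le (inf_le_left : B ≤ T)
  rw [hBdef] at h1 h2
  omega

/-- If `C(z)` has characteristic `p`, so has `N(T)` for every `p`-group `T` containing `z`. -/
theorem centralizer_pCore_normalizer_le {z : G} {T : Subgroup G} (hT : IsPGroup p ↥T) (hzT : z ∈ T)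
    (hz : Subgroup.centralizer (pCore p ↥(Subgroup.centralizer ({z} : Set G)) : Set ↥(Subgroup.centralizer ({z} : Set G)))
      ≤ pCore p ↥(Subgroup.centralizer ({z} : Set G))) :
    Subgroup.centralizer (pCore p ↥(Subgroup.normalizer (T : Set G)) : Set ↥(Subgroup.normalizer (T : Set G)))
      ≤ pCore p ↥(Subgroup.normalizer (T : Set G)) := by
  have hzA : Subgroup.centralizer ((Subgroup.zpowers z : Subgroup G) : Set G) =
      Subgroup.centralizer ({z} : Set G) := by
    rw [Subgroup.zpowers_eq_closure, Subgroup.centralizer_closure]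
  have hC := centralizer_of_le hT ((Subgroup.zpowers_le).mpr hzT) (hzA.symm ▸ hz)
  set N := Subgroup.normalizer (T : Set G)
  set C := Subgroup.centralizer (T : Set G)
  refine isPGroup_centralizer_pCore fun d hd hdc => ?_
  have hTR : T.subgroupOf N ≤ pCore p ↥N := by
    haveI : (T.subgroupOf N).Normal := Subgroup.normal_in_normalizer
    exact Solvable.Cores.le_pCore (hT.comap_of_injective _ N.subtype_injective)
  have hdT : (d : G) ∈ C := Subgroup.mem_centralizer_iff.mpr fun t ht =>
    congrArg Subtype.val (Subgroup.mem_centralizer_iff.mp hdc ⟨t, Subgroup.le_normalizer ht⟩ (hTR ht))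
  have hWR : ∀ v : C, v ∈ pCore p ↥C →
      (⟨v, Subgroup.centralizer_le_normalizer _ v.2⟩ : N) ∈ pCore p ↥N := by
    haveI : (((pCore p ↥C).map C.subtype).subgroupOf N).Normal := by
      refine ⟨fun q hq c => ?_⟩
      rw [Subgroup.mem_subgroupOf] at hq ⊢
      exact (Subgroup.mem_normalizer_iff.mp (normalizer_le_normalizer_pCoreCentralizer T c.2) _).mp hq
    intro v hv
    exact Solvable.Cores.le_pCore (N := ((pCore p ↥C).map C.subtype).subgroupOf N)
      (((Solvable.Cores.isPGroup_pCore p).map C.subtype).comap_of_injective _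
      N.subtype_injective) ⟨v, hv, rfl⟩
  have h2 : (⟨d, hdT⟩ : C) = 1 := by
    refine eq_one_of_centralizer_pCore_le hC _ ?_ ?_
    · simpa only [Subgroup.orderOf_mk, Subgroup.orderOf_coe] using hd
    · rw [Subgroup.mem_centralizer_iff]
      intro v hv
      exact Subtype.ext (congrArg (fun u : N => (u : G)) (Subgroup.mem_centralizer_iff.mp hdc _ (hWR v hv)) :)
  exact Subtype.ext (congrArg Subtype.val h2 :)

/-- A group of characteristic `p` has `F*(K) = O_p(K)`. -/
theorem generalizedFitting_eq_pCore {K : Type*} [Group K] [Finite K]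
    (h : Subgroup.centralizer (pCore p K : Set K) ≤ pCore p K) :
    generalizedFittingSubgroup K = pCore p K := by
  have hp' : pPrimeCore p K = ⊥ := by
    rw [eq_bot_iff]
    intro x hx
    have hdis : Disjoint (pPrimeCore p K) (pCore p K) := by
      rw [disjoint_iff, eq_bot_iff]
      intro u hu
      obtain ⟨k, hk⟩ := Solvable.Cores.isPGroup_pCore p ⟨u, hu.2⟩
      refine Subgroup.mem_bot.mpr (eq_one_of_pow_coprime (Solvable.Cores.coprime_card_pPrimeCore (G := K) p) ?_
        (congrArg Subtype.val hk))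
      exact congrArg Subtype.val (pow_card_eq_one' (x := (⟨u, hu.1⟩ : pPrimeCore p K)))
    have hc : x ∈ Subgroup.centralizer (pCore p K : Set K) := by
      rw [Subgroup.mem_centralizer_iff]
      intro u hu
      exact (Subgroup.commute_of_normal_of_disjoint _ _ inferInstance inferInstance hdis x u hx hu).symm
    exact (disjoint_iff.mp hdis).le ⟨hx, h hc⟩
  have hF := Solvable.Cores.fittingSubgroup_eq_pCore p hp'
  refine le_antisymm (Components.generalizedFitting_le_of_centralizer_le _ hF.le h) ?_
  exact hF ▸ Components.fittingSubgroup_le_generalizedFittingSubgroup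

end CfsgLib.KGroups.CharP
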