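import Mathlib.GroupTheory.Nilpotent
import Mathlib.GroupTheory.PGroup
import Cfsg.Prelude.Def_ConjugacyFunctors

/-!
The two K-infinity subgroups of a finite p-group: monotonicity, stabilisation, maximal members.
-/

set_option autoImplicit false
set_option linter.unusedSectionVars false

namespace CfsgLib.KGroups.KInfinity

open Cfsg
open scoped commutatorElement

variable {P : Type*} [Group P]

/-- The centre of the subgroup `B`, seen in `P`. -/
abbrev Z (B : Subgroup P) : Subgroup P := B ⊓ Subgroup.centralizer (B : Set P)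

theorem mem_classTwo_iff {B : Subgroup P} : B ∈ classTwoSubgroups P ↔ ⁅B, B⁆ ≤ Z B :=
  ⟨fun h => le_inf B.commutator_le_self h, fun h => h.trans inf_le_right⟩

theorem upper_anti {Q R : Subgroup P} (h : Q ≤ R) : kUpperStarFamily R ⊆ kUpperStarFamily Q :=
  fun _ hB => ⟨hB.1, (Subgroup.commutator_mono le_rfl h).trans hB.2⟩

theorem lower_anti {Q R : Subgroup P} (h : Q ≤ R) : kLowerStarFamily R ⊆ kLowerStarFamily Q :=
  fun _ hB => ⟨hB.1, h.trans hB.2.1, fun A hA hAQ => hB.2.2 A hA (hAQ.trans h)⟩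

theorem kSeqOdd_succ (n : ℕ) : kSeqOdd P (n + 1) = sSup (kUpperStarFamily (kSeqEven P n)) := rfl

theorem kSeqOdd_succ_le : ∀ n : ℕ, kSeqOdd P (n + 1) ≤ kSeqOdd P n
  | 0 => le_top
  | n + 1 => sSup_le_sSup (upper_anti (sSup_le_sSup (lower_anti (kSeqOdd_succ_le n))))

theorem kSeqEven_le_succ (n : ℕ) : kSeqEven P n ≤ kSeqEven P (n + 1) :=
  sSup_le_sSup (lower_anti (kSeqOdd_succ_le n))

theorem kSeqOdd_antitone : Antitone (kSeqOdd P) := antitone_nat_of_succ_le kSeqOdd_succ_le

theorem kSeqEven_monotone : Monotone (kSeqEven P) := monotone_nat_of_le_succ kSeqEven_le_succ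

theorem exists_stable [Finite P] : ∃ n : ℕ, ∀ m, n ≤ m →
    kSeqEven P m = kInfLower P ∧ kSeqOdd P m = kInfUpper P := by
  obtain ⟨n, hn⟩ := WellFoundedGT.monotone_chain_condition
    (⟨fun m => OrderDual.toDual (kSeqOdd P m), fun a b h => kSeqOdd_antitone h⟩ : ℕ →o (Subgroup P)ᵒᵈ)
  have hodd : ∀ m, n ≤ m → kSeqOdd P m = kSeqOdd P n := fun m hm => (OrderDual.toDual.injective (hn m hm)).symm
  have heven : ∀ m, n ≤ m → kSeqEven P m = kSeqEven P n := fun m hm => by
    rw [kSeqEven, kSeqEven, hodd m hm]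
  refine ⟨n, fun m hm => ⟨le_antisymm (le_iSup (kSeqEven P) m) (iSup_le fun k => ?_),
    le_antisymm (le_iInf fun k => ?_) (iInf_le _ m)⟩⟩
  · rw [heven m hm]
    exact (kSeqEven_monotone (le_max_right n k)).trans_eq (heven _ (le_max_left n k))
  · rw [hodd m hm]
    exact (hodd _ (le_max_left n k)).symm.trans_le (kSeqOdd_antitone (le_max_right n k))

/-- Normal abelian subgroups are members of every family. -/
theorem normal_abelian_mem {A : Subgroup P} [A.Normal] (hA : IsMulCommutative A) (Q : Subgroup P) :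
    A ∈ classTwoSubgroups P ∧ A ∈ kLowerStarFamily Q ∧ A ∈ kUpperStarFamily Q := by
  have hc : A ≤ Subgroup.centralizer (A : Set P) := Subgroup.le_centralizer_iff_isMulCommutative.mpr hA
  have h2 : A ∈ classTwoSubgroups P := A.commutator_le_self.trans hc
  have hQ : ∀ R : Subgroup P, ⁅A, R⁆ ≤ Z A := fun R =>
    le_inf (Subgroup.commutator_le_left A R) ((Subgroup.commutator_le_left A R).trans hc)
  exact ⟨h2, ⟨h2, Subgroup.normalizer_eq_top A ▸ le_top, fun R _ _ _ _ _ => hQ R⟩, h2, hQ Q⟩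

theorem bot_mem_lower (Q : Subgroup P) : (⊥ : Subgroup P) ∈ kLowerStarFamily Q :=
  (normal_abelian_mem inferInstance Q).2.1

theorem bot_mem_upper (Q : Subgroup P) : (⊥ : Subgroup P) ∈ kUpperStarFamily Q :=
  (normal_abelian_mem inferInstance Q).2.2

/-- Commutators with generators in a central subgroup give commutators in it. -/
theorem commutator_closure_le {s : Set P} {Q W : Subgroup P}
    (hW : W ≤ Subgroup.centralizer (Subgroup.closure s : Set P))
    (h : ∀ y ∈ s, ∀ q ∈ Q, ⁅y, q⁆ ∈ W) : ⁅Subgroup.closure s, Q⁆ ≤ W := by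
  rw [Subgroup.commutator_le]
  intro y hy q hq
  induction hy using Subgroup.closure_induction with
  | mem y hy => exact h y hy q hq
  | one => simp [one_mem]
  | mul y z hy hz ihy ihz =>
    have hc := Subgroup.mem_centralizer_iff.mp (hW ihz) y hy
    have : ⁅y * z, q⁆ = y * ⁅z, q⁆ * y⁻¹ * ⁅y, q⁆ := by simp [commutatorElement_def, mul_assoc]
    rw [this, hc, mul_inv_cancel_right]
    exact W.mul_mem ihz ihy
  | inv y hy ihy =>
    have hc := Subgroup.mem_centralizer_iff.mp (hW (W.inv_mem ihy)) y⁻¹ (Subgroup.inv_mem _ hy)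
    have : ⁅y⁻¹, q⁆ = y⁻¹ * ⁅y, q⁆⁻¹ * y⁻¹⁻¹ := by simp [commutatorElement_def, mul_assoc]
    rw [this, hc, mul_inv_cancel_right]
    exact W.inv_mem ihy

section PGroup

variable [Finite P] {p : ℕ} [Fact p.Prime]

/-- A `Q`-invariant subgroup not inside `W` has an element outside `W` whose commutators with `Q` lie in `W`. -/
theorem exists_mem_commutator_mem (hP : IsPGroup p P) {D W Q : Subgroup P}
    (hQ : Q ≤ Subgroup.normalizer (D : Set P)) (hD : ¬ D ≤ W) :
    ∃ x ∈ D, x ∉ W ∧ ∀ q ∈ Q, ⁅x, q⁆ ∈ W := by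
  classical
  have := hP.isNilpotent
  obtain ⟨n, hn⟩ := Subgroup.nilpotent_iff_lowerCentralSeries.mp ‹Group.IsNilpotent P›
  have hex : ∃ i, D ⊓ (⊤ : Subgroup P).lowerCentralSeries i ≤ W := ⟨n, by simp [hn]⟩
  have hpos : Nat.find hex ≠ 0 := fun h => hD (by simpa [h] using Nat.find_spec hex)
  obtain ⟨i, hi⟩ := Nat.exists_eq_succ_of_ne_zero hpos
  obtain ⟨x, ⟨hxD, hxl⟩, hxW⟩ := SetLike.not_le_iff_exists.mp (Nat.find_min hex (by omega : i < Nat.find hex))
  refine ⟨x, hxD, hxW, fun q hq => ?_⟩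
  have h := Nat.find_spec hex
  rw [hi, Nat.succ_eq_add_one, Subgroup.lowerCentralSeries_succ] at h
  refine h ⟨?_, Subgroup.commutator_mem_commutator hxl (Subgroup.mem_top q)⟩
  have h1 : q * x⁻¹ * q⁻¹ ∈ D := (Subgroup.mem_normalizer_iff.mp (hQ hq) x⁻¹).mp (D.inv_mem hxD)
  have := D.mul_mem hxD h1
  simpa [commutatorElement_def, mul_assoc] using this

/-- A subgroup of class at most two with `B ≱ C_P(B)` can be enlarged, keeping the conditions relative to `Q`. -/
theorem exists_extend (hP : IsPGroup p P) {B Q : Subgroup P} (hB : B ∈ classTwoSubgroups P)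
    (hQ : Q ≤ Subgroup.normalizer (B : Set P)) (h : ¬ Subgroup.centralizer (B : Set P) ≤ B) :
    ∃ C : Subgroup P, C ∈ classTwoSubgroups P ∧ B ≤ C ∧ C ≠ B ∧ Q ≤ Subgroup.normalizer (C : Set P) ∧
      Z B ≤ Z C ∧ ∀ R ≤ Q, ⁅B, R⁆ ≤ Z B → ⁅C, R⁆ ≤ Z C := by
  have hQC : Q ≤ Subgroup.normalizer (Subgroup.centralizer (B : Set P) : Set P) := by
    intro q hq
    rw [Subgroup.mem_normalizer_iff]
    intro c
    simp only [Subgroup.mem_centralizer_iff, SetLike.mem_coe]
    have hn := Subgroup.mem_normalizer_iff.mp (hQ hq)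
    constructor
    · intro hc b hb
      have := hc (q⁻¹ * b * q) ((hn _).mpr (by simpa [mul_assoc] using hb))
      calc b * (q * c * q⁻¹) = q * (q⁻¹ * b * q * c) * q⁻¹ := by simp [mul_assoc]
        _ = q * (c * (q⁻¹ * b * q)) * q⁻¹ := by rw [this]
        _ = q * c * q⁻¹ * b := by simp [mul_assoc]
    · intro hc b hb
      have := hc (q * b * q⁻¹) ((hn b).mp hb)
      simp only [mul_assoc, inv_mul_cancel_left, mul_right_inj] at this
      rw [← mul_assoc, ← mul_assoc] at this
      exact mul_right_cancel this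
  obtain ⟨x, hxC, hxZ, hx⟩ := exists_mem_commutator_mem hP hQC
    (W := Z B) (fun hle => h (hle.trans inf_le_left))
  have hxB : x ∉ B := fun hxB => hxZ ⟨hxB, hxC⟩
  set C := Subgroup.closure ((B : Set P) ∪ {x}) with hCdef
  have hBC : B ≤ C := fun b hb => Subgroup.subset_closure (Or.inl hb)
  have hxmem : x ∈ C := Subgroup.subset_closure (Or.inr rfl)
  have hxcen : x ∈ Subgroup.centralizer (C : Set P) := by
    rw [hCdef, Subgroup.centralizer_closure, Subgroup.mem_centralizer_iff]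
    rintro y (hy | rfl)
    · exact Subgroup.mem_centralizer_iff.mp hxC y hy
    · rfl
  have hZB : Z B ≤ Z C := by
    refine le_inf (inf_le_left.trans hBC) ?_
    rw [hCdef, Subgroup.centralizer_closure]
    intro z hz
    rw [Subgroup.mem_centralizer_iff]
    rintro y (hy | rfl)
    · exact Subgroup.mem_centralizer_iff.mp hz.2 y hy
    · exact (Subgroup.mem_centralizer_iff.mp hxC z hz.1).symm
  have h1 : ⁅B, C⁆ ≤ Z C := by
    rw [Subgroup.commutator_comm]
    refine commutator_closure_le inf_le_right ?_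
    rintro y (hy | rfl) b hb
    · exact hZB ((mem_classTwo_iff.mp hB) (Subgroup.commutator_mem_commutator hy hb))
    · rw [commutatorElement_eq_one_iff_commute.mpr (Subgroup.mem_centralizer_iff.mp hxC b hb).symm]
      exact one_mem _
  have h2 : C ∈ classTwoSubgroups P := by
    refine mem_classTwo_iff.mpr (commutator_closure_le inf_le_right ?_)
    rintro y (hy | rfl) c hc
    · exact h1 (Subgroup.commutator_mem_commutator hy hc)
    · rw [commutatorElement_eq_one_iff_commute.mpr (Subgroup.mem_centralizer_iff.mp hxcen c hc).symm]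
      exact one_mem _
  have hR : ∀ R ≤ Q, ⁅B, R⁆ ≤ Z B → ⁅C, R⁆ ≤ Z C := by
    intro R hR hBR
    refine commutator_closure_le inf_le_right ?_
    rintro y (hy | rfl) r hr
    · exact hZB (hBR (Subgroup.commutator_mem_commutator hy hr))
    · exact hZB (hx r (hR hr))
  refine ⟨C, h2, hBC, fun e => hxB (e ▸ hxmem), ?_, hZB, hR⟩
  intro q hq
  have key : ∀ r ∈ Q, ∀ c ∈ C, r * c * r⁻¹ ∈ C := by
    intro r hr c hc
    induction hc using Subgroup.closure_induction with
    | mem y hy =>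
      rcases hy with hy | rfl
      · exact hBC ((Subgroup.mem_normalizer_iff.mp (hQ hr) y).mp hy)
      · have hmem := C.mul_mem (C.inv_mem (hZB (hx r hr)).1) hxmem
        simpa [commutatorElement_def, mul_assoc] using hmem
    | one => simp [one_mem]
    | mul y z _ _ ihy ihz => simpa [mul_assoc] using C.mul_mem ihy ihz
    | inv y _ ihy => simpa [mul_assoc] using C.inv_mem ihy
  rw [Subgroup.mem_normalizer_iff]
  exact fun c => ⟨key q hq c, fun hc => by simpa [mul_assoc] using key q⁻¹ (Q.inv_mem hq) _ hc⟩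

theorem centralizer_le_of_maximal_classTwo (hP : IsPGroup p P) {B : Subgroup P}
    (hB : B ∈ classTwoSubgroups P) (hmax : ∀ C ∈ classTwoSubgroups P, B ≤ C → C = B) :
    Subgroup.centralizer (B : Set P) ≤ B := by
  by_contra h
  obtain ⟨C, h1, h2, h3, -⟩ := exists_extend hP hB (Q := ⊥) bot_le h
  exact h3 (hmax C h1 h2)

theorem centralizer_le_of_maximal_upper (hP : IsPGroup p P) {B Q : Subgroup P}
    (hB : B ∈ kUpperStarFamily Q) (hmax : ∀ C ∈ kUpperStarFamily Q, B ≤ C → C = B) :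
    Subgroup.centralizer (B : Set P) ≤ B := by
  by_contra h
  have hQ : Q ≤ Subgroup.normalizer (B : Set P) :=
    Subgroup.le_normalizer_iff_commutator_le_left.mpr (hB.2.trans inf_le_left)
  obtain ⟨C, h1, h2, h3, -, -, h4⟩ := exists_extend hP hB.1 hQ h
  exact h3 (hmax C ⟨h1, h4 Q le_rfl hB.2⟩ h2)

theorem centralizer_le_of_maximal_lower (hP : IsPGroup p P) {B Q : Subgroup P}
    (hB : B ∈ kLowerStarFamily Q) (hmax : ∀ C ∈ kLowerStarFamily Q, B ≤ C → C = B) :
    Subgroup.centralizer (B : Set P) ≤ B := by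
  by_contra h
  obtain ⟨C, h1, h2, h3, h5, h6, h4⟩ := exists_extend hP hB.1 hB.2.1 h
  refine h3 (hmax C ⟨h1, h5, fun A hA hAQ hCA hA1 hA2 => h4 A hAQ (hB.2.2 A hA hAQ (h2.trans hCA) ?_ ?_)⟩ h2)
  · exact le_bot_iff.mp (hA1 ▸ Subgroup.commutator_mono h2 le_rfl)
  · exact le_bot_iff.mp (hA2 ▸ Subgroup.commutator_mono (Subgroup.commutator_mono h6 le_rfl) le_rfl)

theorem centralizer_sSup_lower_le (hP : IsPGroup p P) (Q : Subgroup P) :
    Subgroup.centralizer ((sSup (kLowerStarFamily Q) : Subgroup P) : Set P) ≤ sSup (kLowerStarFamily Q) := by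
  obtain ⟨B, hB⟩ := (kLowerStarFamily Q).toFinite.exists_maximal ⟨⊥, bot_mem_lower Q⟩
  exact (Subgroup.centralizer_le (SetLike.coe_subset_coe.mpr (le_sSup hB.1))).trans
    ((centralizer_le_of_maximal_lower hP hB.1 fun C hC hBC => le_antisymm (hB.2 hC hBC) hBC).trans (le_sSup hB.1))

theorem centralizer_sSup_upper_le (hP : IsPGroup p P) (Q : Subgroup P) :
    Subgroup.centralizer ((sSup (kUpperStarFamily Q) : Subgroup P) : Set P) ≤ sSup (kUpperStarFamily Q) := by
  obtain ⟨B, hB⟩ := (kUpperStarFamily Q).toFinite.exists_maximal ⟨⊥, bot_mem_upper Q⟩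
  exact (Subgroup.centralizer_le (SetLike.coe_subset_coe.mpr (le_sSup hB.1))).trans
    ((centralizer_le_of_maximal_upper hP hB.1 fun C hC hBC => le_antisymm (hB.2 hC hBC) hBC).trans (le_sSup hB.1))

theorem centralizer_kInfLower_le (hP : IsPGroup p P) :
    Subgroup.centralizer (kInfLower P : Set P) ≤ kInfLower P := by
  obtain ⟨n, hn⟩ := exists_stable (P := P)
  rw [← (hn n le_rfl).1]
  exact centralizer_sSup_lower_le hP _

theorem centralizer_kInfUpper_le (hP : IsPGroup p P) :
    Subgroup.centralizer (kInfUpper P : Set P) ≤ kInfUpper P := by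
  obtain ⟨n, hn⟩ := exists_stable (P := P)
  rw [← (hn (n + 1) (Nat.le_succ n)).2]
  exact centralizer_sSup_upper_le hP _

end PGroup

section Map

variable {H : Type*} [Group H] {f : H →* P}

theorem map_Z (hf : Function.Injective f) (B : Subgroup H) : Z (B.map f) = (Z B).map f := by
  refine le_antisymm ?_ ?_
  · rintro _ ⟨⟨b, hb, rfl⟩, hc⟩
    refine ⟨b, ⟨hb, Subgroup.mem_centralizer_iff.mpr fun y hy => hf ?_⟩, rfl⟩
    simpa using Subgroup.mem_centralizer_iff.mp hc (f y) ⟨y, hy, rfl⟩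
  · rintro _ ⟨b, ⟨hb, hc⟩, rfl⟩
    refine ⟨⟨b, hb, rfl⟩, Subgroup.mem_centralizer_iff.mpr ?_⟩
    rintro _ ⟨y, hy, rfl⟩
    rw [← map_mul, ← map_mul, Subgroup.mem_centralizer_iff.mp hc y hy]

theorem map_mem_classTwo (hf : Function.Injective f) (B : Subgroup H) :
    B.map f ∈ classTwoSubgroups P ↔ B ∈ classTwoSubgroups H := by
  rw [mem_classTwo_iff, mem_classTwo_iff, ← Subgroup.map_commutator, map_Z hf,
    Subgroup.map_le_map_iff_of_injective hf]

theorem map_le_normalizer (hf : Function.Injective f) (B R : Subgroup H) :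
    R.map f ≤ Subgroup.normalizer (B.map f : Set P) ↔ R ≤ Subgroup.normalizer (B : Set H) := by
  rw [Subgroup.le_normalizer_iff_commutator_le_left, Subgroup.le_normalizer_iff_commutator_le_left,
    ← Subgroup.map_commutator, Subgroup.map_le_map_iff_of_injective hf]

theorem map_mem_upper (hf : Function.Injective f) (B R : Subgroup H) :
    B.map f ∈ kUpperStarFamily (R.map f) ↔ B ∈ kUpperStarFamily R := by
  show B.map f ∈ classTwoSubgroups P ∧ ⁅B.map f, R.map f⁆ ≤ Z (B.map f) ↔
    B ∈ classTwoSubgroups H ∧ ⁅B, R⁆ ≤ Z B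
  rw [map_mem_classTwo hf, map_Z hf, ← Subgroup.map_commutator, Subgroup.map_le_map_iff_of_injective hf]

theorem map_mem_lower (hf : Function.Injective f) (B R : Subgroup H) :
    B.map f ∈ kLowerStarFamily (R.map f) ↔ B ∈ kLowerStarFamily R := by
  have hbot : ∀ K : Subgroup H, K.map f = ⊥ ↔ K = ⊥ := fun K => Subgroup.map_eq_bot_iff_of_injective K hf
  show B.map f ∈ classTwoSubgroups P ∧ _ ∧ (∀ A ∈ classTwoSubgroups P, _) ↔ _
  constructor
  · rintro ⟨h1, h2, h3⟩
    refine ⟨(map_mem_classTwo hf B).mp h1, (map_le_normalizer hf B R).mp h2, fun A hA hAR hN e1 e2 => ?_⟩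
    have := h3 (A.map f) ((map_mem_classTwo hf A).mpr hA) (Subgroup.map_mono hAR)
      ((map_le_normalizer hf A B).mpr hN) (by rw [← Subgroup.map_commutator, ← Subgroup.map_commutator, hbot, e1])
      (by show ⁅⁅Z (B.map f), _⁆, _⁆ = ⊥; rw [map_Z hf, ← Subgroup.map_commutator, ← Subgroup.map_commutator, hbot]; exact e2)
    change ⁅B.map f, A.map f⁆ ≤ Z (B.map f) at this
    rwa [map_Z hf, ← Subgroup.map_commutator, Subgroup.map_le_map_iff_of_injective hf] at this
  · rintro ⟨h1, h2, h3⟩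
    refine ⟨(map_mem_classTwo hf B).mpr h1, (map_le_normalizer hf B R).mpr h2, fun A hA hAR hN e1 e2 => ?_⟩
    obtain ⟨A, rfl⟩ : ∃ A' : Subgroup H, A'.map f = A :=
      ⟨A.comap f, Subgroup.map_comap_eq_self (hAR.trans (Subgroup.map_le_range f R))⟩
    rw [map_mem_classTwo hf] at hA
    rw [Subgroup.map_le_map_iff_of_injective hf] at hAR
    rw [map_le_normalizer hf] at hN
    rw [← Subgroup.map_commutator, ← Subgroup.map_commutator, hbot] at e1
    change ⁅⁅Z (B.map f), _⁆, _⁆ = ⊥ at e2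
    rw [map_Z hf, ← Subgroup.map_commutator, ← Subgroup.map_commutator, hbot] at e2
    show ⁅B.map f, A.map f⁆ ≤ Z (B.map f)
    rw [map_Z hf, ← Subgroup.map_commutator, Subgroup.map_le_map_iff_of_injective hf]
    exact h3 A hA hAR hN e1 e2

theorem map_sSup_upper (hf : Function.Injective f) {R : Subgroup H}
    (h : sSup (kUpperStarFamily (R.map f)) ≤ f.range) :
    (sSup (kUpperStarFamily R)).map f = sSup (kUpperStarFamily (R.map f)) := by
  refine le_antisymm ?_ (sSup_le fun B hB => ?_)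
  · rw [Subgroup.map_le_iff_le_comap]
    exact sSup_le fun B hB => Subgroup.map_le_iff_le_comap.mp (le_sSup ((map_mem_upper hf B R).mpr hB))
  · obtain ⟨B, rfl⟩ : ∃ B' : Subgroup H, B'.map f = B :=
      ⟨B.comap f, Subgroup.map_comap_eq_self ((le_sSup hB).trans h)⟩
    exact Subgroup.map_mono (le_sSup ((map_mem_upper hf B R).mp hB))

theorem map_sSup_lower (hf : Function.Injective f) {R : Subgroup H}
    (h : sSup (kLowerStarFamily (R.map f)) ≤ f.range) :
    (sSup (kLowerStarFamily R)).map f = sSup (kLowerStarFamily (R.map f)) := by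
  refine le_antisymm ?_ (sSup_le fun B hB => ?_)
  · rw [Subgroup.map_le_iff_le_comap]
    exact sSup_le fun B hB => Subgroup.map_le_iff_le_comap.mp (le_sSup ((map_mem_lower hf B R).mpr hB))
  · obtain ⟨B, rfl⟩ : ∃ B' : Subgroup H, B'.map f = B :=
      ⟨B.comap f, Subgroup.map_comap_eq_self ((le_sSup hB).trans h)⟩
    exact Subgroup.map_mono (le_sSup ((map_mem_lower hf B R).mp hB))

/-- A subgroup containing all the proper terms of the K-sequence has the same K-infinity subgroups. -/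
theorem map_kInf [Finite P] [Finite H] (hf : Function.Injective f)
    (h : ∀ n : ℕ, kSeqEven P n ≤ f.range ∧ kSeqOdd P (n + 1) ≤ f.range) :
    (kInfLower H).map f = kInfLower P ∧ (kInfUpper H).map f = kInfUpper P := by
  have heven : ∀ n, kSeqOdd P (n + 1) ≤ (kSeqOdd H n).map f → (kSeqOdd H n).map f ≤ kSeqOdd P n →
      kSeqEven P n ≤ (kSeqEven H n).map f ∧ (kSeqEven H n).map f ≤ kSeqEven P (n + 1) := by
    intro n h1 h2
    have hsub : sSup (kLowerStarFamily ((kSeqOdd H n).map f)) ≤ f.range :=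
      (sSup_le_sSup (lower_anti h1)).trans (h (n + 1)).1
    rw [kSeqEven, kSeqEven, map_sSup_lower hf hsub]
    exact ⟨sSup_le_sSup (lower_anti h2), sSup_le_sSup (lower_anti h1)⟩
  have key : ∀ n, kSeqOdd P (n + 1) ≤ (kSeqOdd H n).map f ∧ (kSeqOdd H n).map f ≤ kSeqOdd P n := by
    intro n
    induction n with
    | zero =>
      refine ⟨?_, le_top⟩
      rw [kSeqOdd, ← MonoidHom.range_eq_map]
      exact (h 0).2
    | succ n ih =>
      obtain ⟨e1, e2⟩ := heven n ih.1 ih.2
      have hsub : sSup (kUpperStarFamily ((kSeqEven H n).map f)) ≤ f.range :=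
        (sSup_le_sSup (upper_anti e1)).trans (h n).2
      rw [kSeqOdd_succ, kSeqOdd_succ (P := H), kSeqOdd_succ n, map_sSup_upper hf hsub]
      exact ⟨sSup_le_sSup (upper_anti e2), sSup_le_sSup (upper_anti e1)⟩
  obtain ⟨a, ha⟩ := exists_stable (P := P)
  obtain ⟨b, hb⟩ := exists_stable (P := H)
  obtain ⟨k1, k2⟩ := key (max a b)
  obtain ⟨e1, e2⟩ := heven (max a b) k1 k2
  have g1 := ha (max a b) (le_max_left a b)
  have g2 := ha (max a b + 1) ((le_max_left a b).trans (Nat.le_succ _))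
  have g3 := hb (max a b) (le_max_right a b)
  rw [g2.2, g3.2] at k1
  rw [g1.2, g3.2] at k2
  rw [g1.1, g3.1] at e1
  rw [g2.1, g3.1] at e2
  exact ⟨le_antisymm e2 e1, le_antisymm k2 k1⟩

end Map

end CfsgLib.KGroups.KInfinity
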