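import Mathlib

/-!
A finite semifield of characteristic two whose sets of left and of right multiplications are closed under
the sum of inverses is a field.
-/

set_option autoImplicit false
set_option linter.unusedSectionVars false

namespace CfsgLib.KGroups.TISemifield

universe u

/-- The multiplication data. -/
structure Data (R : Type u) [AddCommGroup R] where
  mul : R →+ R →+ R
  one : R
  one_mul : ∀ x, mul one x = x
  mul_one : ∀ x, mul x one = x
  one_ne : one ≠ 0
  two : ∀ x : R, x + x = 0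
  nzd : ∀ x y, mul x y = 0 → x = 0 ∨ y = 0
  closedL : ∀ x y, x ≠ 0 → y ≠ 0 → x ≠ y → ∃ s, ∀ a a', mul x a = mul y a' → mul s (a + a') = mul x a
  closedR : ∀ x y, x ≠ 0 → y ≠ 0 → x ≠ y → ∃ s, ∀ a a', mul a x = mul a' y → mul (a + a') s = mul a x

variable {R : Type u} [AddCommGroup R] [Finite R]

namespace Data

variable (d : Data R)
include d

local infixl:70 " ⋆ " => fun x y => d.mul x y

theorem add_self (x : R) : x + x = 0 := d.two x

theorem eq_of_add_eq_zero {x y : R} (h : x + y = 0) : x = y :=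
  calc x = x + (y + y) := by rw [d.two, add_zero]
    _ = (x + y) + y := (add_assoc _ _ _).symm
    _ = y := by rw [h, zero_add]

theorem left_cancel {x a b : R} (hx : x ≠ 0) (h : x ⋆ a = x ⋆ b) : a = b := by
  refine sub_eq_zero.mp ((d.nzd x (a - b) ?_).resolve_left hx)
  rw [map_sub]
  exact sub_eq_zero.mpr h

theorem right_cancel {x a b : R} (hx : x ≠ 0) (h : a ⋆ x = b ⋆ x) : a = b := by
  refine sub_eq_zero.mp ((d.nzd (a - b) x ?_).resolve_right hx)
  rw [map_sub, AddMonoidHom.sub_apply]
  exact sub_eq_zero.mpr h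

/-- The opposite data. -/
def op : Data R where
  mul := d.mul.flip
  one := d.one
  one_mul := d.mul_one
  mul_one := d.one_mul
  one_ne := d.one_ne
  two := d.two
  nzd x y h := (d.nzd y x h).symm
  closedL := d.closedR
  closedR := d.closedL

theorem op_mul (x y : R) : d.op.mul x y = y ⋆ x := rfl

theorem exists_inv {x : R} (hx : x ≠ 0) : ∃ x', (∀ w, x' ⋆ (x ⋆ w) = w) ∧ ∀ w, x ⋆ (x' ⋆ w) = w := by
  suffices h : ∃ x', ∀ w, x' ⋆ (x ⋆ w) = w by
    obtain ⟨x', h1⟩ := h
    refine ⟨x', h1, fun w => ?_⟩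
    obtain ⟨w₀, rfl⟩ := Finite.surjective_of_injective (f := fun w => x ⋆ w) (fun _ _ => d.left_cancel hx) w
    show x ⋆ (x' ⋆ (x ⋆ w₀)) = x ⋆ w₀
    exact congrArg (fun z => x ⋆ z) (h1 w₀)
  rcases eq_or_ne x d.one with rfl | hx1
  · exact ⟨d.one, fun w => by simp only [d.one_mul]⟩
  obtain ⟨s, hs⟩ := d.closedL d.one (x + d.one) d.one_ne (fun e => hx1 (d.eq_of_add_eq_zero e))
    (fun e => hx (right_eq_add.mp e))
  refine ⟨s + d.one, fun w => ?_⟩
  have h1 := hs ((x + d.one) ⋆ w) w (d.one_mul _)
  simp only [d.one_mul, map_add, AddMonoidHom.add_apply] at h1 ⊢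
  rw [add_assoc, d.two, add_zero] at h1
  calc d.mul s (d.mul x w) + d.mul x w = (d.mul x w + w) + d.mul x w := by rw [h1]
    _ = w + (d.mul x w + d.mul x w) := by abel
    _ = w := by rw [d.two, add_zero]

/-- The identity of Hua. -/
theorem triple (x y w : R) : (x ⋆ (y ⋆ x)) ⋆ w = x ⋆ (y ⋆ (x ⋆ w)) := by
  suffices h : ∃ s, ∀ w, s ⋆ w = x ⋆ (y ⋆ (x ⋆ w)) by
    obtain ⟨s, hs⟩ := h
    have h1 := hs d.one
    simp only [d.mul_one] at h1
    subst h1
    exact hs w
  rcases eq_or_ne x 0 with rfl | hx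
  · exact ⟨0, fun w => by simp⟩
  rcases eq_or_ne y 0 with rfl | hy
  · exact ⟨0, fun w => by simp⟩
  obtain ⟨x', hx'x, hxx'⟩ := d.exists_inv hx
  obtain ⟨y', hy'y, hyy'⟩ := d.exists_inv hy
  rcases eq_or_ne (y' + x) 0 with hc | hc
  · refine ⟨x, fun w => ?_⟩
    have h := d.eq_of_add_eq_zero hc
    subst h
    exact congrArg _ (hyy' w).symm
  have hxc : x ≠ y' + x := by
    intro e
    have hy' : y' = 0 := right_eq_add.mp e
    apply d.one_ne
    have := hy'y d.one
    simp [hy'] at this
    exact this.symm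
  obtain ⟨s, hs⟩ := d.closedL x (y' + x) hx hc hxc
  refine ⟨s + x, fun w => ?_⟩
  have h1 := hs (x' ⋆ ((y' + x) ⋆ (y ⋆ (x ⋆ w)))) (y ⋆ (x ⋆ w)) (hxx' _)
  simp only [map_add, AddMonoidHom.add_apply] at h1 hy'y hx'x hxx' ⊢
  rw [hy'y, hx'x, hx'x, add_assoc, d.two, add_zero] at h1
  rw [h1]
  calc d.mul x w + d.mul x (d.mul y (d.mul x w)) + d.mul x w
      = d.mul x (d.mul y (d.mul x w)) + (d.mul x w + d.mul x w) := by abel
    _ = _ := by rw [d.two, add_zero]

theorem left_alt (x w : R) : (x ⋆ x) ⋆ w = x ⋆ (x ⋆ w) := by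
  have h := d.triple x d.one w
  simp only [d.one_mul] at h
  exact h

theorem left_alt_lin (x z w : R) : (x ⋆ z + z ⋆ x) ⋆ w = x ⋆ (z ⋆ w) + z ⋆ (x ⋆ w) := by
  have h := d.left_alt (x + z) w
  simp only [map_add, AddMonoidHom.add_apply] at h ⊢
  have h1 := d.left_alt x w
  have h2 := d.left_alt z w
  simp only at h1 h2
  rw [h1, h2] at h
  linear_combination (norm := abel) h

/-- The associator. -/
def assoc (x y z : R) : R := (x ⋆ y) ⋆ z + x ⋆ (y ⋆ z)

theorem assoc_comm₁ (x y z : R) : d.assoc x y z = d.assoc y x z := by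
  refine d.eq_of_add_eq_zero ?_
  have h := d.left_alt_lin x y z
  simp only [map_add, AddMonoidHom.add_apply] at h
  show d.mul (d.mul x y) z + d.mul x (d.mul y z) + (d.mul (d.mul y x) z + d.mul y (d.mul x z)) = 0
  calc _ = (d.mul (d.mul x y) z + d.mul (d.mul y x) z) + (d.mul x (d.mul y z) + d.mul y (d.mul x z)) := by abel
    _ = 0 := by rw [h, d.two]

theorem assoc_comm₂ (x y z : R) : d.assoc x y z = d.assoc x z y := by
  have h := d.op.assoc_comm₁ z y x
  have hop : ∀ a b c, d.op.assoc a b c = d.assoc c b a := fun a b c => add_comm _ _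
  rw [hop, hop] at h
  exact h

/-- Powers. -/
def pw (x : R) (i : ℕ) : R := (fun w => x ⋆ w)^[i] d.one

theorem pw_zero (x : R) : d.pw x 0 = d.one := rfl

theorem pw_succ (x : R) (i : ℕ) : d.pw x (i + 1) = x ⋆ d.pw x i := Function.iterate_succ_apply' _ i _

theorem pw_one (x : R) : d.pw x 1 = x := d.mul_one x

theorem pw_mul : ∀ (x : R) (i : ℕ) (w : R), d.pw x i ⋆ w = (fun w => x ⋆ w)^[i] w
  | x, 0, w => d.one_mul w
  | x, 1, w => by simp [pw_one]
  | x, (i + 2), w => by
    have h1 : d.pw x i ⋆ x = d.pw x (i + 1) := by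
      rw [pw_mul x i x, pw, Function.iterate_succ_apply]
      simp only [d.mul_one]
    have h2 := d.triple x (d.pw x i) w
    rw [Function.iterate_succ_apply', Function.iterate_succ_apply]
    rw [← pw_mul x i (x ⋆ w), pw_succ]
    simp only at h1 h2 ⊢
    rw [← h1]
    exact h2

theorem pw_add (x : R) (i j : ℕ) : d.pw x i ⋆ d.pw x j = d.pw x (i + j) := by
  rw [d.pw_mul x i, pw, pw, Function.iterate_add_apply]

theorem assoc_pw (x : R) (i : ℕ) (z : R) : d.assoc x (d.pw x i) z = 0 := by
  have h1 := d.pw_mul x (i + 1) z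
  have h2 := d.pw_mul x i z
  rw [Function.iterate_succ_apply', ← h2, pw_succ] at h1
  show d.mul (d.mul x (d.pw x i)) z + d.mul x (d.mul (d.pw x i) z) = 0
  simp only at h1
  rw [h1, d.two]

/-- A commutative associative subset. -/
structure IsSub (K : AddSubgroup R) : Prop where
  one_mem : d.one ∈ K
  mul_mem : ∀ k ∈ K, ∀ l ∈ K, k ⋆ l ∈ K
  comm : ∀ k ∈ K, ∀ l ∈ K, k ⋆ l = l ⋆ k
  assoc : ∀ k ∈ K, ∀ l ∈ K, ∀ w, (k ⋆ l) ⋆ w = k ⋆ (l ⋆ w)

theorem exists_isSub : ∃ K, d.IsSub K := by
  refine ⟨AddSubgroup.closure {d.one}, ?_⟩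
  have h : ∀ k ∈ AddSubgroup.closure {d.one}, k = 0 ∨ k = d.one := by
    intro k hk
    refine AddSubgroup.closure_induction (p := fun k _ => k = 0 ∨ k = d.one) ?_ (Or.inl rfl) ?_ ?_ hk
    · rintro x (rfl : x = _); exact Or.inr rfl
    · rintro x y _ _ (rfl | rfl) (rfl | rfl) <;> simp [d.two]
    · rintro x _ (rfl | rfl)
      · exact Or.inl neg_zero
      · exact Or.inr (neg_eq_of_add_eq_zero_left (d.two _))
  refine ⟨AddSubgroup.subset_closure rfl, fun k hk l hl => ?_, fun k hk l hl => ?_, fun k hk l hl w => ?_⟩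
  · rcases h k hk with rfl | rfl
    · simp [zero_mem]
    · simpa [d.one_mul] using hl
  · rcases h k hk with rfl | rfl <;> rcases h l hl with rfl | rfl <;> simp [d.one_mul, d.mul_one]
  · rcases h k hk with rfl | rfl <;> simp [d.one_mul]

section Sub

variable {d} {K : AddSubgroup R} (hK : d.IsSub K)

/-- The ring structure on a subset. -/
@[reducible] def IsSub.commRing : CommRing K :=
  { (inferInstance : AddCommGroup K) with
    mul := fun k l => ⟨(k : R) ⋆ l, hK.mul_mem _ k.2 _ l.2⟩
    one := ⟨d.one, hK.one_mem⟩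
    mul_assoc := fun k l m => Subtype.ext (hK.assoc _ k.2 _ l.2 m)
    one_mul := fun k => Subtype.ext (d.one_mul k)
    mul_one := fun k => Subtype.ext (d.mul_one k)
    zero_mul := fun k => Subtype.ext (show d.mul ((0 : K) : R) k = _ by simp)
    mul_zero := fun k => Subtype.ext (show d.mul k ((0 : K) : R) = _ by simp)
    left_distrib := fun k l m => Subtype.ext (show d.mul k ((l + m : K) : R) = _ by simp [map_add]; rfl)
    right_distrib := fun k l m => Subtype.ext (show d.mul ((k + l : K) : R) m = _ by simp [map_add]; rfl)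
    mul_comm := fun k l => Subtype.ext (hK.comm _ k.2 _ l.2) }

end Sub

set_option maxHeartbeats 4000000 in
/-- A maximal subset is everything. -/
theorem sub_eq_top {K : AddSubgroup R} (hK : d.IsSub K)
    (hmax : ∀ K', d.IsSub K' → K ≤ K' → K' = K) : K = ⊤ := by
  letI := hK.commRing
  have hval : ∀ k l : K, ((k * l : K) : R) = (k : R) ⋆ l := fun _ _ => rfl
  have hone : ((1 : K) : R) = d.one := rfl
  haveI : Nontrivial K := ⟨⟨0, 1, fun e => d.one_ne (congrArg Subtype.val e).symm⟩⟩
  haveI : IsDomain K := by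
    haveI : NoZeroDivisors K := ⟨fun {k l} e => by
      have e' : (k : R) ⋆ l = 0 := (hval k l).symm.trans (congrArg Subtype.val e)
      exact (d.nzd _ _ e').imp (fun h => Subtype.ext h) (fun h => Subtype.ext h)⟩
    exact NoZeroDivisors.to_isDomain K
  letI : Field K := (Finite.isDomain_to_isField K).toField
  haveI : CharP K 2 := CharTwo.of_one_ne_zero_of_two_eq_zero one_ne_zero
    ((one_add_one_eq_two (R := K)).symm.trans (Subtype.ext (d.two _)))
  have hsqrt : ∀ k : K, ∃ r : K, r * r = k := fun k => by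
    obtain ⟨r, hr⟩ := FiniteField.isSquare_of_char_two (F := K) (ringChar.eq K 2) k
    exact ⟨r, hr.symm⟩
  -- elements commuting with `K` lie in `K`
  have hC : ∀ x : R, (∀ k : K, (k : R) ⋆ x = x ⋆ k) → x ∈ K := by
    intro x hx
    have hLk : ∀ (k : K) w, (k : R) ⋆ (x ⋆ w) = x ⋆ ((k : R) ⋆ w) := fun k w => by
      have h := d.left_alt_lin k x w
      simp only [map_add, AddMonoidHom.add_apply] at h
      refine d.eq_of_add_eq_zero (h.symm.trans ?_)
      have h0 := hx k
      simp only at h0
      rw [h0, d.two]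
    let L : R → AddMonoid.End R := fun r => d.mul r
    let gens : Set (AddMonoid.End R) := Set.range (fun k : K => L k) ∪ {L x}
    have hcommgen : ∀ a ∈ gens, ∀ b ∈ gens, a * b = b * a := by
      rintro a (⟨k, rfl⟩ | rfl) b (⟨l, rfl⟩ | rfl)
      · refine AddMonoidHom.ext fun w => ?_
        show (k : R) ⋆ ((l : R) ⋆ w) = (l : R) ⋆ ((k : R) ⋆ w)
        have h1 := hK.assoc _ k.2 _ l.2 w
        have h2 := hK.assoc _ l.2 _ k.2 w
        have h3 := hK.comm _ k.2 _ l.2
        simp only at h1 h2 h3 ⊢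
        rw [← h1, ← h2, h3]
      · exact AddMonoidHom.ext fun w => hLk k w
      · exact AddMonoidHom.ext fun w => (hLk l w).symm
      · rfl
    let B := Subring.closure gens
    letI : CommRing B := Subring.closureCommRingOfComm hcommgen
    have hcommB : ∀ a ∈ B, ∀ b ∈ B, a * b = b * a := fun a ha b hb =>
      congrArg Subtype.val (mul_comm (⟨a, ha⟩ : B) ⟨b, hb⟩)
    have hpow : ∀ (r : R) (j : ℕ) (w : R), (L r ^ j) w = d.pw r j ⋆ w := by
      intro r j
      induction j with
      | zero => intro w; exact (d.one_mul w).symm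
      | succ j ih =>
        intro w
        rw [pow_succ', AddMonoid.End.coe_mul, Function.comp_apply, ih]
        show r ⋆ (d.pw r j ⋆ w) = _
        rw [d.pw_mul, d.pw_mul, Function.iterate_succ_apply']
    -- monomials
    have hmon : ∀ m ∈ Submonoid.closure gens, ∃ (k : K) (j : ℕ), m = L k * L x ^ j := by
      intro m hm
      induction hm using Submonoid.closure_induction with
      | mem a ha =>
        rcases ha with ⟨k, rfl⟩ | rfl
        · exact ⟨k, 0, by rw [pow_zero, _root_.mul_one]⟩
        · exact ⟨1, 1, AddMonoidHom.ext fun w => (d.one_mul _).symm⟩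
      | one => exact ⟨1, 0, AddMonoidHom.ext fun w => (d.one_mul _).symm⟩
      | mul a b _ _ iha ihb =>
        obtain ⟨k, j, rfl⟩ := iha
        obtain ⟨l, i, rfl⟩ := ihb
        refine ⟨k * l, j + i, ?_⟩
        have hc : Commute (L x ^ j) (L l) :=
          (show Commute (L x) (L l) from hcommgen _ (Or.inr rfl) _ (Or.inl ⟨l, rfl⟩)).pow_left j
        have hm : L ((k * l : K) : R) = L k * L l := AddMonoidHom.ext fun w => hK.assoc _ k.2 _ l.2 w
        rw [hm, pow_add]
        calc L k * L x ^ j * (L l * L x ^ i) = L k * (L x ^ j * L l) * L x ^ i := by simp only [mul_assoc]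
          _ = L k * (L l * L x ^ j) * L x ^ i := by rw [hc.eq]
          _ = _ := by simp only [mul_assoc]
    have hrange : ∀ b ∈ B, b = L (b d.one) := by
      intro b hb
      induction Subring.mem_closure_iff.mp hb using AddSubgroup.closure_induction with
      | mem a ha =>
        obtain ⟨k, j, rfl⟩ := hmon a ha
        obtain ⟨r, rfl⟩ := hsqrt k
        refine AddMonoidHom.ext fun w => ?_
        have hval' : (L (r * r : K) * L x ^ j) d.one = (r : R) ⋆ (d.pw x j ⋆ r) := by
          have h1 : L ((r * r : K) : R) * L x ^ j = L r * L x ^ j * L r := by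
            rw [show L ((r * r : K) : R) = L r * L r from AddMonoidHom.ext fun w => hK.assoc _ r.2 _ r.2 w, mul_assoc,
              mul_assoc, ((show Commute (L x) (L r) from hcommgen _ (Or.inr rfl) _ (Or.inl ⟨r, rfl⟩)).pow_left j).eq]
          rw [h1]
          show (r : R) ⋆ ((L x ^ j) ((r : R) ⋆ d.one)) = _
          rw [hpow]
          simp only [d.mul_one]
        rw [hval']
        show (L (r * r : K) * L x ^ j) w = ((r : R) ⋆ (d.pw x j ⋆ r)) ⋆ w
        rw [d.triple r (d.pw x j) w, ← hpow]
        have hc := ((show Commute (L x) (L r) from hcommgen _ (Or.inr rfl) _ (Or.inl ⟨r, rfl⟩)).pow_left j).eq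
        show ((r : R) ⋆ r) ⋆ ((L x ^ j) w) = (r : R) ⋆ ((L x ^ j) ((r : R) ⋆ w))
        rw [d.left_alt]
        exact congrArg (fun z => (r : R) ⋆ z) (DFunLike.congr_fun hc w).symm
      | zero => exact (map_zero d.mul).symm
      | add a b ha hb' iha ihb =>
        conv_lhs => rw [iha (Subring.mem_closure_iff.mpr ha), ihb (Subring.mem_closure_iff.mpr hb')]
        exact (map_add d.mul _ _).symm
      | neg a ha iha =>
        conv_lhs => rw [iha (Subring.mem_closure_iff.mpr ha)]
        exact (map_neg d.mul _).symm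
    let K' : AddSubgroup R := B.toAddSubgroup.comap d.mul
    have hK' : d.IsSub K' := by
      have hmul : ∀ k ∈ K', ∀ l ∈ K', L k * L l = L (k ⋆ l) := fun k hk l hl => by
        have h := hrange _ (B.mul_mem (show L k ∈ B from hk) (show L l ∈ B from hl))
        rw [h]
        show L (k ⋆ (l ⋆ d.one)) = _
        simp only [d.mul_one]
      refine ⟨?_, fun k hk l hl => ?_, fun k hk l hl => ?_, fun k hk l hl w => ?_⟩
      · show L d.one ∈ B
        rw [show L d.one = 1 from AddMonoidHom.ext d.one_mul]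
        exact B.one_mem
      · show L (k ⋆ l) ∈ B
        rw [← hmul k hk l hl]
        exact B.mul_mem hk hl
      · have h := DFunLike.congr_fun (hcommB (L k) hk (L l) hl) d.one
        show k ⋆ l = l ⋆ k
        have e1 : (L k * L l) d.one = k ⋆ (l ⋆ d.one) := rfl
        have e2 : (L l * L k) d.one = l ⋆ (k ⋆ d.one) := rfl
        rw [e1, e2] at h
        simpa only [d.mul_one] using h
      · exact (DFunLike.congr_fun (hmul k hk l hl) w).symm
    have hle : K ≤ K' := fun k hk => Subring.subset_closure (Or.inl ⟨⟨k, hk⟩, rfl⟩)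
    rw [← hmax K' hK' hle]
    exact Subring.subset_closure (Or.inr rfl)
  by_contra hne
  -- the left vector space and the right action of a generator
  obtain ⟨x₀, hx₀⟩ : ∃ x₀, x₀ ∉ K := by
    by_contra h; push Not at h; exact hne (eq_top_iff.mpr fun x _ => h x)
  obtain ⟨g, hg⟩ := IsCyclic.exists_generator (α := Kˣ)
  have hgen : ∀ k : K, k = 0 ∨ ∃ j : ℕ, k = (g : K) ^ j := fun k => by
    rcases eq_or_ne k 0 with h | h
    · exact Or.inl h
    · obtain ⟨j, hj⟩ := (mem_powers_iff_mem_zpowers (y := Units.mk0 k h) (x := g)).mpr (hg _)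
      exact Or.inr ⟨j, by simpa using (congrArg Units.val hj).symm⟩
  set a : K := (g : K) with ha
  let ι : K →+* AddMonoid.End R :=
    { toFun := fun k => d.mul k
      map_one' := AddMonoidHom.ext d.one_mul
      map_mul' := fun k l => AddMonoidHom.ext fun w => hK.assoc _ k.2 _ l.2 w
      map_zero' := map_zero d.mul
      map_add' := fun k l => map_add d.mul _ _ }
  letI : Module K R := Module.compHom R ι
  have hsmul : ∀ (k : K) (w : R), k • w = (k : R) ⋆ w := fun _ _ => rfl
  have hassoc : ∀ (k : K) (w : R) (l : K), ((k : R) ⋆ w) ⋆ l = (k : R) ⋆ (w ⋆ l) := fun k w l => by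
    refine d.eq_of_add_eq_zero ?_
    show d.assoc k w l = 0
    rw [d.assoc_comm₂]
    show d.mul (d.mul k l) w + d.mul k (d.mul l w) = 0
    have h := hK.assoc _ k.2 _ l.2 w
    simp only at h
    rw [h, d.two]
  have hassocR : ∀ (w : R) (k l : K), (w ⋆ k) ⋆ l = w ⋆ ((k * l : K) : R) := fun w k l => by
    refine d.eq_of_add_eq_zero ?_
    show d.assoc w k l = 0
    rw [d.assoc_comm₁, d.assoc_comm₂]
    show d.mul (d.mul k l) w + d.mul k (d.mul l w) = 0
    have h := hK.assoc _ k.2 _ l.2 w
    simp only at h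
    rw [h, d.two]
  let T : Module.End K R :=
    { toFun := fun w => w ⋆ a
      map_add' := fun w w' => by simp [map_add]
      map_smul' := fun k w => hassoc k w a }
  have hTpow : ∀ (j : ℕ) (w : R), (T ^ j) w = w ⋆ ((a ^ j : K) : R) := by
    intro j
    induction j with
    | zero => intro w; rw [pow_zero, pow_zero, hone]; exact (d.mul_one w).symm
    | succ j ih =>
      intro w
      rw [pow_succ', Module.End.mul_apply, ih, pow_succ]
      exact hassocR w (a ^ j) a
  haveI := Fintype.ofFinite K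
  classical
  have hpoly : Polynomial.aeval T (∏ k : K, (Polynomial.X - Polynomial.C k)) = 0 := by
    have hq : 1 < Fintype.card K := Fintype.one_lt_card
    have hroots := FiniteField.roots_X_pow_card_sub_X K
    have he := Polynomial.prod_multiset_X_sub_C_of_monic_of_roots_card_eq
      (p := (Polynomial.X ^ Fintype.card K - Polynomial.X : Polynomial K))
      (Polynomial.monic_X_pow_sub (by rw [Polynomial.degree_X]; exact_mod_cast hq))
      (by rw [hroots, FiniteField.X_pow_card_sub_X_natDegree_eq K hq]; exact Finset.card_univ)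
    rw [hroots] at he
    change (∏ k : K, (Polynomial.X - Polynomial.C k)) = _ at he
    rw [he, map_sub, map_pow, Polynomial.aeval_X]
    refine LinearMap.ext fun w => ?_
    rw [LinearMap.sub_apply, hTpow, FiniteField.pow_card]
    exact sub_self _
  have heig : ∀ (s : Finset K) (y : R), y ≠ 0 →
      Polynomial.aeval T (∏ k ∈ s, (Polynomial.X - Polynomial.C k)) y = 0 →
      ∃ c ∈ s, ∃ v : R, v ≠ 0 ∧ v ⋆ a = (c : R) ⋆ v := by
    intro s
    induction s using Finset.induction_on with
    | empty => intro y hy h; simp at h; exact absurd h hy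
    | insert c s hcs ih =>
      intro y hy h
      rw [Finset.prod_insert hcs, mul_comm, map_mul, Module.End.mul_apply] at h
      by_cases h0 : Polynomial.aeval T (Polynomial.X - Polynomial.C c) y = 0
      · refine ⟨c, Finset.mem_insert_self _ _, y, hy, ?_⟩
        rw [map_sub, Polynomial.aeval_X, Polynomial.aeval_C, LinearMap.sub_apply, sub_eq_zero] at h0
        exact h0
      · obtain ⟨c', hc', h'⟩ := ih _ h0 h
        exact ⟨c', Finset.mem_insert_of_mem hc', h'⟩
  have hy0 : x₀ ⋆ a + (a : R) ⋆ x₀ ≠ 0 := by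
    intro h
    refine hx₀ (hC x₀ fun k => ?_)
    have hca : x₀ ⋆ a = (a : R) ⋆ x₀ := d.eq_of_add_eq_zero h
    rcases hgen k with rfl | ⟨j, rfl⟩
    · simp
    · induction j with
      | zero => rw [pow_zero, hone]; simp [d.one_mul, d.mul_one]
      | succ j ih =>
        rw [pow_succ]
        have h2 := hassocR x₀ (a ^ j) a
        simp only at h2 ih ⊢
        rw [← h2, ← ih]
        have h3 := hassoc (a ^ j) x₀ a
        simp only at h3 hca
        rw [h3, hca]
        exact hK.assoc _ (a ^ j).2 _ a.2 x₀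
  obtain ⟨c, hc, v, hv, hva⟩ := heig (Finset.univ.erase a) (x₀ ⋆ a + (a : R) ⋆ x₀) hy0 (by
    have h := DFunLike.congr_fun hpoly x₀
    rw [← Finset.prod_erase_mul _ _ (Finset.mem_univ a), map_mul, Module.End.mul_apply, LinearMap.zero_apply] at h
    convert h using 2
    rw [map_sub, Polynomial.aeval_X, Polynomial.aeval_C, LinearMap.sub_apply]
    show d.mul x₀ a + d.mul a x₀ = d.mul x₀ a - d.mul a x₀
    rw [sub_eq_add_neg, neg_eq_of_add_eq_zero_left (d.two _)])
  have hca : c ≠ a := Finset.ne_of_mem_erase hc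
  -- the automorphism
  have hσex : ∀ l : K, ∃ s : K, v ⋆ l = (s : R) ⋆ v := fun l => by
    rcases hgen l with rfl | ⟨j, rfl⟩
    · exact ⟨0, by simp⟩
    · refine ⟨c ^ j, ?_⟩
      induction j with
      | zero => rw [pow_zero, pow_zero, hone]; simp [d.one_mul, d.mul_one]
      | succ j ih =>
        rw [pow_succ, pow_succ]
        have h2 := hassocR v (a ^ j) a
        simp only at h2 ih hva ⊢
        rw [← h2, ih]
        have h3 := hassoc (c ^ j) v a
        simp only at h3
        rw [h3, hva]
        exact (hK.assoc _ (c ^ j).2 _ c.2 v).symm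
  choose σ₀ hσ₀ using hσex
  have hcanc : ∀ s t : K, (s : R) ⋆ v = (t : R) ⋆ v → s = t := fun s t e => Subtype.ext (d.right_cancel hv e)
  let σ : K →+* K :=
    { toFun := σ₀
      map_one' := hcanc _ _ (by rw [← hσ₀ 1, hone]; simp [d.one_mul, d.mul_one])
      map_mul' := fun l m => hcanc _ _ (by
        rw [← hσ₀]
        have h1 := hassocR v l m
        have h2 := hσ₀ l
        have h3 := hassoc (σ₀ l) v m
        have h4 := hσ₀ m
        simp only at h1 h2 h3 h4 ⊢
        rw [← h1, h2, h3, h4]
        exact (hK.assoc _ (σ₀ l).2 _ (σ₀ m).2 v).symm)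
      map_zero' := hcanc _ _ (by rw [← hσ₀]; simp)
      map_add' := fun l m => hcanc _ _ (by
        rw [← hσ₀]
        simp only [AddSubgroup.coe_add, map_add, AddMonoidHom.add_apply]
        exact congrArg₂ (· + ·) (hσ₀ l) (hσ₀ m)) }
  have hσv : ∀ l : K, v ⋆ l = (σ l : R) ⋆ v := hσ₀
  have hσ1 : σ ≠ RingHom.id K := fun e => hca (hcanc _ _ (by
    have h := hσv a
    rw [e] at h
    exact hva.symm.trans h))
  let σe : K ≃+* K := RingEquiv.ofBijective σ (Finite.injective_iff_bijective.mp σ.injective)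
  have hσe : ∀ l, σe l = σ l := fun _ => rfl
  haveI : Finite (K ≃+* K) := Finite.of_injective (fun e => (e : K → K)) DFunLike.coe_injective
  set r := orderOf σe with hr
  have hrpos : 0 < r := orderOf_pos σe
  have hr2 : 2 ≤ r := by
    by_contra h
    refine hσ1 (RingHom.ext fun l => ?_)
    have h1 : σe = 1 := orderOf_eq_one_iff.mp (by omega)
    rw [← hσe, h1]; rfl
  -- moving scalars past powers
  have hmove : ∀ (l : K) (i : ℕ), v ⋆ ((l : R) ⋆ d.pw v i) = (σ l : R) ⋆ d.pw v (i + 1) := by
    intro l i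
    have h1 : d.assoc v l (d.pw v i) = 0 := by rw [d.assoc_comm₂, d.assoc_pw]
    have h2 : d.assoc (σ l) v (d.pw v i) = 0 := by rw [d.assoc_comm₁, d.assoc_comm₂, d.assoc_pw]
    have h3 := d.eq_of_add_eq_zero h1
    have h4 := d.eq_of_add_eq_zero h2
    have h5 := hσv l
    simp only at h3 h4 h5 ⊢
    rw [← h3, h5, h4, pw_succ]
  have hpwl : ∀ (i : ℕ) (l : K), d.pw v i ⋆ l = ((σe ^ i) l : R) ⋆ d.pw v i := by
    intro i l
    rw [d.pw_mul]
    induction i with
    | zero => simp [pw_zero, d.mul_one]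
    | succ i ih =>
      rw [Function.iterate_succ_apply', ih, pow_succ']
      exact hmove _ i
  have hγK : d.pw v r ∈ K := hC _ fun k => by
    rw [hpwl r k, hr, pow_orderOf_eq_one]; rfl
  set γ : K := ⟨d.pw v r, hγK⟩ with hγ
  have hγσ : σ γ = γ := hcanc _ _ (by
    rw [← hσv γ]
    show v ⋆ d.pw v r = d.pw v r ⋆ v
    conv_rhs => rw [← pw_one d v]; simp only
    have h := d.pw_add v r 1
    simp only [pw_one] at h ⊢
    rw [h, pw_succ])
  have hγ0 : γ ≠ 0 := by
    intro e
    have h : ∀ i, d.pw v i ≠ 0 := by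
      intro i
      induction i with
      | zero => exact d.one_ne
      | succ i ih =>
        rw [pw_succ]
        exact fun e => (d.nzd _ _ e).elim hv ih
    exact h r (congrArg Subtype.val e)
  obtain ⟨k, hk⟩ := exists_norm σe (γ := γ) (by rw [hσe, hγσ]) hγ0
  set y : R := (k : R) ⋆ (v ⋆ k) with hy
  have hyL : ∀ w, y ⋆ w = (k : R) ⋆ (v ⋆ ((k : R) ⋆ w)) := fun w => d.triple k v w
  let cf : ℕ → K := fun i => ∏ j ∈ Finset.range i, (σe ^ j) (k * σe k)
  have hypw : ∀ i, d.pw y i = (cf i : R) ⋆ d.pw v i := by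
    intro i
    induction i with
    | zero => simp [cf, pw_zero, hone, d.one_mul]
    | succ i ih =>
      rw [pw_succ, hyL, ih]
      have h1 := (hK.assoc _ k.2 _ (cf i).2 (d.pw v i)).symm
      have h2 := hmove (k * cf i) i
      rw [hval] at h2
      simp only at h1 h2 ⊢
      rw [h1, h2]
      have h3 := (hK.assoc _ k.2 _ (σ (k * cf i)).2 (d.pw v (i + 1))).symm
      simp only at h3
      rw [h3]
      congr 2
      refine congrArg (Subtype.val : K → R) (show k * σ (k * cf i) = cf (i + 1) from ?_)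
      show k * σe (k * cf i) = cf (i + 1)
      rw [map_mul, map_prod]
      show k * (σe k * ∏ j ∈ Finset.range i, σe ((σe ^ j) (k * σe k))) = _
      rw [show cf (i + 1) = ∏ j ∈ Finset.range (i + 1), (σe ^ j) (k * σe k) from rfl, Finset.prod_range_succ',
        pow_zero, ← mul_assoc, mul_comm]
      congr 1
      exact Finset.prod_congr rfl fun j _ => by rw [pow_succ']; rfl
  have hyr : d.pw y r = d.one := by
    rw [hypw]
    show ((cf r * γ : K) : R) = ((1 : K) : R)
    rw [hk]
  set sy : R := ∑ i ∈ Finset.range r, d.pw y i with hsy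
  have hy1 : y + d.one ≠ 0 := by
    intro e
    have e' := d.eq_of_add_eq_zero e
    refine hσ1 (RingHom.ext fun l => hcanc _ _ ?_)
    have hvk : v ∈ K := by
      have h1 := hσv k
      have h2 := hK.assoc _ k.2 _ (σ k).2 v
      simp only at h1 h2
      rw [hy] at e'
      simp only at e'
      rw [h1, ← h2] at e'
      have h3 : ((k * σ k : K) : R) ⋆ v = d.one := e'
      set u : K := k * σ k
      have hu : u ≠ 0 := fun hu => d.one_ne (by rw [← h3, hu]; simp)
      have h4 : ((u⁻¹ : K) : R) ⋆ ((u : R) ⋆ v) = v := by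
        have h5 := (hK.assoc _ (u⁻¹).2 _ u.2 v).symm
        simp only at h5 ⊢
        rw [h5, show d.mul ((u⁻¹ : K) : R) u = d.one from congrArg Subtype.val (inv_mul_cancel₀ hu), d.one_mul]
      simp only at h3 h4
      rw [h3, d.mul_one] at h4
      rw [← h4]; exact (u⁻¹).2
    rw [← hσv l]
    exact hK.comm _ hvk _ l.2
  have hsum : (y + d.one) ⋆ sy = 0 := by
    simp only [map_add, AddMonoidHom.add_apply, d.one_mul, hsy, map_sum]
    have h1 : ∀ i, d.mul y (d.pw y i) = d.pw y (i + 1) := fun i => (d.pw_succ y i).symm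
    simp only [h1]
    have h2 := Finset.sum_range_succ' (fun i => d.pw y i) r
    rw [Finset.sum_range_succ, hyr, pw_zero] at h2
    rw [Finset.sum_add_distrib, ← add_right_cancel h2, d.two]
  have hzero : sy = 0 := (d.nzd _ _ hsum).resolve_left hy1
  -- independence of the characters
  obtain ⟨φ, hφ⟩ : ∃ φ : Module.Dual K R, φ d.one ≠ 0 := by
    by_contra h
    push Not at h
    exact d.one_ne ((Module.forall_dual_apply_eq_zero_iff K d.one).mp h)
  have hrel : ∀ l : K, ∑ i ∈ Finset.range r, (cf i * φ (d.pw v i)) * (σe ^ i) l = 0 := by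
    intro l
    have h := congrArg (fun z => φ (z ⋆ l)) hzero
    simp only [hsy, map_sum, map_zero, AddMonoidHom.zero_apply, AddMonoidHom.finset_sum_apply] at h
    rw [← h]
    refine Finset.sum_congr rfl fun i _ => ?_
    have h1 := hassoc (cf i) (d.pw v i) l
    have h2 := hpwl i l
    have h3 := (hK.assoc _ (cf i).2 _ ((σe ^ i) l).2 (d.pw v i)).symm
    have h4 := hypw i
    simp only at h1 h2 h3 h4
    rw [h4, h1, h2, h3]
    show _ = φ (((cf i * (σe ^ i) l : K)) • d.pw v i)
    rw [map_smul, smul_eq_mul]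
    ring
  have hli : LinearIndependent K (fun i : Fin r => ((σe ^ (i : ℕ) : K ≃+* K) : K → K)) := by
    have hinj : Function.Injective (fun i : Fin r => ((σe ^ (i : ℕ) : K ≃+* K).toRingHom.toMonoidHom)) := by
      intro i j e
      apply Fin.ext
      exact pow_injOn_Iio_orderOf i.2 j.2 (RingEquiv.ext fun l => DFunLike.congr_fun e l)
    exact (linearIndependent_monoidHom K K).comp _ hinj
  have h0 := Fintype.linearIndependent_iff.mp hli (fun i => cf i * φ (d.pw v i))
    (funext fun l => by
      rw [Finset.sum_apply]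
      simp only [Pi.smul_apply, smul_eq_mul, Pi.zero_apply]
      rw [Fin.sum_univ_eq_sum_range (fun i => (cf i * φ (d.pw v i)) * (σe ^ i) l) r]
      exact hrel l) ⟨0, hrpos⟩
  simp [cf, pw_zero] at h0
  exact hφ h0
where
  exists_norm {K : Type u} [Field K] [Finite K] [CharP K 2] (σe : K ≃+* K) {γ : K} (hγ : σe γ = γ)
      (hγ0 : γ ≠ 0) : ∃ k : K, (∏ j ∈ Finset.range (orderOf σe), (σe ^ j) (k * σe k)) * γ = 1 := by
    classical
    haveI := Fintype.ofFinite K
    haveI : Finite (K ≃+* K) := Finite.of_injective (fun e => (e : K → K)) DFunLike.coe_injective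
    set r := orderOf σe with hr
    have hrpos : 0 < r := orderOf_pos σe
    -- the norm
    let N : Kˣ →* Kˣ :=
      ∏ j ∈ Finset.range r, Units.map ((σe ^ j : K ≃+* K) : K →* K)
    let F : Kˣ →* Kˣ := Units.map (σe : K →* K) / MonoidHom.id Kˣ
    have hNval : ∀ x : Kˣ, (N x : K) = ∏ j ∈ Finset.range r, (σe ^ j) (x : K) := fun x => by
      rw [MonoidHom.finset_prod_apply, Units.coe_prod]
      rfl
    have hrot : ∀ x : K, ∏ j ∈ Finset.range r, (σe ^ j) (σe x) = ∏ j ∈ Finset.range r, (σe ^ j) x := by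
      intro x
      have h1 := Finset.prod_range_succ' (fun j => (σe ^ j) x) r
      rw [Finset.prod_range_succ, hr, pow_orderOf_eq_one] at h1
      simp only [RingAut.one_apply, pow_zero] at h1
      rcases eq_or_ne x 0 with rfl | hx
      · simp
      rw [← hr] at h1
      have h2 : ∀ j, (σe ^ j) (σe x) = (σe ^ (j + 1)) x := fun j => by rw [pow_succ]; rfl
      simp only [h2]
      exact (mul_right_cancel₀ hx h1).symm
    have hker : F.range ≤ N.ker := by
      rintro _ ⟨x, rfl⟩
      rw [MonoidHom.mem_ker]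
      show N (Units.map (σe : K →* K) x / x) = 1
      rw [map_div, div_eq_one]
      apply Units.ext
      rw [hNval, hNval]
      exact hrot x
    have hker' : N.ker ≤ F.range := by
      intro x hx
      let c : ℕ → K := fun i => ∏ j ∈ Finset.range i, (σe ^ j) (x : K)
      have hinj : Function.Injective (fun i : Fin r => ((σe ^ (i : ℕ) : K ≃+* K).toRingHom.toMonoidHom)) := by
        intro i j e
        apply Fin.ext
        exact pow_injOn_Iio_orderOf i.2 j.2 (RingEquiv.ext fun l => DFunLike.congr_fun e l)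
      have hli := (linearIndependent_monoidHom K K).comp _ hinj
      obtain ⟨w, hw⟩ : ∃ w : K, ∑ i ∈ Finset.range r, c i * (σe ^ i) w ≠ 0 := by
        by_contra hall
        push Not at hall
        have h0 := Fintype.linearIndependent_iff.mp hli (fun i => c i) (funext fun w => by
          rw [Finset.sum_apply]
          simp only [Function.comp_apply, Pi.smul_apply, smul_eq_mul, Pi.zero_apply]
          rw [← hall w, ← Fin.sum_univ_eq_sum_range (fun i => c i * (σe ^ i) w) r]
          rfl) ⟨0, hrpos⟩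
        simp [c] at h0
      set t := ∑ i ∈ Finset.range r, c i * (σe ^ i) w with ht
      have hxt : (x : K) * σe t = t := by
        rw [ht, map_sum, Finset.mul_sum]
        have h1 : ∀ i, (x : K) * σe (c i * (σe ^ i) w) = c (i + 1) * (σe ^ (i + 1)) w := by
          intro i
          show _ = (∏ j ∈ Finset.range (i + 1), (σe ^ j) (x : K)) * _
          rw [map_mul, map_prod, Finset.prod_range_succ', pow_zero, pow_succ' σe i, ← mul_assoc, RingAut.one_apply,
            mul_comm (x : K)]
          congr 1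
          congr 1
          exact Finset.prod_congr rfl fun j _ => by rw [pow_succ']; rfl
        simp only [h1]
        have h2 := Finset.sum_range_succ' (fun i => c i * (σe ^ i) w) r
        rw [Finset.sum_range_succ] at h2
        have hcr : c r = 1 := by
          have h3 := congrArg Units.val (MonoidHom.mem_ker.mp hx)
          rw [hNval] at h3
          exact h3
        rw [hcr, hr, pow_orderOf_eq_one, ← hr] at h2
        simp only [c, Finset.range_zero, Finset.prod_empty, pow_zero] at h2
        exact (add_right_cancel h2).symm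
      refine ⟨(Units.mk0 t hw)⁻¹, ?_⟩
      show Units.map (σe : K →* K) (Units.mk0 t hw)⁻¹ / (Units.mk0 t hw)⁻¹ = x
      rw [map_inv, inv_div_inv, div_eq_iff_eq_mul]
      exact Units.ext hxt.symm
    have hNF : N.range ≤ F.ker := by
      rintro _ ⟨x, rfl⟩
      rw [MonoidHom.mem_ker]
      show Units.map (σe : K →* K) (N x) / N x = 1
      rw [div_eq_one]
      apply Units.ext
      show σe (N x : K) = (N x : K)
      rw [hNval, map_prod, ← hrot]
      refine Finset.prod_congr rfl fun j _ => ?_
      show (σe * σe ^ j) (x : K) = (σe ^ j * σe) (x : K)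
      rw [(Commute.self_pow σe j).eq]
    have hcard : Nat.card N.range = Nat.card F.ker := by
      have h1 := N.ker.card_mul_index
      have h2 := F.ker.card_mul_index
      rw [Subgroup.index_ker] at h1 h2
      rw [le_antisymm hker' hker] at h1
      rw [mul_comm (Nat.card F.ker)] at h2
      exact Nat.eq_of_mul_eq_mul_left Nat.card_pos (h1.trans h2.symm)
    have heq : N.range = F.ker := Subgroup.eq_of_le_of_card_ge hNF hcard.ge
    obtain ⟨s, hs⟩ : ∃ s : K, s * s = γ⁻¹ := by
      obtain ⟨s, hs⟩ := FiniteField.isSquare_of_char_two (F := K) (ringChar.eq K 2) γ⁻¹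
      exact ⟨s, hs.symm⟩
    have hs0 : s ≠ 0 := fun e => hγ0 (by rw [e, zero_mul, eq_comm, inv_eq_zero] at hs; exact hs)
    have hσs : σe s = s := by
      have h1 : σe s * σe s = s * s := by rw [← map_mul, hs, map_inv₀, hγ]
      exact CharTwo.sq_injective (by simpa [sq] using h1)
    have hmem : Units.mk0 s hs0 ∈ F.ker := by
      rw [MonoidHom.mem_ker]
      show Units.map (σe : K →* K) (Units.mk0 s hs0) / Units.mk0 s hs0 = 1
      rw [div_eq_one]
      exact Units.ext hσs
    rw [← heq] at hmem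
    obtain ⟨k, hk⟩ := hmem
    refine ⟨k, ?_⟩
    have h := congrArg Units.val hk
    rw [hNval] at h
    change _ = s at h
    simp only [map_mul, Finset.prod_mul_distrib, hrot, h]
    rw [hs, inv_mul_cancel₀ hγ0]

/-- The multiplication is that of a finite field. -/
theorem exists_field : ∃ (F : Type) (_ : Field F) (_ : Fintype F) (e : R ≃+ F),
    e d.one = 1 ∧ ∀ x y, e (x ⋆ y) = e x * e y := by
  obtain ⟨K, hK, hmax⟩ := Set.Finite.exists_maximal (Set.toFinite {K | d.IsSub K}) d.exists_isSub
  have htop := d.sub_eq_top hK fun K' h' hle => le_antisymm (hmax h' hle) hle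
  subst htop
  letI := hK.commRing
  haveI : Nontrivial (⊤ : AddSubgroup R) := ⟨⟨0, 1, fun e => d.one_ne (congrArg Subtype.val e).symm⟩⟩
  haveI : IsDomain (⊤ : AddSubgroup R) := by
    haveI : NoZeroDivisors (⊤ : AddSubgroup R) := ⟨fun {k l} e => by
      exact (d.nzd _ _ (congrArg Subtype.val e)).imp (fun h => Subtype.ext h) (fun h => Subtype.ext h)⟩
    exact NoZeroDivisors.to_isDomain _
  letI : Field (⊤ : AddSubgroup R) := (Finite.isDomain_to_isField _).toField
  haveI : CharP (⊤ : AddSubgroup R) 2 := CharTwo.of_one_ne_zero_of_two_eq_zero one_ne_zero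
    ((one_add_one_eq_two).symm.trans (Subtype.ext (d.two _)))
  haveI := Fintype.ofFinite (⊤ : AddSubgroup R)
  obtain ⟨n, -, hn⟩ := FiniteField.card (⊤ : AddSubgroup R) 2
  haveI : Fact (Nat.Prime 2) := ⟨Nat.prime_two⟩
  haveI : Fintype (GaloisField 2 n) := Fintype.ofFinite _
  let f : (⊤ : AddSubgroup R) ≃+* GaloisField 2 n := FiniteField.ringEquivOfCardEq (by
    rw [← Nat.card_eq_fintype_card (α := GaloisField 2 n), GaloisField.card 2 n n.ne_zero, hn])
  refine ⟨GaloisField 2 n, inferInstance, inferInstance,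
    AddSubgroup.topEquiv.symm.trans f.toAddEquiv, ?_, fun x y => ?_⟩
  · exact map_one f
  · exact map_mul f ⟨x, trivial⟩ ⟨y, trivial⟩

end Data

end CfsgLib.KGroups.TISemifield
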