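import Cfsg.Agent.Lib.KGroups.TILargeStep
import Cfsg.Agent.Lib.KGroups.TISemifield

/-!
The field of a trivial-intersection configuration and the action of `P_V P_B` on `V B` as `SL(2, q)`.
-/

set_option autoImplicit false
set_option linter.style.haveILetI false
set_option linter.unusedSectionVars false

namespace CfsgLib.KGroups.TILarge

open scoped commutatorElement
open Matrix

universe u

variable {G : Type u} [Group G] [Finite G] {V B A : Subgroup G}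

/-- Coordinates on `V` given by a field. -/
structure Coord (V B A : Subgroup G) (a₁ b₁ : G) (F : Type) [Field F] (e : G → F) : Prop where
  ha₁ : a₁ ∈ A
  hb₁ : b₁ ∈ B
  add : ∀ v ∈ V, ∀ w ∈ V, e (v * w) = e v + e w
  inj : ∀ v ∈ V, e v = 0 → v = 1
  surj : ∀ c : F, ∃ v ∈ V, e v = c
  one : e ⁅a₁, b₁⁆ = 1
  mul : ∀ a ∈ A, ∀ b ∈ B, e ⁅a, b⁆ = e ⁅a, b₁⁆ * e ⁅a₁, b⁆

namespace Partner

variable (p : Partner V B A) (h : Hyp V)
include p h

theorem left_inj {a c b : G} (ha : a ∈ A) (hc : c ∈ A) (hb : b ∈ B) (hb1 : b ≠ 1) (e : ⁅a, b⁆ = ⁅c, b⁆) : a = c := by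
  by_contra hac
  refine p.nc (a * c) (mul_mem ha hc) (fun e' => hac ?_) b hb hb1 ?_
  · rw [mul_eq_one_iff_eq_inv.mp e', (p.right.hyp h).inv_eq hc]
  · rw [h.mul_comm_left (p.right.le_PP h ha) (p.right.le_PP h hc) (p.left.le_PP h hb), e]
    exact h.sq (h.comm_mem (p.right.le_PP h hc) (p.left.le_PP h hb))

theorem right_inj {a b c : G} (ha : a ∈ A) (ha1 : a ≠ 1) (hb : b ∈ B) (hc : c ∈ B) (e : ⁅a, b⁆ = ⁅a, c⁆) : b = c :=
  (p.symm h).left_inj h hb hc ha ha1 (by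
    rwa [h.comm_symm (p.left.le_PP h hb) (p.right.le_PP h ha), h.comm_symm (p.left.le_PP h hc) (p.right.le_PP h ha)])

theorem surj' {a v : G} (ha : a ∈ A) (ha1 : a ≠ 1) (hv : v ∈ V) : ∃ b ∈ B, ⁅a, b⁆ = v := by
  obtain ⟨b, hb, e⟩ := (p.symm h).surj h ha ha1 hv
  exact ⟨b, hb, by rw [h.comm_symm (p.right.le_PP h ha) (p.left.le_PP h hb), e]⟩

theorem exists_coord {a₁ b₁ : G} (ha₁ : a₁ ∈ A) (ha₁' : a₁ ≠ 1) (hb₁ : b₁ ∈ B) (hb₁' : b₁ ≠ 1) :
    ∃ (F : Type) (_ : Field F) (_ : Fintype F) (e : G → F), Coord V B A a₁ b₁ F e := by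
  classical
  letI : CommGroup ↥V := { (inferInstance : Group ↥V) with
    mul_comm := fun a b => Subtype.ext (h.comm a.2 b.2) }
  choose τA hτA hτA' using fun v : V => p.surj h hb₁ hb₁' v.2
  choose τB hτB hτB' using fun v : V => p.surj' h ha₁ ha₁' v.2
  have AP : ∀ v, τA v ∈ PP V := fun v => p.right.le_PP h (hτA v)
  have BP : ∀ v, τB v ∈ PP V := fun v => p.left.le_PP h (hτB v)
  have hA : ∀ v w, τA (v * w) = τA v * τA w := fun v w =>
    p.left_inj h (hτA _) (mul_mem (hτA v) (hτA w)) hb₁ hb₁' (by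
      rw [h.mul_comm_left (AP v) (AP w) (p.left.le_PP h hb₁), hτA', hτA', hτA']; rfl)
  have hB : ∀ v w, τB (v * w) = τB v * τB w := fun v w =>
    p.right_inj h ha₁ ha₁' (hτB _) (mul_mem (hτB v) (hτB w)) (by
      rw [h.mul_comm_right (p.right.le_PP h ha₁) (BP v) (BP w), hτB', hτB', hτB']; rfl)
  let μ : Additive ↥V →+ Additive ↥V →+ Additive ↥V := AddMonoidHom.mk'
    (fun x => AddMonoidHom.mk'
      (fun y => Additive.ofMul ⟨⁅τA x.toMul, τB y.toMul⁆, h.comm_mem (AP _) (BP _)⟩)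
      (fun y z => Additive.toMul.injective (Subtype.ext (by
        show ⁅τA x.toMul, τB (y.toMul * z.toMul)⁆ = ⁅τA x.toMul, τB y.toMul⁆ * ⁅τA x.toMul, τB z.toMul⁆
        rw [hB, h.mul_comm_right (AP _) (BP _) (BP _)]))))
    (fun x y => AddMonoidHom.ext fun z => Additive.toMul.injective (Subtype.ext (by
      show ⁅τA (x.toMul * y.toMul), τB z.toMul⁆ = ⁅τA x.toMul, τB z.toMul⁆ * ⁅τA y.toMul, τB z.toMul⁆
      rw [hA, h.mul_comm_left (AP _) (AP _) (BP _)])))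
  let o : ↥V := ⟨⁅a₁, b₁⁆, h.comm_mem (p.right.le_PP h ha₁) (p.left.le_PP h hb₁)⟩
  have hAo : τA o = a₁ := p.left_inj h (hτA o) ha₁ hb₁ hb₁' (hτA' o)
  have hBo : τB o = b₁ := p.right_inj h ha₁ ha₁' (hτB o) hb₁ (hτB' o)
  have hA1 : ∀ {v}, τA v = 1 → v = 1 := fun {v} q => Subtype.ext (by
    rw [← hτA' v, q, commutatorElement_one_left]; rfl)
  have hB1 : ∀ {v}, τB v = 1 → v = 1 := fun {v} q => Subtype.ext (by
    rw [← hτB' v, q, commutatorElement_one_right]; rfl)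
  have hAinj : ∀ {v w}, τA v = τA w → v = w := fun {v w} q => Subtype.ext (by rw [← hτA' v, ← hτA' w, q])
  have hBinj : ∀ {v w}, τB v = τB w → v = w := fun {v w} q => Subtype.ext (by rw [← hτB' v, ← hτB' w, q])
  let d : TISemifield.Data (Additive ↥V) :=
    { mul := μ
      one := Additive.ofMul o
      one_mul := fun x => Additive.toMul.injective (Subtype.ext (by
        show ⁅τA o, τB x.toMul⁆ = _; rw [hAo, hτB']))
      mul_one := fun x => Additive.toMul.injective (Subtype.ext (by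
        show ⁅τA x.toMul, τB o⁆ = _; rw [hBo, hτA']))
      one_ne := fun q => p.nc a₁ ha₁ ha₁' b₁ hb₁ hb₁' (congrArg (fun z => ((Additive.toMul z : V) : G)) q)
      two := fun x => Additive.toMul.injective (Subtype.ext (h.sq x.toMul.2))
      nzd := fun x y q => by
        by_contra hne
        rw [not_or] at hne
        exact p.nc _ (hτA x.toMul) (fun e => hne.1 (Additive.toMul.injective (hA1 e)))
          _ (hτB y.toMul) (fun e => hne.2 (Additive.toMul.injective (hB1 e)))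
          (congrArg (fun z => ((Additive.toMul z : V) : G)) q)
      closedL := fun x y hx hy hxy => by
        obtain ⟨s, hs, hsp⟩ := p.invAdd h (hτA x.toMul) (fun e => hx (Additive.toMul.injective (hA1 e)))
          (hτA y.toMul) (fun e => hy (Additive.toMul.injective (hA1 e)))
          (fun e => hxy (Additive.toMul.injective (hAinj e)))
        let s' : ↥V := ⟨⁅s, b₁⁆, h.comm_mem (p.right.le_PP h hs) (p.left.le_PP h hb₁)⟩
        have hs' : τA s' = s := p.left_inj h (hτA s') hs hb₁ hb₁' (hτA' s')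
        refine ⟨Additive.ofMul s', fun a a' q => Additive.toMul.injective (Subtype.ext ?_)⟩
        show ⁅τA s', τB (a.toMul * a'.toMul)⁆ = ⁅τA x.toMul, τB a.toMul⁆
        rw [hs', hB]
        exact hsp _ (hτB _) _ (hτB _) (congrArg (fun z => ((Additive.toMul z : V) : G)) q)
      closedR := fun x y hx hy hxy => by
        obtain ⟨s, hs, hsp⟩ := (p.symm h).invAdd h (hτB x.toMul) (fun e => hx (Additive.toMul.injective (hB1 e)))
          (hτB y.toMul) (fun e => hy (Additive.toMul.injective (hB1 e)))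
          (fun e => hxy (Additive.toMul.injective (hBinj e)))
        let s' : ↥V := ⟨⁅a₁, s⁆, h.comm_mem (p.right.le_PP h ha₁) (p.left.le_PP h hs)⟩
        have hs' : τB s' = s := p.right_inj h ha₁ ha₁' (hτB s') hs (hτB' s')
        refine ⟨Additive.ofMul s', fun a a' q => Additive.toMul.injective (Subtype.ext ?_)⟩
        show ⁅τA (a.toMul * a'.toMul), τB s'⁆ = ⁅τA a.toMul, τB x.toMul⁆
        have q' : ⁅τA a.toMul, τB x.toMul⁆ = ⁅τA a'.toMul, τB y.toMul⁆ :=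
          congrArg (fun z => ((Additive.toMul z : V) : G)) q
        rw [hs', hA, h.comm_symm (mul_mem (AP _) (AP _)) (p.left.le_PP h hs), h.comm_symm (AP _) (BP _)]
        refine hsp _ (hτA _) _ (hτA _) ?_
        rwa [h.comm_symm (BP _) (AP _), h.comm_symm (BP _) (AP _)] }
  obtain ⟨F, hF, hFf, e, he1, hem⟩ := d.exists_field
  refine ⟨F, hF, hFf, fun g => if hg : g ∈ V then e (Additive.ofMul ⟨g, hg⟩) else 0, ?_⟩
  refine ⟨ha₁, hb₁, fun v hv w hw => ?_, fun v hv q => ?_, fun c => ?_, ?_, fun a ha b hb => ?_⟩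
  · simp only [dif_pos hv, dif_pos hw, dif_pos (mul_mem hv hw)]
    exact e.map_add (Additive.ofMul ⟨v, hv⟩) (Additive.ofMul ⟨w, hw⟩)
  · simp only [dif_pos hv] at q
    exact congrArg (fun z => ((Additive.toMul z : V) : G)) (e.injective (q.trans (map_zero e).symm))
  · exact ⟨_, (e.symm c).toMul.2, by simp only [dif_pos (e.symm c).toMul.2]; exact e.apply_symm_apply c⟩
  · have ho : ⁅a₁, b₁⁆ ∈ V := o.2
    simp only [dif_pos ho]
    exact he1
  · let va : ↥V := ⟨⁅a, b₁⁆, h.comm_mem (p.right.le_PP h ha) (p.left.le_PP h hb₁)⟩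
    let vb : ↥V := ⟨⁅a₁, b⁆, h.comm_mem (p.right.le_PP h ha₁) (p.left.le_PP h hb)⟩
    have hab : ⁅a, b⁆ ∈ V := h.comm_mem (p.right.le_PP h ha) (p.left.le_PP h hb)
    have ha2 : ⁅a, b₁⁆ ∈ V := va.2
    have hb2 : ⁅a₁, b⁆ ∈ V := vb.2
    simp only [dif_pos hab, dif_pos ha2, dif_pos hb2]
    have hva : τA va = a := p.left_inj h (hτA va) ha hb₁ hb₁' (hτA' va)
    have hvb : τB vb = b := p.right_inj h ha₁ ha₁' (hτB vb) hb (hτB' vb)
    refine Eq.trans (congrArg e ?_) (hem (Additive.ofMul va) (Additive.ofMul vb))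
    exact Additive.toMul.injective (Subtype.ext (by show _ = ⁅τA va, τB vb⁆; rw [hva, hvb]; rfl))

end Partner

/-- The coordinates of `v b`. -/
abbrev coords {F : Type} (e : G → F) (a₁ v b : G) : Fin 2 → F := ![e v, e ⁅a₁, b⁆]

variable {F : Type} [Field F] {e : G → F} {a₁ b₁ : G}

/-- An upper transvection. -/
def upT (σ : F) : Matrix.SpecialLinearGroup (Fin 2) F := ⟨!![1, σ; 0, 1], by simp [Matrix.det_fin_two]⟩

/-- A lower transvection. -/
def lowT (σ : F) : Matrix.SpecialLinearGroup (Fin 2) F := ⟨!![1, 0; σ, 1], by simp [Matrix.det_fin_two]⟩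

theorem transvections_generate {K : Subgroup (Matrix.SpecialLinearGroup (Fin 2) F)} (hu : ∀ σ, upT σ ∈ K)
    (hl : ∀ σ, lowT σ ∈ K) (M : Matrix.SpecialLinearGroup (Fin 2) F) : M ∈ K := by
  have step : ∀ M : Matrix.SpecialLinearGroup (Fin 2) F, M.1 1 0 ≠ 0 → M ∈ K := by
    intro M hc
    have hdet : M.1 0 0 * M.1 1 1 - M.1 0 1 * M.1 1 0 = 1 := by rw [← Matrix.det_fin_two]; exact M.2
    have hM : M = upT ((M.1 0 0 - 1) / M.1 1 0) * lowT (M.1 1 0) * upT ((M.1 1 1 - 1) / M.1 1 0) := by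
      apply Subtype.ext
      show M.1 = (upT _).1 * (lowT _).1 * (upT _).1
      ext i j
      fin_cases i <;> fin_cases j <;>
        simp [upT, lowT, Matrix.mul_apply, Fin.sum_univ_two] <;> field_simp
      all_goals first
        | linear_combination hdet
        | linear_combination -hdet
        | ring
    rw [hM]
    exact mul_mem (mul_mem (hu _) (hl _)) (hu _)
  by_cases hc : M.1 1 0 = 0
  · have hdet : M.1 0 0 * M.1 1 1 - M.1 0 1 * M.1 1 0 = 1 := by rw [← Matrix.det_fin_two]; exact M.2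
    have ha : M.1 0 0 ≠ 0 := fun q => by simp [hc, q] at hdet
    have := step (lowT 1 * M) (by
      show ((lowT (1 : F)).1 * M.1) 1 0 ≠ 0
      simp [lowT, Matrix.mul_apply, Fin.sum_univ_two, hc, ha])
    simpa using mul_mem (inv_mem (hl 1)) this
  · exact step M hc

/-- Acting by a matrix of determinant one. -/
def Acts (V B : Subgroup G) (e : G → F) (a₁ x : G) (M : Matrix.SpecialLinearGroup (Fin 2) F) : Prop :=
  ∀ v ∈ V, ∀ b ∈ B, ∃ v' ∈ V, ∃ b' ∈ B, x * (v * b) * x⁻¹ = v' * b' ∧ coords e a₁ v' b' = M.1 *ᵥ coords e a₁ v b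

namespace Coord

variable (c : Coord V B A a₁ b₁ F e) (p : Partner V B A) (h : Hyp V) (ha₁' : a₁ ≠ 1) (hb₁' : b₁ ≠ 1)
include c p h ha₁' hb₁'

theorem coords_inj {v v' b b' : G} (hv : v ∈ V) (hv' : v' ∈ V) (hb : b ∈ B) (hb' : b' ∈ B)
    (q : coords e a₁ v b = coords e a₁ v' b') : v = v' ∧ b = b' := by
  have hinj : ∀ {x y : G}, x ∈ V → y ∈ V → e x = e y → x = y := by
    intro x y hx hy hxy
    have h1 : e (x * y) = 0 := by
      rw [c.add x hx y hy, hxy, ← c.add y hy y hy, h.sq hy]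
      have := c.add 1 (one_mem V) 1 (one_mem V)
      rw [mul_one] at this
      exact left_eq_add.mp this
    rw [mul_eq_one_iff_eq_inv.mp (c.inj _ (mul_mem hx hy) h1), h.inv_eq hy]
  have hP : ∀ {b}, b ∈ B → ⁅a₁, b⁆ ∈ V := fun hb => h.comm_mem (p.right.le_PP h c.ha₁) (p.left.le_PP h hb)
  refine ⟨hinj hv hv' (congrFun q 0), p.right_inj h c.ha₁ ha₁' hb hb' (hinj (hP hb) (hP hb') (congrFun q 1))⟩

theorem coords_surj (x : Fin 2 → F) : ∃ v ∈ V, ∃ b ∈ B, coords e a₁ v b = x := by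
  obtain ⟨v, hv, h0⟩ := c.surj (x 0)
  obtain ⟨w, hw, h1⟩ := c.surj (x 1)
  obtain ⟨b, hb, hbw⟩ := p.surj' h c.ha₁ ha₁' hw
  refine ⟨v, hv, b, hb, ?_⟩
  funext i
  fin_cases i
  · exact h0
  · show e ⁅a₁, b⁆ = x 1
    rw [hbw, h1]

theorem acts_one : Acts V B e a₁ 1 1 := fun v hv b hb =>
  ⟨v, hv, b, hb, by simp, by simp⟩

theorem acts_mul {x y : G} {M N} (hx : Acts V B e a₁ x M) (hy : Acts V B e a₁ y N) :
    Acts V B e a₁ (x * y) (M * N) := by
  intro v hv b hb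
  obtain ⟨v', hv', b', hb', e1, e2⟩ := hy v hv b hb
  obtain ⟨v'', hv'', b'', hb'', e3, e4⟩ := hx v' hv' b' hb'
  refine ⟨v'', hv'', b'', hb'', ?_, ?_⟩
  · rw [← e3, ← e1]; group
  · rw [e4, e2, Matrix.mulVec_mulVec]; rfl

theorem acts_unique {x : G} {M N} (hx : Acts V B e a₁ x M) (hy : Acts V B e a₁ x N) : M = N := by
  have key : ∀ z, M.1 *ᵥ z = N.1 *ᵥ z := by
    intro z
    obtain ⟨v, hv, b, hb, rfl⟩ := c.coords_surj p h ha₁' hb₁' z
    obtain ⟨v', hv', b', hb', e1, e2⟩ := hx v hv b hb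
    obtain ⟨v'', hv'', b'', hb'', e3, e4⟩ := hy v hv b hb
    obtain ⟨rfl, rfl⟩ := p.left.unique h hv' hv'' hb' hb'' (e1.symm.trans e3)
    rw [← e2, ← e4]
  exact Subtype.ext (Matrix.toLin'.injective (LinearMap.ext fun z => by simpa using key z))

theorem acts_inv {x : G} {M} (hx : Acts V B e a₁ x M) : Acts V B e a₁ x⁻¹ M⁻¹ := by
  intro v hv b hb
  obtain ⟨v₀, hv₀, b₀, hb₀, e0⟩ := c.coords_surj p h ha₁' hb₁' ((M⁻¹).1 *ᵥ coords e a₁ v b)
  obtain ⟨v', hv', b', hb', e1, e2⟩ := hx v₀ hv₀ b₀ hb₀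
  rw [e0, Matrix.mulVec_mulVec, ← Matrix.SpecialLinearGroup.coe_mul, mul_inv_cancel] at e2
  simp only [Matrix.SpecialLinearGroup.coe_one, Matrix.one_mulVec] at e2
  obtain ⟨rfl, rfl⟩ := c.coords_inj p h ha₁' hb₁' hv' hv hb' hb e2
  exact ⟨v₀, hv₀, b₀, hb₀, by rw [← e1]; group, e0⟩

theorem acts_PP {x : G} (hx : x ∈ PP V) : ∃ σ, Acts V B e a₁ x (upT σ) := by
  obtain ⟨s, hs, hsx⟩ := p.decomp h hx
  refine ⟨e ⁅s, b₁⁆, fun v hv b hb => ?_⟩
  have hc : ⁅x, b⁆ = ⁅s, b⁆ := by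
    have h1 := hsx b hb
    rw [h.mul_comm_left (p.right.le_PP h hs) hx (p.left.le_PP h hb)] at h1
    rw [mul_eq_one_iff_eq_inv.mp h1, h.inv_eq (h.comm_mem hx (p.left.le_PP h hb))]
  have hcV : ⁅x, b⁆ ∈ V := h.comm_mem hx (p.left.le_PP h hb)
  refine ⟨v * ⁅x, b⁆, mul_mem hv hcV, b, hb, ?_, ?_⟩
  · calc x * (v * b) * x⁻¹ = (x * v * x⁻¹) * (⁅x, b⁆ * b) := by rw [commutatorElement_def]; group
      _ = _ := by rw [← h.cent hx hv, mul_inv_cancel_right, mul_assoc]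
  · funext i
    fin_cases i
    · simp [coords, upT, Matrix.mulVec, dotProduct, Fin.sum_univ_two]
      rw [c.add v hv _ hcV, hc, c.mul s hs b hb]
    · simp [coords, upT, Matrix.mulVec, dotProduct, Fin.sum_univ_two]

theorem acts_lowT {z : G} (hz : z ∈ PP B) {s : G} (hs : s ∈ A) (hs1 : s ≠ 1)
    (hsz : ∀ v ∈ V, ⁅s, ⁅z, v⁆⁆ = v) : Acts V B e a₁ z (lowT (e ⁅s, b₁⁆)⁻¹) := by
  intro v hv b hb
  have hB := p.left.hyp h
  have hcB : ⁅z, v⁆ ∈ B := hB.comm_mem hz ((p.left.symm_mate h).le_PP hB hv)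
  refine ⟨v, hv, ⁅z, v⁆ * b, mul_mem hcB hb, ?_, ?_⟩
  · calc z * (v * b) * z⁻¹ = ⁅z, v⁆ * v * (z * b * z⁻¹) := by rw [commutatorElement_def]; group
      _ = _ := by rw [← hB.cent hz hb, mul_inv_cancel_right, ← p.left.comm h hv hcB, mul_assoc]
  · have hσ : e ⁅s, b₁⁆ ≠ 0 := fun q => p.nc s hs hs1 b₁ c.hb₁ hb₁'
      (c.inj _ (h.comm_mem (p.right.le_PP h hs) (p.left.le_PP h c.hb₁)) q)
    have he : e v = e ⁅s, b₁⁆ * e ⁅a₁, ⁅z, v⁆⁆ := by rw [← c.mul s hs _ hcB, hsz v hv]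
    funext i
    fin_cases i
    · simp [coords, lowT, Matrix.mulVec, dotProduct, Fin.sum_univ_two]
    · simp [coords, lowT, Matrix.mulVec, dotProduct, Fin.sum_univ_two]
      rw [h.mul_comm_right (p.right.le_PP h c.ha₁) (p.left.le_PP h hcB) (p.left.le_PP h hb),
        c.add _ (h.comm_mem (p.right.le_PP h c.ha₁) (p.left.le_PP h hcB)) _
          (h.comm_mem (p.right.le_PP h c.ha₁) (p.left.le_PP h hb)), he, inv_mul_cancel_left₀ hσ]

theorem acts_PPB {z : G} (hz : z ∈ PP B) : ∃ M, Acts V B e a₁ z M := by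
  have hB := p.left.hyp h
  have m' := p.left.symm_mate h
  by_cases hall : ∀ v ∈ V, ⁅z, v⁆ = 1
  · refine ⟨1, fun v hv b hb => ⟨v, hv, b, hb, ?_, by simp⟩⟩
    calc z * (v * b) * z⁻¹ = (z * v * z⁻¹) * (z * b * z⁻¹) := by group
      _ = _ := by
        rw [commutatorElement_eq_one_iff_mul_comm.mp (hall v hv), ← hB.cent hz hb, mul_inv_cancel_right,
          mul_inv_cancel_right]
  push Not at hall
  obtain ⟨v₀, hv₀, hne⟩ := hall
  have hv₀' : v₀ ≠ 1 := fun q => hne (by rw [q, commutatorElement_one_right])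
  obtain ⟨x, hx, -, -, hx2⟩ := m'.exists_dual hB hz hv₀ hv₀' hne
  obtain ⟨s, hs, hsx⟩ := p.decomp h hx
  have hsz : ∀ v ∈ V, ⁅s, ⁅z, v⁆⁆ = v := by
    intro v hv
    have hcB : ⁅z, v⁆ ∈ B := hB.comm_mem hz (m'.le_PP hB hv)
    have h1 := hsx _ hcB
    rw [h.mul_comm_left (p.right.le_PP h hs) hx (p.left.le_PP h hcB), hx2 v hv] at h1
    rw [mul_eq_one_iff_eq_inv.mp h1, h.inv_eq hv]
  exact ⟨_, c.acts_lowT p h ha₁' hb₁' hz hs
    (fun q => hv₀' (by rw [← hsz v₀ hv₀, q, commutatorElement_one_left])) hsz⟩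

theorem sl2 : PP V ⊔ PP B ≤ Subgroup.normalizer ((V ⊔ B : Subgroup G) : Set G) ∧
    ∀ _hN : ((Subgroup.centralizer ((V ⊔ B : Subgroup G) : Set G)).subgroupOf (PP V ⊔ PP B)).Normal,
      Nonempty (↥(PP V ⊔ PP B) ⧸ (Subgroup.centralizer ((V ⊔ B : Subgroup G) : Set G)).subgroupOf (PP V ⊔ PP B) ≃*
        Matrix.SpecialLinearGroup (Fin 2) F) := by
  classical
  let S : Subgroup G :=
    { carrier := {x | ∃ M, Acts V B e a₁ x M}
      one_mem' := ⟨1, c.acts_one p h ha₁' hb₁'⟩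
      mul_mem' := fun ⟨M, hM⟩ ⟨N, hN⟩ => ⟨M * N, c.acts_mul p h ha₁' hb₁' hM hN⟩
      inv_mem' := fun ⟨M, hM⟩ => ⟨M⁻¹, c.acts_inv p h ha₁' hb₁' hM⟩ }
  set H := PP V ⊔ PP B with hH
  set W := V ⊔ B with hW
  have hHS : H ≤ S := sup_le (fun x hx => by
    obtain ⟨σ, hσ⟩ := c.acts_PP p h ha₁' hb₁' hx
    exact ⟨_, hσ⟩) fun z hz => c.acts_PPB p h ha₁' hb₁' hz
  have hSW : ∀ x ∈ S, ∀ w ∈ W, x * w * x⁻¹ ∈ W := by
    rintro x ⟨M, hM⟩ w hw
    obtain ⟨v, hv, b, hb, rfl⟩ := (p.left.mem_sup h).mp hw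
    obtain ⟨v', hv', b', hb', e1, -⟩ := hM v hv b hb
    rw [e1]; exact Subgroup.mul_mem_sup hv' hb'
  refine ⟨fun x hx => ?_, fun hN => ?_⟩
  · rw [Subgroup.mem_normalizer_iff]
    exact fun w => ⟨hSW x (hHS hx) w, fun hw => by
      simpa [mul_assoc] using hSW _ (hHS (inv_mem hx)) _ hw⟩
  choose θ hθ using fun x : H => hHS x.2
  let Θ : H →* Matrix.SpecialLinearGroup (Fin 2) F := MonoidHom.mk' θ fun x y =>
    c.acts_unique p h ha₁' hb₁' (hθ (x * y)) (c.acts_mul p h ha₁' hb₁' (hθ x) (hθ y))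
  have hsurj : Function.Surjective Θ := by
    intro M
    refine transvections_generate (K := Θ.range) (fun σ => ?_) (fun σ => ?_) M
    · obtain ⟨v, hv, hvσ⟩ := c.surj σ
      obtain ⟨a, ha, hav⟩ := p.surj h c.hb₁ hb₁' hv
      refine ⟨⟨a, Subgroup.mem_sup_left (p.right.le_PP h ha)⟩, ?_⟩
      obtain ⟨τ, hτ⟩ := c.acts_PP p h ha₁' hb₁' (p.right.le_PP h ha)
      refine (c.acts_unique p h ha₁' hb₁' (hθ _) (fun w hw b hb => ?_) : θ _ = upT σ)
      obtain ⟨v', hv', b', hb', e1, -⟩ := hτ w hw b hb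
      have hcV : ⁅a, b⁆ ∈ V := h.comm_mem (p.right.le_PP h ha) (p.left.le_PP h hb)
      refine ⟨w * ⁅a, b⁆, mul_mem hw hcV, b, hb, ?_, ?_⟩
      · calc a * (w * b) * a⁻¹ = (a * w * a⁻¹) * (⁅a, b⁆ * b) := by rw [commutatorElement_def]; group
          _ = _ := by rw [← h.cent (p.right.le_PP h ha) hw, mul_inv_cancel_right, mul_assoc]
      · funext i
        fin_cases i
        · simp [coords, upT, Matrix.mulVec, dotProduct, Fin.sum_univ_two]
          rw [c.add w hw _ hcV, c.mul a ha b hb, hav, hvσ]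
        · simp [coords, upT, Matrix.mulVec, dotProduct, Fin.sum_univ_two]
    · rcases eq_or_ne σ 0 with rfl | hσ
      · have : (lowT (0 : F)) = 1 := Subtype.ext (by simp [lowT, Matrix.one_fin_two])
        rw [this]; exact one_mem _
      obtain ⟨v, hv, hvσ⟩ := c.surj σ⁻¹
      obtain ⟨a, ha, hav⟩ := p.surj h c.hb₁ hb₁' hv
      have hv1 : v ≠ 1 := by
        rintro rfl
        have h10 := c.add 1 (one_mem V) 1 (one_mem V)
        rw [mul_one] at h10
        exact inv_ne_zero hσ (by rw [← hvσ]; exact left_eq_add.mp h10)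
      have ha1 : a ≠ 1 := fun q => hv1 (by rw [← hav, q, commutatorElement_one_left])
      obtain ⟨z, hz, -, hz1, -⟩ := p.left.exists_dual h (p.right.le_PP h ha) c.hb₁ hb₁' (by rwa [hav])
      refine ⟨⟨z, Subgroup.mem_sup_right hz⟩, ?_⟩
      have := c.acts_lowT p h ha₁' hb₁' hz ha ha1 hz1
      rw [hav, hvσ, inv_inv] at this
      exact c.acts_unique p h ha₁' hb₁' (hθ _) this
  have hker : Θ.ker = (Subgroup.centralizer (W : Set G)).subgroupOf H := by
    ext x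
    rw [MonoidHom.mem_ker, Subgroup.mem_subgroupOf, Subgroup.mem_centralizer_iff]
    constructor
    · intro hx w hw
      obtain ⟨v, hv, b, hb, rfl⟩ := (p.left.mem_sup h).mp hw
      obtain ⟨v', hv', b', hb', e1, e2⟩ := hθ x v hv b hb
      rw [show θ x = 1 from hx] at e2
      simp only [Matrix.SpecialLinearGroup.coe_one, Matrix.one_mulVec] at e2
      obtain ⟨rfl, rfl⟩ := c.coords_inj p h ha₁' hb₁' hv' hv hb' hb e2
      exact (mul_inv_eq_iff_eq_mul.mp e1).symm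
    · intro hx
      refine c.acts_unique p h ha₁' hb₁' (hθ x) fun v hv b hb => ⟨v, hv, b, hb, ?_, by simp⟩
      rw [← hx _ (Subgroup.mul_mem_sup hv hb), mul_inv_cancel_right]
  exact ⟨(QuotientGroup.quotientMulEquivOfEq hker.symm).trans (QuotientGroup.quotientKerEquivOfSurjective Θ hsurj)⟩

end Coord

end CfsgLib.KGroups.TILarge
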