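import Cfsg.Agent.Lib.LocalEvenB.ExtraspecialAut

/-!
Duality in an extraspecial 2-group: centralizers of subgroups containing the centre.
-/

set_option autoImplicit false
open scoped commutatorElement

namespace CfsgLib.KGroups.ExtraspecialDual

open CfsgLib.LocalEvenB.ExtraspecialAut

variable {Q : Type*} [Group Q] [Finite Q]

omit [Finite Q] in
/-- A group all of whose elements lie in two translates of a subgroup has at most twice its order. -/
theorem card_le_two_mul {H K : Subgroup Q} [Finite H] [Finite K] (a : Q)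
    (h : ∀ x ∈ K, x ∈ H ∨ a * x ∈ H) : Nat.card K ≤ 2 * Nat.card H := by
  classical
  have : Nat.card K ≤ Nat.card (H × Bool) := by
    refine Nat.card_le_card_of_injective
      (fun x : K => if hx : (x : Q) ∈ H then (⟨x, hx⟩, true) else (⟨a * x, (h x x.2).resolve_left hx⟩, false)) ?_
    intro x y hxy
    simp only at hxy
    split_ifs at hxy <;> simp_all [Prod.ext_iff]
  rw [Nat.card_prod, Nat.card_eq_fintype_card (α := Bool), Fintype.card_bool] at this
  omega

theorem card_mul_mono (hQ : Cfsg.IsExtraspecial 2 Q) {C D : Subgroup Q} (hC : Subgroup.center Q ≤ C)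
    (hCD : C ≤ D) :
    Nat.card (Subgroup.centralizer (C : Set Q)) * Nat.card C ≤
      Nat.card (Subgroup.centralizer (D : Set Q)) * Nat.card D := by
  induction' hk : Nat.card D - Nat.card C using Nat.strong_induction_on with k ih generalizing C
  rcases eq_or_lt_of_le hCD with rfl | hlt
  · exact le_rfl
  obtain ⟨c, hcD, hcC⟩ := SetLike.exists_of_lt hlt
  have hcomm : ∀ x y : Q, ⁅x, y⁆ ∈ C := fun x y => hC (comm_mem hQ x y)
  have hn : ∀ x ∈ C, ∀ y : Q, y * x * y⁻¹ ∈ C := fun x hx y => by
    have := C.mul_mem (hcomm y x) hx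
    rwa [commutatorElement_def, inv_mul_cancel_right] at this
  have hc2 : c * c ∈ C := hC (sq_mem hQ c)
  let C' : Subgroup Q :=
    { carrier := {x | x ∈ C ∨ c * x ∈ C}
      one_mem' := Or.inl C.one_mem
      mul_mem' := fun {x y} hx hy => by
        rcases hx with hx | hx <;> rcases hy with hy | hy
        · exact Or.inl (C.mul_mem hx hy)
        · refine Or.inr ?_
          have := C.mul_mem (hn x hx c) hy
          rwa [show c * x * c⁻¹ * (c * y) = c * (x * y) by group] at this
        · refine Or.inr ?_
          rw [← mul_assoc]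
          exact C.mul_mem hx hy
        · refine Or.inl ?_
          have h1 := C.mul_mem (hn _ hx c) hy
          rw [show c * (c * x) * c⁻¹ * (c * y) = c * c * (x * y) by group] at h1
          exact (C.mul_mem_cancel_left hc2).mp h1
      inv_mem' := fun {x} hx => by
        rcases hx with hx | hx
        · exact Or.inl (C.inv_mem hx)
        · refine Or.inr ?_
          have h1 := hn _ (C.inv_mem hx) c
          rw [show c * (c * x)⁻¹ * c⁻¹ = c * x⁻¹ * (c * c)⁻¹ by group] at h1
          exact (C.mul_mem_cancel_right (C.inv_mem hc2)).mp h1 }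
  have hCC' : C ≤ C' := fun x hx => Or.inl hx
  have hcC' : c ∈ C' := Or.inr hc2
  have hC'D : C' ≤ D := by
    rintro x (hx | hx)
    · exact hCD hx
    · exact (D.mul_mem_cancel_left hcD).mp (hCD hx)
  have hlt' : C < C' := lt_of_le_of_ne hCC' fun h => hcC (h ▸ hcC')
  have h2 : 2 * Nat.card C ≤ Nat.card C' := by
    obtain ⟨k, hk⟩ := Subgroup.card_dvd_of_le hCC'
    have h0 : Nat.card C < Nat.card C' := lt_of_not_ge fun h => hlt'.ne (Subgroup.eq_of_le_of_card_ge hCC' h)
    rcases k with _ | _ | k
    · rw [hk] at h0; simp at h0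
    · rw [hk] at h0; simp at h0
    · rw [hk]; nlinarith
  have h3 : Nat.card (Subgroup.centralizer (C : Set Q)) ≤ 2 * Nat.card (Subgroup.centralizer (C' : Set Q)) := by
    have hmem : ∀ x ∈ Subgroup.centralizer (C : Set Q), Commute x c → x ∈ Subgroup.centralizer (C' : Set Q) := by
      intro x hx hxc
      rw [Subgroup.mem_centralizer_iff] at hx ⊢
      rintro y (hy | hy)
      · exact hx y hy
      · have h1 : Commute (c * y) x := hx _ hy
        have h4 := hxc.symm.inv_left.mul_left h1
        rw [inv_mul_cancel_left] at h4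
        exact h4
    by_cases hall : ∀ x ∈ Subgroup.centralizer (C : Set Q), Commute x c
    · exact (card_le_two_mul 1 fun x hx => Or.inl (hmem x hx (hall x hx)))
    · push Not at hall
      obtain ⟨a, ha, hac⟩ := hall
      refine card_le_two_mul a fun x hx => ?_
      by_cases hxc : Commute x c
      · exact Or.inl (hmem x hx hxc)
      · exact Or.inr (hmem _ (mul_mem ha hx) (commute_mul hQ hac hxc))
  have h5 : Nat.card C < Nat.card C' := by
    have := Nat.card_pos (α := C)
    omega
  have h6 := Subgroup.card_le_of_le hC'D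
  refine le_trans ?_ (ih _ (by omega) (hC.trans hCC') hC'D rfl)
  calc Nat.card (Subgroup.centralizer (C : Set Q)) * Nat.card C
      ≤ 2 * Nat.card (Subgroup.centralizer (C' : Set Q)) * Nat.card C := Nat.mul_le_mul_right _ h3
    _ = Nat.card (Subgroup.centralizer (C' : Set Q)) * (2 * Nat.card C) := by ring
    _ ≤ _ := Nat.mul_le_mul_left _ h2

/-- `|C_Q(C)| |C| = |Z(Q)| |Q|` for `Z(Q) ≤ C`. -/
theorem card_mul (hQ : Cfsg.IsExtraspecial 2 Q) {C : Subgroup Q} (hC : Subgroup.center Q ≤ C) :
    Nat.card (Subgroup.centralizer (C : Set Q)) * Nat.card C = 2 * Nat.card Q := by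
  have h1 := card_mul_mono hQ (le_refl (Subgroup.center Q)) hC
  have h2 := card_mul_mono hQ hC le_top
  have hz : Subgroup.centralizer ((Subgroup.center Q : Subgroup Q) : Set Q) = ⊤ :=
    eq_top_iff.mpr fun x _ => Subgroup.mem_centralizer_iff.mpr fun y hy => (Subgroup.mem_center_iff.mp hy x).symm
  have ht : Subgroup.centralizer ((⊤ : Subgroup Q) : Set Q) = Subgroup.center Q := by
    rw [Subgroup.coe_top, Subgroup.centralizer_univ]
  rw [hz, Subgroup.card_top, hQ.2] at h1
  rw [ht, hQ.2, Subgroup.card_top] at h2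
  rw [mul_comm] at h1
  omega

omit [Finite Q] in
theorem center_le_centralizer (C : Subgroup Q) : Subgroup.center Q ≤ Subgroup.centralizer (C : Set Q) :=
  fun _ hx => Subgroup.mem_centralizer_iff.mpr fun y _ => Subgroup.mem_center_iff.mp hx y

theorem centralizer_centralizer (hQ : Cfsg.IsExtraspecial 2 Q) {C : Subgroup Q} (hC : Subgroup.center Q ≤ C) :
    Subgroup.centralizer ((Subgroup.centralizer (C : Set Q) : Subgroup Q) : Set Q) = C := by
  have h1 := card_mul hQ hC
  have h2 := card_mul hQ (center_le_centralizer C)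
  refine (Subgroup.eq_of_le_of_card_ge (fun x hx => Subgroup.mem_centralizer_iff.mpr fun y hy =>
    (Subgroup.mem_centralizer_iff.mp hy x hx).symm) ?_).symm
  rw [← h1, mul_comm _ (Nat.card C)] at h2
  exact le_of_eq (Nat.eq_of_mul_eq_mul_right Nat.card_pos h2)

/-- Commuting with a product. -/
theorem commute_mul_iff' (hQ : Cfsg.IsExtraspecial 2 Q) (x y v : Q) :
    Commute (x * y) v ↔ (Commute x v ↔ Commute y v) := by
  by_cases hy : Commute y v
  · refine ⟨fun h => iff_of_true ?_ hy, fun h => ((h.mpr hy)).mul_left hy⟩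
    simpa using h.mul_left hy.inv_left
  · rw [commute_mul_iff hQ hy]
    exact ⟨fun hx => iff_of_false hx hy, fun h hx => hy (h.mp hx)⟩

end CfsgLib.KGroups.ExtraspecialDual
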