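import Cfsg.Agent.Lib.KGroups.AlgebraPoint.Spectrum
import Cfsg.Agent.Lib.CharDeep.IrrTools
import Cfsg.Prelude.Def_Blocks

/-!
# A subgroup of index `d + 1` from a character of degree `d`

If a real irreducible character of indicator one has a nonzero symmetric cube and fourth moment four, then
`ℂ ⊕ V` carries an invariant commutative associative algebra structure, and its points give the subgroup.
-/

set_option autoImplicit false
open Matrix Module

namespace CfsgLib.KGroups.AlgebraPoint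

open Cfsg

variable {G : Type*} [Group G] [Fintype G]

/-- The main construction for an orthogonal matrix representation. -/
theorem exists_index_of_setup {d : ℕ} {M : G →* Matrix (Fin d) (Fin d) ℂ} (S : Setup M)
    (hinv : ∀ v, (∀ g, M g *ᵥ v = v) → v = 0) : ∃ H : Subgroup G, H.index = d + 1 := by
  obtain ⟨c, m, hc0, hc, hcomm, hassoc⟩ := exists_assoc S
  obtain ⟨hle, hsymc⟩ : finrank ℂ (tens M 3).invariants ≤ 1 ∧
      ∀ a b e, mulT c a b ⬝ᵥ e = mulT c a e ⬝ᵥ b := by
    have hle : finrank ℂ (tens M 3).invariants ≤ 1 :=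
      finrank_three_le (fun g => (M g).trace) S.real S.sum_one S.sum_two S.sum_four (trace_avg M 3)
    refine ⟨hle, ?_⟩
    obtain ⟨c', hc', hne', -, h12⟩ := exists_three S
    have hn : (⟨c', hc'⟩ : (tens M 3).invariants) ≠ 0 := fun h => hne' (congrArg Subtype.val h)
    have h1 : finrank ℂ (tens M 3).invariants = 1 := by
      have : Nontrivial (tens M 3).invariants := ⟨⟨_, _, hn⟩⟩
      have := Module.finrank_pos (R := ℂ) (M := (tens M 3).invariants)
      omega
    obtain ⟨l, hl⟩ := (finrank_eq_one_iff_of_nonzero' _ hn).mp h1 ⟨c, hc⟩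
    have hl' : c = l • c' := (congrArg Subtype.val hl).symm
    have hfix : permT d (Equiv.swap 1 2) c = c := by rw [hl', map_smul, h12]
    intro a b e
    rw [dot_mulT, dot_mulT]
    conv_lhs => rw [← hfix]
    rw [form_perm]
    congr 1
    funext l
    fin_cases l <;> rfl
  let E : Ext d := ⟨c, m, hcomm, hassoc⟩
  have : IsSymE E := ⟨hsymc⟩
  have hdot : ∀ g a b, (M g *ᵥ a) ⬝ᵥ (M g *ᵥ b) = a ⬝ᵥ b := fun g a b => mulVec_dot S.orth g a b
  have hmul : ∀ g a b, mulT E.c (M g *ᵥ a) (M g *ᵥ b) = M g *ᵥ mulT E.c a b :=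
    fun g a b => mulT_equivariant S.orth hc g a b
  have := isReduced (E := E) M hdot hmul S.irr hinv hc0 (by have := S.two_le; omega)
  exact exists_index_aux (E := E) M hdot hmul hinv

/-- A subgroup of index `d + 1`. -/
theorem exists_index_of_character (χ : IrrCharacter G) (d : ℕ)
    (hd : Cfsg.charDegree (χ : G → ℂ) = d) (h2d : 2 ≤ d)
    (hreal : ∀ g, starRingEnd ℂ ((χ : G → ℂ) g) = (χ : G → ℂ) g)
    (hnu : ∑ g : G, (χ : G → ℂ) (g * g) = (Nat.card G : ℂ))
    (hsym : ∑ g : G, (((χ : G → ℂ) g) ^ 2 + (χ : G → ℂ) (g * g)) * (χ : G → ℂ) g ≠ 0)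
    (hfour : ∑ g : G, ((χ : G → ℂ) g) ^ 4 = 4 * (Nat.card G : ℂ)) :
    ∃ H : Subgroup G, H.index = d + 1 := by
  obtain ⟨χ, hχ⟩ := χ
  simp only at hd hreal hnu hsym hfour
  have him : ∀ g, (χ g).im = 0 := fun g => Complex.conj_eq_iff_im.mp (hreal g)
  obtain ⟨n, ρ, hρ, hρχ⟩ := id hχ
  set M0 := CharDeep.BilinearForm.matrixHom ρ
  have htr : ∀ g, (M0 g).trace = χ g := fun g => by
    rw [CharDeep.BilinearForm.trace_matrixHom, hρχ]
  have hnd : n = d := by
    rw [← hd, Cfsg.charDegree, ← htr 1, map_one, Matrix.trace_one, Fintype.card_fin, Complex.natCast_re,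
      Nat.floor_natCast]
  subst hnd
  have hN : (Nat.card G : ℂ) ≠ 0 := Nat.cast_ne_zero.mpr Nat.card_pos.ne'
  have hclass := CharDeep.BilinearForm.classInner_conj hχ him
  obtain ⟨⟨X, hX0, hXinv⟩, hXsym⟩ := CharDeep.BilinearForm.invariant_form M0 (by simp only [htr]; exact hclass)
  have hXt : X.transpose = X := by
    rw [hXsym X hXinv]
    simp only [htr, hnu, inv_mul_cancel₀ hN, one_smul]
  have hmv : ∀ g v, M0 g *ᵥ v = ρ g v := fun g v => LinearMap.toMatrix'_mulVec (ρ g) v
  have hirr0 : ∀ U : Submodule ℂ (Fin n → ℂ), (∀ g, ∀ u ∈ U, M0 g *ᵥ u ∈ U) → U = ⊥ ∨ U = ⊤ :=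
    fun U hU => CharDeep.IrrTools.eq_bot_or_top_of_invariant ρ U fun g u hu => hmv g u ▸ hU g u hu
  have hker : ∀ v : Fin n → ℂ, X *ᵥ v = 0 → v = 0 := by
    intro v hv
    have hinvK : ∀ g, ∀ u ∈ LinearMap.ker X.mulVecLin, M0 g *ᵥ u ∈ LinearMap.ker X.mulVecLin := by
      intro g u hu
      rw [LinearMap.mem_ker, Matrix.mulVecLin_apply] at hu ⊢
      have e : X * M0 g = (M0 g⁻¹).transpose * X := by
        conv_rhs => rw [← hXinv g]
        rw [← Matrix.mul_assoc, ← Matrix.mul_assoc, ← Matrix.transpose_mul, ← map_mul, mul_inv_cancel, map_one,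
          Matrix.transpose_one, Matrix.one_mul]
      rw [Matrix.mulVec_mulVec, e, ← Matrix.mulVec_mulVec, hu, Matrix.mulVec_zero]
    rcases hirr0 _ hinvK with h | h
    · have : v ∈ LinearMap.ker X.mulVecLin := by rw [LinearMap.mem_ker]; exact hv
      rwa [h, Submodule.mem_bot] at this
    · exfalso
      refine hX0 (Matrix.toLin'.injective (LinearMap.ext fun u => ?_))
      have : u ∈ LinearMap.ker X.mulVecLin := h ▸ Submodule.mem_top
      rw [LinearMap.mem_ker, Matrix.mulVecLin_apply] at this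
      rw [map_zero, LinearMap.zero_apply, Matrix.toLin'_apply, this]
  obtain ⟨Q, Q', hQ'Q, hQQ', hQX⟩ := exists_orth X hXt hker
  let N : G →* Matrix (Fin n) (Fin n) ℂ :=
    { toFun := fun g => Q * M0 g * Q'
      map_one' := by rw [map_one, Matrix.mul_one, hQQ']
      map_mul' := fun g h => by
        rw [map_mul]
        calc Q * (M0 g * M0 h) * Q' = Q * M0 g * (Q' * Q) * (M0 h * Q') := by
              rw [hQ'Q, Matrix.mul_one]; simp only [Matrix.mul_assoc]
          _ = _ := by simp only [Matrix.mul_assoc] }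
  have hNapp : ∀ g, N g = Q * M0 g * Q' := fun g => rfl
  have hNtr : ∀ g, (N g).trace = χ g := fun g => by
    rw [hNapp, Matrix.trace_mul_comm, ← Matrix.mul_assoc, hQ'Q, Matrix.one_mul, htr]
  have horth : ∀ g, (N g).transpose = N g⁻¹ := by
    intro g
    have e : (N g).transpose * N g = 1 := by
      rw [hNapp, Matrix.transpose_mul, Matrix.transpose_mul]
      calc Q'.transpose * ((M0 g).transpose * Q.transpose) * (Q * M0 g * Q')
          = Q'.transpose * ((M0 g).transpose * (Q.transpose * Q) * M0 g) * Q' := by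
            simp only [Matrix.mul_assoc]
        _ = Q'.transpose * (Q.transpose * Q) * Q' := by rw [hQX, hXinv g]
        _ = (Q * Q').transpose * (Q * Q') := by rw [Matrix.transpose_mul]; simp only [Matrix.mul_assoc]
        _ = 1 := by rw [hQQ', Matrix.transpose_one, Matrix.one_mul]
    calc (N g).transpose = (N g).transpose * (N g * N g⁻¹) := by
          rw [← map_mul, mul_inv_cancel, map_one, Matrix.mul_one]
      _ = N g⁻¹ := by rw [← Matrix.mul_assoc, e, Matrix.one_mul]
  have hirr : ∀ U : Submodule ℂ (Fin n → ℂ), (∀ g, ∀ u ∈ U, N g *ᵥ u ∈ U) → U = ⊥ ∨ U = ⊤ := by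
    intro U hU
    have hqq : ∀ u : Fin n → ℂ, Q *ᵥ (Q' *ᵥ u) = u := fun u => by
      rw [Matrix.mulVec_mulVec, hQQ', Matrix.one_mulVec]
    rcases hirr0 (U.comap Q.mulVecLin) (fun g u hu => by
      show Q *ᵥ (M0 g *ᵥ u) ∈ U
      have := hU g _ (show Q *ᵥ u ∈ U from hu)
      rwa [hNapp, Matrix.mulVec_mulVec, Matrix.mul_assoc, hQ'Q, Matrix.mul_one, ← Matrix.mulVec_mulVec]
        at this) with h | h
    · left
      rw [eq_bot_iff]
      intro u hu
      have : Q' *ᵥ u ∈ U.comap Q.mulVecLin := by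
        show Q *ᵥ (Q' *ᵥ u) ∈ U
        rw [hqq]; exact hu
      rw [h, Submodule.mem_bot] at this
      rw [Submodule.mem_bot, ← hqq u, this, Matrix.mulVec_zero]
    · right
      rw [eq_top_iff]
      intro u _
      have : Q' *ᵥ u ∈ U.comap Q.mulVecLin := h ▸ Submodule.mem_top
      rw [← hqq u]
      exact this
  have hinv : ∀ v, (∀ g, N g *ᵥ v = v) → v = 0 := by
    intro v hv
    let W : Submodule ℂ (Fin n → ℂ) :=
      { carrier := {u | ∀ g, N g *ᵥ u = u}
        add_mem' := fun {a b} ha hb g => by rw [Matrix.mulVec_add, ha g, hb g]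
        zero_mem' := fun g => Matrix.mulVec_zero _
        smul_mem' := fun r a ha g => by rw [Matrix.mulVec_smul, ha g] }
    rcases hirr W (fun g u hu => by rw [hu g]; exact hu) with h | h
    · have : v ∈ W := hv
      rwa [h, Submodule.mem_bot] at this
    · exfalso
      have hall : ∀ u : Fin n → ℂ, ∀ g, N g *ᵥ u = u := fun u => (h ▸ Submodule.mem_top : u ∈ W)
      have hn : 0 < n := by omega
      rcases hirr (Submodule.span ℂ {Pi.single ⟨0, hn⟩ 1}) (fun g u hu => by rw [hall u g]; exact hu) with h' | h'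
      · rw [Submodule.span_singleton_eq_bot] at h'
        have := congrFun h' ⟨0, hn⟩
        simp at this
      · have := finrank_span_singleton (K := ℂ) (v := (Pi.single ⟨0, hn⟩ 1 : Fin n → ℂ)) (fun h0 => by
          have := congrFun h0 ⟨0, hn⟩
          simp at this)
        rw [h', finrank_top, Module.finrank_fin_fun] at this
        omega
  have hone : ∑ g, χ g = 0 := by
    have hz : ∑ g, N g = 0 := by
      refine Matrix.toLin'.injective (LinearMap.ext fun v => ?_)
      rw [Matrix.toLin'_apply, Matrix.sum_mulVec, map_zero, LinearMap.zero_apply]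
      exact sum_fixed N hinv v
    simp only [← hNtr]
    rw [← Matrix.trace_sum, hz, Matrix.trace_zero]
  have htwo : ∑ g, χ g ^ 2 = (Nat.card G : ℂ) := by
    have h := hclass
    rw [inv_mul_eq_iff_eq_mul₀ hN, mul_one] at h
    rw [← h]
    exact Fintype.sum_equiv (Equiv.inv G) _ _ fun g => by simp [pow_two]
  refine exists_index_of_setup (M := N) ⟨h2d, horth, hirr, fun g => hNtr g ▸ him g, ?_, ?_, ?_, ?_⟩ hinv
  · simp only [hNtr]; exact hone
  · simp only [hNtr]; exact htwo
  · simp only [hNtr]; exact hfour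
  · simp only [← map_mul, hNtr]; exact hsym

set_option linter.unusedVariables false in
/-- The form of the statement used for the Mathieu groups (simplicity is not needed). -/
theorem exists_index [IsSimpleGroup G] (hna : ¬ IsMulCommutative G) (χ : IrrCharacter G) (d : ℕ)
    (hd : Cfsg.charDegree (χ : G → ℂ) = d) (h3d : 3 ≤ d)
    (hreal : ∀ g, starRingEnd ℂ ((χ : G → ℂ) g) = (χ : G → ℂ) g)
    (hnu : ∑ g : G, (χ : G → ℂ) (g * g) = (Nat.card G : ℂ))
    (hsym : ∑ g : G, (((χ : G → ℂ) g) ^ 2 + (χ : G → ℂ) (g * g)) * (χ : G → ℂ) g ≠ 0)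
    (hfour : ∑ g : G, ((χ : G → ℂ) g) ^ 4 = 4 * (Nat.card G : ℂ)) :
    ∃ H : Subgroup G, H.index = d + 1 :=
  exists_index_of_character χ d hd (by omega) hreal hnu hsym hfour

end CfsgLib.KGroups.AlgebraPoint
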