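import Mathlib

/-!
Sizes of abelian permutation groups: a faithful abelian group is determined by the images of one
point in each orbit, so its order is bounded by a product of orbit sizes; and the largest orders of
abelian groups of even permutations are attained by products of regular groups of orders 3 and 4.
-/

set_option autoImplicit false

namespace Cfsg.Agent.AlternatingAbelian

/-- The largest product of positive parts with given sum. -/
def maxProd : ℕ → ℕ
  | 0 => 1
  | 1 => 1
  | 2 => 2
  | 3 => 3
  | 4 => 4
  | n + 5 => 3 * maxProd (n + 2)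

/-- The largest product of parts different from two with given sum. -/
def maxProdNoTwo : ℕ → ℕ
  | 0 => 1
  | 1 => 1
  | 2 => 1
  | 3 => 3
  | 4 => 4
  | 5 => 5
  | 6 => 9
  | 7 => 12
  | 8 => 16
  | n + 9 => 3 * maxProdNoTwo (n + 6)

lemma maxProd_step {n : ℕ} (h : 5 ≤ n) : maxProd n = 3 * maxProd (n - 3) := by
  obtain ⟨m, rfl⟩ := Nat.exists_eq_add_of_le h
  rw [show 5 + m = m + 5 by ring, maxProd, show m + 5 - 3 = m + 2 by omega]

lemma maxProdNoTwo_step {n : ℕ} (h : 9 ≤ n) : maxProdNoTwo n = 3 * maxProdNoTwo (n - 3) := by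
  obtain ⟨m, rfl⟩ := Nat.exists_eq_add_of_le h
  rw [show 9 + m = m + 9 by ring, maxProdNoTwo, show m + 9 - 3 = m + 6 by omega]

lemma maxProd_mul : ∀ a b, maxProd a * maxProd b ≤ maxProd (a + b) := by
  have base : ∀ a < 5, ∀ b < 5, maxProd a * maxProd b ≤ maxProd (a + b) := by decide
  suffices ∀ N a b, a + b = N → maxProd a * maxProd b ≤ maxProd (a + b) from
    fun a b => this _ a b rfl
  intro N
  induction N using Nat.strong_induction_on with
  | _ N ih =>
    intro a b hN
    rcases Nat.lt_or_ge a 5 with ha | ha
    · rcases Nat.lt_or_ge b 5 with hb | hb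
      · exact base a ha b hb
      · rw [maxProd_step hb, maxProd_step (by omega : 5 ≤ a + b), mul_left_comm,
          show a + b - 3 = a + (b - 3) by omega]
        exact Nat.mul_le_mul_left 3 (ih (a + (b - 3)) (by omega) a (b - 3) rfl)
    · rw [maxProd_step ha, maxProd_step (by omega : 5 ≤ a + b), mul_assoc,
        show a + b - 3 = a - 3 + b by omega]
      exact Nat.mul_le_mul_left 3 (ih (a - 3 + b) (by omega) (a - 3) b rfl)

lemma maxProdNoTwo_mul : ∀ a b, maxProdNoTwo a * maxProdNoTwo b ≤ maxProdNoTwo (a + b) := by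
  have base : ∀ a < 9, ∀ b < 9, maxProdNoTwo a * maxProdNoTwo b ≤ maxProdNoTwo (a + b) := by decide
  suffices ∀ N a b, a + b = N → maxProdNoTwo a * maxProdNoTwo b ≤ maxProdNoTwo (a + b) from
    fun a b => this _ a b rfl
  intro N
  induction N using Nat.strong_induction_on with
  | _ N ih =>
    intro a b hN
    rcases Nat.lt_or_ge a 9 with ha | ha
    · rcases Nat.lt_or_ge b 9 with hb | hb
      · exact base a ha b hb
      · rw [maxProdNoTwo_step hb, maxProdNoTwo_step (by omega : 9 ≤ a + b), mul_left_comm,
          show a + b - 3 = a + (b - 3) by omega]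
        exact Nat.mul_le_mul_left 3 (ih (a + (b - 3)) (by omega) a (b - 3) rfl)
    · rw [maxProdNoTwo_step ha, maxProdNoTwo_step (by omega : 9 ≤ a + b), mul_assoc,
        show a + b - 3 = a - 3 + b by omega]
      exact Nat.mul_le_mul_left 3 (ih (a - 3 + b) (by omega) (a - 3) b rfl)

lemma le_maxProd : ∀ n, n ≤ maxProd n := by
  intro n
  induction n using Nat.strong_induction_on with
  | _ n ih =>
    rcases Nat.lt_or_ge n 5 with h | h
    · interval_cases n <;> decide
    · have := ih (n - 3) (by omega)
      rw [maxProd_step h]; omega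

lemma le_maxProdNoTwo : ∀ n, n ≠ 2 → n ≤ maxProdNoTwo n := by
  intro n
  induction n using Nat.strong_induction_on with
  | _ n ih =>
    intro h2
    rcases Nat.lt_or_ge n 9 with h | h
    · interval_cases n <;> first | (exfalso; omega) | decide
    · have := ih (n - 3) (by omega) (by omega)
      rw [maxProdNoTwo_step h]; omega

lemma maxProd_three_mul : ∀ k, maxProd (3 * k) = 3 ^ k
  | 0 => rfl
  | 1 => rfl
  | k + 2 => by
    rw [maxProd_step (by omega), show 3 * (k + 2) - 3 = 3 * (k + 1) by omega,
      maxProd_three_mul (k + 1), pow_succ' 3 (k + 1)]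

lemma maxProd_three_mul_add_one : ∀ k, maxProd (3 * (k + 1) + 1) = 4 * 3 ^ k
  | 0 => rfl
  | k + 1 => by
    rw [maxProd_step (by omega), show 3 * (k + 1 + 1) + 1 - 3 = 3 * (k + 1) + 1 by omega,
      maxProd_three_mul_add_one k, pow_succ]; ring

lemma maxProdNoTwo_three_mul_add_two : ∀ k, maxProdNoTwo (3 * (k + 2) + 2) = 16 * 3 ^ k
  | 0 => rfl
  | k + 1 => by
    rw [maxProdNoTwo_step (by omega), show 3 * (k + 1 + 2) + 2 - 3 = 3 * (k + 2) + 2 by omega,
      maxProdNoTwo_three_mul_add_two k, pow_succ]; ring

lemma prod_le_maxProd {ι : Type*} (s : Finset ι) (f : ι → ℕ) :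
    ∏ i ∈ s, f i ≤ maxProd (∑ i ∈ s, f i) := by
  classical
  induction s using Finset.induction_on with
  | empty => rfl
  | insert i s hi ih =>
    rw [Finset.prod_insert hi, Finset.sum_insert hi]
    exact le_trans (Nat.mul_le_mul (le_maxProd _) ih) (maxProd_mul _ _)

lemma prod_le_maxProdNoTwo {ι : Type*} (s : Finset ι) (f : ι → ℕ) (h : ∀ i ∈ s, f i ≠ 2) :
    ∏ i ∈ s, f i ≤ maxProdNoTwo (∑ i ∈ s, f i) := by
  classical
  induction s using Finset.induction_on with
  | empty => rfl
  | insert i s hi ih =>
    rw [Finset.prod_insert hi, Finset.sum_insert hi]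
    exact le_trans (Nat.mul_le_mul (le_maxProdNoTwo _ (h i (Finset.mem_insert_self i s)))
      (ih fun j hj => h j (Finset.mem_insert_of_mem hj))) (maxProdNoTwo_mul _ _)

section bound

variable {α : Type*} [Fintype α] [DecidableEq α]

open Equiv MulAction

/-- Orbit bound: an abelian group of permutations all of whose nontrivial elements move a point in
one of the orbits in `S` has order at most the product of these orbit sizes. -/
lemma card_le_prod (A : Subgroup (Perm α)) (hA : IsMulCommutative A)
    (S : Finset (orbitRel.Quotient A α))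
    (hS : ∀ a : A, (∀ o ∈ S, ∀ x ∈ orbitRel.Quotient.orbit o, a • x = x) → a = 1) :
    Nat.card A ≤ ∏ o ∈ S, Nat.card (orbitRel.Quotient.orbit o) := by
  classical
  rw [← Finset.prod_coe_sort, ← Nat.card_pi]
  refine Nat.card_le_card_of_injective
    (fun (a : A) (o : S) => (⟨a • (Quotient.out o.1), by
      rw [orbitRel.Quotient.orbit_eq_orbit_out o.1 Quotient.out_eq']
      exact mem_orbit _ a⟩ : orbitRel.Quotient.orbit o.1)) fun a b hab => ?_
  have hab' : b⁻¹ * a = 1 := by
    refine hS _ fun o ho x hx => ?_
    rw [orbitRel.Quotient.orbit_eq_orbit_out o Quotient.out_eq'] at hx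
    obtain ⟨c, rfl⟩ := hx
    have h := congrArg Subtype.val (congr_fun hab ⟨o, ho⟩)
    dsimp only at h ⊢
    rw [smul_smul, hA.is_comm.comm (b⁻¹ * a) c, ← smul_smul, mul_smul, h, inv_smul_smul]
  exact (inv_mul_eq_one.1 hab').symm

lemma sum_card_orbit (A : Subgroup (Perm α)) [Fintype (orbitRel.Quotient A α)] :
    ∑ o : orbitRel.Quotient A α, Nat.card (orbitRel.Quotient.orbit o) = Fintype.card α := by
  classical
  rw [← Nat.card_sigma, ← Nat.card_eq_fintype_card]
  exact Nat.card_congr ((MulAction.selfEquivSigmaOrbits' A α).symm)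

/-- An abelian group of permutations is no larger than the largest product of a partition. -/
lemma card_le_maxProd (A : Subgroup (Perm α)) (hA : IsMulCommutative A) :
    Nat.card A ≤ maxProd (Fintype.card α) := by
  classical
  haveI := Fintype.ofFinite (orbitRel.Quotient A α)
  refine le_trans (card_le_prod A hA Finset.univ fun a ha => ?_) ?_
  · refine Subtype.ext (Equiv.ext fun x => ?_)
    exact ha (Quotient.mk'' x) (Finset.mem_univ _) x (by rw [orbitRel.Quotient.mem_orbit])
  · rw [← sum_card_orbit A]; exact prod_le_maxProd _ _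

/-- An abelian group of even permutations with an orbit of length two is determined by its action
on the other orbits. -/
lemma card_le_of_two_orbit (A : Subgroup (Perm α)) (hA : IsMulCommutative A)
    (heven : A ≤ alternatingGroup α) (o : orbitRel.Quotient A α)
    (ho : Nat.card (orbitRel.Quotient.orbit o) = 2) :
    2 ≤ Fintype.card α ∧ Nat.card A ≤ maxProd (Fintype.card α - 2) := by
  classical
  haveI := Fintype.ofFinite (orbitRel.Quotient A α)
  have hsum := Finset.sum_erase_add Finset.univ
    (fun o => Nat.card (orbitRel.Quotient.orbit o)) (Finset.mem_univ o)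
  rw [sum_card_orbit A] at hsum
  simp only [ho] at hsum
  refine ⟨by omega, le_trans (card_le_prod A hA (Finset.univ.erase o) fun a ha => ?_)
    (le_trans (prod_le_maxProd _ _) (le_of_eq (congrArg maxProd (by omega))))⟩
  rw [Nat.card_coe_set_eq, Set.ncard_eq_two] at ho
  obtain ⟨u, v, huv, horb⟩ := ho
  have hout : ∀ x, x ≠ u → x ≠ v → (a : Perm α) x = x := by
    intro x hxu hxv
    refine ha (Quotient.mk'' x) (Finset.mem_erase.2 ⟨fun e => ?_, Finset.mem_univ _⟩) x
      (by rw [orbitRel.Quotient.mem_orbit])
    have hx : x ∈ orbitRel.Quotient.orbit o := by rw [orbitRel.Quotient.mem_orbit]; exact e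
    rw [horb] at hx
    rcases hx with h | h
    · exact hxu h
    · exact hxv h
  by_contra hne
  have hne' : (a : Perm α) ≠ 1 := fun h => hne (Subtype.ext h)
  have hsupp : (a : Perm α).support ⊆ {u, v} := by
    intro x hx
    by_contra hxuv
    simp only [Finset.mem_insert, Finset.mem_singleton, not_or] at hxuv
    exact (Perm.mem_support.1 hx) (hout x hxuv.1 hxuv.2)
  have hle : (a : Perm α).support.card ≤ 2 := le_trans (Finset.card_le_card hsupp)
    (Finset.card_le_two)
  have htwo : (a : Perm α).support.card = 2 :=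
    le_antisymm hle (Perm.two_le_card_support_of_ne_one hne')
  obtain ⟨x, y, hxy, he⟩ := Perm.card_support_eq_two.1 htwo
  have := heven a.2
  rw [he, Perm.mem_alternatingGroup, Perm.sign_swap hxy] at this
  exact absurd this (by decide)

/-- An abelian group of even permutations: either it is bounded by the partitions without twos,
or by the partitions of two points fewer. -/
lemma card_le_of_even (A : Subgroup (Perm α)) (hA : IsMulCommutative A)
    (heven : A ≤ alternatingGroup α) :
    Nat.card A ≤ maxProdNoTwo (Fintype.card α) ∨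
      (2 ≤ Fintype.card α ∧ Nat.card A ≤ maxProd (Fintype.card α - 2)) := by
  classical
  haveI := Fintype.ofFinite (orbitRel.Quotient A α)
  by_cases h2 : ∃ o : orbitRel.Quotient A α, Nat.card (orbitRel.Quotient.orbit o) = 2
  · obtain ⟨o, ho⟩ := h2
    exact Or.inr (card_le_of_two_orbit A hA heven o ho)
  · refine Or.inl (le_trans (card_le_prod A hA Finset.univ fun a ha => ?_) ?_)
    · refine Subtype.ext (Equiv.ext fun x => ?_)
      exact ha (Quotient.mk'' x) (Finset.mem_univ _) x (by rw [orbitRel.Quotient.mem_orbit])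
    · rw [← sum_card_orbit A]
      exact prod_le_maxProdNoTwo _ _ fun o _ h => h2 ⟨o, h⟩

end bound

section attain

open Equiv

/-- There is an abelian group of `c` even permutations of `n` points. -/
def Attains (n c : ℕ) : Prop :=
  ∃ A : Subgroup (alternatingGroup (Fin n)), IsMulCommutative A ∧ Nat.card A = c

lemma attains_of_hom {α G : Type} [Fintype α] [DecidableEq α] [CommGroup G]
    (f : G →* Perm α) (hf : Function.Injective f) (heven : ∀ g, Perm.sign (f g) = 1) :
    Attains (Fintype.card α) (Nat.card G) := by
  let e := Fintype.equivFin α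
  let F : G →* alternatingGroup (Fin (Fintype.card α)) :=
    ((e.permCongrHom.toMonoidHom).comp f).codRestrict _ fun g => by
      rw [Perm.mem_alternatingGroup]
      exact (Perm.sign_permCongr e (f g)).trans (heven g)
  have hF : Function.Injective F := fun a b h =>
    hf (e.permCongrHom.injective (congrArg Subtype.val h))
  refine ⟨F.range, ⟨⟨?_⟩⟩, Nat.card_congr (MonoidHom.ofInjective hF).toEquiv.symm⟩
  rintro ⟨_, a, rfl⟩ ⟨_, b, rfl⟩
  exact Subtype.ext (by simp only [Subgroup.coe_mul, ← map_mul, mul_comm])

lemma attains_add {m n c d : ℕ} (h₁ : Attains m c) (h₂ : Attains n d) :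
    Attains (m + n) (c * d) := by
  obtain ⟨A, hA, rfl⟩ := h₁
  obtain ⟨B, hB, rfl⟩ := h₂
  let _iA : CommGroup A := { (inferInstance : Group A) with mul_comm := hA.is_comm.comm }
  let _iB : CommGroup B := { (inferInstance : Group B) with mul_comm := hB.is_comm.comm }
  let f : A × B →* Perm (Fin m ⊕ Fin n) := (Perm.sumCongrHom (Fin m) (Fin n)).comp
    (((alternatingGroup (Fin m)).subtype.comp A.subtype).prodMap
      ((alternatingGroup (Fin n)).subtype.comp B.subtype))
  have hf : Function.Injective f := Perm.sumCongrHom_injective.comp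
    ((Subtype.val_injective.comp Subtype.val_injective).prodMap
      (Subtype.val_injective.comp Subtype.val_injective))
  have h := attains_of_hom f hf fun g => by
    show Perm.sign (Equiv.sumCongr _ _) = 1
    rw [Perm.sign_sumCongr]
    exact (congrArg₂ (· * ·) g.1.1.2 g.2.1.2).trans (one_mul 1)
  rwa [Fintype.card_sum, Fintype.card_fin, Fintype.card_fin, Nat.card_prod] at h

lemma attains_zero : Attains 0 1 :=
  ⟨⊥, ⟨⟨fun a b => Subsingleton.elim _ _⟩⟩, Nat.card_unique⟩

lemma attains_three : Attains 3 3 := by
  have h := attains_of_hom (G := Multiplicative (ZMod 3))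
    (MulAction.toPermHom (Multiplicative (ZMod 3)) (Multiplicative (ZMod 3)))
    (MulAction.toPerm_injective) (by decide)
  simpa using h

lemma attains_four : Attains 4 4 := by
  have h := attains_of_hom (G := Multiplicative (ZMod 2 × ZMod 2))
    (MulAction.toPermHom (Multiplicative (ZMod 2 × ZMod 2)) (Multiplicative (ZMod 2 × ZMod 2)))
    (MulAction.toPerm_injective) (by decide)
  simpa using h

lemma attains_three_mul : ∀ k, Attains (3 * k) (3 ^ k)
  | 0 => attains_zero
  | k + 1 => by
    have := attains_add (attains_three_mul k) attains_three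
    rwa [show 3 * k + 3 = 3 * (k + 1) by ring, ← pow_succ] at this

end attain

end Cfsg.Agent.AlternatingAbelian
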