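import Mathlib
import Cfsg.Agent.Lib.PGroup.Frattini

/-!
A subgroup minimal among those normalized but not centralized by a given element of order prime to `p`
in a `p`-group has exponent `p`, or `4` if `p = 2`.
-/

set_option autoImplicit false
set_option linter.style.haveILetI false
set_option linter.unusedSectionVars false

namespace CfsgLib.KGroups.OmegaFaithful

open scoped commutatorElement

variable {G : Type*} [Group G] [Finite G] {p : ℕ} [Fact p.Prime]

theorem fix_of_coset {C : Subgroup G} (hC : IsPGroup p C) {g x : G} (ho : (orderOf g).Coprime p)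
    (hgC : ∀ c ∈ C, g * c * g⁻¹ = c) (hx : x⁻¹ * (g * x * g⁻¹) ∈ C) : g * x * g⁻¹ = x := by
  set c := x⁻¹ * (g * x * g⁻¹) with hc
  have hpow : ∀ n : ℕ, g ^ n * x * (g ^ n)⁻¹ = x * c ^ n := by
    intro n
    induction n with
    | zero => simp
    | succ n ih =>
      calc g ^ (n + 1) * x * (g ^ (n + 1))⁻¹ = g * (g ^ n * x * (g ^ n)⁻¹) * g⁻¹ := by rw [pow_succ']; group
        _ = g * x * g⁻¹ * (g * c ^ n * g⁻¹) := by rw [ih]; group
        _ = x * c * c ^ n := by rw [hgC _ (pow_mem hx n), hc]; group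
        _ = x * c ^ (n + 1) := by rw [pow_succ']; group
  have h1 := hpow (orderOf g)
  rw [pow_orderOf_eq_one, one_mul, inv_one, mul_one, left_eq_mul] at h1
  obtain ⟨k, hk⟩ := hC ⟨c, hx⟩
  have h2 : c ^ p ^ k = 1 := congrArg Subtype.val hk
  have h3 : orderOf c = 1 := Nat.eq_one_of_dvd_coprimes (Nat.Coprime.pow_right k ho)
    (orderOf_dvd_of_pow_eq_one h1) (orderOf_dvd_of_pow_eq_one h2)
  rw [orderOf_eq_one_iff, hc, inv_mul_eq_one] at h3
  exact h3.symm

theorem class_two_pow {x y d : G} (hd : y * x = x * y * d) (hx : Commute x d) (hy : Commute y d) (n : ℕ) :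
    (x * y) ^ n = x ^ n * y ^ n * d ^ (n.choose 2) := by
  have hyx : ∀ m : ℕ, y ^ m * x = x * y ^ m * d ^ m := by
    intro m
    induction m with
    | zero => simp
    | succ m ih =>
      calc y ^ (m + 1) * x = y ^ m * (y * x) := by rw [pow_succ]; group
        _ = y ^ m * x * (y * d) := by rw [hd]; group
        _ = x * y ^ m * (d ^ m * y) * d := by rw [ih]; group
        _ = x * y ^ (m + 1) * d ^ (m + 1) := by rw [(hy.symm.pow_left m).eq, pow_succ, pow_succ]; group
  induction n with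
  | zero => simp
  | succ n ih =>
    calc (x * y) ^ (n + 1) = x ^ n * y ^ n * (d ^ (n.choose 2) * x) * y := by rw [pow_succ, ih]; group
      _ = x ^ n * (y ^ n * x) * (d ^ (n.choose 2) * y) := by rw [(hx.symm.pow_left _).eq]; group
      _ = x ^ n * x * y ^ n * (d ^ n * (d ^ (n.choose 2) * y)) := by rw [hyx]; group
      _ = x ^ (n + 1) * y ^ n * (y * (d ^ n * d ^ (n.choose 2))) := by
        rw [← mul_assoc (d ^ n), ← pow_add, (hy.symm.pow_left _).eq, pow_succ]
      _ = x ^ (n + 1) * y ^ (n + 1) * d ^ ((n + 1).choose 2) := by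
        rw [Nat.choose_succ_succ, Nat.choose_one_right, pow_add, pow_succ y]; group

/-- Order dividing `p`, or `4` when `p = 2`. -/
def Small (p : ℕ) (a : G) : Prop := a ^ p = 1 ∨ (p = 2 ∧ a ^ 4 = 1)

/-- A nontrivially acted subgroup of small exponent. -/
theorem exists_small {P : Subgroup G} (hP : IsPGroup p P) {g : G} (ho : (orderOf g).Coprime p)
    (hg : g ∈ Subgroup.normalizer (P : Set G)) (hgP : g ∉ Subgroup.centralizer (P : Set G)) :
    ∃ Q : Subgroup G, Q ≤ P ∧ g ∈ Subgroup.normalizer (Q : Set G) ∧ g ∉ Subgroup.centralizer (Q : Set G) ∧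
      ∀ a ∈ Q, Small p a := by
  classical
  set pred := fun Q : Subgroup G => Q ≤ P ∧ g ∈ Subgroup.normalizer (Q : Set G) ∧
    g ∉ Subgroup.centralizer (Q : Set G) with hpred
  obtain ⟨Q, ⟨hQP, hgQ, hgnQ⟩, hmin⟩ := Set.Finite.exists_minimal (Set.toFinite {Q | pred Q}) ⟨P, le_rfl, hg, hgP⟩
  refine ⟨Q, hQP, hgQ, hgnQ, ?_⟩
  have hQ : IsPGroup p Q := hP.to_le hQP
  have hfix : ∀ K : Subgroup G, K < Q → (∀ k ∈ K, g * k * g⁻¹ ∈ K) → ∀ k ∈ K, g * k * g⁻¹ = k := by
    intro K hK hKg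
    have hgK : g ∈ Subgroup.normalizer (K : Set G) := by
      have hmap : K.map (MulAut.conj g).toMonoidHom = K := Subgroup.eq_of_le_of_card_ge
        (by rintro _ ⟨c, hc, rfl⟩; exact hKg c hc)
        (Subgroup.card_map_of_injective (MulAut.conj g).injective).ge
      rw [Subgroup.mem_normalizer_iff]
      refine fun a => ⟨hKg a, fun ha => ?_⟩
      obtain ⟨b, hb, e⟩ := hmap.ge ha
      rwa [← (MulAut.conj g).injective e]
    by_contra hne
    have hC : g ∉ Subgroup.centralizer (K : Set G) := fun hC => hne fun k hk => by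
      rw [(Subgroup.mem_centralizer_iff.mp hC k hk).symm, mul_inv_cancel_right]
    exact (not_le_of_gt hK) (hmin ⟨hK.le.trans hQP, hgK, hC⟩ hK.le)
  have hgm : ∀ x ∈ Q, g * x * g⁻¹ ∈ Q := fun x hx => (Subgroup.mem_normalizer_iff.mp hgQ x).mp hx
  -- the elements `x⁻¹ g x g⁻¹` generate `Q`
  set C := {c | ∃ x ∈ Q, c = x⁻¹ * (g * x * g⁻¹)} with hCdef
  have hL : Subgroup.closure C = Q := by
    have hle : Subgroup.closure C ≤ Q := by
      rw [Subgroup.closure_le]
      rintro _ ⟨x, hx, rfl⟩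
      exact mul_mem (inv_mem hx) (hgm x hx)
    by_contra hne
    have hlt := lt_of_le_of_ne hle hne
    have hinv : ∀ k ∈ Subgroup.closure C, g * k * g⁻¹ ∈ Subgroup.closure C := by
      have hle' : Subgroup.closure C ≤ (Subgroup.closure C).comap (MulAut.conj g).toMonoidHom := by
        rw [Subgroup.closure_le]
        rintro _ ⟨x, hx, rfl⟩
        exact Subgroup.subset_closure ⟨g * x * g⁻¹, hgm x hx, by simp [mul_assoc]⟩
      exact fun k hk => hle' hk
    refine hgnQ (Subgroup.mem_centralizer_iff.mpr fun x hx => ?_)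
    exact (mul_inv_eq_iff_eq_mul.mp (fix_of_coset (hQ.to_le hle) ho (hfix _ hlt hinv)
      (Subgroup.subset_closure ⟨x, hx, rfl⟩))).symm
  -- powers and commutators
  set K := Subgroup.closure {k | (∃ x ∈ Q, k = x ^ p) ∨ ∃ x ∈ Q, ∃ y ∈ Q, k = ⁅x, y⁆} with hKdef
  have hKQ : K ≤ (frattini Q).map Q.subtype := by
    rw [hKdef, Subgroup.closure_le]
    rintro k (⟨x, hx, rfl⟩ | ⟨x, hx, y, hy, rfl⟩)
    · exact ⟨⟨x, hx⟩ ^ p, CfsgLib.PGroup.Frattini.pow_mem_frattini hQ _, rfl⟩
    · exact ⟨⁅(⟨x, hx⟩ : Q), ⟨y, hy⟩⁆, CfsgLib.PGroup.Frattini.commutatorElement_mem_frattini hQ _ _, rfl⟩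
  have hne : Q ≠ ⊥ := fun e => hgnQ (Subgroup.mem_centralizer_iff.mpr fun x hx => by
    rw [e] at hx
    rw [Subgroup.mem_bot.mp hx, one_mul, mul_one])
  have hKlt : K < Q := by
    refine lt_of_le_of_ne (hKQ.trans (Subgroup.map_subtype_le _)) fun e => ?_
    haveI : Nontrivial Q := (Subgroup.nontrivial_iff_ne_bot _).mpr hne
    have hf : frattini Q = ⊤ := Subgroup.map_injective Q.subtype_injective
      (le_antisymm ((Subgroup.map_subtype_le _).trans (le_of_eq (by rw [← MonoidHom.range_eq_map, Subgroup.range_subtype])))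
        ((le_of_eq (by rw [← MonoidHom.range_eq_map, Subgroup.range_subtype, e])).trans hKQ))
    obtain ⟨M, hM, -⟩ := (eq_top_or_exists_le_coatom (⊥ : Subgroup Q)).resolve_left bot_ne_top
    exact hM.1 (top_le_iff.mp (hf ▸ frattini_le_coatom hM))
  have hKinv : ∀ k ∈ K, g * k * g⁻¹ ∈ K := by
    have hle : K ≤ K.comap (MulAut.conj g).toMonoidHom := by
      rw [hKdef, Subgroup.closure_le]
      rintro k (⟨x, hx, rfl⟩ | ⟨x, hx, y, hy, rfl⟩)
      · exact Subgroup.subset_closure (Or.inl ⟨g * x * g⁻¹, hgm x hx, map_pow (MulAut.conj g) x p⟩)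
      · exact Subgroup.subset_closure (Or.inr ⟨g * x * g⁻¹, hgm x hx, g * y * g⁻¹, hgm y hy,
          map_commutatorElement (MulAut.conj g).toMonoidHom x y⟩)
    exact fun k hk => hle hk
  have hgK := hfix K hKlt hKinv
  have hcom : ∀ x ∈ Q, ∀ y ∈ Q, ⁅x, y⁆ ∈ K := fun x hx y hy => Subgroup.subset_closure (Or.inr ⟨x, hx, y, hy, rfl⟩)
  have hpw : ∀ x ∈ Q, x ^ p ∈ K := fun x hx => Subgroup.subset_closure (Or.inl ⟨x, hx, rfl⟩)
  have hcen : ∀ k ∈ K, ∀ y ∈ Q, Commute k y := by
    intro k hk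
    have hle : Subgroup.closure C ≤ Subgroup.centralizer ({k} : Set G) := by
      rw [Subgroup.closure_le]
      rintro _ ⟨x, hx, rfl⟩
      rw [SetLike.mem_coe, Subgroup.mem_centralizer_singleton_iff]
      have hkQ := hKlt.le hk
      have h1 : x * k * x⁻¹ ∈ K := by
        rw [show x * k * x⁻¹ = ⁅x, k⁆ * k by rw [commutatorElement_def]; group]
        exact mul_mem (hcom x hx k hkQ) hk
      have h2 := hgK _ h1
      have h3 : g * x * g⁻¹ * (g * k * g⁻¹) * (g * x * g⁻¹)⁻¹ = x * k * x⁻¹ := by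
        conv_rhs => rw [← h2]
        group
      rw [hgK k hk] at h3
      calc x⁻¹ * (g * x * g⁻¹) * k = x⁻¹ * (g * x * g⁻¹ * k * (g * x * g⁻¹)⁻¹) * (g * x * g⁻¹) := by group
        _ = k * (x⁻¹ * (g * x * g⁻¹)) := by rw [h3]; group
    intro y hy
    exact (Subgroup.mem_centralizer_singleton_iff.mp (hle (hL.ge hy))).symm
  have hdp : ∀ x ∈ Q, ∀ y ∈ Q, ⁅y, x⁆ ^ p = 1 := by
    intro x hx y hy
    have key : ∀ m : ℕ, ⁅y ^ m, x⁆ = ⁅y, x⁆ ^ m := by
      intro m
      induction m with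
      | zero => simp
      | succ m ih =>
        have hc : Commute (⁅y, x⁆ ^ m) y := (hcen _ (hcom y hy x hx) y hy).pow_left m
        calc ⁅y ^ (m + 1), x⁆ = y * ⁅y ^ m, x⁆ * y⁻¹ * ⁅y, x⁆ := by
              rw [pow_succ']; simp only [commutatorElement_def]; group
          _ = _ := by rw [ih, ← hc.eq, mul_inv_cancel_right, ← pow_succ]
    rw [← key p, commutatorElement_eq_one_iff_mul_comm]
    exact (hcen _ (hpw y hy) x hx).eq
  set e := if p = 2 then 4 else p with he
  have hpe : p ∣ e := by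
    rw [he]; split_ifs with h2
    · rw [h2]; norm_num
    · exact dvd_rfl
  have hpc : p ∣ e.choose 2 := by
    rw [he]; split_ifs with h2
    · rw [h2]; decide
    · exact (Fact.out : p.Prime).dvd_choose_self (by norm_num)
        (lt_of_le_of_ne (Fact.out : p.Prime).two_le (Ne.symm h2))
  have hmul : ∀ x ∈ Q, ∀ y ∈ Q, (x * y) ^ e = x ^ e * y ^ e := by
    intro x hx y hy
    rw [class_two_pow (d := ⁅y⁻¹, x⁻¹⁆) (by rw [commutatorElement_def]; group)
      (hcen _ (hcom _ (inv_mem hy) _ (inv_mem hx)) x hx).symm (hcen _ (hcom _ (inv_mem hy) _ (inv_mem hx)) y hy).symm]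
    obtain ⟨j, hj⟩ := hpc
    rw [hj, pow_mul, hdp _ (inv_mem hx) _ (inv_mem hy), one_pow, mul_one]
  intro a ha
  have hae : a ^ e = 1 := by
    rw [← hL] at ha
    induction ha using Subgroup.closure_induction with
    | mem c hc =>
      obtain ⟨x, hx, rfl⟩ := hc
      have h1 := hmul x hx _ (mul_mem (inv_mem hx) (hgm x hx))
      rw [mul_inv_cancel_left, conj_pow] at h1
      obtain ⟨j, hj⟩ := hpe
      have h2 : g * x ^ e * g⁻¹ = x ^ e := by
        refine hgK _ ?_
        rw [hj, pow_mul]; exact pow_mem (hpw x hx) j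
      rw [h2] at h1
      exact left_eq_mul.mp h1
    | one => exact one_pow e
    | mul x y hx hy hxe hye => rw [hmul x (hL.le hx) y (hL.le hy), hxe, hye, one_mul]
    | inv x hx hxe => rw [inv_pow, hxe, inv_one]
  by_cases h2 : p = 2
  · exact Or.inr ⟨h2, by rwa [he, if_pos h2] at hae⟩
  · exact Or.inl (by rwa [he, if_neg h2] at hae)

end CfsgLib.KGroups.OmegaFaithful
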