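import Cfsg.Agent.Lib.FusionSystem.ZJCriterion
import Cfsg.Agent.Lib.KGroups.Functor.AbelianResidual
import Cfsg.Agent.Lib.KGroups.ClosureControl
import Cfsg.Agent.Lib.Components.PComponents
import Cfsg.Agent.Lib.Components.SFT.Criterion
import Cfsg.Agent.Lib.KGroups.Functor.Control
import Cfsg.Agent.Lib.FusionSystem.SectionFreeGroup

/-!
An axiomatic Glauberman-Thompson criterion: a family of abelian subgroups with invariance and replacement.
-/

set_option autoImplicit false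

namespace CfsgLib.KGroups.AxiomGT

open Cfsg
open CfsgLib.LocalEven.SylowIn
open scoped commutatorElement

universe u

variable {L : Type u} [Group L] [Finite L] {p : ℕ} [Fact p.Prime]

/-- The intersection of the members inside `Q`. -/
def inter {X : Type*} [Group X] (𝒜 : Set (Subgroup X)) (Q : Subgroup X) : Subgroup X :=
  ⨅ A ∈ {A : Subgroup X | A ∈ 𝒜 ∧ A ≤ Q}, A

theorem mem_inter {X : Type*} [Group X] {𝒜 : Set (Subgroup X)} {Q : Subgroup X} {x : X} :
    x ∈ inter 𝒜 Q ↔ ∀ A ∈ 𝒜, A ≤ Q → x ∈ A := by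
  simp [inter, Subgroup.mem_iInf]

/-- The hypotheses at a Sylow subgroup. -/
structure Axioms (T : Subgroup L) (𝒜 : Set (Subgroup L)) : Prop where
  le : ∀ A ∈ 𝒜, A ≤ T
  comm : ∀ A ∈ 𝒜, ∀ a ∈ A, ∀ b ∈ A, a * b = b * a
  nonempty : 𝒜.Nonempty
  inv : ∀ Q : Subgroup L, Q ≤ T → (∃ A ∈ 𝒜, A ≤ Q) → ∀ g ∈ Subgroup.normalizer (Q : Set L),
    ∀ x ∈ inter 𝒜 Q, g * x * g⁻¹ ∈ inter 𝒜 Q
  rep : ∀ B : Subgroup L, B ≤ T → ⁅⁅B, B⁆, B⁆ = ⊥ → (∃ A ∈ 𝒜, ⁅B, B⁆ ≤ A ∧ ¬ B ≤ A) →
    ∃ A ∈ 𝒜, ⁅B, B⁆ ≤ A ∧ ¬ B ≤ A ∧ B ≤ Subgroup.normalizer (A : Set L)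

/-- Quadratic elements on normal `p`-subgroups centralize them up to the `p`-core of the induced group. -/
theorem mem_of_quadratic (hst : Cfsg.IsNormalizerPStable p L) {B : Subgroup L} [B.Normal] (hB : IsPGroup p B)
    {g : L} (hq : ⁅⁅B, Subgroup.zpowers g⁆, Subgroup.zpowers g⁆ = ⊥) :
    g ∈ (Cfsg.pCore p (L ⧸ Subgroup.centralizer (B : Set L))).comap (QuotientGroup.mk' _) := by
  have hN : g ∈ Subgroup.normalizer (B : Set L) := by rw [Subgroup.normalizer_eq_top]; trivial
  have h := hst B hB g hN hq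
  set N := Subgroup.normalizer (B : Set L)
  set C := Subgroup.centralizer (B : Set L)
  haveI hCn : (C.subgroupOf N).Normal := inferInstance
  let f : ↥N →* L ⧸ C := (QuotientGroup.mk' C).comp N.subtype
  have hf : C.subgroupOf N ≤ f.ker := fun x hx => (QuotientGroup.eq_one_iff _).2 hx
  let F : ↥N ⧸ C.subgroupOf N →* L ⧸ C := QuotientGroup.lift _ f hf
  have hFs : Function.Surjective F := by
    intro y
    obtain ⟨y, rfl⟩ := QuotientGroup.mk'_surjective C y
    exact ⟨QuotientGroup.mk ⟨y, by rw [show N = ⊤ from Subgroup.normalizer_eq_top B]; trivial⟩, rfl⟩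
  haveI hn : ((Cfsg.pCore p (↥N ⧸ C.subgroupOf N)).map F).Normal :=
    (CfsgLib.LocalEven.SylowIn.pCore_normal _ p).map F hFs
  exact CfsgLib.Solvable.Cores.le_pCore (hn := hn) ((CfsgLib.Solvable.Cores.isPGroup_pCore p).map F) ⟨_, h, rfl⟩

/-- The intersection of the family is normal in a constrained `p`-stable group. -/
theorem inter_normal (T : Sylow p L) (hc : Subgroup.centralizer ((Cfsg.pCore p L : Subgroup L) : Set L) ≤ Cfsg.pCore p L)
    (hst : Cfsg.IsNormalizerPStable p L) {𝒜 : Set (Subgroup L)} (h : Axioms (T : Subgroup L) 𝒜) :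
    (inter 𝒜 (T : Subgroup L)).Normal := by
  classical
  set O := Cfsg.pCore p L with hO
  haveI hOn : O.Normal := CfsgLib.LocalEven.SylowIn.pCore_normal L p
  have hOp : IsPGroup p O := CfsgLib.LocalEven.SylowIn.isPGroup_pCore L p
  have hOT : O ≤ (T : Subgroup L) := hOp.le_sylow_of_normal T
  set I := inter 𝒜 (T : Subgroup L) with hI
  obtain ⟨A₀, hA₀⟩ := h.nonempty
  have hIA : ∀ A ∈ 𝒜, I ≤ A := fun A hA x hx => mem_inter.1 hx A hA (h.le A hA)
  have hIT : I ≤ (T : Subgroup L) := (hIA A₀ hA₀).trans (h.le A₀ hA₀)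
  have hIab : ∀ a ∈ I, ∀ b ∈ I, a * b = b * a := fun a ha b hb => h.comm A₀ hA₀ a (hIA A₀ hA₀ ha) b (hIA A₀ hA₀ hb)
  have hTI : (T : Subgroup L) ≤ Subgroup.normalizer (I : Set L) := by
    refine fun t ht => Subgroup.mem_normalizer_iff.2 fun x => ⟨h.inv _ le_rfl ⟨A₀, hA₀, h.le A₀ hA₀⟩ t (Subgroup.le_normalizer ht) x, fun hx => ?_⟩
    have h1 := h.inv _ le_rfl ⟨A₀, hA₀, h.le A₀ hA₀⟩ t⁻¹ (Subgroup.le_normalizer (inv_mem ht)) _ hx
    rwa [show t⁻¹ * (t * x * t⁻¹) * t⁻¹⁻¹ = x by group] at h1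
  have hquad : ∀ (B A : Subgroup L), B ≤ Subgroup.normalizer (A : Set L) → (∀ a ∈ A, ∀ b ∈ A, a * b = b * a) →
      ∀ g ∈ A, ⁅⁅B, Subgroup.zpowers g⁆, Subgroup.zpowers g⁆ = ⊥ := by
    intro B A hBA hab g hg
    refine le_bot_iff.1 ?_
    have h1 : ⁅B, Subgroup.zpowers g⁆ ≤ A :=
      (Subgroup.commutator_mono le_rfl (Subgroup.zpowers_le.2 hg)).trans (Subgroup.le_normalizer_iff_commutator_le_right.1 hBA)
    refine (Subgroup.commutator_mono h1 (Subgroup.zpowers_le.2 hg)).trans (le_of_eq ?_)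
    exact Subgroup.commutator_eq_bot_iff_le_centralizer.2 fun a ha =>
      Subgroup.mem_centralizer_iff.2 fun b hb => hab b hb a ha
  -- `I ≤ O`
  have hIO : I ≤ O := by
    intro g hg
    have h1 := mem_of_quadratic hst hOp (hquad O I (hOT.trans hTI) hIab g hg)
    have h2 : (Cfsg.pCore p (L ⧸ Subgroup.centralizer (O : Set L))).comap (QuotientGroup.mk' _) ≤ O := by
      refine CfsgLib.Solvable.Cores.le_pCore ?_
      exact IsPGroup.comap_of_ker_isPGroup (CfsgLib.Solvable.Cores.isPGroup_pCore p) _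
        (by rw [QuotientGroup.ker_mk']; exact hOp.to_le hc)
    exact h2 h1
  by_contra hIn
  -- a minimal normal subgroup with non-normal intersection
  obtain ⟨B, ⟨hBn, hBO, hBI⟩, hmin⟩ := (Set.toFinite {B : Subgroup L | B.Normal ∧ B ≤ O ∧ ¬ (B ⊓ I).Normal}).exists_minimal
    ⟨O, hOn, le_rfl, by rwa [inf_eq_right.2 hIO]⟩
  haveI := hBn
  have hBp : IsPGroup p B := hOp.to_le hBO
  have hBT : B ≤ (T : Subgroup L) := hBO.trans hOT
  have hlt : ∀ B' : Subgroup L, B'.Normal → B' < B → (B' ⊓ I).Normal := fun B' hn hlt => by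
    by_contra hbad
    exact hlt.not_ge (hmin ⟨hn, hlt.le.trans hBO, hbad⟩ hlt.le)
  set Z := B ⊓ I with hZ
  have hgen : Subgroup.normalClosure (Z : Set L) = B := by
    refine le_antisymm (Subgroup.normalClosure_le_normal fun x hx => hx.1) ?_
    by_contra hne
    have hle : Subgroup.normalClosure (Z : Set L) ≤ B := Subgroup.normalClosure_le_normal fun x hx => hx.1
    have h1 := hlt _ Subgroup.normalClosure_normal (lt_of_le_not_ge hle hne)
    rw [show Subgroup.normalClosure (Z : Set L) ⊓ I = Z from le_antisymm (inf_le_inf_right _ hle)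
      (le_inf Subgroup.subset_normalClosure inf_le_right)] at h1
    exact hBI h1
  have hB1 : B ≠ ⊥ := fun e => hBI (by rw [hZ, e, bot_inf_eq]; infer_instance)
  set D := ⁅B, B⁆ ⊓ I with hD
  haveI hDn : D.Normal := by
    refine hlt _ inferInstance (lt_of_le_of_ne (Subgroup.commutator_le_left B B) fun e => ?_)
    haveI : Nontrivial ↥B := (Subgroup.nontrivial_iff_ne_bot B).2 hB1
    haveI : Group.IsNilpotent ↥B := hBp.isNilpotent
    refine (Group.IsSolvable.commutator_lt_top_of_nontrivial ↥B).ne (eq_top_iff.2 fun x _ => ?_)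
    have h1 : (x : L) ∈ (commutator ↥B).map B.subtype := by rw [Subgroup.map_subtype_commutator, e]; exact x.2
    exact (Subgroup.mem_map_iff_mem B.subtype_injective).1 h1
  have hBB : ⁅B, B⁆ ≤ D := by
    set π := QuotientGroup.mk' D
    haveI : ((Subgroup.centralizer ((B.map π : Subgroup (L ⧸ D)) : Set (L ⧸ D))).comap π).Normal := by
      haveI := hBn.map π (QuotientGroup.mk'_surjective D)
      infer_instance
    have h1 : B ≤ (Subgroup.centralizer ((B.map π : Subgroup (L ⧸ D)) : Set (L ⧸ D))).comap π := by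
      conv_lhs => rw [← hgen]
      refine Subgroup.normalClosure_le_normal fun z hz => Subgroup.mem_comap.2 (Subgroup.mem_centralizer_iff.2 ?_)
      rintro _ ⟨b, hb, rfl⟩
      rw [← map_mul, ← map_mul]
      refine QuotientGroup.eq.2 ?_
      have h2 : ⁅z⁻¹, b⁻¹⁆ ∈ D := ⟨Subgroup.commutator_mem_commutator (inv_mem hz.1) (inv_mem hb), by
        rw [commutatorElement_def, inv_inv, inv_inv]
        have h3 : b⁻¹ * z * b ∈ I := (Subgroup.mem_normalizer_iff''.1 (hTI (hBT hb)) z).1 hz.2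
        rw [show z⁻¹ * b⁻¹ * z * b = z⁻¹ * (b⁻¹ * z * b) by group]
        exact Subgroup.mul_mem _ (Subgroup.inv_mem _ hz.2) h3⟩
      rwa [show (b * z)⁻¹ * (z * b) = ⁅z⁻¹, b⁻¹⁆ by rw [commutatorElement_def]; group]
    rw [Subgroup.commutator_le]
    intro a ha b hb
    refine (QuotientGroup.eq_one_iff _).1 ?_
    show π ⁅a, b⁆ = 1
    rw [map_commutatorElement, commutatorElement_eq_one_iff_mul_comm]
    exact (Subgroup.mem_centralizer_iff.1 (h1 ha) _ ⟨b, hb, rfl⟩).symm
  have hclass : ⁅⁅B, B⁆, B⁆ = ⊥ := by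
    refine le_bot_iff.1 ((Subgroup.commutator_mono hBB le_rfl).trans (le_of_eq ?_) : _ ≤ (⊥ : Subgroup L))
    rw [Subgroup.commutator_comm, Subgroup.commutator_eq_bot_iff_le_centralizer]
    conv_lhs => rw [← hgen]
    exact Subgroup.normalClosure_le_normal fun z hz => Subgroup.mem_centralizer_iff.2 fun d hd => hIab d hd.2 z hz.2
  obtain ⟨A, hA, hBBA, hBA, hBNA⟩ := h.rep B hBT hclass (by
    by_contra hall
    push Not at hall
    refine hBI ?_
    rw [hZ, inf_eq_left.2 (show B ≤ I from fun b hb => mem_inter.2 fun A hA _ =>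
      hall A hA ((hBB.trans inf_le_right).trans (hIA A hA)) hb)]
    exact hBn)
  set C := Subgroup.centralizer (B : Set L) with hC
  set M := (Cfsg.pCore p (L ⧸ C)).comap (QuotientGroup.mk' C) with hM
  have hAM : A ≤ M := fun a ha => mem_of_quadratic hst hBp (hquad B A hBNA (h.comm A hA) a ha)
  haveI hMn : M.Normal := (CfsgLib.LocalEven.SylowIn.pCore_normal _ p).comap _
  set S₁ := (T : Subgroup L) ⊓ M with hS₁
  have hS₁M : IsSylowIn p S₁ M := ClosureControl.sylowIn_inf (Functor.isSylowIn_top T) le_top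
    (by rw [Subgroup.normalizer_eq_top])
  have hAS₁ : A ≤ S₁ := le_inf (h.le A hA) hAM
  have hIS : I ≤ inter 𝒜 S₁ := fun x hx => mem_inter.2 fun A' hA' _ => hIA A' hA' hx
  have hMsup : M ≤ S₁ ⊔ C := by
    intro m hm
    let f := (QuotientGroup.mk' C).subgroupComap (Cfsg.pCore p (L ⧸ C))
    have hfs : Function.Surjective f :=
      MonoidHom.subgroupComap_surjective_of_surjective _ _ (QuotientGroup.mk'_surjective C)
    have htop := CfsgLib.Fsys.map_sylow_eq_top f hfs (CfsgLib.Solvable.Cores.isPGroup_pCore p) hS₁M.toSylow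
    obtain ⟨y, hy, hye⟩ := htop.ge (Subgroup.mem_top (f ⟨m, hm⟩))
    have h1 : (y : L)⁻¹ * m ∈ C := QuotientGroup.eq.1 (congrArg Subtype.val hye)
    rw [show m = (y : L) * ((y : L)⁻¹ * m) by group]
    exact Subgroup.mul_mem_sup hy h1
  have hsub : B ≤ inter 𝒜 S₁ := by
    rw [← hgen, Subgroup.normalClosure, Subgroup.closure_le]
    intro y hy
    obtain ⟨z, hz, g, rfl⟩ : ∃ z ∈ (Z : Set L), ∃ g : L, g * z * g⁻¹ = y := by
      obtain ⟨z, hz, hc⟩ := Group.mem_conjugatesOfSet_iff.1 hy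
      exact ⟨z, hz, isConj_iff.1 hc⟩
    obtain ⟨l, hl, n, hn, rfl⟩ := frattini_argument (H := ⊤) (g := g) hS₁M (by rw [Subgroup.normalizer_eq_top]) le_top trivial
    have h1 : l * n ∈ Subgroup.normalizer (S₁ : Set L) ⊔ C :=
      mul_mem ((hMsup.trans (sup_le_sup_right Subgroup.le_normalizer C)) hl) (Subgroup.mem_sup_left hn.2)
    rw [← SetLike.mem_coe, Subgroup.mul_normal] at h1
    obtain ⟨n', hn', c, hc', e⟩ := h1
    show l * n * z * (l * n)⁻¹ ∈ inter 𝒜 S₁
    rw [← e, show n' * c * z * (n' * c)⁻¹ = n' * (c * z * c⁻¹) * n'⁻¹ by group,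
      show c * z * c⁻¹ = z from mul_inv_eq_iff_eq_mul.2 (Subgroup.mem_centralizer_iff.1 hc' z hz.1).symm]
    exact h.inv S₁ inf_le_left ⟨A, hA, hAS₁⟩ n' hn' z (hIS hz.2)
  exact hBA fun b hb => mem_inter.1 (hsub hb) A hA hAS₁

theorem constrained_subgroup (hc : Subgroup.centralizer ((Cfsg.pCore p L : Subgroup L) : Set L) ≤ Cfsg.pCore p L)
    (T : Sylow p L) {X : Subgroup L} (hTX : (T : Subgroup L) ≤ X) :
    Subgroup.centralizer ((Cfsg.pCore p ↥X : Subgroup ↥X) : Set ↥X) ≤ Cfsg.pCore p ↥X := by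
  haveI := CfsgLib.LocalEven.SylowIn.pCore_normal L p
  have hOp : IsPGroup p (Cfsg.pCore p L) := CfsgLib.LocalEven.SylowIn.isPGroup_pCore L p
  have hOX : Cfsg.pCore p L ≤ X := (hOp.le_sylow_of_normal T).trans hTX
  haveI : ((Cfsg.pCore p L).subgroupOf X).Normal := inferInstance
  have h1 : (Cfsg.pCore p L).subgroupOf X ≤ Cfsg.pCore p ↥X :=
    CfsgLib.Solvable.Cores.le_pCore (hOp.comap_of_injective X.subtype X.subtype_injective)
  intro x hx
  refine h1 (hc (Subgroup.mem_centralizer_iff.2 fun o ho => ?_))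
  exact congrArg Subtype.val (Subgroup.mem_centralizer_iff.1 hx ⟨o, hOX ho⟩ (h1 ho))

/-- A quotient by the `p`-core with a maximal Sylow subgroup has a normal `p`-complement (`p` odd). -/
theorem npc_quotient {L : Type u} [Group L] [Finite L] (hp : p ≠ 2) (T : Sylow p L)
    (hmax : ∀ X : Subgroup L, (T : Subgroup L) ≤ X → X ≠ ⊤ → X = (T : Subgroup L))
    [(Cfsg.pCore p L).Normal] : Cfsg.HasNormalPComplement p (L ⧸ Cfsg.pCore p L) := by
  set O := Cfsg.pCore p L with hO
  haveI hOn : O.Normal := CfsgLib.LocalEven.SylowIn.pCore_normal L p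
  have hOp : IsPGroup p O := CfsgLib.LocalEven.SylowIn.isPGroup_pCore L p
  set π := QuotientGroup.mk' O
  have hπ : Function.Surjective π := QuotientGroup.mk'_surjective O
  set P := T.mapSurjective hπ with hP
  by_cases hP1 : (P : Subgroup (L ⧸ O)) = ⊥
  · refine Fusion.Basic.npc_iff_coprime.2 ?_
    have hidx := P.not_dvd_index
    rw [hP1, Subgroup.index_bot] at hidx
    exact (((Fact.out : p.Prime).coprime_iff_not_dvd.mpr hidx).symm).coprime_dvd_left (Subgroup.card_subgroup_dvd_card _)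
  · have hd : p ∣ Nat.card (P : Subgroup (L ⧸ O)) := by
      haveI := (Subgroup.nontrivial_iff_ne_bot _).2 hP1
      obtain ⟨k, hk, hcard⟩ := P.isPGroup'.nontrivial_iff_card.1 ‹_›
      exact hcard ▸ dvd_pow_self p hk.ne'
    refine Fusion.GlaubermanThompson.npc_aux
      (Fusion.GlaubermanThompson.zFunZ hp (Nat.card (P : Subgroup (L ⧸ O))) (Fusion.ZJBridge.odd_card_sylow hp P) hd)
      hp _ _ rfl P ?_
    show HasNormalPComplement p _
    suffices h : HasNormalPComplement p ↥(Subgroup.normalizer (centerThompsonAOf (P : Subgroup (L ⧸ O)) : Set (L ⧸ O))) by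
      rwa [Fusion.ZJBridge.centerThompsonAOf_eq_Z (Fusion.ZJBridge.sylow_pow_card P)] at h
    set Z := centerThompsonAOf (P : Subgroup (L ⧸ O)) with hZ
    have hW : Z = Fsys.wOf (fun Q _ => Fsys.zjA Q) (P : Subgroup (L ⧸ O)) := (Fsys.wOf_zjA _).symm
    set N := Subgroup.normalizer (Z : Set (L ⧸ O)) with hNdef
    have hPN : (P : Subgroup (L ⧸ O)) ≤ N := by
      intro t ht
      rw [hNdef, hW]
      have h0 := (Fsys.normalizerIn_wOf (W := fun Q _ => Fsys.zjA Q) Fsys.zjA_map P.isPGroup').ge ht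
      exact h0.2
    refine Fusion.Basic.npc_of_isPGroup (P.isPGroup'.to_le ?_)
    have hX : N.comap π = (T : Subgroup L) := by
      refine hmax _ (Subgroup.map_le_iff_le_comap.1 ?_) fun e => ?_
      · rw [← Sylow.coe_mapSurjective hπ T]; exact hPN
      · have hNtop : N = ⊤ := by rw [← Subgroup.map_comap_eq_self_of_surjective hπ N, e, Subgroup.map_top_of_surjective _ hπ]
        haveI : Z.Normal := Subgroup.normalizer_eq_top_iff.1 hNtop
        have hle : Z ≤ Cfsg.pCore p (L ⧸ O) :=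
          CfsgLib.Solvable.Cores.le_pCore (P.isPGroup'.to_le (Fsys.centerThompsonAOf_le _))
        rw [CfsgLib.Components.SFT.pCore_quotient_eq_bot] at hle
        exact Fsys.centerThompsonAOf_ne_bot P.isPGroup' hP1 (le_bot_iff.1 hle)
    intro y hy
    obtain ⟨x, rfl⟩ := hπ y
    rw [Sylow.coe_mapSurjective]
    exact ⟨x, hX.le hy, rfl⟩

/-- A constrained group in which `N(I)` lies in the Sylow subgroup is a `p`-group. -/
theorem top_of_axioms (hp : p ≠ 2) : ∀ (n : ℕ) (L : Type u) [Group L] [Finite L], Nat.card L = n → ∀ T : Sylow p L,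
    Subgroup.centralizer ((Cfsg.pCore p L : Subgroup L) : Set L) ≤ Cfsg.pCore p L →
    ∀ 𝒜 : Set (Subgroup L), Axioms (T : Subgroup L) 𝒜 →
      Subgroup.normalizer (inter 𝒜 (T : Subgroup L) : Set L) ≤ (T : Subgroup L) → (T : Subgroup L) = ⊤ := by
  intro n
  induction n using Nat.strong_induction_on with
  | _ n ih =>
  intro L _ _ hn T hc 𝒜 hA hN
  by_contra hT
  have hmax : ∀ X : Subgroup L, (T : Subgroup L) ≤ X → X ≠ ⊤ → X = (T : Subgroup L) := by
    intro X hTX hX
    have hmap : ∀ A ∈ 𝒜, (A.subgroupOf X).map X.subtype = A := fun A h =>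
      Subgroup.map_subgroupOf_eq_of_le ((hA.le A h).trans hTX)
    let 𝒜' : Set (Subgroup ↥X) := (fun A : Subgroup L => A.subgroupOf X) '' 𝒜
    have hcoe : ((T.subtype hTX : Sylow p ↥X) : Subgroup ↥X) = (T : Subgroup L).subgroupOf X := Sylow.coe_subtype ..
    have hinter : ∀ (Q : Subgroup ↥X) (x : ↥X), x ∈ inter 𝒜' Q ↔ (x : L) ∈ inter 𝒜 (Q.map X.subtype) := by
      intro Q x
      rw [mem_inter, mem_inter]
      refine ⟨fun h A h1 h2 => h _ ⟨A, h1, rfl⟩ ?_, ?_⟩
      · rw [← Subgroup.map_le_map_iff_of_injective X.subtype_injective, hmap A h1]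
        exact h2
      · rintro h _ ⟨A, h1, rfl⟩ h2
        refine h A h1 ?_
        rw [← hmap A h1]
        exact Subgroup.map_mono h2
    have hQT : ∀ Q : Subgroup ↥X, Q ≤ (T.subtype hTX : Subgroup ↥X) → Q.map X.subtype ≤ (T : Subgroup L) := by
      intro Q hQ
      rw [← Subgroup.map_subgroupOf_eq_of_le hTX, ← hcoe]
      exact Subgroup.map_mono hQ
    have hax : Axioms (T.subtype hTX : Subgroup ↥X) 𝒜' := by
      refine ⟨?_, ?_, hA.nonempty.image _, ?_, ?_⟩
      · rintro _ ⟨A, h1, rfl⟩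
        rw [hcoe]
        exact Subgroup.comap_mono (hA.le A h1)
      · rintro _ ⟨A, h1, rfl⟩ a ha b hb
        exact Subtype.ext (hA.comm A h1 _ ha _ hb)
      · intro Q hQ hex g hg x hx
        rw [hinter] at hx ⊢
        refine hA.inv _ (hQT Q hQ) ?_ (g : L) ?_ _ hx
        · obtain ⟨_, ⟨A, h1, rfl⟩, h2⟩ := hex
          exact ⟨A, h1, hmap A h1 ▸ Subgroup.map_mono h2⟩
        · exact Subgroup.le_normalizer_map _ ⟨g, hg, rfl⟩
      · intro B hB hcl hex
        obtain ⟨A, h1, h2, h3, h4⟩ := hA.rep (B.map X.subtype) (hQT B hB)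
          (by rw [← Subgroup.map_commutator, ← Subgroup.map_commutator, hcl, Subgroup.map_bot])
          (by
            obtain ⟨_, ⟨A, h1, rfl⟩, h2, h3⟩ := hex
            refine ⟨A, h1, ?_, fun h => h3 ?_⟩
            · rw [← Subgroup.map_commutator, ← hmap A h1]
              exact Subgroup.map_mono h2
            · rw [← Subgroup.map_le_map_iff_of_injective X.subtype_injective, hmap A h1]
              exact h)
        refine ⟨_, ⟨A, h1, rfl⟩, ?_, fun h => h3 ?_, fun b hb => ?_⟩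
        · rw [← Subgroup.map_le_map_iff_of_injective X.subtype_injective, hmap A h1, Subgroup.map_commutator]
          exact h2
        · rw [← hmap A h1]
          exact Subgroup.map_mono h
        · refine Subgroup.mem_normalizer_iff.2 fun x => ?_
          exact Subgroup.mem_normalizer_iff.1 (h4 ⟨b, hb, rfl⟩) (x : L)
    have hlt : Nat.card ↥X < n := hn ▸ lt_of_le_of_ne (Subgroup.card_le_card_group X) fun e =>
      hX (Subgroup.eq_top_of_card_eq X e)
    have htop := ih _ hlt ↥X rfl (T.subtype hTX) (constrained_subgroup hc T hTX) 𝒜' hax (fun g hg => ?_)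
    · rw [hcoe, Subgroup.subgroupOf_eq_top] at htop
      exact le_antisymm htop hTX
    · rw [hcoe]
      refine hN (Subgroup.mem_normalizer_iff.2 fun x => ?_)
      have hsub : ∀ x : L, x ∈ inter 𝒜 (T : Subgroup L) ↔ ∃ h : x ∈ X, (⟨x, h⟩ : ↥X) ∈ inter 𝒜' (T.subtype hTX : Subgroup ↥X) := by
        intro x
        have hIT : inter 𝒜 (T : Subgroup L) ≤ (T : Subgroup L) := fun y hy => by
          obtain ⟨A, h1⟩ := hA.nonempty
          exact hA.le A h1 (mem_inter.1 hy A h1 (hA.le A h1))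
        constructor
        · intro hx
          refine ⟨hTX (hIT hx), (hinter _ _).2 ?_⟩
          rwa [hcoe, Subgroup.map_subgroupOf_eq_of_le hTX]
        · rintro ⟨h, hx⟩
          have := (hinter _ _).1 hx
          rwa [hcoe, Subgroup.map_subgroupOf_eq_of_le hTX] at this
      rw [hsub, hsub]
      constructor
      · rintro ⟨h, hx⟩
        exact ⟨mul_mem (mul_mem g.2 h) (inv_mem g.2), (Subgroup.mem_normalizer_iff.1 hg _).1 hx⟩
      · rintro ⟨h, hx⟩
        have h' : x ∈ X := by simpa [mul_assoc] using mul_mem (mul_mem (inv_mem g.2) h) g.2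
        exact ⟨h', (Subgroup.mem_normalizer_iff.1 hg ⟨x, h'⟩).2 hx⟩
  have hco : IsCoatom (T : Subgroup L) :=
    ⟨hT, fun X hX => by
      by_contra h
      exact hX.ne' (hmax X hX.le h)⟩
  haveI := CfsgLib.LocalEven.SylowIn.pCore_normal L p
  have hnpc := npc_quotient hp T hmax
  have hst := Functor.AbelianResidual.stable hp (Functor.AbelianResidual.good_of_coatom T hco hnpc)
  haveI := inter_normal T hc hst hA
  exact hT (top_le_iff.1 (by rwa [Subgroup.normalizer_eq_top] at hN))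

end CfsgLib.KGroups.AxiomGT
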