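import Cfsg.Prelude.Def_PLocal
import Cfsg.Agent.Lib.FrobRealize.Quaternion
import Cfsg.Agent.Lib.Frobenius.AbelianRankOne
import Cfsg.Agent.Lib.Solvable.Cores
import Cfsg.Agent.Lib.Fusion.PSolvable
import Cfsg.Agent.Lib.Fusion.Thompson
import Mathlib

/-!
Quotients of finite groups in which abelian subgroups of equal order are conjugate.

An abelian subgroup of `G ⧸ M` has a minimal supplement in `G`; it is nilpotent, and when the Sylow subgroups for
the primes common to `M` and its index are cyclic it is abelian of an order depending only on that of the subgroup.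
-/

set_option autoImplicit false
set_option linter.style.haveILetI false
set_option linter.unusedSectionVars false

open scoped commutatorElement

namespace CfsgLib.KGroups.CB

variable {G : Type*} [Group G] [Finite G]

/-- Any two abelian subgroups of the same order are conjugate. -/
def IsCB (G : Type*) [Group G] : Prop :=
  ∀ A B : Subgroup G, IsMulCommutative ↥A → IsMulCommutative ↥B → Nat.card ↥A = Nat.card ↥B →
    ∃ g : G, B = A.map (MulAut.conj g).toMonoidHom

theorem IsCB.mem_of_order (h : IsCB G) {M : Subgroup G} [M.Normal] {a m : G} (hm : m ∈ M)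
    (ho : orderOf m = orderOf a) : a ∈ M := by
  obtain ⟨g, hg⟩ := h (Subgroup.zpowers m) (Subgroup.zpowers a) inferInstance inferInstance
    (by rw [Nat.card_zpowers, Nat.card_zpowers, ho])
  obtain ⟨y, hy, rfl⟩ : a ∈ (Subgroup.zpowers m).map (MulAut.conj g).toMonoidHom := hg ▸ Subgroup.mem_zpowers a
  exact Subgroup.Normal.conj_mem inferInstance y ((Subgroup.zpowers_le.mpr hm) hy) g

section Supplement

variable (M : Subgroup G) [M.Normal]

/-- A minimal subgroup covering `A`. -/
def IsLift (A : Subgroup (G ⧸ M)) (L : Subgroup G) : Prop :=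
  L.map (QuotientGroup.mk' M) = A ∧ ∀ L' ≤ L, L'.map (QuotientGroup.mk' M) = A → L' = L

theorem exists_lift (A : Subgroup (G ⧸ M)) : ∃ L, IsLift M A L := by
  obtain ⟨L, hL⟩ := Set.Finite.exists_minimal
    (Set.toFinite {L : Subgroup G | L.map (QuotientGroup.mk' M) = A})
    ⟨A.comap (QuotientGroup.mk' M), Subgroup.map_comap_eq_self_of_surjective (QuotientGroup.mk'_surjective M) A⟩
  exact ⟨L, hL.1, fun L' hle he => le_antisymm hle (hL.2 he hle)⟩

variable {M} {A : Subgroup (G ⧸ M)} {L : Subgroup G}

theorem IsLift.isNilpotent (h : IsLift M A L) [IsMulCommutative A] : Group.IsNilpotent L := by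
  refine ((Group.isNilpotent_of_finite_tfae (G := L)).out 0 2).mpr fun X hX => ?_
  let f : L →* G ⧸ M := (QuotientGroup.mk' M).comp L.subtype
  have hne : X.map f ≠ A := fun e => hX.1 (Subgroup.map_injective L.subtype_injective (by
    rw [← MonoidHom.range_eq_map, Subgroup.range_subtype]
    exact h.2 _ (Subgroup.map_subtype_le X) (by rw [Subgroup.map_map]; exact e)))
  have hker : f.ker ≤ X := by
    by_contra hnot
    have hlt : X < X ⊔ f.ker := left_lt_sup.mpr hnot
    apply hne
    rw [← h.1]
    calc X.map f = (X ⊔ f.ker).map f := by rw [Subgroup.map_sup, (Subgroup.map_eq_bot_iff _).mpr le_rfl, sup_bot_eq]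
      _ = (⊤ : Subgroup L).map f := by rw [hX.2 _ hlt]
      _ = _ := by rw [← Subgroup.map_map, ← MonoidHom.range_eq_map, Subgroup.range_subtype]
  refine ⟨fun x hx g => ?_⟩
  have hc : g * x * g⁻¹ * x⁻¹ ∈ f.ker := by
    rw [MonoidHom.mem_ker]
    have hcomm : f g * f x = f x * f g := congrArg Subtype.val
      (IsMulCommutative.is_comm.comm (⟨f g, h.1 ▸ Subgroup.mem_map_of_mem _ g.2⟩ : A)
        ⟨f x, h.1 ▸ Subgroup.mem_map_of_mem _ x.2⟩)
    rw [map_mul, map_mul, map_mul, map_inv, map_inv, hcomm, mul_inv_cancel_right, mul_inv_cancel]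
  have := X.mul_mem (hker hc) hx
  rwa [inv_mul_cancel_right] at this

theorem IsLift.map_sylow (h : IsLift M A L) {p : ℕ} [Fact p.Prime] (S : Sylow p L) :
    Nat.card ((S : Subgroup L).map ((QuotientGroup.mk' M).comp L.subtype)) = p ^ (Nat.card A).factorization p := by
  let f₀ : L →* A := ((QuotientGroup.mk' M).comp L.subtype).codRestrict A fun x =>
    h.1 ▸ Subgroup.mem_map_of_mem _ x.2
  have hs : Function.Surjective f₀ := by
    rintro ⟨a, ha⟩
    rw [← h.1] at ha
    obtain ⟨x, hx, rfl⟩ := ha
    exact ⟨⟨x, hx⟩, rfl⟩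
  rw [← (S.mapSurjective hs).card_eq_multiplicity, Sylow.coe_mapSurjective,
    ← Subgroup.card_map_of_injective (f := A.subtype) (K := (S : Subgroup L).map f₀) A.subtype_injective,
    Subgroup.map_map]
  rfl

/-- A prime outside `|A|` does not divide the order of the lift. -/
theorem IsLift.sylow_eq_bot (h : IsLift M A L) [IsMulCommutative A] {p : ℕ} [Fact p.Prime]
    (hp : ¬ p ∣ Nat.card A) (S : Sylow p L) : (S : Subgroup L) = ⊥ := by
  haveI := h.isNilpotent
  have hall : ∀ (q : ℕ) (_ : Fact q.Prime) (Q : Sylow q L), (Q : Subgroup L).Normal :=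
    ((Group.isNilpotent_of_finite_tfae (G := L)).out 0 3).mp h.isNilpotent
  haveI hSn : (S : Subgroup L).Normal := hall p inferInstance S
  obtain ⟨D, hD⟩ := Subgroup.exists_right_complement'_of_coprime
    (N := (S : Subgroup L)) S.card_coprime_index
  let f : L →* G ⧸ M := (QuotientGroup.mk' M).comp L.subtype
  have hS0 : (S : Subgroup L).map f = ⊥ := by
    rw [← Subgroup.card_eq_one, h.map_sylow S, Nat.factorization_eq_zero_of_not_dvd hp, pow_zero]
  have hDtop : D.map L.subtype = L := by
    refine h.2 _ (Subgroup.map_subtype_le D) ?_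
    rw [Subgroup.map_map, ← h.1]
    calc D.map f = ((S : Subgroup L) ⊔ D).map f := by rw [Subgroup.map_sup, hS0, bot_sup_eq]
      _ = _ := by rw [hD.sup_eq_top, ← Subgroup.map_map, ← MonoidHom.range_eq_map, Subgroup.range_subtype]
  have hDtop' : D = ⊤ := Subgroup.map_injective L.subtype_injective
    (by rw [← MonoidHom.range_eq_map, Subgroup.range_subtype]; exact hDtop)
  rw [hDtop'] at hD
  exact Subgroup.isComplement'_top_right.mp hD

/-- A Sylow subgroup of the lift meets `M` trivially when `p` is prime to `M`. -/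
theorem IsLift.injective_sylow (_h : IsLift M A L) {p : ℕ} [Fact p.Prime] (hp : ¬ p ∣ Nat.card M) (S : Sylow p L) :
    Function.Injective (((QuotientGroup.mk' M).comp L.subtype).comp (S : Subgroup L).subtype) := by
  rw [injective_iff_map_eq_one]
  rintro ⟨x, hx⟩ hxM
  have h1 : ((x : L) : G) ∈ M := (QuotientGroup.eq_one_iff _).mp hxM
  obtain ⟨k, hk⟩ := IsPGroup.iff_orderOf.mp S.2 ⟨x, hx⟩
  rw [Subgroup.orderOf_mk] at hk
  rcases Nat.eq_zero_or_pos k with rfl | hk0
  · rw [pow_zero, orderOf_eq_one_iff] at hk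
    subst hk
    rfl
  · exfalso
    refine hp ((dvd_pow_self p hk0.ne').trans (hk ▸ ?_))
    rw [← Subgroup.orderOf_coe x]
    exact Subgroup.orderOf_dvd_natCard M h1

theorem IsLift.factorization_of_not_dvd (h : IsLift M A L) {p : ℕ} [Fact p.Prime] (hp : ¬ p ∣ Nat.card M) :
    (Nat.card L).factorization p = (Nat.card A).factorization p := by
  obtain ⟨S⟩ : Nonempty (Sylow p L) := inferInstance
  refine Nat.pow_right_injective (Fact.out : p.Prime).two_le ?_
  show p ^ _ = p ^ _
  rw [← S.card_eq_multiplicity, ← h.map_sylow S, Nat.card_congr (MonoidHom.ofInjective (h.injective_sylow hp S)).toEquiv,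
    MonoidHom.range_comp, Subgroup.range_subtype]

/-- Inside a cyclic Sylow subgroup, the order of the lift is determined. -/
theorem IsLift.factorization_of_cyclic (h : IsLift M A L) {p : ℕ} [Fact p.Prime]
    (hc : ∀ P : Sylow p G, IsCyclic P) (hA : p ∣ Nat.card A) :
    (Nat.card L).factorization p = (Nat.card A).factorization p + (Nat.card M).factorization p := by
  have hp := (Fact.out : p.Prime)
  obtain ⟨S⟩ : Nonempty (Sylow p L) := inferInstance
  let S₀ : Subgroup G := (S : Subgroup L).map L.subtype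
  have hS₀p : IsPGroup p S₀ := S.2.map _
  obtain ⟨P, hP⟩ := hS₀p.exists_le_sylow
  haveI := hc P
  -- the part of `P` inside `M`
  let T : Subgroup G := (P : Subgroup G) ⊓ M
  have hTcard : Nat.card T = p ^ (Nat.card M).factorization p := by
    obtain ⟨m, hm⟩ := IsPGroup.iff_card.mp (P.2.to_le (inf_le_left : T ≤ _))
    rw [hm]
    congr 1
    apply le_antisymm
    · refine (hp.pow_dvd_iff_le_factorization Nat.card_pos.ne').mp ?_
      rw [← hm]
      exact Subgroup.card_dvd_of_le inf_le_right
    · obtain ⟨Q⟩ : Nonempty (Sylow p M) := inferInstance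
      obtain ⟨P', hP'⟩ := (Q.2.map M.subtype).exists_le_sylow
      obtain ⟨g, hg⟩ := MulAction.exists_smul_eq G P' P
      have hle : ((Q : Subgroup M).map M.subtype).map (MulAut.conj g).toMonoidHom ≤ T := by
        rintro _ ⟨y, hy, rfl⟩
        refine ⟨?_, Subgroup.Normal.conj_mem inferInstance y (Subgroup.map_subtype_le _ hy) g⟩
        rw [← hg]
        exact ⟨y, hP' hy, rfl⟩
      have hd := Subgroup.card_dvd_of_le hle
      rw [Subgroup.card_map_of_injective (MulAut.conj g).injective, Subgroup.card_subtype,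
        Q.card_eq_multiplicity, hm] at hd
      exact (Nat.pow_dvd_pow_iff_le_right hp.one_lt).mp hd
  -- `S₀` is not inside `M`, so contains `T`
  have hSA := h.map_sylow S
  rw [← Subgroup.map_map] at hSA
  have hnot : ¬ S₀ ≤ M := by
    intro hle
    have h0 : S₀.map (QuotientGroup.mk' M) = ⊥ :=
      (Subgroup.map_eq_bot_iff _).mpr (by rw [QuotientGroup.ker_mk']; exact hle)
    rw [show ((S : Subgroup L).map L.subtype).map (QuotientGroup.mk' M) = ⊥ from h0, Subgroup.card_bot] at hSA
    have := hp.factorization_pos_of_dvd Nat.card_pos.ne' hA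
    exact absurd hSA (Nat.one_lt_pow this.ne' hp.one_lt).ne
  have hTS : T ≤ S₀ := by
    obtain ⟨a, ha⟩ := IsPGroup.iff_card.mp hS₀p
    obtain ⟨b, hb⟩ := IsPGroup.iff_card.mp (P.2.to_le (inf_le_left : T ≤ _))
    -- subgroups of a cyclic group of orders dividing one another
    have key : ∀ U V : Subgroup G, U ≤ (P : Subgroup G) → V ≤ (P : Subgroup G) → Nat.card U ∣ Nat.card V → U ≤ V := by
      intro U V hU hV hd x hx
      have hV' : (⟨x, hU hx⟩ : (P : Subgroup G)) ∈ V.subgroupOf (P : Subgroup G) := by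
        haveI : Fintype (P : Subgroup G) := Fintype.ofFinite _
        classical
        have hset : (Finset.univ.filter fun y : (P : Subgroup G) => y ^ Nat.card V = 1) =
            (V.subgroupOf (P : Subgroup G) : Set (P : Subgroup G)).toFinset := by
          refine (Finset.eq_of_subset_of_card_le ?_ ?_).symm
          · intro y hy
            rw [Set.mem_toFinset] at hy
            simp only [Finset.mem_filter, Finset.mem_univ, true_and]
            apply Subtype.ext
            have hyV : (⟨(y : G), hy⟩ : V) ^ Nat.card V = 1 := pow_card_eq_one'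
            rw [SubgroupClass.coe_pow]
            exact congrArg Subtype.val hyV
          · refine (IsCyclic.card_pow_eq_one_le Nat.card_pos).trans ?_
            rw [Set.toFinset_card, ← Nat.card_eq_fintype_card]
            exact (Nat.card_congr (Subgroup.subgroupOfEquivOfLe hV).toEquiv).ge
        have hxm : (⟨x, hU hx⟩ : (P : Subgroup G)) ∈ Finset.univ.filter fun y : (P : Subgroup G) =>
            y ^ Nat.card V = 1 := by
          simp only [Finset.mem_filter, Finset.mem_univ, true_and]
          apply Subtype.ext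
          obtain ⟨c, hc'⟩ := hd
          show x ^ Nat.card V = 1
          rw [hc', pow_mul, show x ^ Nat.card U = 1 from congrArg Subtype.val
            (pow_card_eq_one' : (⟨x, hx⟩ : U) ^ Nat.card U = 1), one_pow]
        rw [hset, Set.mem_toFinset] at hxm
        exact hxm
      exact hV'
    rcases le_total a b with hab | hba
    · exact absurd ((key S₀ T hP inf_le_left (ha ▸ hb ▸ pow_dvd_pow p hab)).trans inf_le_right) hnot
    · exact key T S₀ inf_le_left hP (ha ▸ hb ▸ pow_dvd_pow p hba)
  have hinf : S₀ ⊓ M = T := le_antisymm (inf_le_inf_right M hP) (le_inf hTS inf_le_right)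
  let φ : S₀ →* G ⧸ M := (QuotientGroup.mk' M).comp S₀.subtype
  have hrange : Nat.card φ.range = p ^ (Nat.card A).factorization p := by
    rw [show φ.range = S₀.map (QuotientGroup.mk' M) by
      rw [MonoidHom.range_comp, Subgroup.range_subtype]]
    exact hSA
  have hker : Nat.card φ.ker = p ^ (Nat.card M).factorization p := by
    rw [show φ.ker = M.subgroupOf S₀ by
      ext x; exact QuotientGroup.eq_one_iff _]
    rw [← hTcard, ← hinf, ← Subgroup.inf_subgroupOf_left,
      Nat.card_congr (Subgroup.subgroupOfEquivOfLe (inf_le_left : S₀ ⊓ M ≤ S₀)).toEquiv]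
  have hcount : Nat.card φ.ker * Nat.card φ.range = Nat.card S₀ := by
    rw [← Subgroup.index_ker, Subgroup.card_mul_index]
  rw [hker, hrange, Subgroup.card_subtype, S.card_eq_multiplicity, ← pow_add] at hcount
  have := Nat.pow_right_injective hp.two_le hcount
  omega

end Supplement

/-- A nilpotent group with commutative Sylow subgroups is commutative. -/
theorem comm_of_sylow {L : Type*} [Group L] [Finite L] [Group.IsNilpotent L]
    (h : ∀ (p : ℕ) [Fact p.Prime] (S : Sylow p L), ∀ a b : S, a * b = b * a) : IsMulCommutative L := by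
  obtain ⟨e⟩ := Group.isNilpotent_of_finite_tfae.out 0 4 |>.mp (inferInstance : Group.IsNilpotent L)
  refine ⟨⟨fun a b => e.symm.injective ?_⟩⟩
  rw [map_mul, map_mul]
  funext q P
  haveI := Fact.mk (Nat.prime_of_mem_primeFactors q.2)
  exact h q P _ _

theorem lift_card {M : Subgroup G} [M.Normal] {A : Subgroup (G ⧸ M)} [IsMulCommutative A] {L : Subgroup G}
    (hL : IsLift M A L) {p : ℕ} [Fact p.Prime]
    (hp : p ∣ Nat.card A → p ∣ Nat.card M → ∀ P : Sylow p G, IsCyclic P) :
    (Nat.card L).factorization p =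
      (Nat.card A).factorization p + if p ∣ Nat.card A then (Nat.card M).factorization p else 0 := by
  by_cases hA : p ∣ Nat.card A
  · rw [if_pos hA]
    by_cases hM : p ∣ Nat.card M
    · exact hL.factorization_of_cyclic (hp hA hM) hA
    · rw [hL.factorization_of_not_dvd hM, Nat.factorization_eq_zero_of_not_dvd hM, add_zero]
  · rw [if_neg hA, add_zero, Nat.factorization_eq_zero_of_not_dvd hA]
    obtain ⟨S⟩ : Nonempty (Sylow p L) := inferInstance
    refine Nat.pow_right_injective (Fact.out : p.Prime).two_le ?_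
    show p ^ _ = p ^ 0
    rw [← S.card_eq_multiplicity, hL.sylow_eq_bot hA S, Subgroup.card_bot, pow_zero]

theorem lift_sylow_comm {M : Subgroup G} [M.Normal] {A : Subgroup (G ⧸ M)} [IsMulCommutative A] {L : Subgroup G}
    (hL : IsLift M A L) {p : ℕ} [Fact p.Prime]
    (hp : p ∣ Nat.card A → p ∣ Nat.card M → ∀ P : Sylow p G, IsCyclic P) (S : Sylow p L) :
    ∀ a b : S, a * b = b * a := by
  intro a b
  by_cases hA : p ∣ Nat.card A
  · by_cases hM : p ∣ Nat.card M
    · obtain ⟨P, hP⟩ := (S.2.map L.subtype).exists_le_sylow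
      haveI := hp hA hM P
      have h := IsMulCommutative.is_comm.comm
        (⟨((a : L) : G), hP ⟨a, a.2, rfl⟩⟩ : (P : Subgroup G)) ⟨((b : L) : G), hP ⟨b, b.2, rfl⟩⟩
      exact Subtype.ext (Subtype.ext (congrArg Subtype.val h :))
    · refine hL.injective_sylow hM S ?_
      rw [map_mul, map_mul]
      exact congrArg Subtype.val (IsMulCommutative.is_comm.comm
        (⟨_, hL.1 ▸ Subgroup.mem_map_of_mem _ (a : L).2⟩ : A) ⟨_, hL.1 ▸ Subgroup.mem_map_of_mem _ (b : L).2⟩)
  · have hS := hL.sylow_eq_bot hA S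
    have h1 : ∀ x : S, x = 1 := fun x => Subtype.ext (Subgroup.mem_bot.mp (hS ▸ x.2 : (x : L) ∈ (⊥ : Subgroup L)))
    rw [h1 a, one_mul, mul_one]

theorem conj_image {M : Subgroup G} [M.Normal] {A B : Subgroup (G ⧸ M)} {L₁ L₂ : Subgroup G}
    (h₁ : L₁.map (QuotientGroup.mk' M) = A) (h₂ : L₂.map (QuotientGroup.mk' M) = B) {g : G}
    (hg : L₂ = L₁.map (MulAut.conj g).toMonoidHom) :
    B = A.map (MulAut.conj (QuotientGroup.mk' M g)).toMonoidHom := by
  rw [← h₂, hg, ← h₁, Subgroup.map_map, Subgroup.map_map]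
  congr 1

theorem conj_of_good {M : Subgroup G} [M.Normal] (h : IsCB G) {A B : Subgroup (G ⧸ M)} [IsMulCommutative A]
    [IsMulCommutative B] (hAB : Nat.card A = Nat.card B)
    (hcyc : ∀ p : ℕ, p.Prime → p ∣ Nat.card A → p ∣ Nat.card M → ∀ P : Sylow p G, IsCyclic P) :
    ∃ g : G ⧸ M, B = A.map (MulAut.conj g).toMonoidHom := by
  obtain ⟨L₁, hL₁⟩ := exists_lift M A
  obtain ⟨L₂, hL₂⟩ := exists_lift M B
  have hc₂ : ∀ p : ℕ, p.Prime → p ∣ Nat.card B → p ∣ Nat.card M → ∀ P : Sylow p G, IsCyclic P :=
    fun p hp hd => hcyc p hp (hAB ▸ hd)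
  haveI := hL₁.isNilpotent
  haveI := hL₂.isNilpotent
  have hcard : Nat.card L₁ = Nat.card L₂ := Nat.eq_of_factorization_eq Nat.card_pos.ne' Nat.card_pos.ne' fun p => by
    by_cases hp : p.Prime
    · haveI := Fact.mk hp
      rw [lift_card hL₁ (hcyc p hp), lift_card hL₂ (hc₂ p hp), hAB]
    · simp [Nat.factorization_eq_zero_of_not_prime _ hp]
  obtain ⟨g, hg⟩ := h L₁ L₂ (comm_of_sylow fun p hp S => lift_sylow_comm hL₁ (hcyc p hp.out) S)
    (comm_of_sylow fun p hp S => lift_sylow_comm hL₂ (hc₂ p hp.out) S) hcard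
  exact ⟨_, conj_image hL₁.1 hL₂.1 hg⟩

/-- A prime dividing both `M` and its index has at most `p` solutions of `x ^ p = 1` in a Sylow subgroup. -/
theorem IsCB.few_roots (h : IsCB G) {M : Subgroup G} [M.Normal] {p : ℕ} [Fact p.Prime] (hpM : p ∣ Nat.card M)
    (hpi : p ∣ M.index) (P : Sylow p G) : Nat.card {x : P // x ^ p = 1} ≤ p := by
  have hp := (Fact.out : p.Prime)
  by_contra hbig
  haveI : Nontrivial P := by
    rw [← not_subsingleton_iff_nontrivial]
    intro hs
    exact hbig (le_trans (Finite.card_le_one_iff_subsingleton.mpr inferInstance) hp.one_le)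
  haveI := P.2.center_nontrivial
  obtain ⟨n, hn0, hn⟩ := (P.2.to_subgroup (Subgroup.center (P : Subgroup G))).nontrivial_iff_card.mp inferInstance
  obtain ⟨z, hz⟩ := exists_prime_orderOf_dvd_card' (G := Subgroup.center (P : Subgroup G)) p
    (hn ▸ dvd_pow_self p hn0.ne')
  have hzP : orderOf (z : P) = p := by rw [Subgroup.orderOf_coe]; exact hz
  obtain ⟨y, hy, hyz⟩ : ∃ y : P, y ^ p = 1 ∧ y ∉ Subgroup.zpowers (z : P) := by
    by_contra hall
    push Not at hall
    refine hbig (le_of_le_of_eq (Nat.card_le_card_of_injective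
      (fun x : {x : P // x ^ p = 1} => (⟨x.1, hall x.1 x.2⟩ : Subgroup.zpowers (z : P)))
      fun a b hab => Subtype.ext (congrArg Subtype.val hab :)) ?_)
    rw [Nat.card_zpowers, hzP]
  let E : Subgroup P := Subgroup.zpowers (z : P) ⊔ Subgroup.zpowers y
  have hzy : (z : P) * y = y * (z : P) := (Subgroup.mem_center_iff.mp z.2 y).symm
  have hgen : E = Subgroup.closure {(z : P), y} := by
    rw [Set.insert_eq, Subgroup.closure_union, ← Subgroup.zpowers_eq_closure, ← Subgroup.zpowers_eq_closure]
  haveI hEc : IsMulCommutative E := by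
    rw [hgen]
    refine Subgroup.isMulCommutative_closure ?_
    rintro a (rfl | rfl) b (rfl | rfl)
    · rfl
    · exact hzy
    · exact hzy.symm
    · rfl
  have hyp : orderOf y = p := orderOf_eq_prime hy fun h1 => hyz (h1 ▸ one_mem _)
  have hE : Nat.card E = p ^ 2 := by
    have hinf : Subgroup.zpowers (z : P) ⊓ Subgroup.zpowers y = ⊥ := by
      haveI : Fact (Nat.card (Subgroup.zpowers y)).Prime := ⟨by rw [Nat.card_zpowers, hyp]; exact hp⟩
      rcases (((Subgroup.zpowers (z : P)).subgroupOf (Subgroup.zpowers y)).eq_bot_or_eq_top_of_prime_card) with h1 | h1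
      · rw [Subgroup.subgroupOf_eq_bot] at h1
        exact disjoint_iff.mp h1
      · exact absurd (Subgroup.subgroupOf_eq_top.mp h1 (Subgroup.mem_zpowers y)) hyz
    have hc := Fusion.Thompson.card_sup_mul_card_inf (N := Subgroup.zpowers (z : P)) (K := Subgroup.zpowers y) (by
      refine le_trans ?_ (Subgroup.centralizer_le_normalizer _)
      rw [Subgroup.zpowers_le, Subgroup.mem_centralizer_iff]
      intro a ha
      obtain ⟨i, rfl⟩ := Subgroup.mem_zpowers_iff.mp ha
      exact ((show Commute (z : P) y from hzy).zpow_left i).eq)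
    rw [hinf, Subgroup.card_bot, mul_one, Nat.card_zpowers, Nat.card_zpowers, hzP, hyp] at hc
    rw [sq]; exact hc
  have hEexp : ∀ a ∈ E, a ^ p = 1 := by
    intro a ha
    rw [hgen] at ha hEc
    induction ha using Subgroup.closure_induction with
    | mem a ha =>
      rcases ha with rfl | rfl
      · exact orderOf_dvd_iff_pow_eq_one.mp hzP.dvd
      · exact hy
    | one => exact one_pow p
    | mul a b ha hb iha ihb =>
      have hab : Commute a b := congrArg Subtype.val
        (IsMulCommutative.is_comm.comm (⟨a, ha⟩ : Subgroup.closure {(z : P), y}) ⟨b, hb⟩)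
      rw [hab.mul_pow, iha, ihb, one_mul]
    | inv a _ iha => rw [inv_pow, iha, inv_one]
  -- every element has order dividing `p`, hence lies in `M`
  obtain ⟨m, hm⟩ := exists_prime_orderOf_dvd_card' (G := M) p hpM
  have hPM : (P : Subgroup G) ≤ M := by
    intro x hx
    obtain ⟨k, hk⟩ := IsPGroup.iff_orderOf.mp P.2 ⟨x, hx⟩
    by_cases hk2 : 2 ≤ k
    · exfalso
      set w : P := ⟨x, hx⟩ ^ p ^ (k - 2) with hw
      have hwo : orderOf w = p ^ 2 := by
        rw [hw, orderOf_pow' _ (pow_ne_zero _ hp.ne_zero), hk, Nat.gcd_eq_right (pow_dvd_pow p (Nat.sub_le k 2)),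
          Nat.pow_div (Nat.sub_le k 2) hp.pos]
        congr 1
        omega
      haveI : IsMulCommutative (E.map (P : Subgroup G).subtype) := inferInstance
      obtain ⟨g, hg⟩ := h (E.map (P : Subgroup G).subtype) (Subgroup.zpowers (w : G)) inferInstance inferInstance
        (by rw [Subgroup.card_subtype, hE, Nat.card_zpowers, Subgroup.orderOf_coe, hwo])
      obtain ⟨_, ⟨e, he, rfl⟩, hew⟩ : (w : G) ∈ (E.map (P : Subgroup G).subtype).map (MulAut.conj g).toMonoidHom :=
        hg ▸ Subgroup.mem_zpowers _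
      have h1 : orderOf (w : G) ∣ p := by
        rw [← hew]
        refine orderOf_dvd_of_pow_eq_one ?_
        rw [← map_pow, ← map_pow, hEexp e he, map_one, map_one]
      rw [Subgroup.orderOf_coe, hwo] at h1
      have := Nat.le_of_dvd hp.pos h1
      have := hp.two_le
      nlinarith
    · rw [Subgroup.orderOf_mk] at hk
      interval_cases k
      · rw [pow_zero, orderOf_eq_one_iff] at hk; rw [hk]; exact one_mem _
      · exact h.mem_of_order (m := (m : G)) m.2 (by rw [Subgroup.orderOf_coe, hm, hk, pow_one])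
  exact P.not_dvd_index (hpi.trans (Subgroup.index_dvd_of_le hPM))

theorem IsCB.cyclic_of_odd (h : IsCB G) {M : Subgroup G} [M.Normal] {p : ℕ} [Fact p.Prime] (hp2 : p ≠ 2)
    (hpM : p ∣ Nat.card M) (hpi : p ∣ M.index) (P : Sylow p G) : IsCyclic P :=
  (FrobRealize.Quaternion.cyclic_or_quaternion P.2 (h.few_roots hpM hpi P)).resolve_right fun e => hp2 e.1

theorem dvd_index_of_dvd {M : Subgroup G} [M.Normal] {A : Subgroup (G ⧸ M)} {p : ℕ} (h : p ∣ Nat.card A) :
    p ∣ M.index :=
  h.trans (A.card_subgroup_dvd_card)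

/-- Quotients by normal subgroups of odd order keep the conjugacy property. -/
theorem IsCB.quotient_of_odd (h : IsCB G) (M : Subgroup G) [M.Normal] (hM : Odd (Nat.card M)) : IsCB (G ⧸ M) := by
  intro A B hA hB hAB
  haveI := hA
  haveI := hB
  refine conj_of_good h hAB fun p hp hpA hpM P => ?_
  haveI := Fact.mk hp
  refine h.cyclic_of_odd ?_ hpM (dvd_index_of_dvd hpA) P
  rintro rfl
  exact Nat.two_dvd_ne_zero.mpr (Nat.odd_iff.mp hM) hpM

end CfsgLib.KGroups.CB
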