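import Cfsg.Agent.Lib.KGroups.CB
import Cfsg.Agent.Lib.Fusion.Quotient
import Cfsg.Agent.Lib.Components.PComponents
import Cfsg.Agent.Lib.TwoGroups.SolvableQuaternionCore

/-!
Quotients of solvable groups in which abelian subgroups of equal order are conjugate.
-/

set_option autoImplicit false
set_option linter.style.haveILetI false
set_option linter.unusedSectionVars false

open scoped commutatorElement Pointwise

namespace CfsgLib.KGroups.CB

universe u

variable {G : Type u} [Group G] [Finite G]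

/-- A quaternion Sylow subgroup of order at least 16 does not occur in a solvable group with the property. -/
theorem IsCB.quaternion_small [Group.IsSolvable G] (h : IsCB G) (P : Sylow 2 G) {n : ℕ} (hn : 2 ≤ n)
    (e : P ≃* QuaternionGroup (2 ^ n)) (hfew : Nat.card {x : P // x ^ 2 = 1} ≤ 2) : False := by
  classical
  haveI : Fact (Nat.Prime 2) := ⟨Nat.prime_two⟩
  set O := Cfsg.pPrimeCore 2 G with hO
  haveI : O.Normal := Subgroup.sSup_normal _ fun _ h => h.1
  have hOc : (Nat.card O).Coprime 2 := Solvable.Cores.coprime_card_pPrimeCore 2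
  set q := QuotientGroup.mk' O with hq
  have hX : IsCB (G ⧸ O) := h.quotient_of_odd O (Nat.coprime_two_right.mp hOc)
  haveI : Group.IsSolvable (G ⧸ O) := solvable_of_surjective (QuotientGroup.mk'_surjective O)
  let P' := P.mapSurjective (QuotientGroup.mk'_surjective O)
  let ι₀ : P →* P' := (q.comp (P : Subgroup G).subtype).codRestrict (P' : Subgroup (G ⧸ O)) fun x => ⟨x, x.2, rfl⟩
  let ι : P ≃* P' := MulEquiv.ofBijective ι₀
    ⟨fun a b hab => Fusion.Quotient.inj_of_pGroup hOc P.2 (congrArg Subtype.val hab :),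
      fun ⟨_, x, hx, rfl⟩ => ⟨⟨x, hx⟩, rfl⟩⟩
  let e' : P' ≃* QuaternionGroup (2 ^ n) := ι.symm.trans e
  have hfew' : Nat.card {x : P' // x ^ 2 = 1} ≤ 2 := by
    refine le_trans (Nat.card_le_card_of_injective
      (fun x : {x : P' // x ^ 2 = 1} => (⟨ι.symm x.1, by rw [← map_pow, x.2, map_one]⟩ : {x : P // x ^ 2 = 1}))
      fun a b hab => Subtype.ext (ι.symm.injective (congrArg Subtype.val hab :))) hfew
  haveI : NeZero (2 ^ n) := ⟨by positivity⟩
  have hP'card : Nat.card P' = 4 * 2 ^ n := by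
    rw [Nat.card_congr e'.toEquiv, Nat.card_eq_fintype_card, QuaternionGroup.card]
  set R := Cfsg.pCore 2 (G ⧸ O) with hR
  haveI hRn : R.Normal := Solvable.Cores.pCore_normal 2
  have hRP : R ≤ (P' : Subgroup (G ⧸ O)) := Solvable.Cores.pCore_le_sylow P'
  have hRp : IsPGroup 2 R := Solvable.Cores.isPGroup_pCore 2
  have hCR : Subgroup.centralizer (R : Set (G ⧸ O)) ≤ R :=
    Fusion.PSolvable.centralizer_pCore_le Fusion.PSolvable.psolvable_of_solvable
      Components.pPrimeCore_quotient_eq_bot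
  -- an element of order four in the core
  obtain ⟨r, hrR, hr4⟩ : ∃ r ∈ R, orderOf r = 4 := by
    by_contra hno
    push Not at hno
    have hsq : ∀ x ∈ R, x ^ 2 = 1 := by
      intro x hx
      obtain ⟨k, hk⟩ := IsPGroup.iff_orderOf.mp hRp ⟨x, hx⟩
      rw [Subgroup.orderOf_mk] at hk
      by_cases hk2 : 2 ≤ k
      · refine absurd ?_ (hno (x ^ 2 ^ (k - 2)) (R.pow_mem hx _))
        rw [orderOf_pow' _ (pow_ne_zero _ two_ne_zero), hk, Nat.gcd_eq_right (pow_dvd_pow 2 (Nat.sub_le k 2)),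
          Nat.pow_div (Nat.sub_le k 2) two_pos, show k - (k - 2) = 2 by omega]
        rfl
      · exact orderOf_dvd_iff_pow_eq_one.mp (hk ▸ (pow_dvd_pow 2 (show k ≤ 1 by omega)).trans (pow_one 2).dvd)
    have hR2 : Nat.card R ≤ 2 := le_trans (Nat.card_le_card_of_injective
      (fun x : R => (⟨⟨x, hRP x.2⟩, Subtype.ext (hsq x x.2)⟩ : {x : P' // x ^ 2 = 1}))
      fun a b hab => Subtype.ext (congrArg (fun y : {x : P' // x ^ 2 = 1} => (y.1 : G ⧸ O)) hab :)) hfew'
    have htop : R = ⊤ := by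
      refine top_le_iff.mp (le_trans (fun g _ => ?_) hCR)
      rw [Subgroup.mem_centralizer_iff]
      intro x hx
      rcases eq_or_ne x 1 with rfl | hx1
      · simp
      · by_contra hne
        have hy : g * x * g⁻¹ ∈ R := hRn.conj_mem x hx g
        let f : Fin 3 → R := ![1, ⟨x, hx⟩, ⟨g * x * g⁻¹, hy⟩]
        have hy1 : g * x * g⁻¹ ≠ 1 := fun e => hx1 (conj_eq_one_iff.mp e)
        have hyx : g * x * g⁻¹ ≠ x := fun e => hne (mul_inv_eq_iff_eq_mul.mp e).symm
        have hf : Function.Injective f := by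
          intro i j hij
          fin_cases i <;> fin_cases j <;>
            first
              | rfl
              | exfalso; simp [f, Subtype.ext_iff, hy1, hy1.symm, hyx, hyx.symm, hx1, hx1.symm] at hij
        have := Nat.card_le_card_of_injective f hf
        rw [Nat.card_fin] at this
        omega
    have hle : Nat.card P' ≤ Nat.card R :=
      Subgroup.card_le_of_le (htop ▸ le_top : (P' : Subgroup (G ⧸ O)) ≤ R)
    rw [hP'card] at hle
    have : 1 ≤ 2 ^ n := Nat.one_le_two_pow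
    omega
  -- all of the Sylow subgroup lies in the core
  have h4 : ∀ x : G ⧸ O, orderOf x = 4 → x ∈ R := fun x hx => hX.mem_of_order hrR (hr4.trans hx.symm)
  have hgen : ∀ (K : Subgroup (G ⧸ O)), (∀ x : G ⧸ O, orderOf x = 4 → x ∈ K) → (P' : Subgroup (G ⧸ O)) ≤ K := by
    intro K hK x hx
    have hxa : ∀ i, ((e'.symm (QuaternionGroup.xa i) : P') : G ⧸ O) ∈ K := fun i => hK _ (by
      rw [Subgroup.orderOf_coe, MulEquiv.orderOf_eq, QuaternionGroup.orderOf_xa])
    obtain ⟨y, hy⟩ := e'.symm.surjective ⟨x, hx⟩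
    rw [show x = ((e'.symm y : P') : G ⧸ O) by rw [hy]]
    cases y with
    | a i =>
      have hai : QuaternionGroup.a i =
          QuaternionGroup.xa (0 : ZMod (2 * 2 ^ n)) * QuaternionGroup.xa (i - ((2 ^ n : ℕ) : ZMod (2 * 2 ^ n))) := by
        rw [QuaternionGroup.xa_mul_xa]
        congr 1
        ring
      rw [hai, map_mul, Subgroup.coe_mul]
      exact K.mul_mem (hxa _) (hxa _)
    | xa i => exact hxa i
  have hPR : (P' : Subgroup (G ⧸ O)) ≤ R := hgen R h4
  -- an element of order four in the derived subgroup of the core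
  haveI : R.Normal := hRn
  set D := (commutator R).map R.subtype with hD
  haveI : D.Normal := inferInstanceAs ((commutator R).map R.subtype).Normal
  let u : P' := e'.symm (QuaternionGroup.a 1)
  let v : P' := e'.symm (QuaternionGroup.xa 0)
  let c : P' := ⁅u, v⁆
  have hcD : (c : G ⧸ O) ∈ D :=
    ⟨⁅(⟨u, hPR u.2⟩ : R), ⟨v, hPR v.2⟩⁆, Subgroup.commutator_mem_commutator (Subgroup.mem_top _) (Subgroup.mem_top _),
      rfl⟩
  have hc : e' c = (QuaternionGroup.a 1) ^ 2 := by
    show e' ⁅u, v⁆ = _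
    rw [map_commutatorElement, show e' u = _ from e'.apply_symm_apply _, show e' v = _ from e'.apply_symm_apply _,
      commutatorElement_def, mul_inv_eq_iff_eq_mul, mul_inv_eq_iff_eq_mul, QuaternionGroup.a_one_pow]
    simp only [QuaternionGroup.a_mul_xa, QuaternionGroup.a_mul_a, QuaternionGroup.xa_mul_a, mul_assoc]
    congr 1
    push_cast
    ring
  obtain ⟨d, hd, hd4⟩ : ∃ d ∈ D, orderOf d = 4 := by
    refine ⟨(c : G ⧸ O) ^ 2 ^ (n - 2), D.pow_mem hcD _, ?_⟩
    rw [← SubgroupClass.coe_pow, Subgroup.orderOf_coe, ← MulEquiv.orderOf_eq e', map_pow, hc, ← pow_mul,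
      orderOf_pow' _ (by positivity), QuaternionGroup.orderOf_a_one, ← pow_succ', ← pow_succ',
      Nat.gcd_eq_right (pow_dvd_pow 2 (by omega)), Nat.pow_div (by omega) two_pos,
      show n + 1 - (n - 2 + 1) = 2 by omega]
    rfl
  have hRD : R ≤ D := le_trans (fun x hx => by
    obtain ⟨Q, hQ⟩ := hRp.exists_le_sylow
    have : R = (P' : Subgroup (G ⧸ O)) := le_antisymm hRP hPR
    exact this ▸ hx) (hgen D fun x hx => hX.mem_of_order hd (hd4.trans hx.symm))
  haveI : Nontrivial R := (Subgroup.nontrivial_iff_ne_bot R).mpr fun hb => by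
    rw [hb, Subgroup.mem_bot] at hrR
    rw [hrR, orderOf_one] at hr4
    omega
  haveI := hRp.isNilpotent
  refine (Group.IsSolvable.commutator_lt_top_of_nontrivial R).ne (top_le_iff.mp fun x _ => ?_)
  obtain ⟨y, hy, hyx⟩ := hRD x.2
  exact (Subtype.ext hyx : y = x) ▸ hy

/-- Elements of coprime orders commute in a nilpotent group. -/
theorem commute_of_coprime {L : Type*} [Group L] [Finite L] [Group.IsNilpotent L] {a b : L}
    (h : (orderOf a).Coprime (orderOf b)) : a * b = b * a := by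
  obtain ⟨e⟩ := Group.isNilpotent_of_finite_tfae.out 0 4 |>.mp (inferInstance : Group.IsNilpotent L)
  refine e.symm.injective ?_
  rw [map_mul, map_mul]
  funext q P
  have hq : (q : ℕ).Prime := Nat.prime_of_mem_primeFactors q.2
  haveI := Fact.mk hq
  show e.symm a q P * e.symm b q P = e.symm b q P * e.symm a q P
  let π : L →* (P : Subgroup L) := ((Pi.evalMonoidHom _ P).comp (Pi.evalMonoidHom _ q)).comp e.symm.toMonoidHom
  obtain ⟨i, hi⟩ := IsPGroup.iff_orderOf.mp P.2 (π a)
  obtain ⟨j, hj⟩ := IsPGroup.iff_orderOf.mp P.2 (π b)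
  show π a * π b = π b * π a
  rcases Nat.eq_zero_or_pos i with rfl | hi0
  · rw [pow_zero, orderOf_eq_one_iff] at hi; rw [hi, one_mul, mul_one]
  rcases Nat.eq_zero_or_pos j with rfl | hj0
  · rw [pow_zero, orderOf_eq_one_iff] at hj; rw [hj, one_mul, mul_one]
  exfalso
  exact hq.ne_one (Nat.eq_one_of_dvd_coprimes h
    ((dvd_pow_self _ hi0.ne').trans (hi ▸ orderOf_map_dvd π a))
    ((dvd_pow_self _ hj0.ne').trans (hj ▸ orderOf_map_dvd π b)))

/-- Quotient by a normal elementary abelian 2-subgroup. -/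
theorem IsCB.quotient_of_two [Group.IsSolvable G] (h : IsCB G) (M : Subgroup G) [M.Normal]
    (hM : Cfsg.IsElementaryAbelian 2 M) : IsCB (G ⧸ M) := by
  haveI : Fact (Nat.Prime 2) := ⟨Nat.prime_two⟩
  intro A B hA hB hAB
  haveI := hA
  haveI := hB
  by_cases hgood : ∀ p : ℕ, p.Prime → p ∣ Nat.card A → p ∣ Nat.card M → ∀ P : Sylow p G, IsCyclic P
  · exact conj_of_good h hAB hgood
  push Not at hgood
  obtain ⟨p, hp, hpA, hpM, P, hPnc⟩ := hgood
  have hMp : IsPGroup 2 M := fun x => ⟨1, by rw [pow_one]; exact Subtype.ext (hM.2 x x.2)⟩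
  obtain rfl : p = 2 := by
    obtain ⟨k, hk⟩ := IsPGroup.iff_card.mp hMp
    exact (Nat.prime_dvd_prime_iff_eq hp Nat.prime_two).mp (hp.dvd_of_dvd_pow (hk ▸ hpM))
  have hfew := h.few_roots hpM (dvd_index_of_dvd hpA) P
  obtain ⟨-, n, ⟨e⟩⟩ := (FrobRealize.Quaternion.cyclic_or_quaternion P.2 hfew).resolve_left hPnc
  haveI : NeZero (2 ^ n) := ⟨by positivity⟩
  have hn : n = 1 := by
    rcases Nat.lt_trichotomy n 1 with h0 | h1 | h2
    · exfalso
      obtain rfl : n = 0 := by omega
      haveI : IsCyclic (QuaternionGroup (2 ^ 0)) := TwoGroups.SolvableQuaternionCore.quaternion_one_cyclic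
      exact hPnc (isCyclic_of_surjective e.symm.toMonoidHom e.symm.surjective)
    · exact h1
    · exact (h.quaternion_small P h2 e hfew).elim
  have hP8 : Nat.card P = 8 := by
    rw [Nat.card_congr e.toEquiv, Nat.card_eq_fintype_card, QuaternionGroup.card, hn]
    norm_num
  have hMP : M ≤ (P : Subgroup G) := hMp.le_sylow_of_normal P
  have hM2 : Nat.card M = 2 := by
    refine le_antisymm (le_trans (Nat.card_le_card_of_injective
      (fun x : M => (⟨⟨x, hMP x.2⟩, Subtype.ext (hM.2 x x.2)⟩ : {x : P // x ^ 2 = 1}))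
      fun a b hab => Subtype.ext (congrArg (fun y : {x : P // x ^ 2 = 1} => (y.1 : G)) hab :)) hfew)
      (Nat.le_of_dvd Nat.card_pos hpM)
  obtain ⟨m, hm⟩ := exists_prime_orderOf_dvd_card' (G := M) 2 hpM
  set q := QuotientGroup.mk' M with hq
  have hv : 0 < (Nat.card A).factorization 2 := Nat.prime_two.factorization_pos_of_dvd Nat.card_pos.ne' hpA
  -- the Sylow 2-subgroup of a lift
  have hS : ∀ {A' : Subgroup (G ⧸ M)} {L : Subgroup G}, IsMulCommutative A' → IsLift M A' L →
      Nat.card A' = Nat.card A →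
      ∀ S : Sylow 2 L, Nat.card (S : Subgroup L) = 2 * 2 ^ (Nat.card A).factorization 2 := by
    intro A' L _ hL hA' S
    let f : L →* G ⧸ M := q.comp L.subtype
    have hmap := hL.map_sylow S
    rw [hA'] at hmap
    set S₀ := (S : Subgroup L).map L.subtype with hS₀
    rw [← Subgroup.map_map, ← hS₀] at hmap
    have hne : (S₀ : Subgroup G) ≠ ⊥ := fun hb => by
      rw [hb, Subgroup.map_bot, Subgroup.card_bot] at hmap
      exact (Nat.one_lt_pow hv.ne' one_lt_two).ne hmap
    haveI : Nontrivial S₀ := (Subgroup.nontrivial_iff_ne_bot S₀).mpr hne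
    obtain ⟨j, hj0, hj⟩ := (S.2.map L.subtype).nontrivial_iff_card.mp inferInstance
    obtain ⟨s, hs⟩ := exists_prime_orderOf_dvd_card' (G := S₀) 2 (hj ▸ dvd_pow_self 2 hj0.ne')
    have hsM : (s : G) ∈ M := h.mem_of_order (m := (m : G)) m.2 (by rw [Subgroup.orderOf_coe, Subgroup.orderOf_coe, hm, hs])
    have hMS : M ≤ S₀ := by
      have hz : Subgroup.zpowers (s : G) = M := Subgroup.eq_of_le_of_card_ge (Subgroup.zpowers_le.mpr hsM)
        (by rw [hM2, Nat.card_zpowers, Subgroup.orderOf_coe, hs])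
      rw [← hz, Subgroup.zpowers_le]
      exact s.2
    let φ : S₀ →* G ⧸ M := q.comp S₀.subtype
    have hcount : Nat.card φ.ker * Nat.card φ.range = Nat.card S₀ := by
      rw [← Subgroup.index_ker, Subgroup.card_mul_index]
    rw [show φ.ker = M.subgroupOf S₀ by ext x; exact QuotientGroup.eq_one_iff _,
      Nat.card_congr (Subgroup.subgroupOfEquivOfLe hMS).toEquiv, hM2,
      show φ.range = S₀.map q by rw [MonoidHom.range_comp, Subgroup.range_subtype], hmap,
      Subgroup.card_subtype] at hcount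
    exact hcount.symm
  obtain ⟨L₁, hL₁⟩ := exists_lift M A
  obtain ⟨L₂, hL₂⟩ := exists_lift M B
  haveI := hL₁.isNilpotent
  haveI := hL₂.isNilpotent
  have hother : ∀ q' : ℕ, q'.Prime → q' ≠ 2 → ¬ q' ∣ Nat.card M := fun q' hq' hne hd => by
    rw [hM2] at hd
    exact hne ((Nat.prime_dvd_prime_iff_eq hq' Nat.prime_two).mp hd)
  -- the part of odd order
  have hC : ∀ {A' : Subgroup (G ⧸ M)} {L : Subgroup G}, IsMulCommutative A' → IsLift M A' L → Nat.card A' = Nat.card A →
      Group.IsNilpotent L → ∀ S : Sylow 2 L, ∃ C : Subgroup G, IsMulCommutative C ∧ C ⊔ (S : Subgroup L).map L.subtype = L ∧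
        ((S : Subgroup L).map L.subtype ≤ Subgroup.centralizer (C : Set G)) ∧
        Nat.card C * Nat.card (S : Subgroup L) = Nat.card L := by
    intro A' L hA'c hL hA' hLn S
    have hall : ∀ (r : ℕ) (_ : Fact r.Prime) (Q : Sylow r L), (Q : Subgroup L).Normal :=
      ((Group.isNilpotent_of_finite_tfae (G := L)).out 0 3).mp hLn
    haveI hSn : (S : Subgroup L).Normal := hall 2 inferInstance S
    obtain ⟨D, hD⟩ := Subgroup.exists_right_complement'_of_coprime
      (N := (S : Subgroup L)) S.card_coprime_index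
    have hDodd : (Nat.card D).Coprime 2 := by
      rw [← hD.symm.index_eq_card]
      exact (Nat.prime_two.coprime_iff_not_dvd.mpr S.not_dvd_index).symm
    let f : L →* G ⧸ M := q.comp L.subtype
    have hinj : Function.Injective (f.comp D.subtype) := by
      rw [injective_iff_map_eq_one]
      intro x hx
      have h1 : ((x : L) : G) ∈ M := (QuotientGroup.eq_one_iff _).mp hx
      refine orderOf_eq_one_iff.mp (Nat.eq_one_of_dvd_coprimes hDodd (_root_.orderOf_dvd_natCard x) ?_)
      rw [← Subgroup.orderOf_coe x, ← Subgroup.orderOf_coe (x : L), ← hM2]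
      exact Subgroup.orderOf_dvd_natCard M h1
    have hDc : ∀ a b : D, a * b = b * a := fun a b => hinj (by
      rw [map_mul, map_mul]
      exact congrArg Subtype.val (hA'c.is_comm.comm
        (⟨_, hL.1 ▸ Subgroup.mem_map_of_mem _ (a : L).2⟩ : A') ⟨_, hL.1 ▸ Subgroup.mem_map_of_mem _ (b : L).2⟩))
    haveI : IsMulCommutative D := ⟨⟨hDc⟩⟩
    refine ⟨D.map L.subtype, inferInstance, ?_, ?_, ?_⟩
    · rw [← Subgroup.map_sup, hD.symm.sup_eq_top, ← MonoidHom.range_eq_map, Subgroup.range_subtype]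
    · rintro _ ⟨s, hs, rfl⟩
      rw [Subgroup.mem_centralizer_iff]
      rintro _ ⟨d, hd, rfl⟩
      rw [← map_mul, ← map_mul]
      congr 1
      obtain ⟨k, hk⟩ := IsPGroup.iff_orderOf.mp S.2 ⟨s, hs⟩
      rw [Subgroup.orderOf_mk] at hk
      refine commute_of_coprime ?_
      rw [hk]
      exact (Nat.Coprime.coprime_dvd_left (Subgroup.orderOf_dvd_natCard D hd) hDodd).pow_right k
    · rw [Subgroup.card_subtype, mul_comm]
      exact hD.card_mul
  obtain ⟨S₁⟩ : Nonempty (Sylow 2 L₁) := inferInstance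
  obtain ⟨S₂⟩ : Nonempty (Sylow 2 L₂) := inferInstance
  have hS₁ := hS hA hL₁ rfl S₁
  have hS₂ := hS hB hL₂ hAB.symm S₂
  obtain ⟨C₁, hC₁c, hC₁L, hC₁S, hC₁n⟩ := hC hA hL₁ rfl inferInstance S₁
  obtain ⟨C₂, hC₂c, hC₂L, hC₂S, hC₂n⟩ := hC hB hL₂ hAB.symm inferInstance S₂
  have hcard : Nat.card L₁ = Nat.card L₂ := Nat.eq_of_factorization_eq Nat.card_pos.ne' Nat.card_pos.ne' fun r => by
    by_cases hr : r.Prime
    · haveI := Fact.mk hr
      by_cases hr2 : r = 2
      · subst hr2
        refine Nat.pow_right_injective le_rfl ?_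
        show 2 ^ _ = 2 ^ _
        rw [← S₁.card_eq_multiplicity, ← S₂.card_eq_multiplicity, hS₁, hS₂]
      · rw [lift_card hL₁ (fun _ hd => absurd hd (hother r hr hr2)),
          lift_card hL₂ (fun _ hd => absurd hd (hother r hr hr2)), hAB]
    · simp [Nat.factorization_eq_zero_of_not_prime _ hr]
  by_cases hv1 : (Nat.card A).factorization 2 = 1
  · -- the lifts are abelian
    have hab : ∀ {A' : Subgroup (G ⧸ M)} {L : Subgroup G}, IsMulCommutative A' → IsLift M A' L →
        Nat.card A' = Nat.card A → Group.IsNilpotent L → IsMulCommutative L := by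
      intro A' L hA'c hL hA' hLn
      haveI := hA'c
      haveI := hLn
      refine comm_of_sylow fun r hr S => ?_
      by_cases hr2 : r = 2
      · subst hr2
        haveI : IsMulCommutative (S : Subgroup L) :=
          IsPGroup.isMulCommutative_of_card_eq_prime_sq (p := 2) (by rw [hS hA'c hL hA' S, hv1]; rfl)
        exact fun a b => IsMulCommutative.is_comm.comm a b
      · exact lift_sylow_comm hL (fun _ hd => absurd hd (hother r hr.out hr2)) S
    obtain ⟨g, hg⟩ := h L₁ L₂ (hab hA hL₁ rfl inferInstance) (hab hB hL₂ hAB.symm inferInstance) hcard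
    exact ⟨_, conj_image hL₁.1 hL₂.1 hg⟩
  -- the Sylow 2-subgroups of the lifts are quaternion of order 8
  have hsyl : ∀ {U : Subgroup G}, IsPGroup 2 U → Nat.card U ≤ 8 := by
    intro U hU
    obtain ⟨Q, hQ⟩ := hU.exists_le_sylow
    calc Nat.card U ≤ Nat.card Q := Subgroup.card_le_of_le hQ
      _ = 8 := by rw [Q.card_eq_multiplicity, ← P.card_eq_multiplicity, hP8]
  have hv2 : (Nat.card A).factorization 2 = 2 := by
    have h1 := hsyl (S₁.2.map L₁.subtype)
    rw [Subgroup.card_subtype, hS₁] at h1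
    have : (Nat.card A).factorization 2 ≤ 2 := by
      by_contra hlt
      have := Nat.pow_le_pow_right two_pos (show 3 ≤ (Nat.card A).factorization 2 by omega)
      omega
    omega
  rw [hv2] at hS₁ hS₂
  obtain ⟨g, hg⟩ := h C₁ C₂ hC₁c hC₂c (by
    rw [hcard, ← hC₂n, hS₁, hS₂] at hC₁n
    exact Nat.eq_of_mul_eq_mul_right (by norm_num) hC₁n)
  set T₁ := (((S₁ : Subgroup L₁).map L₁.subtype).map (MulAut.conj g).toMonoidHom) with hT₁
  set T₂ := (S₂ : Subgroup L₂).map L₂.subtype with hT₂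
  set K := Subgroup.centralizer (C₂ : Set G) with hK
  have hT₁K : T₁ ≤ K := by
    rintro _ ⟨s, hs, rfl⟩
    rw [hK, Subgroup.mem_centralizer_iff]
    intro c hc
    rw [SetLike.mem_coe, hg] at hc
    obtain ⟨c₀, hc₀, rfl⟩ := hc
    rw [← map_mul, ← map_mul, Subgroup.mem_centralizer_iff.mp (hC₁S hs) c₀ hc₀]
  have key : ∀ T : Subgroup G, T ≤ K → IsPGroup 2 T → Nat.card T = 8 → ∃ Q : Sylow 2 K, (Q : Subgroup K).map K.subtype = T := by
    intro T hTK hTp hT
    obtain ⟨Q, hQ⟩ := (hTp.comap_of_injective K.subtype K.subtype_injective).exists_le_sylow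
    refine ⟨Q, (Subgroup.eq_of_le_of_card_ge ?_ ?_).symm⟩
    · exact fun x hx => ⟨⟨x, hTK hx⟩, hQ hx, rfl⟩
    · rw [hT]; exact hsyl (Q.2.map _)
  obtain ⟨Q₁, hQ₁⟩ := key T₁ hT₁K ((S₁.2.map _).map _) (by
    rw [hT₁, Subgroup.card_map_of_injective (MulAut.conj g).injective, Subgroup.card_subtype, hS₁]; rfl)
  obtain ⟨Q₂, hQ₂⟩ := key T₂ hC₂S (S₂.2.map _) (by rw [hT₂, Subgroup.card_subtype, hS₂]; rfl)
  obtain ⟨y, hy⟩ := MulAction.exists_smul_eq K Q₁ Q₂
  refine ⟨_, conj_image hL₁.1 hL₂.1 (g := (y : G) * g) ?_⟩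
  have hCy : C₂.map (MulAut.conj (y : G)).toMonoidHom = C₂ := by
    have hfix : ∀ c ∈ C₂, (y : G) * c * (y : G)⁻¹ = c := fun c hc => by
      rw [← Subgroup.mem_centralizer_iff.mp y.2 c hc, mul_inv_cancel_right]
    ext c
    exact ⟨fun ⟨c₀, hc₀, e⟩ => e ▸ (show (y : G) * c₀ * (y : G)⁻¹ ∈ C₂ by rw [hfix c₀ hc₀]; exact hc₀),
      fun hc => ⟨c, hc, hfix c hc⟩⟩
  have hTy : T₁.map (MulAut.conj (y : G)).toMonoidHom = T₂ := by
    rw [← hQ₁, ← hQ₂, ← hy, Sylow.coe_subgroup_smul, Subgroup.map_map]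
    show _ = Subgroup.map K.subtype ((Q₁ : Subgroup K).map (MulAut.conj y).toMonoidHom)
    rw [Subgroup.map_map]
    congr 1
  rw [← hC₁L, ← hC₂L, Subgroup.map_sup, map_mul]
  rw [show ((MulAut.conj (y : G) * MulAut.conj g : MulAut G)).toMonoidHom =
    (MulAut.conj (y : G)).toMonoidHom.comp (MulAut.conj g).toMonoidHom from rfl, ← Subgroup.map_map, ← Subgroup.map_map,
    ← hg, hCy, ← hT₁, hTy]

theorem IsCB.of_equiv {X Y : Type*} [Group X] [Group Y] (e : X ≃* Y) (h : IsCB X) : IsCB Y := by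
  intro A B hA hB hAB
  haveI := hA
  haveI := hB
  obtain ⟨g, hg⟩ := h (A.map e.symm.toMonoidHom) (B.map e.symm.toMonoidHom) inferInstance inferInstance
    (by rw [Subgroup.card_map_of_injective e.symm.injective, Subgroup.card_map_of_injective e.symm.injective, hAB])
  refine ⟨e g, ?_⟩
  have h2 := congrArg (Subgroup.map e.toMonoidHom) hg
  rw [Subgroup.map_map, Subgroup.map_map, Subgroup.map_map] at h2
  rw [show B = B.map (e.toMonoidHom.comp e.symm.toMonoidHom) by
    ext x; simp, h2]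
  congr 1
  ext x
  simp

/-- Quotients of solvable groups keep the conjugacy property. -/
theorem quotient_of_solvable : ∀ (n : ℕ) (G : Type u) [Group G] [Finite G], Nat.card G = n → Group.IsSolvable G →
    IsCB G → ∀ (M : Subgroup G) [M.Normal], IsCB (G ⧸ M) := by
  intro n
  induction n using Nat.strong_induction_on with | _ n ih => ?_
  intro G _ _ hn hsol h M _
  haveI := hsol
  rcases eq_or_ne M ⊥ with rfl | hM
  · exact h.of_equiv QuotientGroup.quotientBot.symm
  obtain ⟨N, hNn, hN, hNM, hmin⟩ := Solvable.Basic.exists_minimal_normal_le hM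
  haveI := hNn
  obtain ⟨hNc, p, hp, hexp, hNp⟩ := Solvable.Basic.minimal_normal_solvable N hN hmin
  haveI := Fact.mk hp
  have hQ : IsCB (G ⧸ N) := by
    rcases eq_or_ne p 2 with rfl | hp2
    · exact h.quotient_of_two N ⟨hNc, hexp⟩
    · refine h.quotient_of_odd N ?_
      obtain ⟨k, hk⟩ := IsPGroup.iff_card.mp hNp
      exact hk ▸ (hp.odd_of_ne_two hp2).pow
  haveI : (M.map (QuotientGroup.mk' N)).Normal := Subgroup.Normal.map inferInstance _ (QuotientGroup.mk'_surjective N)
  exact (ih _ (hn ▸ Solvable.Basic.card_quotient_lt N hN) (G ⧸ N) rfl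
    (solvable_of_surjective (QuotientGroup.mk'_surjective N)) hQ (M.map (QuotientGroup.mk' N))).of_equiv
    (QuotientGroup.quotientQuotientEquivQuotient N M hNM)

end CfsgLib.KGroups.CB
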