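import Mathlib

/-!
Finite groups whose two largest conjugacy class sizes `m > n > 1` are coprime: centralisers of the
corresponding elements are abelian, meet in the centre, and one of them is normal.
-/

set_option autoImplicit false

namespace Cfsg.Agent.CoprimeTopClasses

open scoped Pointwise
open Subgroup

variable {G : Type*} [Group G]

/-- The centralizer of one element. -/
abbrev C (a : G) : Subgroup G := Subgroup.centralizer ({a} : Set G)

/-- The class size of an element. -/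
noncomputable abbrev cl (a : G) : ℕ := (C a).index

/-- The class of an element, as a set. -/
def Cls (a : G) : Set G := Set.range fun g : G => g * a * g⁻¹

lemma mem_C {a g : G} : g ∈ C a ↔ g * a = a * g := Subgroup.mem_centralizer_singleton_iff

lemma mem_C_symm {a b : G} (h : a ∈ C b) : b ∈ C a := mem_C.2 (mem_C.1 h).symm

lemma self_mem_C (a : G) : a ∈ C a := mem_C.2 rfl

lemma center_le_C (a : G) : center G ≤ C a := fun z hz =>
  mem_C.2 (Subgroup.mem_center_iff.1 hz a).symm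

lemma conj_mem_C {a g h : G} : g * h * g⁻¹ ∈ C (g * a * g⁻¹) ↔ h ∈ C a := by
  simp only [mem_C]
  constructor
  · intro e
    have e' : g * (h * a) * g⁻¹ = g * (a * h) * g⁻¹ := by simpa [mul_assoc] using e
    exact mul_left_cancel (mul_right_cancel e')
  · intro e
    simpa [mul_assoc] using congrArg (fun t => g * t * g⁻¹) e

lemma cl_conj (a g : G) : cl (g * a * g⁻¹) = cl a := by
  have h : C (g * a * g⁻¹) = (C a).map (MulAut.conj g).toMonoidHom := by
    ext k
    rw [Subgroup.mem_map]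
    constructor
    · intro hk
      refine ⟨g⁻¹ * k * g, (conj_mem_C (g := g)).1 ?_, by simp [mul_assoc]⟩
      simpa [mul_assoc] using hk
    · rintro ⟨h, hh, rfl⟩
      simpa using conj_mem_C.2 hh
  unfold cl
  rw [h]
  exact Subgroup.index_map_of_bijective (MulAut.conj g).bijective _

lemma central_iff_C {a : G} : a ∈ center G ↔ C a = ⊤ :=
  ⟨fun h => eq_top_iff.2 fun g _ => mem_C.2 (Subgroup.mem_center_iff.1 h g),
    fun h => Subgroup.mem_center_iff.2 fun g => mem_C.1 (h ▸ Subgroup.mem_top g)⟩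

lemma C_mul_center {a z : G} (hz : z ∈ center G) : C (a * z) = C a := by
  ext g
  have hg := Subgroup.mem_center_iff.1 hz g
  rw [mem_C, mem_C]
  constructor
  · intro e
    refine mul_right_cancel (b := z) ?_
    rw [mul_assoc, e, mul_assoc, mul_assoc, hg]
  · intro e
    rw [← mul_assoc, e, mul_assoc, hg, mul_assoc]

lemma zpow_C {a b : G} (h : b ∈ zpowers a) : C a ≤ C b := by
  intro g hg
  obtain ⟨i, rfl⟩ := h
  exact mem_C.2 ((show Commute g a from mem_C.1 hg).zpow_right i).eq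

section finite

variable [Finite G]

lemma cls_card (a : G) : (Cls a).ncard = cl a := by
  unfold cl
  rw [← Nat.card_coe_set_eq, Subgroup.index]
  refine (Nat.card_congr (Equiv.ofBijective
    (Quotient.lift (fun g => (⟨g * a * g⁻¹, g, rfl⟩ : Cls a)) ?_) ⟨?_, ?_⟩)).symm
  · intro g h hgh
    have hgh' : g⁻¹ * h ∈ C a := QuotientGroup.leftRel_apply.1 hgh
    refine Subtype.ext ?_
    show g * a * g⁻¹ = h * a * h⁻¹
    have e := mem_C.1 hgh'
    calc g * a * g⁻¹ = g * (a * (g⁻¹ * h)) * h⁻¹ := by group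
      _ = g * (g⁻¹ * h * a) * h⁻¹ := by rw [e]
      _ = h * a * h⁻¹ := by group
  · intro q r
    induction q using QuotientGroup.induction_on with | _ g =>
    induction r using QuotientGroup.induction_on with | _ h =>
    intro e
    refine QuotientGroup.eq.2 (mem_C.2 ?_)
    have e' : g * a * g⁻¹ = h * a * h⁻¹ := congrArg Subtype.val e
    calc g⁻¹ * h * a = g⁻¹ * (h * a * h⁻¹) * h := by group
      _ = g⁻¹ * (g * a * g⁻¹) * h := by rw [e']
      _ = a * (g⁻¹ * h) := by group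
  · rintro ⟨_, g, rfl⟩
    exact ⟨QuotientGroup.mk g, rfl⟩

lemma cl_pos (a : G) : 0 < cl a := Nat.pos_of_ne_zero Subgroup.index_ne_zero_of_finite

lemma eq_of_le_of_cl {a b : G} (h : C a ≤ C b) (he : cl a = cl b) : C a = C b := by
  have h1 := Subgroup.relIndex_mul_index h
  have h2 : (C a).relIndex (C b) = 1 :=
    Nat.eq_of_mul_eq_mul_right (cl_pos b)
      (show (C a).relIndex (C b) * cl b = 1 * cl b by rw [h1, one_mul]; exact he)
  exact le_antisymm h (Subgroup.relIndex_eq_one.1 h2)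

/-- Factorisation of the group through centralizers of coprime indices. -/
lemma exists_factor {a b : G} (hcop : (cl a).Coprime (cl b)) (g : G) :
    ∃ u ∈ C a, ∃ v ∈ C b, g = u * v := by
  have h1 : (C a ⊓ C b).index = cl a * cl b := by
    refine le_antisymm Subgroup.index_inf_le (Nat.le_of_dvd
      (Nat.pos_of_ne_zero Subgroup.index_ne_zero_of_finite) ?_)
    exact hcop.mul_dvd_of_dvd_of_dvd (Subgroup.index_dvd_of_le inf_le_left)
      (Subgroup.index_dvd_of_le inf_le_right)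
  have h2 := Subgroup.relIndex_mul_index (inf_le_left : C a ⊓ C b ≤ C a)
  rw [h1, Subgroup.inf_relIndex_left] at h2
  have h3 : (C b).relIndex (C a) = cl b :=
    Nat.eq_of_mul_eq_mul_right (cl_pos a) (h2.trans (mul_comm _ _))
  have h4 : MulAction.stabilizer (C a) (QuotientGroup.mk 1 : G ⧸ C b) = (C b).subgroupOf (C a) := by
    ext ⟨u, hu⟩
    rw [MulAction.mem_stabilizer_iff, Subgroup.mem_subgroupOf]
    show (QuotientGroup.mk (u * 1) : G ⧸ C b) = QuotientGroup.mk 1 ↔ _
    rw [QuotientGroup.eq]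
    simp
  have h5 : (MulAction.orbit (C a) (QuotientGroup.mk 1 : G ⧸ C b)) = Set.univ := by
    refine Set.eq_of_subset_of_ncard_le (Set.subset_univ _) ?_
    rw [Set.ncard_univ, ← MulAction.index_stabilizer, h4]
    exact le_of_eq (h3.symm.trans rfl)
  obtain ⟨⟨u, hu⟩, e⟩ : (QuotientGroup.mk g : G ⧸ C b) ∈
      MulAction.orbit (C a) (QuotientGroup.mk 1 : G ⧸ C b) := h5 ▸ Set.mem_univ _
  refine ⟨u, hu, u⁻¹ * g, ?_, by group⟩
  have e' : (QuotientGroup.mk (u * 1) : G ⧸ C b) = QuotientGroup.mk g := e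
  rw [mul_one] at e'
  exact QuotientGroup.eq.1 e'

/-- With coprime class sizes, a product of conjugates is a conjugate of the product. -/
lemma mul_mem_cls {a b : G} (hcop : (cl a).Coprime (cl b)) (g h : G) :
    g * a * g⁻¹ * (h * b * h⁻¹) ∈ Cls (a * b) := by
  obtain ⟨u, hu, v, hv, e⟩ := exists_factor hcop (g⁻¹ * h)
  refine ⟨g * u, ?_⟩
  have hh : h = g * u * v := by rw [mul_assoc, ← e, mul_inv_cancel_left]
  have ea := mem_C.1 hu
  have eb := mem_C.1 hv
  simp only
  calc g * u * (a * b) * (g * u)⁻¹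
      = g * (u * a) * b * (g * u)⁻¹ := by group
    _ = g * (a * u) * b * (g * u)⁻¹ := by rw [ea]
    _ = g * a * g⁻¹ * (g * u * (b * v) * v⁻¹ * (g * u)⁻¹) := by group
    _ = g * a * g⁻¹ * (g * u * (v * b) * v⁻¹ * (g * u)⁻¹) := by rw [eb]
    _ = g * a * g⁻¹ * (h * b * h⁻¹) := by rw [hh]; group

lemma le_cl_mul {a b : G} (hcop : (cl a).Coprime (cl b)) : cl b ≤ cl (a * b) := by
  rw [← cls_card, ← cls_card, ← Set.ncard_image_of_injective (Cls b) (mul_right_injective a)]
  refine Set.ncard_le_ncard ?_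
  rintro _ ⟨_, ⟨h, rfl⟩, rfl⟩
  simpa using mul_mem_cls hcop 1 h

lemma le_cl_mul' {a b : G} (hcop : (cl a).Coprime (cl b)) : cl a ≤ cl (a * b) := by
  rw [← cls_card, ← cls_card, ← Set.ncard_image_of_injective (Cls a) (mul_left_injective b)]
  refine Set.ncard_le_ncard ?_
  rintro _ ⟨_, ⟨g, rfl⟩, rfl⟩
  simpa using mul_mem_cls hcop g 1

/-- A normal subgroup of order coprime to the index of a subgroup lies in it. -/
lemma le_of_coprime_index {K H : Subgroup G} [K.Normal]
    (h : (Nat.card K).Coprime H.index) : K ≤ H := by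
  have e1 := Subgroup.card_mul_index (K.subgroupOf (H ⊔ K))
  have h1 : H.relIndex (H ⊔ K) ∣ H.index :=
    Dvd.intro _ (Subgroup.relIndex_mul_index (le_sup_left : H ≤ H ⊔ K))
  have h2 : H.relIndex (H ⊔ K) ∣ Nat.card K := by
    have a1 := Subgroup.relIndex_mul_relIndex ⊥ K (H ⊔ K) bot_le le_sup_right
    have a2 := Subgroup.relIndex_mul_relIndex ⊥ H (H ⊔ K) bot_le le_sup_left
    have a3 := Subgroup.relIndex_mul_relIndex ⊥ (K ⊓ H) H bot_le inf_le_right
    have a4 := Subgroup.relIndex_sup_right H K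
    rw [Subgroup.inf_relIndex_right] at a3
    simp only [Subgroup.relIndex_bot_left] at a1 a2 a3
    have hKpos : 0 < K.relIndex H := Nat.pos_of_ne_zero fun h0 => by
      rw [h0, mul_zero] at a3; exact Nat.card_pos.ne' a3.symm
    have key : K.relIndex H * (Nat.card (K ⊓ H : Subgroup G) * H.relIndex (H ⊔ K)) =
        K.relIndex H * Nat.card K := by
      calc K.relIndex H * (Nat.card (K ⊓ H : Subgroup G) * H.relIndex (H ⊔ K))
          = Nat.card H * H.relIndex (H ⊔ K) := by rw [← a3]; ring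
        _ = Nat.card (H ⊔ K : Subgroup G) := a2
        _ = Nat.card K * K.relIndex (H ⊔ K) := a1.symm
        _ = K.relIndex H * Nat.card K := by rw [a4, mul_comm]
    exact Dvd.intro_left _ (Nat.eq_of_mul_eq_mul_left hKpos key)
  have h3 : H.relIndex (H ⊔ K) = 1 := Nat.dvd_one.1 (h ▸ Nat.dvd_gcd h2 h1)
  exact le_trans le_sup_right (Subgroup.relIndex_eq_one.1 h3)

/-- The subgroup generated by the commutators of `a`. -/
def Kom (a : G) : Subgroup G := Subgroup.closure (Set.range fun g : G => a⁻¹ * (g * a * g⁻¹))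

instance (a : G) : (Kom a).Normal := by
  refine ⟨fun k hk h => ?_⟩
  induction hk using Subgroup.closure_induction with
  | mem x hx =>
    obtain ⟨g, rfl⟩ := hx
    have e : h * (a⁻¹ * (g * a * g⁻¹)) * h⁻¹ =
        (a⁻¹ * (h * a * h⁻¹))⁻¹ * (a⁻¹ * (h * g * a * (h * g)⁻¹)) := by group
    rw [e]
    exact mul_mem (inv_mem (Subgroup.subset_closure ⟨h, rfl⟩))
      (Subgroup.subset_closure ⟨h * g, rfl⟩)
  | one => simp
  | mul x y _ _ ihx ihy =>
    rw [show h * (x * y) * h⁻¹ = h * x * h⁻¹ * (h * y * h⁻¹) by group]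
    exact mul_mem ihx ihy
  | inv x _ ih =>
    rw [show h * x⁻¹ * h⁻¹ = (h * x * h⁻¹)⁻¹ by group]
    exact inv_mem ih

/-- If the class of `a * b` is as small as that of `b`, the commutators of `a` permute the class
of `b` freely. -/
lemma card_kom_dvd {a b : G} (hcop : (cl a).Coprime (cl b)) (he : cl (a * b) = cl b) :
    Nat.card (Kom a) ∣ cl b := by
  classical
  have himg : ∀ g : G, (fun t => g * a * g⁻¹ * t) '' Cls b = Cls (a * b) := by
    intro g
    refine Set.eq_of_subset_of_ncard_le ?_ ?_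
    · rintro _ ⟨_, ⟨h, rfl⟩, rfl⟩
      exact mul_mem_cls hcop g h
    · rw [Set.ncard_image_of_injective _ (mul_right_injective _), cls_card, cls_card, he]
  have hst : Kom a ≤ MulAction.stabilizer G (Cls b) := by
    rw [Kom, Subgroup.closure_le]
    rintro _ ⟨g, rfl⟩
    rw [SetLike.mem_coe, MulAction.mem_stabilizer_iff, ← Set.image_smul]
    have h1 := himg 1
    rw [← himg g] at h1
    have h2 := congrArg (fun s => (fun t => a⁻¹ * t) '' s) h1
    simp only [Set.image_image, one_mul, inv_one, mul_one, inv_mul_cancel_left, Set.image_id'] at h2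
    conv_rhs => rw [h2]
    refine Set.image_congr fun t _ => ?_
    simp [mul_assoc]
  letI : MulAction (Kom a) (Cls b) :=
    { smul := fun k t => ⟨(k : G) * t.1, by
        have h := MulAction.mem_stabilizer_iff.1 (hst k.2)
        exact h.subset (Set.smul_mem_smul_set t.2)⟩
      one_smul := fun t => Subtype.ext (one_mul _)
      mul_smul := fun k l t => Subtype.ext (mul_assoc _ _ _) }
  haveI := Fintype.ofFinite (Quotient (MulAction.orbitRel (Kom a) (Cls b)))
  rw [← cls_card, ← Nat.card_coe_set_eq,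
    Nat.card_congr (MulAction.selfEquivSigmaOrbits (Kom a) (Cls b)), Nat.card_sigma]
  refine Finset.dvd_sum fun o _ => ?_
  have hinj : Function.Injective fun k : Kom a => k • Quotient.out o := fun k l e =>
    Subtype.ext (mul_right_cancel (congrArg Subtype.val e))
  exact dvd_of_eq (Nat.card_range_of_injective hinj).symm

lemma conj_comm_of_eq {a b : G} (hcop : (cl a).Coprime (cl b)) (he : cl (a * b) = cl b) (g : G) :
    g * a * g⁻¹ ∈ C a := by
  have h := le_of_coprime_index (H := C a)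
    ((Nat.Coprime.of_dvd_left (card_kom_dvd hcop he) hcop.symm))
    (Subgroup.subset_closure ⟨g, rfl⟩ : a⁻¹ * (g * a * g⁻¹) ∈ Kom a)
  have := mul_mem (self_mem_C a) h
  simpa [mul_assoc] using this

lemma central_of_eq {a b : G} (hcop : (cl a).Coprime (cl b)) (he : cl (a * b) = cl b)
    (ho : (orderOf a).Coprime (cl b)) : a ∈ center G := by
  refine Subgroup.mem_center_iff.2 fun g => ?_
  set k := a⁻¹ * (g * a * g⁻¹)
  have hk : k ∈ Kom a := Subgroup.subset_closure ⟨g, rfl⟩
  have hcm : Commute a (g * a * g⁻¹) := (mem_C.1 (conj_comm_of_eq hcop he g)).symm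
  have h1 : orderOf k ∣ orderOf a := by
    refine orderOf_dvd_of_pow_eq_one ?_
    rw [hcm.inv_left.mul_pow, inv_pow, pow_orderOf_eq_one, conj_pow, pow_orderOf_eq_one]
    group
  have h2 : orderOf k ∣ cl b :=
    dvd_trans (Subgroup.orderOf_dvd_natCard (Kom a) hk) (card_kom_dvd hcop he)
  have h3 : k = 1 := orderOf_eq_one_iff.1 (Nat.dvd_one.1 (ho ▸ Nat.dvd_gcd h1 h2))
  have h4 : g * a * g⁻¹ = a := (inv_mul_eq_one.1 h3).symm
  calc g * a = g * a * g⁻¹ * g := by group
    _ = a * g := by rw [h4]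

/-- Every prime dividing `k` divides `m`. -/
def PiNum (m k : ℕ) : Prop := ∀ p, p.Prime → p ∣ k → p ∣ m

lemma PiNum.coprime {m k j : ℕ} (hk : PiNum m k) (hj : j.Coprime m) : k.Coprime j :=
  Nat.coprime_of_dvd fun p hp h1 h2 =>
    hp.one_lt.ne' (Nat.dvd_one.1 (hj ▸ Nat.dvd_gcd h2 (hk p hp h1)))

lemma PiNum.of_dvd {m k j : ℕ} (hk : PiNum m k) (h : j ∣ k) : PiNum m j :=
  fun p hp hj => hk p hp (hj.trans h)

/-- Coprime commuting factors are powers of the product. -/
lemma mem_zpowers_mul {a b : G} (hab : Commute a b) (h : (orderOf a).Coprime (orderOf b)) :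
    a ∈ zpowers (a * b) := by
  have h1 : (a * b) ^ orderOf b = a ^ orderOf b := by
    rw [hab.mul_pow, pow_orderOf_eq_one, mul_one]
  obtain ⟨i, hi⟩ := exists_pow_eq_self_of_coprime h.symm
  rw [← h1, ← pow_mul] at hi
  have h2 := pow_mem (Subgroup.mem_zpowers (a * b)) (orderOf b * i)
  rwa [hi] at h2

lemma C_mul_le {a b : G} (hab : Commute a b) (h : (orderOf a).Coprime (orderOf b)) :
    C (a * b) ≤ C a ∧ C (a * b) ≤ C b :=
  ⟨zpow_C (mem_zpowers_mul hab h),
    zpow_C (by rw [hab.eq]; exact mem_zpowers_mul hab.symm h.symm)⟩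

/-- Every element is the product of two of its powers, of `π`- and `π'`-order. -/
lemma exists_split (m : ℕ) (hm : 0 < m) (a : G) : ∃ a₁ ∈ zpowers a, ∃ a₂ ∈ zpowers a,
    a₁ * a₂ = a ∧ PiNum m (orderOf a₁) ∧ (orderOf a₂).Coprime m := by
  set o := orderOf a with ho
  have hopos : 0 < o := orderOf_pos a
  set r := Nat.gcd o (m ^ o) with hr
  obtain ⟨s, hs⟩ : r ∣ o := Nat.gcd_dvd_left _ _
  have hr0 : 0 < r := Nat.gcd_pos_of_pos_left _ hopos
  have hsm : s.Coprime m := by
    refine Nat.coprime_of_dvd fun p hp h1 h2 => ?_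
    have hpo : p ∣ o := hs ▸ dvd_mul_of_dvd_right h1 r
    have hv : p ^ (o.factorization p) ∣ r := by
      refine Nat.dvd_gcd (Nat.ordProj_dvd o p) ?_
      refine dvd_trans (pow_dvd_pow_of_dvd h2 _) (pow_dvd_pow m ?_)
      exact (Nat.factorization_lt p hopos.ne').le
    have hbad : p ^ (o.factorization p + 1) ∣ o := by
      have := mul_dvd_mul hv h1
      rwa [← pow_succ, ← hs] at this
    exact Nat.pow_succ_factorization_not_dvd hopos.ne' hp hbad
  have hrn : PiNum m r := fun p hp h => hp.dvd_of_dvd_pow (h.trans (Nat.gcd_dvd_right _ _))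
  have hrs : r.Coprime s := hrn.coprime hsm
  have hbez := Nat.gcd_eq_gcd_ab r s
  rw [hrs] at hbez
  refine ⟨a ^ ((s : ℤ) * Nat.gcdB r s), ⟨_, rfl⟩, a ^ ((r : ℤ) * Nat.gcdA r s), ⟨_, rfl⟩, ?_, ?_, ?_⟩
  · rw [← zpow_add, add_comm, ← hbez]; simp
  · refine hrn.of_dvd (orderOf_dvd_of_pow_eq_one ?_)
    rw [← zpow_natCast, ← zpow_mul, show ((s : ℤ) * Nat.gcdB r s) * r = (o : ℕ) * Nat.gcdB r s by
      rw [hs]; push_cast; ring, zpow_mul, zpow_natCast, pow_orderOf_eq_one, one_zpow]
  · refine Nat.Coprime.of_dvd_left (orderOf_dvd_of_pow_eq_one ?_) hsm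
    rw [← zpow_natCast, ← zpow_mul, show ((r : ℤ) * Nat.gcdA r s) * s = (o : ℕ) * Nat.gcdA r s by
      rw [hs]; push_cast; ring, zpow_mul, zpow_natCast, pow_orderOf_eq_one, one_zpow]

/-- An element all of whose prime power powers lie in `S` lies in `S`. -/
lemma mem_of_primePow (S : Subgroup G) : ∀ a : G,
    (∀ b ∈ zpowers a, ∀ p k, p.Prime → p ∣ orderOf a → orderOf b = p ^ k → b ∈ S) → a ∈ S := by
  suffices ∀ N, ∀ a : G, orderOf a = N →
      (∀ b ∈ zpowers a, ∀ p k, p.Prime → p ∣ orderOf a → orderOf b = p ^ k → b ∈ S) → a ∈ S from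
    fun a => this _ a rfl
  intro N
  induction N using Nat.strong_induction_on with
  | _ N ih =>
    intro a ha h
    rcases eq_or_ne N 1 with h1 | h1
    · rw [orderOf_eq_one_iff.1 (ha.trans h1)]; exact one_mem S
    obtain ⟨p, hp, hpN⟩ := Nat.exists_prime_and_dvd h1
    obtain ⟨b, hb, c, hc, hbc, hbo, hco⟩ := exists_split p hp.pos a
    have hbdvd : orderOf b ∣ orderOf a :=
      orderOf_dvd_of_mem_zpowers hb
    have hcdvd : orderOf c ∣ orderOf a :=
      orderOf_dvd_of_mem_zpowers hc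
    rw [← hbc]
    refine mul_mem ?_ (ih (orderOf c) ?_ c rfl fun d hd q k hq hqd hdk =>
      h d ((Subgroup.zpowers_le.2 hc) hd) q k hq (hqd.trans hcdvd) hdk)
    · have hk : orderOf b = p ^ (orderOf b).primeFactorsList.length :=
        Nat.eq_prime_pow_of_unique_prime_dvd (orderOf_pos b).ne'
          fun {d} hd hdd => (Nat.prime_dvd_prime_iff_eq hd hp).1 (hbo d hd hdd)
      exact h b hb p _ hp (ha ▸ hpN) hk
    · rw [← ha]
      refine lt_of_le_of_ne (Nat.le_of_dvd (orderOf_pos a) hcdvd) fun e => ?_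
      exact hp.one_lt.ne' (Nat.dvd_one.1 (hco ▸ Nat.dvd_gcd (e.symm ▸ ha.symm ▸ hpN) dvd_rfl))

/-- If all `q`-elements of `H` are central, `q` does not divide its index over the centre. -/
lemma not_dvd_relIndex {q : ℕ} (hq : q.Prime) {H : Subgroup G}
    (h : ∀ a ∈ H, (∃ k, orderOf a = q ^ k) → a ∈ center G) : ¬ q ∣ (center G).relIndex H := by
  haveI := Fact.mk hq
  let Q : Sylow q H := default
  have hle : (Q : Subgroup H) ≤ (center G).subgroupOf H := by
    intro a ha
    obtain ⟨k, hk⟩ := IsPGroup.iff_orderOf.1 Q.isPGroup' ⟨a, ha⟩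
    exact h a.1 a.2 ⟨k, by rw [← hk, Subgroup.orderOf_mk, Subgroup.orderOf_coe]⟩
  exact fun hd => Q.not_dvd_index (hd.trans (Subgroup.index_dvd_of_le hle))

/-- A `p`-element lies in a conjugate of any subgroup of index prime to `p`. -/
lemma exists_conj_mem {p k : ℕ} (hp : p.Prime) {h : G} (ho : orderOf h = p ^ k) {H : Subgroup G}
    (hd : ¬ p ∣ H.index) : ∃ g : G, g⁻¹ * h * g ∈ H := by
  haveI := Fact.mk hp
  have hP : IsPGroup p (zpowers h) := IsPGroup.of_card (by rw [Nat.card_zpowers, ho])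
  obtain ⟨c, hc⟩ := hP.nonempty_fixed_point_of_prime_not_dvd_card (G ⧸ H) hd
  induction c using QuotientGroup.induction_on with | _ g =>
  refine ⟨g, ?_⟩
  have := hc ⟨h⁻¹, inv_mem (Subgroup.mem_zpowers h)⟩
  have h2 : (QuotientGroup.mk (h⁻¹ * g) : G ⧸ H) = QuotientGroup.mk g := this
  rw [QuotientGroup.eq] at h2
  simpa [mul_assoc] using h2

/-- The two largest class sizes are coprime. -/
structure Hyp (G : Type*) [Group G] (m n : ℕ) : Prop where
  hmn : n < m
  hn : 1 < n
  hcop : m.Coprime n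
  top : ∀ z : G, cl z ≤ m
  second : ∀ z : G, cl z < m → cl z ≤ n

variable {m n : ℕ} (H : Hyp G m n) {x y : G}
include H

lemma Hyp.hm : 0 < m := lt_of_le_of_lt (Nat.zero_le _) H.hmn

lemma not_dvd_n {p : ℕ} (hp : p.Prime) (h : p ∣ m) : ¬ p ∣ n := fun h' =>
  hp.one_lt.ne' (Nat.dvd_one.1 (H.hcop ▸ Nat.dvd_gcd h h'))

lemma not_dvd_m {p : ℕ} (hp : p.Prime) (h : p ∣ n) : ¬ p ∣ m := fun h' => not_dvd_n H hp h' h

lemma cl_mul_eq (hx : (cl x).Coprime m) (hy : cl y = m) : cl (x * y) = m :=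
  le_antisymm (H.top _) (hy ▸ le_cl_mul (hy ▸ hx))

lemma conj_comm (hx : cl x = n) (hy : cl y = m) (g : G) : g * x * g⁻¹ ∈ C x := by
  have hc : (cl x).Coprime (cl y) := by rw [hx, hy]; exact H.hcop.symm
  refine conj_comm_of_eq hc ?_ g
  rw [cl_mul_eq H (hy ▸ hc) hy, hy]

lemma central_of_dvd (hy : cl y = m) {u : G} (hu : cl u ∣ n) (ho : (orderOf u).Coprime m) :
    u ∈ center G := by
  have hc : (cl u).Coprime m := Nat.Coprime.of_dvd_left hu H.hcop.symm
  refine central_of_eq (b := y) (hy ▸ hc) ?_ (hy ▸ ho)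
  rw [cl_mul_eq H hc hy, hy]

lemma reduce (hx : cl x = n) (hy : cl y = m) :
    ∃ x₁ ∈ zpowers x, PiNum m (orderOf x₁) ∧ C x₁ = C x := by
  obtain ⟨x₁, h₁, x₂, h₂, he, hp, hc⟩ := exists_split m H.hm x
  have hz := central_of_dvd H hy (hx ▸ Subgroup.index_dvd_of_le (zpow_C h₂)) hc
  exact ⟨x₁, h₁, hp, by rw [← he, C_mul_center hz]⟩

lemma central_of_mem_Cx (hx : cl x = n) (hy : cl y = m) {u : G} (hu : u ∈ C x)
    (ho : (orderOf u).Coprime m) : u ∈ center G := by
  obtain ⟨x₁, -, hp, he⟩ := reduce H hx hy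
  have hcm : Commute x₁ u := (mem_C.1 (he.symm ▸ hu : u ∈ C x₁)).symm
  obtain ⟨h1, h2⟩ := C_mul_le hcm (hp.coprime ho)
  rw [he] at h1
  have hd : n ∣ cl (x₁ * u) := hx ▸ Subgroup.index_dvd_of_le h1
  have hne : cl (x₁ * u) ≠ m := fun e => by
    rw [e] at hd
    have := H.hn
    have : n = 1 := Nat.dvd_one.1 (H.hcop ▸ Nat.dvd_gcd hd dvd_rfl)
    omega
  have heq : cl (x₁ * u) = n := le_antisymm (H.second _ (lt_of_le_of_ne (H.top _) hne))
    (Nat.le_of_dvd (cl_pos _) hd)
  rw [eq_of_le_of_cl h1 (heq.trans hx.symm)] at h2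
  exact central_of_dvd H hy (hx ▸ Subgroup.index_dvd_of_le h2) ho

lemma not_dvd_relIndex_Cx (hx : cl x = n) (hy : cl y = m) {q : ℕ} (hq : q.Prime) (hqm : ¬ q ∣ m) :
    ¬ q ∣ (center G).relIndex (C x) :=
  not_dvd_relIndex hq fun a ha ⟨k, hk⟩ => central_of_mem_Cx H hx hy ha
    (hk ▸ Nat.Coprime.pow_left k (hq.coprime_iff_not_dvd.2 hqm))

omit H in
lemma relIndex_mul_cl (a : G) : (center G).relIndex (C a) * cl a = (center G).index :=
  Subgroup.relIndex_mul_index (center_le_C a)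

lemma not_mem_Cx (hx : cl x = n) (hy : cl y = m) : y ∉ C x := by
  intro hyx
  obtain ⟨y₁, h₁, y₂, h₂, he, hp, hc⟩ := exists_split m H.hm y
  have hz := central_of_mem_Cx H hx hy ((Subgroup.zpowers_le.2 hyx) h₂) hc
  have hC : C y₁ = C y := by rw [← he, C_mul_center hz]
  obtain ⟨q, hq, hqn⟩ := Nat.exists_prime_and_dvd H.hn.ne'
  have hqm := not_dvd_m H hq hqn
  have hry : ¬ q ∣ (center G).relIndex (C y) := not_dvd_relIndex hq fun v hv ⟨k, hk⟩ => by
    have hvo : (orderOf v).Coprime m := hk ▸ Nat.Coprime.pow_left k (hq.coprime_iff_not_dvd.2 hqm)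
    have hcm : Commute y₁ v := (mem_C.1 (hC.symm ▸ hv : v ∈ C y₁)).symm
    obtain ⟨h1, h2⟩ := C_mul_le hcm (hp.coprime hvo)
    rw [hC] at h1
    have heq : cl (y₁ * v) = m := le_antisymm (H.top _)
      (Nat.le_of_dvd (cl_pos _) (hy ▸ Subgroup.index_dvd_of_le h1))
    rw [eq_of_le_of_cl h1 (heq.trans hy.symm)] at h2
    exact central_of_mem_Cx H hx hy (mem_C_symm (h2 (mem_C_symm hyx))) hvo
  have e : (center G).relIndex (C y) * m = (center G).relIndex (C x) * n := by
    rw [← hy, ← hx, relIndex_mul_cl, relIndex_mul_cl]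
  rcases hq.dvd_mul.1 (e.symm ▸ dvd_mul_of_dvd_right hqn _ :
    q ∣ (center G).relIndex (C y) * m) with h | h
  · exact hry h
  · exact hqm h

lemma le_n_of_mem (hx : cl x = n) {w : G} (hw : w ∈ C x) : cl w ≤ n :=
  H.second w (lt_of_le_of_ne (H.top w) fun e => not_mem_Cx H hx e hw)

lemma central_prime_part (hx : cl x = n) (hy : cl y = m) {h : G} {p k : ℕ} (hp : p.Prime)
    (hpm : p ∣ m) (ho : orderOf h = p ^ k) (hle : C y ≤ C h) : h ∈ center G := by
  obtain ⟨g, hg⟩ := exists_conj_mem hp ho (H := C x)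
    (by rw [show (C x).index = n from hx]; exact not_dvd_n H hp hpm)
  set x' := g * x * g⁻¹ with hx'def
  have hx' : cl x' = n := (cl_conj x g).trans hx
  have hmem : h ∈ C x' := by
    have := (conj_mem_C (g := g)).2 hg
    simpa [hx'def, mul_assoc] using this
  have hd : cl h ∣ m := hy ▸ Subgroup.index_dvd_of_le hle
  have hc : (cl h).Coprime (cl x') := by rw [hx']; exact Nat.Coprime.of_dvd_left hd H.hcop
  have he : cl (h * x') = cl x' :=
    le_antisymm (hx' ▸ le_n_of_mem H hx' (mul_mem hmem (self_mem_C x'))) (le_cl_mul hc)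
  refine central_of_eq hc he ?_
  rw [ho, hx']
  exact Nat.Coprime.pow_left k (hp.coprime_iff_not_dvd.2 (not_dvd_n H hp hpm))

lemma central_pi_part (hx : cl x = n) (hy : cl y = m) {h : G} (ho : PiNum m (orderOf h))
    (hle : C y ≤ C h) : h ∈ center G :=
  mem_of_primePow (center G) h fun b hb p k hp hpd hbo =>
    central_prime_part H hx hy hp (ho p hp hpd) hbo (le_trans hle (zpow_C hb))

lemma central_of_mem_Cy (hx : cl x = n) (hy : cl y = m) {h : G} (hh : h ∈ C y)
    (ho : PiNum m (orderOf h)) : h ∈ center G := by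
  obtain ⟨y₁, h₁, y₂, -, he, hp, hc⟩ := exists_split m H.hm y
  have hz := central_pi_part H hx hy hp (zpow_C h₁)
  have hC : C y₂ = C y := by
    rw [← he, show y₁ * y₂ = y₂ * y₁ from (Subgroup.mem_center_iff.1 hz y₂).symm, C_mul_center hz]
  have hcm : Commute h y₂ := mem_C.1 (hC.symm ▸ hh : h ∈ C y₂)
  obtain ⟨h1, h2⟩ := C_mul_le hcm (ho.coprime hc)
  rw [hC] at h2
  have heq : cl (h * y₂) = m := le_antisymm (H.top _)
    (Nat.le_of_dvd (cl_pos _) (hy ▸ Subgroup.index_dvd_of_le h2))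
  rw [eq_of_le_of_cl h2 (heq.trans hy.symm)] at h1
  exact central_pi_part H hx hy ho h1

lemma not_dvd_relIndex_Cy (hx : cl x = n) (hy : cl y = m) {q : ℕ} (hq : q.Prime) (hqm : q ∣ m) :
    ¬ q ∣ (center G).relIndex (C y) :=
  not_dvd_relIndex hq fun a ha ⟨k, hk⟩ => central_of_mem_Cy H hx hy ha fun p hp hd => by
    rwa [(Nat.prime_dvd_prime_iff_eq hp hq).1 (hp.dvd_of_dvd_pow (hk ▸ hd))]

lemma relIndex_Cx (hx : cl x = n) (hy : cl y = m) : (center G).relIndex (C x) = m := by
  set r := (center G).relIndex (C x)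
  have e : r * n = (center G).relIndex (C y) * m := by
    rw [← hy, ← hx, relIndex_mul_cl, relIndex_mul_cl]
  have h1 : m ∣ r := H.hcop.dvd_of_dvd_mul_right (e ▸ dvd_mul_left _ _)
  have h2 : r ∣ m := by
    refine Nat.Coprime.dvd_of_dvd_mul_left (k := r) (m := (center G).relIndex (C y)) ?_
      (e ▸ dvd_mul_right r n)
    refine Nat.coprime_of_dvd fun p hp hpr hpy => ?_
    by_cases hpm : p ∣ m
    · exact not_dvd_relIndex_Cy H hx hy hp hpm hpy
    · exact not_dvd_relIndex_Cx H hx hy hp hpm hpr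
  exact Nat.dvd_antisymm h2 h1

lemma relIndex_Cy (hx : cl x = n) (hy : cl y = m) : (center G).relIndex (C y) = n := by
  have e : (center G).relIndex (C y) * m = (center G).relIndex (C x) * n := by
    rw [← hy, ← hx, relIndex_mul_cl, relIndex_mul_cl]
  rw [relIndex_Cx H hx hy, mul_comm] at e
  exact Nat.eq_of_mul_eq_mul_left H.hm e

lemma inf_eq_center (hx : cl x = n) (hy : cl y = m) : C x ⊓ C y = center G := by
  refine le_antisymm ?_ (le_inf (center_le_C x) (center_le_C y))
  have h1 := Subgroup.relIndex_mul_relIndex (center G) (C x ⊓ C y) (C x)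
    (le_inf (center_le_C x) (center_le_C y)) inf_le_left
  have h2 := Subgroup.relIndex_mul_relIndex (center G) (C x ⊓ C y) (C y)
    (le_inf (center_le_C x) (center_le_C y)) inf_le_right
  rw [relIndex_Cx H hx hy] at h1
  rw [relIndex_Cy H hx hy] at h2
  exact Subgroup.relIndex_eq_one.1
    (Nat.dvd_one.1 (H.hcop ▸ Nat.dvd_gcd (Dvd.intro _ h1) (Dvd.intro _ h2)))

omit H in
/-- The abelian normal subgroup generated by a class of commuting elements. -/
lemma exists_normal_of_comm {a : G} (hc : ∀ g : G, g * a * g⁻¹ ∈ C a) :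
    ∃ A : Subgroup G, A.Normal ∧ a ∈ A ∧ A ≤ C a ∧ (∀ u ∈ A, ∀ v ∈ A, u * v = v * u) ∧
      ∀ u ∈ A, u ^ orderOf a = 1 := by
  refine ⟨Subgroup.normalClosure {a}, inferInstance,
    Subgroup.subset_normalClosure rfl, ?_, ?_, ?_⟩
  · refine (Subgroup.closure_le _).2 fun u hu => ?_
    rw [Group.mem_conjugatesOfSet_iff] at hu
    obtain ⟨_, rfl, h⟩ := hu
    obtain ⟨g, rfl⟩ := isConj_iff.1 h
    exact hc g
  · have hcc : ∀ u ∈ Group.conjugatesOfSet ({a} : Set G), ∀ v ∈ Group.conjugatesOfSet ({a} : Set G),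
        u * v = v * u := by
      intro u hu v hv
      rw [Group.mem_conjugatesOfSet_iff] at hu hv
      obtain ⟨_, rfl, h⟩ := hu
      obtain ⟨_, rfl, h'⟩ := hv
      obtain ⟨g, rfl⟩ := isConj_iff.1 h
      obtain ⟨k, rfl⟩ := isConj_iff.1 h'
      have := (conj_mem_C (g := k)).2 (hc (k⁻¹ * g))
      simpa [mul_assoc] using mem_C.1 this
    intro u hu v hv
    have := Subgroup.isMulCommutative_closure hcc
    exact congrArg Subtype.val (this.is_comm.comm ⟨u, hu⟩ ⟨v, hv⟩)
  · have hcc : ∀ u ∈ Group.conjugatesOfSet ({a} : Set G), ∀ v ∈ Group.conjugatesOfSet ({a} : Set G),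
        u * v = v * u := by
      intro u hu v hv
      rw [Group.mem_conjugatesOfSet_iff] at hu hv
      obtain ⟨_, rfl, h⟩ := hu
      obtain ⟨_, rfl, h'⟩ := hv
      obtain ⟨g, rfl⟩ := isConj_iff.1 h
      obtain ⟨k, rfl⟩ := isConj_iff.1 h'
      have := (conj_mem_C (g := k)).2 (hc (k⁻¹ * g))
      simpa [mul_assoc] using mem_C.1 this
    intro u hu
    induction hu using Subgroup.closure_induction with
    | mem u hu =>
      rw [Group.mem_conjugatesOfSet_iff] at hu
      obtain ⟨_, rfl, h⟩ := hu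
      obtain ⟨g, rfl⟩ := isConj_iff.1 h
      rw [conj_pow, pow_orderOf_eq_one]; group
    | one => simp
    | mul u v hu hv ihu ihv =>
      have := Subgroup.isMulCommutative_closure hcc
      have h : Commute u v := congrArg Subtype.val (this.is_comm.comm ⟨u, hu⟩ ⟨v, hv⟩)
      rw [h.mul_pow, ihu, ihv, one_mul]
    | inv u _ ih => rw [inv_pow, ih, inv_one]

omit H in
/-- The twisted commutator map of `t` on an abelian normal subgroup. -/
lemma exists_decomp {A : Subgroup G} [A.Normal] (hA : ∀ u ∈ A, ∀ v ∈ A, u * v = v * u) {O : ℕ}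
    (hO : ∀ u ∈ A, u ^ O = 1) {t : G} (ht : (orderOf t).Coprime O) :
    ∃ W : Subgroup G, W ≤ A ∧ (∀ w, w ∈ W ↔ ∃ b ∈ A, t⁻¹ * b * t * b⁻¹ = w) ∧
      (∀ w ∈ W, w ∈ C t → w = 1) ∧ (∀ a ∈ A, ∃ c ∈ A ⊓ C t, ∃ w ∈ W, c * w = a) := by
  have hmem : ∀ b ∈ A, t⁻¹ * b * t ∈ A := fun b hb => by
    simpa using Subgroup.Normal.conj_mem ‹A.Normal› b hb t⁻¹
  let ψ : A →* A :=
    { toFun := fun b => ⟨t⁻¹ * b * t * (b : G)⁻¹, mul_mem (hmem b b.2) (inv_mem b.2)⟩
      map_one' := Subtype.ext (by simp)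
      map_mul' := fun b d => Subtype.ext (by
        simp only [Subgroup.coe_mul, mul_inv_rev]
        have e := hA _ (mul_mem (hmem d d.2) (inv_mem d.2)) _ (inv_mem b.2)
        calc t⁻¹ * ((b : G) * d) * t * ((d : G)⁻¹ * (b : G)⁻¹)
            = t⁻¹ * (b : G) * t * (t⁻¹ * (d : G) * t * (d : G)⁻¹ * (b : G)⁻¹) := by group
          _ = t⁻¹ * (b : G) * t * ((b : G)⁻¹ * (t⁻¹ * (d : G) * t * (d : G)⁻¹)) := by rw [e]
          _ = _ := by group) }
  refine ⟨ψ.range.map A.subtype, Subgroup.map_subtype_le _, fun w => ?_, ?_, ?_⟩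
  · constructor
    · rintro ⟨_, ⟨b, rfl⟩, rfl⟩; exact ⟨b, b.2, rfl⟩
    · rintro ⟨b, hb, rfl⟩; exact ⟨ψ ⟨b, hb⟩, ⟨⟨b, hb⟩, rfl⟩, rfl⟩
  · rintro _ ⟨_, ⟨b, rfl⟩, rfl⟩ hw
    set w := t⁻¹ * (b : G) * t * (b : G)⁻¹ with hwdef
    have hwC : w ∈ C t := hw
    have key : ∀ i : ℕ, (t ^ i)⁻¹ * (b : G) * t ^ i = w ^ i * b := by
      intro i
      induction i with
      | zero => simp
      | succ i ih =>
        have e : t⁻¹ * w ^ i * t = w ^ i := by
          have hcm : Commute w t := mem_C.1 hwC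
          rw [mul_assoc, (hcm.pow_left i).eq, inv_mul_cancel_left]
        calc (t ^ (i + 1))⁻¹ * (b : G) * t ^ (i + 1)
            = t⁻¹ * ((t ^ i)⁻¹ * (b : G) * t ^ i) * t := by group
          _ = (t⁻¹ * w ^ i * t) * (t⁻¹ * (b : G) * t) := by rw [ih]; group
          _ = w ^ i * (w * b) := by rw [e, hwdef, inv_mul_cancel_right]
          _ = w ^ (i + 1) * b := by rw [pow_succ]; exact (mul_assoc _ _ _).symm
    have h1 : w ^ orderOf t = 1 := by
      have := key (orderOf t)
      rw [pow_orderOf_eq_one, inv_one, one_mul, mul_one] at this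
      exact (mul_eq_right).1 this.symm
    have h2 : w ^ O = 1 := hO w (ψ b).2
    have := pow_gcd_eq_one.2 ⟨(h1 : w ^ _ = 1), h2⟩
    rwa [ht, pow_one] at this
  · intro a ha
    let f : ψ.ker × ψ.range → A := fun p => (p.1 : A) * (p.2 : A)
    have hfix : ∀ c : ψ.ker, ((c : A) : G) ∈ C t := fun c => by
      have h : t⁻¹ * ((c : A) : G) * t * ((c : A) : G)⁻¹ = 1 := congrArg Subtype.val c.2
      rw [mul_inv_eq_one, mul_assoc, inv_mul_eq_iff_eq_mul] at h
      exact mem_C.2 h
    have hkey : ∀ v : ψ.range, ((v : A) : G) ∈ C t → v = 1 := by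
      rintro ⟨_, b, rfl⟩ hv
      set w := t⁻¹ * (b : G) * t * (b : G)⁻¹ with hwdef
      have hwC : w ∈ C t := hv
      have key : ∀ i : ℕ, (t ^ i)⁻¹ * (b : G) * t ^ i = w ^ i * b := by
        intro i
        induction i with
        | zero => simp
        | succ i ih =>
          have e : t⁻¹ * w ^ i * t = w ^ i := by
            have hcm : Commute w t := mem_C.1 hwC
            rw [mul_assoc, (hcm.pow_left i).eq, inv_mul_cancel_left]
          calc (t ^ (i + 1))⁻¹ * (b : G) * t ^ (i + 1)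
              = t⁻¹ * ((t ^ i)⁻¹ * (b : G) * t ^ i) * t := by group
            _ = (t⁻¹ * w ^ i * t) * (t⁻¹ * (b : G) * t) := by rw [ih]; group
            _ = w ^ i * (w * b) := by rw [e, hwdef, inv_mul_cancel_right]
            _ = w ^ (i + 1) * b := by rw [pow_succ]; exact (mul_assoc _ _ _).symm
      have h1 : w ^ orderOf t = 1 := by
        have := key (orderOf t)
        rw [pow_orderOf_eq_one, inv_one, one_mul, mul_one] at this
        exact (mul_eq_right).1 this.symm
      have h2 : w ^ O = 1 := hO w (ψ b).2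
      have := pow_gcd_eq_one.2 ⟨(h1 : w ^ _ = 1), h2⟩
      rw [ht, pow_one] at this
      exact Subtype.ext (Subtype.ext this)
    have hinj : Function.Injective f := by
      rintro ⟨c, v⟩ ⟨c', v'⟩ e
      have e' : (c' : A)⁻¹ * c = (v' : A) * (v : A)⁻¹ := by
        have : (c : A) * v = (c' : A) * v' := e
        rw [eq_mul_inv_iff_mul_eq, mul_assoc, this, inv_mul_cancel_left]
      have h1 : (v' * v⁻¹ : ψ.range) = 1 := hkey _ (by
        show (((v' : A) * (v : A)⁻¹ : A) : G) ∈ C t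
        rw [← e']
        exact mul_mem (inv_mem (hfix c')) (hfix c))
      have h2 : v' = v := mul_inv_eq_one.1 h1
      subst h2
      exact Prod.ext (Subtype.ext (mul_right_cancel e)) rfl
    have hcard : Nat.card (ψ.ker × ψ.range) = Nat.card A := by
      rw [Nat.card_prod, ← Subgroup.index_ker, mul_comm, Subgroup.index_mul_card]
    obtain ⟨⟨c, v⟩, e⟩ := ((Nat.bijective_iff_injective_and_card f).2 ⟨hinj, hcard⟩).2 ⟨a, ha⟩
    exact ⟨((c : A) : G), ⟨(c : A).2, hfix c⟩, ((v : A) : G), ⟨(v : A), v.2, rfl⟩,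
      congrArg Subtype.val e⟩

/-- Elements of `π'`-order of `C y` outside the centre have the largest class. -/
lemma cl_eq_m (hx : cl x = n) (hy : cl y = m) {t : G} (ht : t ∈ C y)
    (ho : (orderOf t).Coprime m) (hz : t ∉ center G) : cl t = m := by
  classical
  obtain ⟨x₁, -, hp, he⟩ := reduce H hx hy
  have hx₁ : cl x₁ = n := by rw [cl, he]; exact hx
  obtain ⟨A, hAn, hxA, hAle, hAc, hAo⟩ :=
    exists_normal_of_comm (conj_comm H hx₁ hy)
  have htO : (orderOf t).Coprime (orderOf x₁) := (hp.coprime ho).symm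
  obtain ⟨W, hWA, hW, hWt, hdec⟩ := exists_decomp hAc hAo htO
  obtain ⟨c, hc, w, hw, hcw⟩ := hdec x₁ hxA
  have hAy : ∀ u ∈ A, u ∈ C y → u ∈ center G := fun u hu huy => by
    rw [← inf_eq_center H hx hy, ← he]; exact ⟨hAle hu, huy⟩
  have hw1 : w ≠ 1 := by
    rintro rfl
    rw [mul_one] at hcw; subst hcw
    refine hz ?_
    rw [← inf_eq_center H hx hy, ← he]
    exact ⟨mem_C_symm hc.2, ht⟩
  set V := C y ⊓ C c ⊓ C t with hV
  have hZV : center G ≤ V := le_inf (le_inf (center_le_C y) (center_le_C c)) (center_le_C t)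
  have hWinv : ∀ r ∈ C t, ∀ u ∈ W, r * u * r⁻¹ ∈ W := by
    intro r hr u hu
    obtain ⟨b, hb, rfl⟩ := (hW u).1 hu
    refine (hW _).2 ⟨r * b * r⁻¹, hAn.conj_mem b hb r, ?_⟩
    have e : Commute r t := mem_C.1 hr
    have e1 : t⁻¹ * r = r * t⁻¹ := e.inv_right.eq.symm
    have e2 : r⁻¹ * t = t * r⁻¹ := e.inv_left.eq
    calc t⁻¹ * (r * b * r⁻¹) * t * (r * b * r⁻¹)⁻¹
        = (t⁻¹ * r) * b * (r⁻¹ * t) * r * b⁻¹ * r⁻¹ := by group
      _ = r * (t⁻¹ * b * t * b⁻¹) * r⁻¹ := by rw [e1, e2]; group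
  -- a regular orbit inside `W`
  have hlt : (center G).relIndex V < Nat.card W := by
    let f : V ⧸ (center G).subgroupOf V → W := fun q =>
      ⟨(q.out : G) * w * (q.out : G)⁻¹, hWinv _ q.out.2.2 w hw⟩
    have hinj : Function.Injective f := by
      intro q q' e
      rw [← QuotientGroup.out_eq' q, ← QuotientGroup.out_eq' q', QuotientGroup.eq,
        Subgroup.mem_subgroupOf]
      refine (inf_eq_center H hx hy).le ?_
      rw [← he]
      have e' : (q.out : G) * w * (q.out : G)⁻¹ = (q'.out : G) * w * (q'.out : G)⁻¹ :=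
        congrArg Subtype.val e
      set r := ((q.out⁻¹ * q'.out : V) : G) with hr
      have hrV : r ∈ V := (q.out⁻¹ * q'.out : V).2
      refine ⟨?_, hrV.1.1⟩
      rw [← hcw]
      have h1 : r * w = w * r := by
        simp only [hr, Subgroup.coe_mul, Subgroup.coe_inv]
        calc (q.out : G)⁻¹ * (q'.out : G) * w
            = (q.out : G)⁻¹ * ((q'.out : G) * w * (q'.out : G)⁻¹) * (q'.out : G) := by group
          _ = (q.out : G)⁻¹ * ((q.out : G) * w * (q.out : G)⁻¹) * (q'.out : G) := by rw [e']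
          _ = _ := by group
      exact mem_C.2 ((show Commute r c from mem_C.1 hrV.1.2).mul_right h1).eq
    have hne : ∀ q, f q ≠ 1 := fun q e => hw1 (by
      have e' : (q.out : G) * w * (q.out : G)⁻¹ = 1 := congrArg Subtype.val e
      rwa [mul_inv_eq_one, mul_eq_left] at e')
    haveI := Fintype.ofFinite W
    haveI := Fintype.ofFinite (V ⧸ (center G).subgroupOf V)
    rw [Subgroup.relIndex, Subgroup.index, Nat.card_eq_fintype_card, Nat.card_eq_fintype_card]
    exact Fintype.card_lt_of_injective_of_notMem f hinj (b := (1 : W))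
      (by rintro ⟨q, hq⟩; exact hne q hq)
  -- many conjugates of `c * t`
  have hct : Commute c t := mem_C.1 hc.2
  have hbig : Nat.card W * V.relIndex (C y) ≤ cl (c * t) := by
    have hmem : ∀ u ∈ W, c * t * u ∈ Cls (c * t) := by
      intro u hu
      obtain ⟨b, hb, rfl⟩ := (hW u).1 hu
      refine ⟨b, ?_⟩
      have e : b * c = c * b := hAc b hb c hc.1
      have e' := hAc _ (by simpa using hAn.conj_mem b hb t⁻¹ : t⁻¹ * b * t ∈ A) _ (inv_mem hb)
      calc b * (c * t) * b⁻¹ = (b * c) * t * b⁻¹ := by group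
        _ = c * t * (t⁻¹ * b * t * b⁻¹) := by rw [e]; group
    let f : W × (C y ⧸ V.subgroupOf (C y)) → Cls (c * t) := fun p =>
      ⟨(p.2.out : G) * (c * t * p.1) * (p.2.out : G)⁻¹, by
        obtain ⟨g, hg⟩ := hmem p.1 p.1.2
        exact ⟨(p.2.out : G) * g, by rw [← hg]; group⟩⟩
    have hinj : Function.Injective f := by
      rintro ⟨⟨u, hu⟩, q⟩ ⟨⟨u', hu'⟩, q'⟩ e
      have e0 : (q.out : G) * (c * t * u) * (q.out : G)⁻¹ =
          (q'.out : G) * (c * t * u') * (q'.out : G)⁻¹ := congrArg Subtype.val e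
      set r := ((q.out⁻¹ * q'.out : C y) : G) with hr
      have hry : r ∈ C y := (q.out⁻¹ * q'.out : C y).2
      have e1 : c * t * u = (r * c * r⁻¹) * (r * t * r⁻¹) * (r * u' * r⁻¹) := by
        simp only [hr, Subgroup.coe_mul, Subgroup.coe_inv]
        calc c * t * u
            = (q.out : G)⁻¹ * ((q.out : G) * (c * t * u) * (q.out : G)⁻¹) * (q.out : G) := by group
          _ = (q.out : G)⁻¹ * ((q'.out : G) * (c * t * u') * (q'.out : G)⁻¹) * (q.out : G) := by
            rw [e0]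
          _ = _ := by group
      set c' := r * c * r⁻¹
      set t' := r * t * r⁻¹
      set v := r * u' * r⁻¹
      have hc'A : c' ∈ A := hAn.conj_mem c hc.1 r
      have hvA : v ∈ A := hAn.conj_mem u' (hWA hu') r
      have hzA : t⁻¹ * t' ∈ A := by
        have e2 : t⁻¹ * t' = (t⁻¹ * c'⁻¹ * t) * (t⁻¹ * c * t) * u * v⁻¹ := by
          have e3 : t' = c'⁻¹ * (c * t * u) * v⁻¹ := by rw [e1]; group
          rw [e3]; group
        rw [e2]
        exact mul_mem (mul_mem (mul_mem (by simpa using hAn.conj_mem _ (inv_mem hc'A) t⁻¹)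
          (by simpa using hAn.conj_mem _ hc.1 t⁻¹)) (hWA hu)) (inv_mem hvA)
      have hzy : t⁻¹ * t' ∈ C y :=
        mul_mem (inv_mem ht) (mul_mem (mul_mem hry ht) (inv_mem hry))
      have hzc := hAy _ hzA hzy
      have hz1 : t⁻¹ * t' = 1 := by
        have h1 : (t * (t⁻¹ * t')) ^ orderOf t = 1 := by
          rw [mul_inv_cancel_left, show t' = r * t * r⁻¹ from rfl, conj_pow, pow_orderOf_eq_one]
          group
        rw [Commute.mul_pow (Subgroup.mem_center_iff.1 hzc t), pow_orderOf_eq_one, one_mul] at h1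
        have := pow_gcd_eq_one.2 ⟨h1, hAo _ hzA⟩
        rwa [htO, pow_one] at this
      have htt : t' = t := (inv_mul_eq_one.1 hz1).symm
      have hrt : r ∈ C t := mem_C.2 (mul_inv_eq_iff_eq_mul.1 htt)
      have hvW : v ∈ W := hWinv r hrt u' hu'
      have hc't : c' ∈ C t := by
        have := (conj_mem_C (g := r)).2 hc.2
        rwa [show r * t * r⁻¹ = t from htt] at this
      rw [htt] at e1
      have e4 : c * u = c' * v := by
        have hc'cm : Commute c' t := mem_C.1 hc't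
        rw [hct.eq, hc'cm.eq, mul_assoc, mul_assoc] at e1
        exact mul_left_cancel e1
      have e5 : c'⁻¹ * c = v * u⁻¹ := by
        rw [eq_mul_inv_iff_mul_eq, mul_assoc, e4, inv_mul_cancel_left]
      have e6 : v * u⁻¹ = 1 :=
        hWt _ (mul_mem hvW (inv_mem hu)) (e5 ▸ mul_mem (inv_mem hc't) hc.2)
      have hcc : c' = c := inv_mul_eq_one.1 (e5.trans e6)
      have hrc : r ∈ C c := mem_C.2 (mul_inv_eq_iff_eq_mul.1 hcc)
      have hqq : q = q' := by
        rw [← QuotientGroup.out_eq' q, ← QuotientGroup.out_eq' q', QuotientGroup.eq]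
        exact Subgroup.mem_subgroupOf.2 ⟨⟨hry, hrc⟩, hrt⟩
      subst hqq
      have hr1 : r = 1 := by simp [hr]
      have : u = u' := by
        have h := mul_inv_eq_one.1 e6
        simp only [v, hr1, one_mul, inv_one, mul_one] at h
        exact h.symm
      subst this
      rfl
    have := Nat.card_le_card_of_injective f hinj
    rw [Nat.card_prod, Nat.card_coe_set_eq, cls_card] at this
    exact this
  have hVn : (center G).relIndex V * V.relIndex (C y) = n := by
    rw [Subgroup.relIndex_mul_relIndex _ _ _ hZV (inf_le_left.trans inf_le_left),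
      relIndex_Cy H hx hy]
  have hgt : n < cl (c * t) := by
    have hVpos : 0 < V.relIndex (C y) := Nat.pos_of_ne_zero fun h0 => by
      rw [h0, mul_zero] at hVn; exact absurd hVn.symm (by have := H.hn; omega)
    exact lt_of_lt_of_le (hVn ▸ Nat.mul_lt_mul_of_pos_right hlt hVpos) hbig
  have hm' : cl (c * t) = m := by
    by_contra hne
    exact absurd (H.second _ (lt_of_le_of_ne (H.top _) hne)) (not_le.2 hgt)
  have hcO : orderOf c ∣ orderOf x₁ := orderOf_dvd_of_pow_eq_one (hAo c hc.1)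
  obtain ⟨h1, -⟩ := C_mul_le hct (Nat.Coprime.of_dvd_left hcO htO.symm)
  have hcz := central_pi_part H hx hm' (hp.of_dvd hcO) h1
  rw [hct.eq, cl, C_mul_center hcz] at hm'
  exact hm'

/-- Noncentral elements of `C x` have class size `n`. -/
lemma cl_eq_n (hx : cl x = n) (hy : cl y = m) {w : G} (hw : w ∈ C x) (hz : w ∉ center G) :
    cl w = n := by
  obtain ⟨w₁, hw₁, w₂, hw₂, he, hp, hc⟩ := exists_split m H.hm w
  have hz₂ := central_of_mem_Cx H hx hy ((Subgroup.zpowers_le.2 hw) hw₂) hc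
  have hz₁ : w₁ ∉ center G := fun h => hz (he ▸ mul_mem h hz₂)
  have hq : ∀ q, q.Prime → q ∣ n → ¬ q ∣ (center G).relIndex (C w) := fun q hq hqn =>
    not_dvd_relIndex hq fun v hv ⟨k, hk⟩ => by
      by_contra hvz
      obtain ⟨g, hg⟩ := exists_conj_mem hq hk (H := C y)
        (by rw [show (C y).index = m from hy]; exact not_dvd_m H hq hqn)
      have hvm : cl v = m := by
        have hy' : cl (g * y * g⁻¹) = m := (cl_conj y g).trans hy
        have hmem : v ∈ C (g * y * g⁻¹) := by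
          have := (conj_mem_C (g := g)).2 hg
          simpa [mul_assoc] using this
        exact cl_eq_m H hx hy' hmem
          (hk ▸ Nat.Coprime.pow_left k (hq.coprime_iff_not_dvd.2 (not_dvd_m H hq hqn))) hvz
      exact hz₁ (central_of_mem_Cy H hx hvm (mem_C_symm (zpow_C hw₁ hv)) hp)
  have hN : (center G).relIndex (C w) * cl w = m * n := by
    rw [relIndex_mul_cl, ← relIndex_mul_cl x, relIndex_Cx H hx hy, hx]
  have hnd : n ∣ cl w := by
    refine Nat.Coprime.dvd_of_dvd_mul_left (m := (center G).relIndex (C w)) ?_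
      (hN ▸ dvd_mul_left n m)
    exact Nat.coprime_of_dvd fun p hp h1 h2 => hq p hp h1 h2
  exact le_antisymm (le_n_of_mem H hx hw) (Nat.le_of_dvd (cl_pos _) hnd)

lemma conj_mem_of_cl (hx : cl x = n) (hy : cl y = m) {w : G} (hw : cl w = n) (g : G) :
    g * w * g⁻¹ ∈ C x := by
  obtain ⟨w₁, -, hp, he⟩ := reduce H hw hy
  obtain ⟨w₁', h₁, w₂, h₂, hee, hp', hc⟩ := exists_split m H.hm w
  have hz := central_of_mem_Cx H hw hy ((Subgroup.zpowers_le.2 (self_mem_C w)) h₂) hc
  have hC : C w₁' = C w := by rw [← hee, C_mul_center hz]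
  have hw₁ : cl w₁' = n := by rw [cl, hC]; exact hw
  obtain ⟨A, hAn, hwA, -, -, hAo⟩ := exists_normal_of_comm (conj_comm H hw₁ hy)
  have hle : A ≤ C x := by
    refine le_of_coprime_index ?_
    rw [show (C x).index = n from hx]
    refine Nat.coprime_of_dvd fun p hpp h1 h2 => ?_
    haveI := Fact.mk hpp
    obtain ⟨a, ha⟩ := exists_prime_orderOf_dvd_card' p h1
    have : p ∣ orderOf w₁' := ha ▸ (by
      rw [← Subgroup.orderOf_coe]; exact orderOf_dvd_of_pow_eq_one (hAo a.1 a.2))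
    exact not_dvd_n H hpp (hp' p hpp this) h2
  rw [← hee, show g * (w₁' * w₂) * g⁻¹ = g * w₁' * g⁻¹ * w₂ by
    rw [mul_assoc, mul_assoc, mul_assoc, mul_assoc, Subgroup.mem_center_iff.1 hz g⁻¹]]
  exact mul_mem (hle (hAn.conj_mem _ hwA g)) (center_le_C x hz)

lemma normal_Cx (hx : cl x = n) (hy : cl y = m) : (C x).Normal := by
  refine ⟨fun w hw g => ?_⟩
  by_cases hz : w ∈ center G
  · rw [show g * w * g⁻¹ = w by rw [Subgroup.mem_center_iff.1 hz g, mul_inv_cancel_right]]
    exact hw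
  · exact conj_mem_of_cl H hx hy (cl_eq_n H hx hy hw hz) g

lemma comm_Cx (hx : cl x = n) (hy : cl y = m) {u v : G} (hu : u ∈ C x) (hv : v ∈ C x) :
    u * v = v * u := by
  by_cases hu' : u ∈ center G
  · exact (Subgroup.mem_center_iff.1 hu' v).symm
  by_cases hv' : v ∈ center G
  · exact Subgroup.mem_center_iff.1 hv' u
  have := conj_mem_of_cl H (cl_eq_n H hx hy hv hv') hy (cl_eq_n H hx hy hu hu') 1
  exact mem_C.1 (by simpa using this)

omit H in
lemma comm_eq_one {t q a z : G} {i j : ℕ} (hij : i.Coprime j) (hzc : z ∈ center G)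
    (hq : q * t * q⁻¹ = t * z) (ha : a * t * a⁻¹ = t * z) (hqi : q ^ i ∈ center G)
    (haj : a ^ j ∈ center G) : z = 1 := by
  have key : ∀ g : G, g * t * g⁻¹ = t * z → ∀ k : ℕ, g ^ k ∈ center G → z ^ k = 1 := by
    intro g hg k hk
    have h : ∀ k : ℕ, g ^ k * t * (g ^ k)⁻¹ = t * z ^ k := by
      intro k
      induction k with
      | zero => simp
      | succ k ih =>
        have e : g * z * g⁻¹ = z := by
          rw [Subgroup.mem_center_iff.1 hzc g, mul_inv_cancel_right]
        calc g ^ (k + 1) * t * (g ^ (k + 1))⁻¹ = g * (g ^ k * t * (g ^ k)⁻¹) * g⁻¹ := by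
              rw [pow_succ']; group
          _ = (g * t * g⁻¹) * (g * z * g⁻¹) ^ k := by rw [ih, conj_pow]; group
          _ = t * z ^ (k + 1) := by rw [hg, e, pow_succ', mul_assoc]
    have h' := h k
    rw [show g ^ k * t * (g ^ k)⁻¹ = t by
      rw [← Subgroup.mem_center_iff.1 hk t, mul_inv_cancel_right]] at h'
    exact (mul_eq_left).1 h'.symm
  have := pow_gcd_eq_one.2 ⟨key q hq i hqi, key a ha j haj⟩
  rwa [hij, pow_one] at this

omit H in
lemma pow_relIndex_mem {K : Subgroup G} {a : G} (ha : a ∈ K) :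
    a ^ (center G).relIndex K ∈ center G := by
  have := ((center G).subgroupOf K).pow_index_mem ⟨a, ha⟩
  rw [Subgroup.mem_subgroupOf] at this
  simpa [Subgroup.relIndex] using this

lemma comm_Cy (hx : cl x = n) (hy : cl y = m) {t q : G} (ht : t ∈ C y) (hq : q ∈ C y) :
    t * q = q * t := by
  obtain ⟨t₁, h₁, t₂, h₂, he, hp, hc⟩ := exists_split m H.hm t
  have hle := Subgroup.zpowers_le.2 ht
  have hz₁ := central_of_mem_Cy H hx hy (hle h₁) hp
  suffices h : t₂ * q = q * t₂ by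
    rw [← he, mul_assoc, h, ← mul_assoc, ← mul_assoc, Subgroup.mem_center_iff.1 hz₁ q]
  by_cases hz : t₂ ∈ center G
  · exact (Subgroup.mem_center_iff.1 hz q).symm
  have htm := cl_eq_m H hx hy (hle h₂) hc hz
  obtain ⟨a, ha, b, hb, e⟩ := exists_factor (a := x) (b := t₂)
    (by rw [hx, htm]; exact H.hcop.symm) q
  haveI := normal_Cx H hx hy
  set z := t₂⁻¹ * (q * t₂ * q⁻¹) with hz'
  have hqa : q * t₂ * q⁻¹ = a * t₂ * a⁻¹ := by
    rw [e]
    calc a * b * t₂ * (a * b)⁻¹ = a * (b * t₂) * b⁻¹ * a⁻¹ := by group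
      _ = a * (t₂ * b) * b⁻¹ * a⁻¹ := by rw [mem_C.1 hb]
      _ = a * t₂ * a⁻¹ := by group
  have hzC : z ∈ center G := by
    rw [← inf_eq_center H hx hy]
    refine Subgroup.mem_inf.2 ⟨?_, mul_mem (inv_mem (hle h₂)) (mul_mem (mul_mem hq (hle h₂)) (inv_mem hq))⟩
    rw [hz', hqa, show t₂⁻¹ * (a * t₂ * a⁻¹) = (t₂⁻¹ * a * t₂) * a⁻¹ by group]
    exact mul_mem (by simpa using (normal_Cx H hx hy).conj_mem a ha t₂⁻¹) (inv_mem ha)
  have h1 : q * t₂ * q⁻¹ = t₂ * z := by rw [hz', mul_inv_cancel_left]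
  have hz1 : z = 1 := comm_eq_one (i := n) (j := m) H.hcop.symm hzC h1 (hqa ▸ h1)
    (relIndex_Cy H hx hy ▸ pow_relIndex_mem hq) (relIndex_Cx H hx hy ▸ pow_relIndex_mem ha)
  rw [hz1, mul_one, mul_inv_eq_iff_eq_mul] at h1
  exact h1.symm

lemma cl_noncentral_Cy (hx : cl x = n) (hy : cl y = m) {v : G} (hv : v ∈ C y)
    (hz : v ∉ center G) : C v = C y := by
  obtain ⟨v₁, h₁, v₂, h₂, he, hp, hc⟩ := exists_split m H.hm v
  have hle := Subgroup.zpowers_le.2 hv
  have hz₁ := central_of_mem_Cy H hx hy (hle h₁) hp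
  have hC : C v₂ = C v := by
    rw [← he, show v₁ * v₂ = v₂ * v₁ from (Subgroup.mem_center_iff.1 hz₁ v₂).symm,
      C_mul_center hz₁]
  have hm := cl_eq_m H hx hy (hle h₂) hc fun h => hz (he ▸ mul_mem hz₁ h)
  refine (eq_of_le_of_cl (fun u hu => mem_C.2 (comm_Cy H hx hy hu hv)) ?_).symm
  rw [hy, cl, ← hC]; exact hm.symm

lemma mem_Cy_of_conj (hx : cl x = n) (hy : cl y = m) {g v : G} (hv : v ∈ C y)
    (hz : v ∉ center G) (hgv : g * v * g⁻¹ ∈ C y) : g ∈ C y := by
  have hz' : g * v * g⁻¹ ∉ center G := fun h => hz (by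
    have := (inferInstance : (center G).Normal).conj_mem _ h g⁻¹
    simpa [mul_assoc] using this)
  have hnorm : ∀ u, u ∈ C y → g * u * g⁻¹ ∈ C y := fun u hu => by
    rw [← cl_noncentral_Cy H hx hy hgv hz']
    rw [← cl_noncentral_Cy H hx hy hv hz] at hu
    exact conj_mem_C.2 hu
  obtain ⟨a, ha, b, hb, e⟩ := exists_factor (a := x) (b := y)
    (by rw [hx, hy]; exact H.hcop.symm) g
  haveI := normal_Cx H hx hy
  have hay : a * y * a⁻¹ ∈ C y := by
    have := hnorm y (self_mem_C y)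
    rw [e] at this
    have eq : a * b * y * (a * b)⁻¹ = a * y * a⁻¹ := by
      calc a * b * y * (a * b)⁻¹ = a * (b * y) * b⁻¹ * a⁻¹ := by group
        _ = a * (y * b) * b⁻¹ * a⁻¹ := by rw [mem_C.1 hb]
        _ = a * y * a⁻¹ := by group
    rwa [eq] at this
  have hyn : y ∉ center G := fun h => by
    have : cl y = 1 := by rw [cl, central_iff_C.1 h, Subgroup.index_top]
    have := H.hmn; have := H.hn; omega
  set z := y⁻¹ * (a * y * a⁻¹) with hzdef
  have hzC : z ∈ center G := by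
    rw [← inf_eq_center H hx hy]
    refine Subgroup.mem_inf.2 ⟨?_, mul_mem (inv_mem (self_mem_C y)) hay⟩
    rw [hzdef, show y⁻¹ * (a * y * a⁻¹) = (y⁻¹ * a * y) * a⁻¹ by group]
    exact mul_mem (by simpa using (normal_Cx H hx hy).conj_mem a ha y⁻¹) (inv_mem ha)
  have h1 : a * y * a⁻¹ = y * z := by rw [hzdef, mul_inv_cancel_left]
  -- conjugation by `a` has order dividing `m` and `y ^ n` is central
  have h2 : y ^ n ∈ center G := relIndex_Cy H hx hy ▸ pow_relIndex_mem (self_mem_C y)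
  have h3 : z ^ n = 1 := by
    have h4 : (a * y * a⁻¹) ^ n = y ^ n * z ^ n := by
      rw [h1, Commute.mul_pow (Subgroup.mem_center_iff.1 hzC y)]
    rw [conj_pow, Subgroup.mem_center_iff.1 h2 a, mul_inv_cancel_right] at h4
    exact (mul_eq_left).1 h4.symm
  have h5 : z ^ m = 1 := by
    have hpow : ∀ k : ℕ, a ^ k * y * (a ^ k)⁻¹ = y * z ^ k := by
      intro k
      induction k with
      | zero => simp
      | succ k ih =>
        have e' : a * z ^ k * a⁻¹ = z ^ k := by
          rw [Subgroup.mem_center_iff.1 (pow_mem hzC k) a, mul_inv_cancel_right]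
        calc a ^ (k + 1) * y * (a ^ (k + 1))⁻¹ = a * (a ^ k * y * (a ^ k)⁻¹) * a⁻¹ := by
              rw [pow_succ']; group
          _ = (a * y * a⁻¹) * (a * z ^ k * a⁻¹) := by rw [ih]; group
          _ = y * z ^ (k + 1) := by rw [h1, e', pow_succ', mul_assoc]
    have h6 := hpow m
    have h7 : a ^ m ∈ center G := relIndex_Cx H hx hy ▸ pow_relIndex_mem ha
    rw [← Subgroup.mem_center_iff.1 h7 y, mul_inv_cancel_right] at h6
    exact (mul_eq_left).1 h6.symm
  have hz1 := pow_gcd_eq_one.2 ⟨h5, h3⟩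
  rw [H.hcop, pow_one] at hz1
  rw [hz1, mul_one, mul_inv_eq_iff_eq_mul] at h1
  rw [e]
  exact mul_mem (mem_C.2 h1) hb

end finite

end Cfsg.Agent.CoprimeTopClasses
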