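import Cfsg.Agent.Lib.KGroups.M11Local

/-!
# The principal 11-block of a simple group of order 7920
-/

set_option autoImplicit false

namespace CfsgLib.KGroups.M11Block

open Cfsg CfsgLib.Blocks CfsgLib.KGroups.M11Tools CfsgLib.KGroups.M11Local Subgroup
open CfsgLib.SmallGroups
open scoped Classical

variable {G : Type*} [Group G] [Fintype G] [IsSimpleGroup G] (hG : Nat.card G = 7920)

theorem three_values {α : Type*} (s : Finset α) (f : α → ℤ) {a b c : ℤ}
    (hab : a ≠ b) (hac : a ≠ c) (hbc : b ≠ c) (h : ∀ x ∈ s, f x = a ∨ f x = b ∨ f x = c) :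
    (s.filter fun x => f x = a).card + (s.filter fun x => f x = b).card + (s.filter fun x => f x = c).card =
        s.card ∧
      ∀ g : ℤ → ℤ, ∑ x ∈ s, g (f x) = (s.filter fun x => f x = a).card * g a +
        (s.filter fun x => f x = b).card * g b + (s.filter fun x => f x = c).card * g c := by
  constructor
  · induction s using Finset.induction_on with
    | empty => simp
    | insert y s hy ih =>
      have ih' := ih fun x hx => h x (Finset.mem_insert_of_mem hx)
      rw [Finset.filter_insert, Finset.filter_insert, Finset.filter_insert, Finset.card_insert_of_notMem hy]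
      rcases h y (Finset.mem_insert_self y s) with e | e | e <;>
        simp [e, hab, hac, hbc, hab.symm, hac.symm, hbc.symm, Finset.card_insert_of_notMem, hy] <;> omega
  · intro g
    induction s using Finset.induction_on with
    | empty => simp
    | insert y s hy ih =>
      have ih' := ih fun x hx => h x (Finset.mem_insert_of_mem hx)
      rw [Finset.filter_insert, Finset.filter_insert, Finset.filter_insert, Finset.sum_insert hy, ih']
      rcases h y (Finset.mem_insert_self y s) with e | e | e <;>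
        simp [e, hab, hac, hbc, hab.symm, hac.symm, hbc.symm, Finset.card_insert_of_notMem, hy] <;> ring

theorem four_signed {a b c : ℕ} (h : a + b + c = 4) {y : ℕ} {s : ℤ} (hs : s = 1 ∨ s = -1)
    (heq : s * (y : ℤ) = 1 + 12 * a + 45 * b - 10 * c) (hy : y ∣ 7920)
    (hsq : 1 + 144 * a + 2025 * b + 100 * c + 2 * y ^ 2 ≤ 7920) :
    (a = 2 ∧ b = 0 ∧ c = 2 ∧ y = 5) ∨ (a = 0 ∧ b = 1 ∧ c = 3 ∧ y = 16 ∧ s = 1) := by
  have key : ∀ a ∈ Finset.range 5, ∀ b ∈ Finset.range 5, a + b ≤ 4 →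
      ((1 : ℤ) + 12 * a + 45 * b - 10 * ((4 - a - b : ℕ) : ℤ)).natAbs ∣ 7920 →
      1 + 144 * a + 2025 * b + 100 * (4 - a - b) +
          2 * ((1 : ℤ) + 12 * a + 45 * b - 10 * ((4 - a - b : ℕ) : ℤ)).natAbs ^ 2 ≤ 7920 →
      (a = 2 ∧ b = 0) ∨ (a = 0 ∧ b = 1) := by
    decide
  obtain rfl : c = 4 - a - b := by omega
  have hyv : ((1 : ℤ) + 12 * a + 45 * b - 10 * ((4 - a - b : ℕ) : ℤ)).natAbs = y := by
    rw [← heq]
    rcases hs with rfl | rfl <;> simp
  rcases key a (Finset.mem_range.mpr (by omega)) b (Finset.mem_range.mpr (by omega)) (by omega)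
    (hyv.symm ▸ hy) (by rw [hyv]; exact hsq) with ⟨rfl, rfl⟩ | ⟨rfl, rfl⟩
  · refine Or.inl ⟨rfl, rfl, rfl, ?_⟩
    rw [← hyv]; rfl
  · obtain rfl : y = 16 := by rw [← hyv]; rfl
    refine Or.inr ⟨rfl, rfl, rfl, rfl, ?_⟩
    rcases hs with rfl | rfl
    · rfl
    · norm_num at heq

/-- The principal 11-block. -/
structure Data (G : Type*) [Group G] [Fintype G] where
  X : Finset (IrrCharacter G)
  Y : Finset (IrrCharacter G)
  sgn : IrrCharacter G → ℤ
  εy : ℤ
  htriv : trivChar G ∈ X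
  hεt : sgn (trivChar G) = 1
  hdisj : Disjoint X Y
  hX : X.card = 5
  hY : Y.card = 2
  hdeg : ∀ χ ∈ X.erase (trivChar G),
    (sgn χ = 1 ∧ charDegree (χ : G → ℂ) = 12) ∨ (sgn χ = 1 ∧ charDegree (χ : G → ℂ) = 45) ∨
      (sgn χ = -1 ∧ charDegree (χ : G → ℂ) = 10)
  hcases : (∀ θ ∈ Y, charDegree (θ : G → ℂ) = 5) ∧
        ((X.erase (trivChar G)).filter fun χ : IrrCharacter G => charDegree (χ : G → ℂ) = 12).card = 2 ∧
        ((X.erase (trivChar G)).filter fun χ : IrrCharacter G => charDegree (χ : G → ℂ) = 45).card = 0 ∨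
      (∀ θ ∈ Y, charDegree (θ : G → ℂ) = 16) ∧ εy = 1 ∧
        ((X.erase (trivChar G)).filter fun χ : IrrCharacter G => charDegree (χ : G → ℂ) = 12).card = 0 ∧
        ((X.erase (trivChar G)).filter fun χ : IrrCharacter G => charDegree (χ : G → ℂ) = 45).card = 1
  hagree : ∀ θ ∈ Y, ∀ θ' ∈ Y, ∀ g : G, ¬ 11 ∣ orderOf g → (θ : G → ℂ) g = (θ' : G → ℂ) g
  hrel : ∀ θ ∈ Y, ∀ g : G, ¬ 11 ∣ orderOf g →
    (εy : ℂ) * (θ : G → ℂ) g = ∑ χ ∈ X, (sgn χ : ℂ) * (χ : G → ℂ) g
  hrest : ∀ χ, χ ∉ X → χ ∉ Y → 11 ∣ charDegree (χ : G → ℂ)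

include hG in
theorem exists_data : Nonempty (Data G) := by
  haveI : Fact (Nat.Prime 11) := ⟨by norm_num⟩
  have hna := not_comm hG
  obtain ⟨P⟩ : Nonempty (Sylow 11 G) := inferInstance
  have hP := card_sylow_eleven hG P
  obtain ⟨hN, hC⟩ := normalizer_eleven hG P
  obtain ⟨M, hM⟩ := DegreeTools.TISum.exists_pmodular (show Nat.Prime 11 by norm_num)
  obtain ⟨X, Y, εX, ε, hB, hdisj, hX, hY, hXp, hε, hYd, hYeq, hrel⟩ :=
    PrimeOrder.principal_block hM (by norm_num) P hP
  rw [autCard_of P (e := 5) (by rw [hN, hC])] at hX hY hYd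
  obtain ⟨x, hxP, hx, hzp⟩ := PrimeOrder.exists_generator P hP
  have htriv : trivChar G ∈ X := by
    refine ((hB _).1 (trivChar_mem_principalBlock hM)).resolve_right fun h => ?_
    have h1 := hYd _ h
    rw [show charDegree ((trivChar G : IrrCharacter G) : G → ℂ) = 1 by simp [charDegree]] at h1
    rcases hε with rfl | rfl <;> simp [Int.modEq_iff_dvd] at h1
  have hxi : ∀ i ∈ Finset.Ico 1 11, ∀ χ ∈ X, (χ : G → ℂ) (x ^ i) = (εX χ : ℂ) := by
    intro i hi χ hχ
    have hi' : ¬ 11 ∣ i := fun h => by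
      have := Finset.mem_Ico.mp hi
      exact absurd (Nat.le_of_dvd (by omega) h) (by omega)
    refine (hXp χ hχ).2.2 _ _ ⟨1, mul_one _, Commute.one_right _,
      ⟨1, by rw [orderOf_pow_prime (by norm_num) hx hi', pow_one]⟩, by rw [orderOf_one]; norm_num⟩
      (pow_mem hxP i) (pow_ne_one_of_not_dvd hx hi')
  have hεt : εX (trivChar G) = 1 := by
    have h := hxi 1 (by simp) _ htriv
    rw [trivChar_apply] at h
    exact_mod_cast h.symm
  set X' := X.erase (trivChar G) with hX'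
  have hX'card : X'.card = 4 := by rw [hX', Finset.card_erase_of_mem htriv, hX]
  have hdeg : ∀ χ ∈ X', (εX χ = 1 ∧ charDegree (χ : G → ℂ) = 12) ∨ (εX χ = 1 ∧ charDegree (χ : G → ℂ) = 45) ∨
      (εX χ = -1 ∧ charDegree (χ : G → ℂ) = 10) := by
    intro χ hχ
    obtain ⟨hne, hχX⟩ := Finset.mem_erase.mp hχ
    obtain ⟨hs, hmod, -⟩ := hXp χ hχX
    have h2 : 2 ≤ charDegree (χ : G → ℂ) := by
      have := charDegree_pos χ
      have : charDegree (χ : G → ℂ) ≠ 1 := fun h => hne (BlockDegrees.eq_trivChar hna χ h)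
      omega
    obtain ⟨hsm, hsn⟩ := mem_block_small h2 (deg_le hG χ) (hG ▸ charDegree_dvd χ)
    rcases hs with h | h <;> rw [h, Int.ModEq] at hmod
    · rcases hsm (by omega) with h' | h'
      · exact Or.inl ⟨h, h'⟩
      · exact Or.inr (Or.inl ⟨h, h'⟩)
    · exact Or.inr (Or.inr ⟨h, hsn (by omega)⟩)
  set a := (X'.filter fun χ : IrrCharacter G => charDegree (χ : G → ℂ) = 12).card with ha
  set b := (X'.filter fun χ : IrrCharacter G => charDegree (χ : G → ℂ) = 45).card with hb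
  set c := (X'.filter fun χ : IrrCharacter G => charDegree (χ : G → ℂ) = 10).card with hc
  obtain ⟨h3, h3g⟩ := three_values X' (fun χ : IrrCharacter G => (charDegree (χ : G → ℂ) : ℤ)) (a := 12) (b := 45) (c := 10)
    (by norm_num) (by norm_num) (by norm_num) (fun χ hχ => by
      rcases hdeg χ hχ with ⟨-, h⟩ | ⟨-, h⟩ | ⟨-, h⟩ <;> simp [h])
  simp only [Nat.cast_inj, show (12 : ℤ) = ((12 : ℕ) : ℤ) from rfl, show (45 : ℤ) = ((45 : ℕ) : ℤ) from rfl,
    show (10 : ℤ) = ((10 : ℕ) : ℤ) from rfl] at h3 h3g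
  rw [← ha, ← hb, ← hc, hX'card] at h3
  rw [← ha, ← hb, ← hc] at h3g
  have hsum1 : ∑ χ ∈ X', εX χ * (charDegree (χ : G → ℂ) : ℤ) = 12 * a + 45 * b - 10 * c := by
    rw [Finset.sum_congr rfl (g := fun χ : IrrCharacter G => (fun d : ℤ => if d = 10 then -d else d) (charDegree (χ : G → ℂ) : ℤ))
      fun χ hχ => by rcases hdeg χ hχ with ⟨e, h⟩ | ⟨e, h⟩ | ⟨e, h⟩ <;> simp [e, h]]
    rw [h3g (fun d : ℤ => if d = 10 then -d else d)]; norm_num; ring
  have hsum2 : ∑ χ ∈ X', (charDegree (χ : G → ℂ) : ℤ) ^ 2 = 144 * a + 2025 * b + 100 * c := by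
    rw [h3g (fun d => d ^ 2)]; norm_num; ring
  obtain ⟨θ, hθ⟩ : Y.Nonempty := Finset.card_pos.1 (by rw [hY]; norm_num)
  have hθeq : ∀ η ∈ Y, charDegree (η : G → ℂ) = charDegree (θ : G → ℂ) := fun η hη => by
    have := hYeq η hη θ hθ 1 (by rw [orderOf_one]; norm_num)
    rw [irr_one_eq, irr_one_eq, Nat.cast_inj] at this
    exact this
  have hy : ε * (charDegree (θ : G → ℂ) : ℤ) = 1 + 12 * a + 45 * b - 10 * c := by
    have hr := hrel θ hθ 1 (by rw [orderOf_one]; norm_num)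
    rw [← Finset.add_sum_erase _ _ htriv, hεt, ← hX'] at hr
    simp only [irr_one_eq, trivChar_apply, Int.cast_one, mul_one] at hr
    have : ε * (charDegree (θ : G → ℂ) : ℤ) =
        1 + ∑ χ ∈ X', εX χ * (charDegree (χ : G → ℂ) : ℤ) := by exact_mod_cast hr
    rw [this, hsum1]; ring
  have hsq : 1 + 144 * a + 2025 * b + 100 * c + 2 * charDegree (θ : G → ℂ) ^ 2 ≤ 7920 := by
    have h1 : ∑ η ∈ X ∪ Y, (charDegree (η : G → ℂ) : ℤ) ^ 2 ≤ ∑ η : IrrCharacter G, (charDegree (η : G → ℂ) : ℤ) ^ 2 :=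
      Finset.sum_le_sum_of_subset_of_nonneg (Finset.subset_univ _) fun _ _ _ => sq_nonneg _
    rw [Finset.sum_union hdisj, ← Finset.add_sum_erase _ _ htriv, ← hX', hsum2,
      Finset.sum_congr rfl (g := fun _ => (charDegree (θ : G → ℂ) : ℤ) ^ 2) fun η hη => by rw [hθeq η hη],
      Finset.sum_const, hY, show ∑ η : IrrCharacter G, (charDegree (η : G → ℂ) : ℤ) ^ 2 = 7920 by
        exact_mod_cast (sum_deg_sq (G := G)).trans hG] at h1
    rw [show charDegree ((trivChar G : IrrCharacter G) : G → ℂ) = 1 by simp [charDegree]] at h1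
    generalize charDegree (θ : G → ℂ) = y at h1
    simp only [nsmul_eq_mul] at h1
    push_cast at h1
    zify
    linarith
  refine ⟨⟨X, Y, εX, ε, htriv, hεt, hdisj, hX, by rw [hY], hdeg, ?_, hYeq, hrel, fun χ hχX hχY => ?_⟩⟩
  · rcases four_signed h3 hε hy (hG ▸ charDegree_dvd θ) hsq with ⟨e1, e2, -, e4⟩ | ⟨e1, e2, -, e4, e5⟩
    · exact Or.inl ⟨fun η hη => (hθeq η hη).trans e4, e1, e2⟩
    · exact Or.inr ⟨fun η hη => (hθeq η hη).trans e4, e5, e1, e2⟩
  · -- the other characters have full defect zero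
    set S : IrrCharacter G → ℝ := fun η => ∑ i ∈ Finset.Ico 1 11, ‖(η : G → ℂ) (x ^ i)‖ ^ 2 with hS
    have htot : ∑ η : IrrCharacter G, S η = 110 := by
      rw [hS, Finset.sum_comm, Finset.sum_congr rfl (g := fun _ => (11 : ℝ)) fun i hi => ?_]
      · simp; norm_num
      · have hi' : ¬ 11 ∣ i := fun h => by
          have := Finset.mem_Ico.mp hi
          exact absurd (Nat.le_of_dvd (by omega) h) (by omega)
        rw [sum_norm_sq_column]
        have hz : zpowers (x ^ i) = (P : Subgroup G) :=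
          PrimeOrder.zpowers_eq P hP (pow_mem hxP i) (pow_ne_one_of_not_dvd hx hi')
        rw [← Subgroup.centralizer_closure, ← zpowers_eq_closure, hz, hC]
        norm_num
    have hXS : ∀ η ∈ X, S η = 10 := fun η hη => by
      simp only [hS]
      rw [Finset.sum_congr rfl (g := fun _ => (1 : ℝ)) fun i hi => by
        rcases (hXp η hη).1 with e | e <;> rw [hxi i hi η hη, e] <;> norm_num]
      simp
    have hYS : ∀ η ∈ Y, 30 ≤ S η := fun η hη => by
      refine le_trans (le_of_eq ?_) (norm_sum_lower η (by norm_num) hx)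
      rw [hθeq η hη]
      rcases four_signed h3 hε hy (hG ▸ charDegree_dvd θ) hsq with ⟨-, -, -, e4⟩ | ⟨-, -, -, e4, -⟩ <;>
        rw [e4] <;> norm_num
    have hle : ∑ η ∈ insert χ (X ∪ Y), S η ≤ 110 :=
      htot ▸ Finset.sum_le_sum_of_subset_of_nonneg (Finset.subset_univ _) fun η _ _ =>
        Finset.sum_nonneg fun i _ => sq_nonneg _
    rw [Finset.sum_insert (by simp [hχX, hχY]), Finset.sum_union hdisj, Finset.sum_congr rfl hXS,
      Finset.sum_const, hX] at hle
    have h60 : (60 : ℝ) ≤ ∑ η ∈ Y, S η := by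
      refine le_trans (le_of_eq ?_) (Finset.sum_le_sum hYS)
      rw [Finset.sum_const, hY]; norm_num
    have hχS : (((charDegree (χ : G → ℂ) % 11 * (11 - charDegree (χ : G → ℂ) % 11) : ℕ)) : ℝ) ≤ S χ :=
      norm_sum_lower χ (by norm_num) hx
    have h0 : charDegree (χ : G → ℂ) % 11 * (11 - charDegree (χ : G → ℂ) % 11) = 0 := by
      have h' : (((charDegree (χ : G → ℂ) % 11 * (11 - charDegree (χ : G → ℂ) % 11) : ℕ)) : ℝ) ≤ 0 := by
        simp only [nsmul_eq_mul] at hle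
        push_cast at hle
        push_cast at hχS ⊢
        linarith
      exact Nat.eq_zero_of_le_zero (by exact_mod_cast h')
    rcases Nat.mul_eq_zero.mp h0 with h | h
    · exact Nat.dvd_of_mod_eq_zero h
    · have := Nat.mod_lt (charDegree (χ : G → ℂ)) (show 11 > 0 by norm_num)
      omega

end CfsgLib.KGroups.M11Block
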