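import Cfsg.Agent.Lib.KGroups.M11Unique

/-!
# A group of order 7920 with the element order counts of `M₁₁` is simple
-/

set_option autoImplicit false

namespace CfsgLib.KGroups.M11Census

open Cfsg CfsgLib.KGroups.M11Chars CfsgLib.KGroups.M11Values CfsgLib.KGroups.M11Classes Subgroup
open scoped Classical Pointwise

theorem card_order_prime {G : Type*} [Group G] [Finite G] {p : ℕ} [Fact p.Prime]
    (h : ∀ P : Sylow p G, Nat.card (P : Subgroup G) = p) :
    Nat.card {g : G // orderOf g = p} = Nat.card (Sylow p G) * (p - 1) := by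
  have hp := (Fact.out : p.Prime)
  cases nonempty_fintype G
  have hord : ∀ (P : Sylow p G) (q : ↥(P : Subgroup G)), q ≠ 1 → orderOf (q : G) = p := fun P q hq => by
    rw [Subgroup.orderOf_coe]
    have hh := pow_card_eq_one' (x := q)
    rw [h P] at hh
    exact orderOf_eq_prime hh hq
  let f : (Σ P : Sylow p G, {q : ↥(P : Subgroup G) // q ≠ 1}) → {g : G // orderOf g = p} :=
    fun s => ⟨(s.2.1 : G), hord s.1 s.2.1 s.2.2⟩
  have hz : ∀ (P : Sylow p G) (g : G), g ∈ (P : Subgroup G) → orderOf g = p → zpowers g = (P : Subgroup G) :=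
    fun P g hg ho => Subgroup.eq_of_le_of_card_ge (zpowers_le.mpr hg) (by rw [h P, Nat.card_zpowers, ho])
  have hf : Function.Bijective f := by
    constructor
    · rintro ⟨P, ⟨q, hq⟩, hq1⟩ ⟨P', ⟨q', hq'⟩, hq1'⟩ hs
      have e : q = q' := congrArg Subtype.val hs
      subst e
      have hP : P = P' := Sylow.ext ((hz P q hq (hord P ⟨q, hq⟩ hq1)).symm.trans (hz P' q hq' (hord P ⟨q, hq⟩ hq1)))
      subst hP
      rfl
    · rintro ⟨g, hg⟩
      obtain ⟨P, hP⟩ := (IsPGroup.of_card (n := 1) (by rw [Nat.card_zpowers, hg, pow_one]) :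
        IsPGroup p ↥(zpowers g)).exists_le_sylow
      exact ⟨⟨P, ⟨g, hP (mem_zpowers g)⟩, fun hh => by
        have : g = 1 := congrArg Subtype.val hh
        rw [this, orderOf_one] at hg
        exact hp.one_lt.ne hg⟩, rfl⟩
  rw [← Nat.card_eq_of_bijective f hf, Nat.card_sigma,
    Finset.sum_congr rfl (g := fun _ => p - 1) fun P _ => ?_, Finset.sum_const, Finset.card_univ,
    ← Nat.card_eq_fintype_card, smul_eq_mul]
  rw [Nat.card_eq_fintype_card, Fintype.card_subtype_compl, Fintype.card_subtype_eq, ← Nat.card_eq_fintype_card, h P]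

section Counts

variable {G : Type*} [Group G] [Fintype G] [IsSimpleGroup G] (hG : Nat.card G = 7920)

omit [IsSimpleGroup G] in
theorem dvd_count {n d : ℕ} (h : ∀ g : G, orderOf g = n → d ∣ (centralizer ({g} : Set G)).index) :
    d ∣ Nat.card {g : G // orderOf g = n} := by
  rw [Nat.card_eq_fintype_card, Fintype.card_subtype,
    Finset.card_eq_sum_card_fiberwise (f := ConjClasses.mk) (t := Finset.univ) (fun _ _ => Finset.mem_univ _)]
  refine Finset.dvd_sum fun c _ => ?_
  obtain ⟨g, rfl⟩ := ConjClasses.mk_surjective c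
  by_cases hg : orderOf g = n
  · have he : ((Finset.univ.filter fun x : G => orderOf x = n).filter fun x => ConjClasses.mk x = ConjClasses.mk g) =
        Finset.univ.filter fun x : G => ConjClasses.mk x = ConjClasses.mk g := by
      ext x
      simp only [Finset.mem_filter, Finset.mem_univ, true_and, and_iff_right_iff_imp]
      exact fun hx => (orderOf_of_isConj (ConjClasses.mk_eq_mk_iff_isConj.mp hx)).trans hg
    rw [he, show (Finset.univ.filter fun x : G => ConjClasses.mk x = ConjClasses.mk g).card = _ from classSize_mk g]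
    exact h g hg
  · rw [Finset.card_eq_zero.mpr (Finset.filter_eq_empty_iff.mpr fun x hx hx' => hg ?_)]
    · exact dvd_zero d
    · rw [← orderOf_of_isConj (ConjClasses.mk_eq_mk_iff_isConj.mp hx')]
      exact (Finset.mem_filter.mp hx).2

include hG in
theorem counts_avoid {c : ℕ} (hc : 0 < c) {n : ℕ} (hn : c = Nat.card {g : G // orderOf g = n}) :
    c ∉ ({4, 10, 120, 450} : Finset ℕ) := by
  obtain ⟨K⟩ := exists_chars hG
  have hpos : 0 < Nat.card {g : G // orderOf g = n} := hn ▸ hc
  obtain ⟨⟨g0, hg0⟩⟩ := (Nat.card_pos_iff.mp hpos).1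
  have hdiv : n ∣ 7920 := hg0 ▸ hG ▸ orderOf_dvd_natCard g0
  by_cases h1 : n = 1
  · have : c = 1 := by
      rw [hn, h1, Nat.card_eq_one_iff_unique]
      exact ⟨⟨fun a b => Subtype.ext ((orderOf_eq_one_iff.mp a.2).trans (orderOf_eq_one_iff.mp b.2).symm)⟩,
        ⟨⟨1, orderOf_one⟩⟩⟩
    rw [this]; decide
  obtain ⟨r, hr, hrn⟩ := Nat.exists_prime_and_dvd h1
  have hr4 : r = 2 ∨ r = 3 ∨ r = 5 ∨ r = 11 := by
    have hd : r ∣ 2 ^ 4 * 3 ^ 2 * 5 * 11 := hrn.trans hdiv
    rcases (Nat.Prime.dvd_mul hr).mp hd with h | h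
    · rcases (Nat.Prime.dvd_mul hr).mp h with h | h
      · rcases (Nat.Prime.dvd_mul hr).mp h with h | h
        · exact Or.inl ((Nat.prime_dvd_prime_iff_eq hr Nat.prime_two).mp (hr.dvd_of_dvd_pow h))
        · exact Or.inr (Or.inl ((Nat.prime_dvd_prime_iff_eq hr Nat.prime_three).mp (hr.dvd_of_dvd_pow h)))
      · exact Or.inr (Or.inr (Or.inl ((Nat.prime_dvd_prime_iff_eq hr (by norm_num)).mp h)))
    · exact Or.inr (Or.inr (Or.inr ((Nat.prime_dvd_prime_iff_eq hr (by norm_num)).mp h)))
  have hn0 : n ≠ 0 := fun h => by rw [h] at hdiv; norm_num at hdiv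
  have key : ∃ d : ℕ, (d = 165 ∨ d = 440 ∨ d = 1584 ∨ d = 720) ∧
      ∀ g : G, orderOf g = n → d ∣ (centralizer ({g} : Set G)).index := by
    obtain ⟨C, d, hd, hCd, hC⟩ : ∃ C d : ℕ, (d = 165 ∨ d = 440 ∨ d = 1584 ∨ d = 720) ∧ d * C = 7920 ∧
        ∀ u : G, orderOf u = r → Nat.card (centralizer ({u} : Set G)) = C := by
      rcases hr4 with rfl | rfl | rfl | rfl
      · exact ⟨48, 165, Or.inl rfl, rfl, fun u hu => centralizer_two_eq hG K hu⟩
      · exact ⟨18, 440, Or.inr (Or.inl rfl), rfl, fun u hu => centralizer_three hG K hu⟩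
      · exact ⟨5, 1584, Or.inr (Or.inr (Or.inl rfl)), rfl, fun u hu => K.five u hu⟩
      · exact ⟨11, 720, Or.inr (Or.inr (Or.inr rfl)), rfl, fun u hu => (eleven_data hG hu).2⟩
    refine ⟨d, hd, fun g hg => ?_⟩
    have hu : orderOf (g ^ (n / r)) = r := by
      have he : orderOf g / (n / r) = r := by rw [hg]; exact Nat.div_div_self hrn hn0
      rw [orderOf_pow_of_dvd (fun h => by
        have := Nat.div_mul_cancel hrn; rw [h, zero_mul] at this; exact hn0 this.symm)
        (by rw [hg]; exact Nat.div_dvd_of_dvd hrn), he]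
    have hle : centralizer ({g} : Set G) ≤ centralizer ({g ^ (n / r)} : Set G) := fun a ha =>
      mem_centralizer_singleton_iff.mpr
        ((Commute.pow_right (mem_centralizer_singleton_iff.mp ha : Commute a g) (n / r)).eq)
    have hi : (centralizer ({g ^ (n / r)} : Set G)).index = d := by
      have h := index_mul hG (g ^ (n / r))
      rw [hC _ hu, ← hCd] at h
      refine Nat.eq_of_mul_eq_mul_right ?_ h
      rcases Nat.eq_zero_or_pos C with h0 | h0
      · rw [h0, mul_zero] at hCd; norm_num at hCd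
      · exact h0
    exact hi ▸ Subgroup.index_dvd_of_le hle
  obtain ⟨d, hd, hdd⟩ := key
  have hdc : d ∣ c := hn ▸ dvd_count hdd
  simp only [Finset.mem_insert, Finset.mem_singleton]
  rintro (rfl | rfl | rfl | rfl) <;> rcases hd with rfl | rfl | rfl | rfl <;> norm_num at hdc

end Counts

theorem isSimple {G : Type*} [Group G] [Finite G] (hG : Nat.card G = 7920)
    (h4 : ∀ n : ℕ, Nat.card {g : G // orderOf g = n} ≠ 4 ∧ Nat.card {g : G // orderOf g = n} ≠ 10 ∧
      Nat.card {g : G // orderOf g = n} ≠ 120 ∧ Nat.card {g : G // orderOf g = n} ≠ 450) :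
    IsSimpleGroup G := by
  have : Fact (Nat.Prime 11) := ⟨by norm_num⟩
  have h5f : Fact (Nat.Prime 5) := ⟨by norm_num⟩
  cases nonempty_fintype G
  have hP11 : ∀ P : Sylow 11 G, Nat.card (P : Subgroup G) = 11 := fun P => by
    have := CfsgLib.SmallGroups.SimpleTools.card_sylow_subgroup (k := 1) (m := 720) (by rw [hG]; norm_num)
      (by norm_num) P
    simpa using this
  have hn11 : Nat.card (Sylow 11 G) = 144 := by
    have hc := card_order_prime hP11
    have hmod := card_sylow_modEq_one 11 G
    obtain ⟨P⟩ : Nonempty (Sylow 11 G) := inferInstance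
    have hdvd := P.card_dvd_index
    have hi := (P : Subgroup G).index_mul_card
    rw [hP11 P, hG] at hi
    rw [show (P : Subgroup G).index = 720 by omega] at hdvd
    have key : ∀ k ∈ Finset.range 721, 720 % k = 0 → k % 11 = 1 → k = 1 ∨ k = 12 ∨ k = 45 ∨ k = 144 := by
      decide +kernel
    obtain ⟨-, e10, e120, e450⟩ := h4 11
    rcases key _ (Finset.mem_range.mpr (Nat.lt_succ_of_le (Nat.le_of_dvd (by norm_num) hdvd)))
      (Nat.mod_eq_zero_of_dvd hdvd) hmod with h | h | h | h <;> rw [h] at hc <;> omega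
  have hN55 : ∀ P : Sylow 11 G, Nat.card (normalizer ((P : Subgroup G) : Set G)) = 55 := fun P => by
    have h := (normalizer ((P : Subgroup G) : Set G)).index_mul_card
    have hi := P.card_eq_index_normalizer
    rw [hn11, ← Sylow.coe_coe] at hi
    rw [← hi, hG] at h
    omega
  -- a normal subgroup of order prime to 11 is trivial
  have small : ∀ N : Subgroup G, N.Normal → ¬ 11 ∣ Nat.card N → N = ⊥ := by
    intro N hN h11
    by_contra hbot
    obtain ⟨P⟩ : Nonempty (Sylow 11 G) := inferInstance
    have hNd : Nat.card N ∣ 7920 := hG ▸ card_subgroup_dvd_card N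
    by_cases h23 : ∃ q, (q = 2 ∨ q = 3) ∧ q ∣ Nat.card N
    · obtain ⟨q, hq23, hq⟩ := h23
      have hqf : Fact q.Prime := ⟨by rcases hq23 with rfl | rfl <;> norm_num⟩
      obtain ⟨S⟩ : Nonempty (Sylow q N) := inferInstance
      -- `P` normalises a Sylow subgroup of `N`
      let : MulAction (P : Subgroup G) (Sylow q N) :=
        MulAction.compHom (Sylow q N) ((MulAut.conjNormal (H := N)).comp (P : Subgroup G).subtype)
      have hnS : ¬ 11 ∣ Nat.card (Sylow q N) := fun h => by
        have h1 := h.trans (Sylow.card_dvd_index S)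
        exact h11 (h1.trans (Subgroup.index_dvd_card _))
      obtain ⟨S₀, hS₀⟩ : (MulAction.fixedPoints (P : Subgroup G) (Sylow q N)).Nonempty :=
        P.isPGroup'.nonempty_fixed_point_of_prime_not_dvd_card _ hnS
      set S' : Subgroup G := (S₀ : Subgroup N).map N.subtype with hS'
      have hSP : ∀ x ∈ (P : Subgroup G), ∀ s ∈ S', x * s * x⁻¹ ∈ S' := by
        rintro x hx _ ⟨⟨s, hsN⟩, hs, rfl⟩
        have hfix : ((⟨x, hx⟩ : (P : Subgroup G)) • S₀ : Sylow q N) = S₀ := hS₀ ⟨x, hx⟩
        refine ⟨⟨x * s * x⁻¹, hN.conj_mem s hsN x⟩, ?_, rfl⟩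
        rw [← hfix]
        exact ⟨⟨s, hsN⟩, hs, Subtype.ext rfl⟩
      have hS'c : Nat.card S' = Nat.card (S₀ : Subgroup N) :=
        (Nat.card_congr ((S₀ : Subgroup N).equivMapOfInjective _ (Subgroup.subtype_injective _)).toEquiv).symm
      let σ : (P : Subgroup G) →* Equiv.Perm S' :=
        { toFun := fun x =>
            { toFun := fun s => ⟨(x : G) * s * (x : G)⁻¹, hSP x x.2 s s.2⟩
              invFun := fun s => ⟨(x : G)⁻¹ * s * x, by
                simpa using hSP _ (inv_mem x.2) s s.2⟩
              left_inv := fun s => Subtype.ext (by simp [mul_assoc])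
              right_inv := fun s => Subtype.ext (by simp [mul_assoc]) }
          map_one' := by ext s; simp
          map_mul' := fun x y => by ext s; simp [mul_assoc] }
      letI : MulAction (P : Subgroup G) S' := MulAction.compHom S' σ
      have hmod := P.isPGroup'.card_modEq_card_fixedPoints S'
      have hfix : MulAction.fixedPoints (P : Subgroup G) S' = {1} := by
        ext ⟨s, hs⟩
        constructor
        · intro h
          refine Subtype.ext (show s = 1 from ?_)
          have hcomm : ∀ x ∈ (P : Subgroup G), x * s * x⁻¹ = s := fun x hx => congrArg Subtype.val (h ⟨x, hx⟩)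
          have hsN : s ∈ normalizer ((P : Subgroup G) : Set G) := by
            rw [mem_normalizer_iff]
            intro x
            constructor
            · intro hx
              have e : s * x * s⁻¹ = x := by
                rw [← mul_inv_eq_iff_eq_mul.mp (hcomm x hx), mul_inv_cancel_right]
              rwa [e]
            · intro hx
              have := hcomm _ hx
              have e : s * x * s⁻¹ = x := by
                have h2 : s * x * s⁻¹ * s = s * (s * x * s⁻¹) := mul_inv_eq_iff_eq_mul.mp this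
                rw [inv_mul_cancel_right, mul_right_inj] at h2
                exact h2.symm
              rwa [← e]
          have hd := Subgroup.orderOf_dvd_natCard _ hsN
          rw [hN55 P] at hd
          have hd2 := Subgroup.orderOf_dvd_natCard S' hs
          obtain ⟨k, hk⟩ := IsPGroup.iff_card.mp S₀.isPGroup'
          rw [hS'c, hk] at hd2
          refine orderOf_eq_one_iff.mp (Nat.eq_one_of_dvd_one ?_)
          have hco : Nat.Coprime (q ^ k) 55 := Nat.Coprime.pow_left _ (by rcases hq23 with rfl | rfl <;> norm_num)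
          exact hco ▸ Nat.dvd_gcd hd2 hd
        · intro h x
          rw [Set.mem_singleton_iff] at h
          rw [h]
          exact Subtype.ext (show (x : G) * 1 * (x : G)⁻¹ = 1 by simp)
      rw [hfix, show Nat.card ({1} : Set S') = 1 from Nat.card_unique] at hmod
      have hS'd : Nat.card S' ∣ 7920 := hG ▸ card_subgroup_dvd_card S'
      obtain ⟨k, hk⟩ := IsPGroup.iff_card.mp S₀.isPGroup'
      have hk1 : 1 ≤ k := by
        by_contra h0
        have hS0c : Nat.card (S₀ : Subgroup N) = 1 := by rw [hk, show k = 0 by omega, pow_zero]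
        have := S₀.dvd_card_of_dvd_card hq
        rw [hS0c, Nat.dvd_one] at this
        exact hqf.out.one_lt.ne' this
      rw [hS'c, hk] at hmod hS'd
      have hk4 : k ≤ 4 := by
        have hle : q ^ k ∣ 7920 := hS'd
        by_contra hgt
        have h5k : q ^ 5 ∣ 7920 := (pow_dvd_pow q (by omega)).trans hle
        rcases hq23 with rfl | rfl <;> norm_num at h5k
      rcases hq23 with rfl | rfl <;> interval_cases k <;> (revert hmod hS'd; norm_num [Nat.ModEq])
    · simp only [not_exists, not_and] at h23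
      have h2 : ¬ 2 ∣ Nat.card N := h23 2 (Or.inl rfl)
      have h3 : ¬ 3 ∣ Nat.card N := h23 3 (Or.inr rfl)
      have hco : Nat.Coprime (Nat.card N) (2 ^ 4 * 3 ^ 2 * 11) := by
        refine Nat.Coprime.mul_right (Nat.Coprime.mul_right (Nat.Coprime.pow_right _ ?_) (Nat.Coprime.pow_right _ ?_)) ?_
        · exact ((Nat.Prime.coprime_iff_not_dvd Nat.prime_two).mpr h2).symm
        · exact ((Nat.Prime.coprime_iff_not_dvd Nat.prime_three).mpr h3).symm
        · exact ((Nat.Prime.coprime_iff_not_dvd (by norm_num)).mpr h11).symm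
      have hd5 : Nat.card N ∣ 5 := hco.dvd_of_dvd_mul_left (by rwa [show 2 ^ 4 * 3 ^ 2 * 11 * 5 = 7920 from rfl])
      rcases (Nat.dvd_prime (by norm_num)).mp hd5 with h | h
      · exact hbot (Subgroup.card_eq_one.mp h)
      · have hP5 : ∀ Q : Sylow 5 G, Nat.card (Q : Subgroup G) = 5 := fun Q => by
          have := CfsgLib.SmallGroups.SimpleTools.card_sylow_subgroup (k := 1) (m := 1584)
            (by rw [hG]; norm_num) (by norm_num) Q
          simpa using this
        have hc := card_order_prime hP5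
        obtain ⟨Q, hQ⟩ := (IsPGroup.of_card (n := 1) (by rw [h, pow_one]) : IsPGroup 5 N).exists_le_sylow
        have hQN : (Q : Subgroup G) = N := (Subgroup.eq_of_le_of_card_ge hQ (by rw [hP5, h])).symm
        have hQn : (Q : Subgroup G).Normal := hQN ▸ hN
        have h1 : Nat.card (Sylow 5 G) = 1 := by
          have hu := Sylow.unique_of_normal Q hQn
          exact Nat.card_unique
        rw [h1] at hc
        exact (h4 5).1 hc
  -- a normal subgroup of order divisible by 11 is everything
  refine { exists_pair_ne := ⟨1, ?_⟩, eq_bot_or_eq_top_of_normal := ?_ }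
  · have : Nontrivial G := Finite.one_lt_card_iff_nontrivial.mp (by rw [hG]; norm_num)
    obtain ⟨g, hg⟩ := exists_ne (1 : G)
    exact ⟨g, hg.symm⟩
  intro N hN
  by_cases h11 : 11 ∣ Nat.card N
  swap
  · exact Or.inl (small N hN h11)
  refine Or.inr ?_
  have hP11N : ∀ Q : Sylow 11 N, Nat.card (Q : Subgroup N) = 11 := fun Q => by
    have hd : Nat.card (Q : Subgroup N) ∣ 7920 :=
      (card_subgroup_dvd_card _).trans (hG ▸ card_subgroup_dvd_card N)
    obtain ⟨k, hk⟩ := IsPGroup.iff_card.mp Q.isPGroup'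
    have h1 := Q.dvd_card_of_dvd_card h11
    rw [hk] at h1 hd ⊢
    have : k ≤ 1 := by
      by_contra hgt
      exact absurd ((pow_dvd_pow 11 (show 2 ≤ k by omega)).trans hd) (by norm_num)
    interval_cases k
    · norm_num at h1
    · norm_num
  have hall : ∀ g : G, orderOf g = 11 → g ∈ N := by
    intro g hg
    obtain ⟨Q⟩ : Nonempty (Sylow 11 N) := inferInstance
    have hc : Nat.card ((Q : Subgroup N).map N.subtype) = 11 := by
      rw [← Nat.card_congr ((Q : Subgroup N).equivMapOfInjective _ (Subgroup.subtype_injective _)).toEquiv, hP11N Q]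
    obtain ⟨P, hP⟩ := (IsPGroup.of_card (n := 1) (by rw [hc, pow_one]) :
      IsPGroup 11 ↥((Q : Subgroup N).map N.subtype)).exists_le_sylow
    have hPN : (P : Subgroup G) ≤ N := by
      rw [← Subgroup.eq_of_le_of_card_ge hP (by rw [hP11, hc])]
      exact Subgroup.map_subtype_le _
    obtain ⟨P', hP'⟩ := (IsPGroup.of_card (n := 1) (by rw [Nat.card_zpowers, hg, pow_one]) :
      IsPGroup 11 ↥(zpowers g)).exists_le_sylow
    obtain ⟨c, hc'⟩ := MulAction.exists_smul_eq G P P'
    have hgP : g ∈ ((c • P : Sylow 11 G) : Subgroup G) := hc' ▸ hP' (mem_zpowers g)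
    obtain ⟨y, hy, rfl⟩ := hgP
    exact hN.conj_mem y (hPN hy) c
  have hnN : Nat.card (Sylow 11 N) = 144 := by
    have h1 := card_order_prime hP11N
    have h2 := card_order_prime hP11
    have e : Nat.card {g : N // orderOf g = 11} = Nat.card {g : G // orderOf g = 11} :=
      Nat.card_congr
        { toFun := fun g => ⟨(g.1 : G), (Subgroup.orderOf_coe g.1).trans g.2⟩
          invFun := fun g => ⟨⟨g.1, hall g.1 g.2⟩, (Subgroup.orderOf_mk g.1 _).trans g.2⟩
          left_inv := fun g => rfl
          right_inv := fun g => rfl }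
    rw [h1, h2, hn11] at e
    omega
  obtain ⟨Q⟩ : Nonempty (Sylow 11 N) := inferInstance
  set M := normalizer ((Q : Subgroup N) : Set N) with hM
  have hMc := M.index_mul_card
  have hMi : M.index = 144 := by rw [hM, Sylow.coe_coe, ← Q.card_eq_index_normalizer, hnN]
  rw [hMi] at hMc
  have hNd : Nat.card N ∣ 7920 := hG ▸ card_subgroup_dvd_card N
  have hM11 : 11 ∣ Nat.card M := hP11N Q ▸ Subgroup.card_dvd_of_le (le_normalizer : (Q : Subgroup N) ≤ M)
  have hM55 : Nat.card M = 55 ∨ Nat.card M = 11 := by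
    have hd : Nat.card M ∣ 55 := by
      rw [← hMc] at hNd
      exact Nat.dvd_of_mul_dvd_mul_left (show 0 < 144 by norm_num) (by rwa [show 144 * 55 = 7920 from rfl])
    have key : ∀ k ∈ Finset.range 56, 55 % k = 0 → k % 11 = 0 → k = 55 ∨ k = 11 := by decide +kernel
    exact key _ (Finset.mem_range.mpr (Nat.lt_succ_of_le (Nat.le_of_dvd (by norm_num) hd)))
      (Nat.mod_eq_zero_of_dvd hd) (Nat.mod_eq_zero_of_dvd hM11)
  rcases hM55 with h | h
  · exact Subgroup.eq_top_of_card_eq _ (by rw [← hMc, h, hG])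
  exfalso
  have hQcomm : ∀ a ∈ (Q : Subgroup N), ∀ b ∈ (Q : Subgroup N), a * b = b * a := fun a ha b hb => by
    have hcyc : IsCyclic ↥(Q : Subgroup N) := isCyclic_of_prime_card (hP11N Q)
    let _ := IsCyclic.commGroup (α := ↥(Q : Subgroup N))
    exact congrArg Subtype.val (mul_comm (⟨a, ha⟩ : ↥(Q : Subgroup N)) ⟨b, hb⟩)
  have hMQ : M = (Q : Subgroup N) :=
    (Subgroup.eq_of_le_of_card_ge (le_normalizer : (Q : Subgroup N) ≤ M) (by rw [h, hP11N Q])).symm
  have hb : normalizer (Q : Set N) ≤ centralizer (Q : Set N) := fun a ha b hb => by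
    have ha' : a ∈ (Q : Subgroup N) := hMQ ▸ ha
    exact hQcomm b hb a ha'
  have hcompl := MonoidHom.ker_transferSylow_isComplement' Q hb
  set R : Subgroup N := (MonoidHom.transferSylow Q hb).ker with hR
  have hRc : Nat.card R = 144 := by
    have := hcompl.card_mul
    rw [hP11N Q, ← hMc, h] at this
    omega
  have hRi : R.index = 11 := by
    have h' := R.index_mul_card
    rw [hRc, ← hMc, h] at h'
    omega
  have hRn : R.Normal := MonoidHom.normal_ker _
  have hmem : ∀ k : N, k ^ 144 = 1 → k ∈ R := fun k hk => by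
    have h11k := Subgroup.pow_index_mem R k
    rw [hRi] at h11k
    have e : k = (k ^ 11) ^ 131 := by
      rw [← pow_mul, show 11 * 131 = 144 * 10 + 1 from rfl, pow_succ, pow_mul, hk, one_pow, one_mul]
    rw [e]
    exact pow_mem h11k 131
  set R' := R.map N.subtype with hR'
  have hR'n : R'.Normal := by
    constructor
    rintro _ ⟨k, hk, rfl⟩ g
    refine ⟨⟨g * k * g⁻¹, hN.conj_mem k k.2 g⟩, hmem _ (Subtype.ext ?_), rfl⟩
    have h1 : (k : N) ^ 144 = 1 :=
      orderOf_dvd_iff_pow_eq_one.mp (hRc ▸ Subgroup.orderOf_dvd_natCard R hk)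
    have h2 : (k : G) ^ 144 = 1 := by rw [← Subgroup.coe_pow, h1]; rfl
    simp only [SubgroupClass.coe_pow, OneMemClass.coe_one]
    rw [conj_pow, h2, mul_one, mul_inv_cancel]
  have hR'c : Nat.card R' = 144 := by
    rw [hR', ← Nat.card_congr (R.equivMapOfInjective _ (Subgroup.subtype_injective _)).toEquiv, hRc]
  have h0 := small R' hR'n (by rw [hR'c]; norm_num)
  rw [h0, Subgroup.card_bot] at hR'c
  norm_num at hR'c

/-- A group of order 7920 with the same counts of elements of each order as a simple one is isomorphic to it. -/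
theorem nonempty_mulEquiv_of_counts {G M : Type*} [Group G] [Group M] [Finite G] [Finite M] [IsSimpleGroup M]
    (hM : Nat.card M = 7920) (hG : Nat.card G = 7920)
    (hs : {c : ℕ | 0 < c ∧ ∃ n : ℕ, c = Nat.card {g : G // orderOf g = n}} =
      {c : ℕ | 0 < c ∧ ∃ n : ℕ, c = Nat.card {g : M // orderOf g = n}}) : Nonempty (G ≃* M) := by
  cases nonempty_fintype M
  have h4 : ∀ n : ℕ, ∀ c ∈ ({4, 10, 120, 450} : Finset ℕ), Nat.card {g : G // orderOf g = n} ≠ c := by
    intro n c hc h
    have hpos : 0 < c := by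
      simp only [Finset.mem_insert, Finset.mem_singleton] at hc
      omega
    have hm : c ∈ {c : ℕ | 0 < c ∧ ∃ n : ℕ, c = Nat.card {g : M // orderOf g = n}} := hs ▸ ⟨hpos, n, h.symm⟩
    obtain ⟨-, n', hn'⟩ := hm
    exact counts_avoid hM hpos hn' hc
  have := isSimple hG fun n => ⟨h4 n 4 (by decide), h4 n 10 (by decide), h4 n 120 (by decide), h4 n 450 (by decide)⟩
  exact M11Unique.nonempty_mulEquiv hG hM

end CfsgLib.KGroups.M11Census
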