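import Cfsg.Agent.Lib.KGroups.M11Selfcent

/-!
# The irreducible characters of a simple group of order 7920
-/

set_option autoImplicit false

namespace CfsgLib.KGroups.M11Chars

open Cfsg CfsgLib.Blocks CfsgLib.KGroups.M11Tools CfsgLib.KGroups.M11Local CfsgLib.KGroups.M11Block
  CfsgLib.KGroups.M11Five CfsgLib.KGroups.M11Selfcent Subgroup
open CfsgLib.SmallGroups
open scoped Classical

variable {G : Type*} [Group G] [Fintype G] [IsSimpleGroup G] (hG : Nat.card G = 7920)

/-- The ten characters, with the relations among their values used later. -/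
structure Chars (G : Type*) [Group G] [Fintype G] where
  c45 : IrrCharacter G
  T : Finset (IrrCharacter G)
  θ : IrrCharacter G
  θ' : IrrCharacter G
  c11 : IrrCharacter G
  c44 : IrrCharacter G
  c55 : IrrCharacter G
  d45 : charDegree (c45 : G → ℂ) = 45
  dT : ∀ χ ∈ T, charDegree (χ : G → ℂ) = 10
  cT : T.card = 3
  dθ : charDegree (θ : G → ℂ) = 16
  dθ' : charDegree (θ' : G → ℂ) = 16
  d11 : charDegree (c11 : G → ℂ) = 11
  d44 : charDegree (c44 : G → ℂ) = 44
  d55 : charDegree (c55 : G → ℂ) = 55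
  total : ∀ f : IrrCharacter G → ℂ, ∑ χ, f χ =
    f (trivChar G) + f c45 + ∑ χ ∈ T, f χ + f θ + f θ' + f c11 + f c44 + f c55
  agree : ∀ g : G, ¬ 11 ∣ orderOf g → (θ' : G → ℂ) g = (θ : G → ℂ) g
  rel : ∀ g : G, ¬ 11 ∣ orderOf g →
    (θ : G → ℂ) g = 1 + (c45 : G → ℂ) g - ∑ χ ∈ T, (χ : G → ℂ) g
  five : ∀ x : G, orderOf x = 5 → Nat.card (centralizer ({x} : Set G)) = 5

theorem mult_eleven {a : ℕ} (h1 : 0 < a) (h88 : a ≤ 88) (h11 : 11 ∣ a) (hd : a ∣ 7920) :
    a = 11 ∨ a = 22 ∨ a = 33 ∨ a = 44 ∨ a = 55 ∨ a = 66 ∨ a = 88 := by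
  have : ∀ b ∈ Finset.Icc 1 88, 11 ∣ b → b ∣ 7920 →
      b = 11 ∨ b = 22 ∨ b = 33 ∨ b = 44 ∨ b = 55 ∨ b = 66 ∨ b = 88 := by decide
  exact this a (Finset.mem_Icc.mpr ⟨h1, h88⟩) h11 hd

theorem rest_numeric {a b : ℕ} (ha : a = 11 ∨ a = 22 ∨ a = 33 ∨ a = 44 ∨ a = 66 ∨ a = 88)
    (hb : b = 11 ∨ b = 22 ∨ b = 33 ∨ b = 44 ∨ b = 66 ∨ b = 88) {n : ℕ} (h : a ^ 2 + b ^ 2 + n * 55 ^ 2 = 5082) :
    ((a = 11 ∧ b = 44) ∨ (a = 44 ∧ b = 11)) ∧ n = 1 := by
  rcases ha with rfl | rfl | rfl | rfl | rfl | rfl <;> rcases hb with rfl | rfl | rfl | rfl | rfl | rfl <;> omega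

include hG in
theorem exists_chars : Nonempty (Chars G) := by
  have hna := not_comm hG
  haveI : Fact (Nat.Prime 5) := ⟨by norm_num⟩
  obtain ⟨D⟩ := exists_data hG
  obtain ⟨hY16, hεy, h12, h45⟩ := data_sixteen hG D
  set X' := D.X.erase (trivChar G) with hX'
  obtain ⟨c45, hc45⟩ := Finset.card_eq_one.mp h45
  have hc45m : c45 ∈ X' ∧ charDegree (c45 : G → ℂ) = 45 := Finset.mem_filter.mp (hc45 ▸ Finset.mem_singleton_self c45)
  set T := X'.erase c45 with hT
  have hcT : T.card = 3 := by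
    rw [hT, Finset.card_erase_of_mem hc45m.1, hX', Finset.card_erase_of_mem D.htriv, D.hX]
  have hTd : ∀ χ ∈ T, D.sgn χ = -1 ∧ charDegree (χ : G → ℂ) = 10 := fun χ hχ => by
    obtain ⟨hne, hmem⟩ := Finset.mem_erase.mp hχ
    rcases D.hdeg χ hmem with ⟨-, h⟩ | ⟨-, h⟩ | h
    · rw [Finset.card_eq_zero, Finset.filter_eq_empty_iff] at h12
      exact absurd h (h12 hmem)
    · exfalso
      have : χ ∈ X'.filter fun η : IrrCharacter G => charDegree (η : G → ℂ) = 45 :=
        Finset.mem_filter.mpr ⟨hmem, h⟩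
      rw [hc45, Finset.mem_singleton] at this
      exact hne this
    · exact h
  have h45s : D.sgn c45 = 1 := by
    rcases D.hdeg c45 hc45m.1 with ⟨h, -⟩ | ⟨h, -⟩ | ⟨-, h⟩
    · exact h
    · exact h
    · rw [hc45m.2] at h; omega
  obtain ⟨θ, θ', hθθ', hY⟩ := Finset.card_eq_two.mp D.hY
  have hθ : θ ∈ D.Y := hY ▸ Finset.mem_insert_self θ _
  have hθ' : θ' ∈ D.Y := hY ▸ Finset.mem_insert_of_mem (Finset.mem_singleton_self θ')
  obtain ⟨x, hx⟩ := exists_prime_orderOf_dvd_card' 5 (show 5 ∣ Nat.card G by rw [hG]; norm_num)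
  have hC := centralizer_five hG D hx
  -- the characters outside the block
  set R := (Finset.univ : Finset (IrrCharacter G)) \ (D.X ∪ D.Y) with hR
  have hsplit : ∀ {β : Type} [AddCommMonoid β] (f : IrrCharacter G → β), ∑ χ, f χ =
      (f (trivChar G) + (f c45 + ∑ χ ∈ T, f χ)) + (f θ + f θ') + ∑ χ ∈ R, f χ := by
    intro β _ f
    have e1 : ∑ χ ∈ D.X ∪ D.Y, f χ = (f (trivChar G) + (f c45 + ∑ χ ∈ T, f χ)) + (f θ + f θ') := by
      rw [Finset.sum_union D.hdisj, ← Finset.add_sum_erase _ _ D.htriv, ← hX',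
        ← Finset.add_sum_erase _ _ hc45m.1, ← hT, hY, Finset.sum_pair hθθ']
    rw [← Finset.sum_sdiff (Finset.subset_univ (D.X ∪ D.Y)), e1, ← hR, add_comm]
  have hRsq : ∑ χ ∈ R, charDegree (χ : G → ℂ) ^ 2 = 5082 := by
    have h := hsplit fun χ : IrrCharacter G => charDegree (χ : G → ℂ) ^ 2
    rw [sum_deg_sq, hG, Finset.sum_congr rfl (g := fun _ => 100) fun χ hχ => by rw [(hTd χ hχ).2]; norm_num,
      Finset.sum_const, hcT, hc45m.2, hY16 θ hθ, hY16 θ' hθ',
      show charDegree ((trivChar G : IrrCharacter G) : G → ℂ) = 1 by simp [charDegree]] at h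
    simp only [smul_eq_mul] at h
    omega
  have hRk : ∀ χ ∈ R, (charDegree (χ : G → ℂ) = 11 ∨ charDegree (χ : G → ℂ) = 22 ∨ charDegree (χ : G → ℂ) = 33 ∨
      charDegree (χ : G → ℂ) = 44 ∨ charDegree (χ : G → ℂ) = 55 ∨ charDegree (χ : G → ℂ) = 66 ∨
      charDegree (χ : G → ℂ) = 88) := fun χ hχ => by
    simp only [hR, Finset.mem_sdiff, Finset.mem_union, not_or] at hχ
    exact mult_eleven (charDegree_pos χ) (deg_le hG χ) (D.hrest χ hχ.2.1 hχ.2.2) (hG ▸ charDegree_dvd χ)
  set R55 := R.filter fun χ : IrrCharacter G => charDegree (χ : G → ℂ) = 55 with hR55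
  set R5 := R.filter fun χ : IrrCharacter G => ¬ charDegree (χ : G → ℂ) = 55 with hR5
  have hsum5 : ∑ χ ∈ R5, charDegree (χ : G → ℂ) ^ 2 + R55.card * 55 ^ 2 = 5082 := by
    rw [← hRsq, ← Finset.sum_filter_add_sum_filter_not R (fun χ : IrrCharacter G => charDegree (χ : G → ℂ) = 55),
      add_comm, ← hR55, ← hR5]
    congr 1
    rw [Finset.sum_congr rfl (g := fun _ => 55 ^ 2) fun χ hχ => by rw [(Finset.mem_filter.mp hχ).2],
      Finset.sum_const, smul_eq_mul]
  have hR5d : ∀ χ ∈ R5, charDegree (χ : G → ℂ) = 11 ∨ charDegree (χ : G → ℂ) = 22 ∨ charDegree (χ : G → ℂ) = 33 ∨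
      charDegree (χ : G → ℂ) = 44 ∨ charDegree (χ : G → ℂ) = 66 ∨ charDegree (χ : G → ℂ) = 88 := fun χ hχ => by
    obtain ⟨h1, h2⟩ := Finset.mem_filter.mp hχ
    have := hRk χ h1
    tauto
  -- at most two of them are prime to five
  have hR5le : R5.card ≤ 2 := by
    have hdisj : Disjoint ({trivChar G, θ, θ'} : Finset (IrrCharacter G)) R5 := by
      rw [Finset.disjoint_left]
      intro η hη hη5
      have := (Finset.mem_filter.mp hη5).1
      simp only [hR, Finset.mem_sdiff, Finset.mem_union, not_or] at this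
      simp only [Finset.mem_insert, Finset.mem_singleton] at hη
      rcases hη with rfl | rfl | rfl
      · exact this.2.1 D.htriv
      · exact this.2.2 hθ
      · exact this.2.2 hθ'
    have hle := sum_sq_five hG hx hC (({trivChar G, θ, θ'} : Finset (IrrCharacter G)) ∪ R5)
    have hge : ∀ η ∈ ({trivChar G, θ, θ'} : Finset (IrrCharacter G)) ∪ R5,
        (1 : ℝ) ≤ ‖(η : G → ℂ) x‖ ^ 2 := by
      intro η hη
      obtain ⟨v, hv, hmod⟩ := values_five hG hx hC η
      have hd : ¬ 5 ∣ charDegree (η : G → ℂ) := by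
        rcases Finset.mem_union.mp hη with h | h
        · simp only [Finset.mem_insert, Finset.mem_singleton] at h
          rcases h with rfl | rfl | rfl
          · simp [charDegree]
          · rw [hY16 η hθ]; norm_num
          · rw [hY16 η hθ']; norm_num
        · rcases hR5d η h with e | e | e | e | e | e <;> rw [e] <;> norm_num
      have hv0 : v ≠ 0 := fun h => hd (by
        rw [h, Int.modEq_zero_iff_dvd] at hmod
        exact_mod_cast hmod)
      have h1 : (1 : ℤ) ≤ v ^ 2 := by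
        rcases lt_or_gt_of_ne hv0 with h | h <;> nlinarith
      exact_mod_cast norm_sq_ge hv h1
    have hcard := (Finset.card_nsmul_le_sum _ _ (1 : ℝ) hge).trans hle
    have h3 : ({trivChar G, θ, θ'} : Finset (IrrCharacter G)).card = 3 := by
      have hd : Disjoint D.X D.Y := D.hdisj
      rw [Finset.card_insert_of_notMem, Finset.card_pair hθθ']
      simp only [Finset.mem_insert, Finset.mem_singleton, not_or]
      exact ⟨fun e => Finset.disjoint_left.mp hd D.htriv (e ▸ hθ),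
        fun e => Finset.disjoint_left.mp hd D.htriv (e ▸ hθ')⟩
    rw [Finset.card_union_of_disjoint hdisj, h3, nsmul_eq_mul, mul_one] at hcard
    have : 3 + R5.card ≤ 5 := by exact_mod_cast hcard
    omega
  have hR5two : R5.card = 2 := by
    rcases (show R5.card = 0 ∨ R5.card = 1 ∨ R5.card = 2 by omega) with h | h | h
    · rw [Finset.card_eq_zero.mp h, Finset.sum_empty] at hsum5
      omega
    · obtain ⟨η, hη⟩ := Finset.card_eq_one.mp h
      rw [hη, Finset.sum_singleton] at hsum5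
      rcases hR5d η (hη ▸ Finset.mem_singleton_self η) with e | e | e | e | e | e <;> rw [e] at hsum5 <;> omega
    · exact h
  obtain ⟨η₁, η₂, hne, hη⟩ := Finset.card_eq_two.mp hR5two
  rw [hη, Finset.sum_pair hne] at hsum5
  obtain ⟨hcase, hn55⟩ := rest_numeric (hR5d η₁ (hη ▸ Finset.mem_insert_self η₁ _))
    (hR5d η₂ (hη ▸ Finset.mem_insert_of_mem (Finset.mem_singleton_self η₂))) hsum5
  obtain ⟨c55, hc55⟩ := Finset.card_eq_one.mp hn55
  have hd55 : charDegree (c55 : G → ℂ) = 55 := (Finset.mem_filter.mp (show c55 ∈ R55 from hc55 ▸ Finset.mem_singleton_self c55)).2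
  have hmk : ∀ a b : IrrCharacter G, R5 = {a, b} → a ≠ b → charDegree (a : G → ℂ) = 11 →
      charDegree (b : G → ℂ) = 44 → Nonempty (Chars G) := fun a b hab hne' ha hb =>
    ⟨{ c45 := c45, T := T, θ := θ, θ' := θ', c11 := a, c44 := b, c55 := c55
       d45 := hc45m.2
       dT := fun χ hχ => (hTd χ hχ).2
       cT := hcT
       dθ := hY16 θ hθ
       dθ' := hY16 θ' hθ'
       d11 := ha
       d44 := hb
       d55 := hd55
       total := fun f => by
        rw [hsplit f, ← Finset.sum_filter_add_sum_filter_not R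
          (fun χ : IrrCharacter G => charDegree (χ : G → ℂ) = 55), ← hR55, ← hR5, hc55, hab,
          Finset.sum_singleton, Finset.sum_pair hne']
        ring
       agree := fun g hg => D.hagree θ' hθ' θ hθ g hg
       rel := fun g hg => by
        have h := D.hrel θ hθ g hg
        rw [hεy, Int.cast_one, one_mul, ← Finset.add_sum_erase _ _ D.htriv, ← hX',
          ← Finset.add_sum_erase _ _ hc45m.1, ← hT, D.hεt, h45s, trivChar_apply] at h
        rw [h, Finset.sum_congr rfl (g := fun χ : IrrCharacter G => -(χ : G → ℂ) g) fun χ hχ => by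
          rw [(hTd χ hχ).1]; simp, Finset.sum_neg_distrib]
        simp; ring
       five := fun y hy => centralizer_five hG D hy }⟩
  rcases hcase with ⟨h1, h2⟩ | ⟨h1, h2⟩
  · exact hmk η₁ η₂ hη hne h1 h2
  · exact hmk η₂ η₁ (hη.trans (Finset.pair_comm η₁ η₂)) (Ne.symm hne) h2 h1

theorem card_deg (K : Chars G) (n : ℕ) :
    (Nat.card {χ : IrrCharacter G // charDegree (χ : G → ℂ) = n} : ℂ) =
      (if 1 = n then (1 : ℂ) else 0) + (if 45 = n then 1 else 0) + 3 * (if 10 = n then 1 else 0) +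
        (if 16 = n then 1 else 0) + (if 16 = n then 1 else 0) + (if 11 = n then 1 else 0) +
        (if 44 = n then 1 else 0) + (if 55 = n then 1 else 0) := by
  rw [Nat.card_eq_fintype_card, Fintype.card_subtype, ← Finset.sum_boole, K.total,
    Finset.sum_congr rfl (g := fun _ => if 10 = n then (1 : ℂ) else 0) fun χ hχ => by rw [K.dT χ hχ],
    Finset.sum_const, K.cT, K.d45, K.dθ, K.dθ', K.d11, K.d44, K.d55,
    show charDegree ((trivChar G : IrrCharacter G) : G → ℂ) = 1 by simp [charDegree]]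
  simp

theorem card_irr (K : Chars G) : Nat.card (IrrCharacter G) = 10 := by
  have h := K.total fun _ => (1 : ℂ)
  rw [Finset.sum_const, Finset.sum_const, K.cT, Finset.card_univ, ← Nat.card_eq_fintype_card] at h
  simp at h
  norm_num at h
  rw [Nat.card_eq_fintype_card]
  exact_mod_cast h

end CfsgLib.KGroups.M11Chars
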