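import Cfsg.Agent.Lib.KGroups.M11Values
import Cfsg.Agent.Lib.Char.Orth

/-!
# The conjugacy classes of a simple group of order 7920
-/

set_option autoImplicit false

namespace CfsgLib.KGroups.M11Classes

open Cfsg CfsgLib.Blocks CfsgLib.KGroups.M11Chars CfsgLib.KGroups.M11Values CfsgLib.KGroups.M11Local
  Subgroup
open scoped Classical

variable {G : Type*} [Group G] [Fintype G] [IsSimpleGroup G] (hG : Nat.card G = 7920) (K : Chars G)

omit [IsSimpleGroup G] in
theorem orderOf_of_isConj {a b : G} (h : IsConj a b) : orderOf a = orderOf b := by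
  obtain ⟨c, rfl⟩ := isConj_iff.mp h
  exact ((MulEquiv.orderOf_eq (MulAut.conj c) a)).symm

omit [IsSimpleGroup G] in
theorem index_of_isConj {a b : G} (h : IsConj a b) :
    (centralizer ({a} : Set G)).index = (centralizer ({b} : Set G)).index := by
  rw [← CfsgLib.Char.card_isConj_eq_index, ← CfsgLib.Char.card_isConj_eq_index]
  exact Nat.card_congr (Equiv.subtypeEquivRight fun x => ⟨fun hx => hx.trans h, fun hx => hx.trans h.symm⟩)

omit [IsSimpleGroup G] in
theorem card_of_isConj {a b : G} (h : IsConj a b) :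
    Nat.card (centralizer ({a} : Set G)) = Nat.card (centralizer ({b} : Set G)) := by
  have h1 := (centralizer ({a} : Set G)).index_mul_card
  have h2 := (centralizer ({b} : Set G)).index_mul_card
  rw [← index_of_isConj h] at h2
  exact Nat.eq_of_mul_eq_mul_left (Nat.pos_of_ne_zero Subgroup.FiniteIndex.index_ne_zero) (h1.trans h2.symm)

theorem card_classes (K : Chars G) : Nat.card (ConjClasses G) = 10 :=
  (CfsgLib.Char.card_irrCharacter (G := G)).symm.trans (card_irr K)

/-- The size of the class of an element, read off the conjugacy class. -/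
noncomputable def classSize (c : ConjClasses G) : ℕ :=
  (Finset.univ.filter fun x : G => ConjClasses.mk x = c).card

omit [IsSimpleGroup G] in
theorem classSize_mk (g : G) : classSize (ConjClasses.mk g) = (centralizer ({g} : Set G)).index := by
  rw [classSize, ← CfsgLib.Char.card_isConj_eq_index, Nat.card_eq_fintype_card, Fintype.card_subtype]
  exact congrArg Finset.card (Finset.filter_congr fun x _ => ConjClasses.mk_eq_mk_iff_isConj)

include hG in
theorem sum_index (K : Chars G) (L : List G) (hL : L.Pairwise fun a b => ¬ IsConj a b) (hlen : L.length = 10) :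
    (L.map fun g => (centralizer ({g} : Set G)).index).sum = 7920 := by
  have hnd : (L.map ConjClasses.mk).Nodup :=
    List.pairwise_map.mpr (hL.imp fun hab h => hab (ConjClasses.mk_eq_mk_iff_isConj.mp h))
  have huniv : (L.map ConjClasses.mk).toFinset = Finset.univ := by
    apply Finset.eq_univ_of_card
    rw [List.toFinset_card_of_nodup hnd, List.length_map, hlen, ← Nat.card_eq_fintype_card, card_classes K]
  have h := List.sum_toFinset classSize hnd
  rw [huniv, List.map_map] at h
  rw [← hG, Nat.card_eq_fintype_card, ← Finset.card_univ (α := G),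
    Finset.card_eq_sum_card_fiberwise (f := ConjClasses.mk) (t := Finset.univ) (fun _ _ => Finset.mem_univ _)]
  exact (congrArg List.sum (List.map_congr_left fun g _ => (classSize_mk g).symm)).trans h.symm

theorem exists_new (K : Chars G) (L : List G) (hlen : L.length < 10) :
    ∃ z : G, ∀ a ∈ L, ¬ IsConj a z := by
  by_contra hcon
  simp only [not_exists, not_forall, not_not] at hcon
  have h : (Finset.univ : Finset (ConjClasses G)) ⊆ (L.map ConjClasses.mk).toFinset := by
    intro c _
    obtain ⟨z, rfl⟩ := ConjClasses.mk_surjective c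
    obtain ⟨a, ha, hc⟩ := hcon z
    rw [List.mem_toFinset]
    exact List.mem_map.mpr ⟨a, ha, ConjClasses.mk_eq_mk_iff_isConj.mpr hc⟩
  have := (Finset.card_le_card h).trans (List.toFinset_card_le _)
  rw [Finset.card_univ, ← Nat.card_eq_fintype_card, card_classes K, List.length_map] at this
  omega

include hG in
theorem index_eq {g : G} {C i : ℕ} (h : Nat.card (centralizer ({g} : Set G)) = C) (hC : i * C = 7920)
    (hpos : 0 < C) : (centralizer ({g} : Set G)).index = i := by
  have h' := index_mul hG g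
  rw [h, ← hC] at h'
  exact Nat.eq_of_mul_eq_mul_right hpos h'

omit [IsSimpleGroup G] in
/-- Elements with different orders or centraliser orders are not conjugate. -/
theorem not_isConj {a b : G} {o o' C C' : ℕ} (ha : orderOf a = o ∧ Nat.card (centralizer ({a} : Set G)) = C)
    (hb : orderOf b = o' ∧ Nat.card (centralizer ({b} : Set G)) = C') (h : o ≠ o' ∨ C ≠ C') :
    ¬ IsConj a b := fun hc => by
  have h1 := orderOf_of_isConj hc
  have h2 := card_of_isConj hc
  rw [ha.1, hb.1] at h1
  rw [ha.2, hb.2] at h2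
  rcases h with h | h <;> contradiction

include hG in
theorem one_data : orderOf (1 : G) = 1 ∧ Nat.card (centralizer ({(1 : G)} : Set G)) = 7920 := by
  refine ⟨orderOf_one, ?_⟩
  rw [show centralizer ({(1 : G)} : Set G) = ⊤ from eq_top_iff.mpr fun g _ =>
    mem_centralizer_singleton_iff.mpr (by rw [one_mul, mul_one]), Subgroup.card_top, hG]

include hG in
theorem eleven_data {x : G} (hx : orderOf x = 11) :
    orderOf x = 11 ∧ Nat.card (centralizer ({x} : Set G)) = 11 := by
  refine ⟨hx, ?_⟩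
  have : Fact (Nat.Prime 11) := ⟨by norm_num⟩
  obtain ⟨Q, hQ⟩ := (IsPGroup.of_card (n := 1) (by rw [Nat.card_zpowers, hx, pow_one]) :
    IsPGroup 11 ↥(zpowers x)).exists_le_sylow
  have hQz : zpowers x = (Q : Subgroup G) :=
    Subgroup.eq_of_le_of_card_ge hQ (by rw [M11Local.card_sylow_eleven hG Q, Nat.card_zpowers, hx])
  rw [← centralizer_closure, ← zpowers_eq_closure, hQz]
  exact (normalizer_eleven hG Q).2

include hG in
theorem not_isConj_inv {x : G} (hx : orderOf x = 11) : ¬ IsConj x x⁻¹ := by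
  intro h
  have : Fact (Nat.Prime 11) := ⟨by norm_num⟩
  obtain ⟨c, hc⟩ := isConj_iff.mp h
  obtain ⟨Q, hQ⟩ := (IsPGroup.of_card (n := 1) (by rw [Nat.card_zpowers, hx, pow_one]) :
    IsPGroup 11 ↥(zpowers x)).exists_le_sylow
  have hQz : zpowers x = (Q : Subgroup G) :=
    Subgroup.eq_of_le_of_card_ge hQ (by rw [M11Local.card_sylow_eleven hG Q, Nat.card_zpowers, hx])
  have hcN : c ∈ normalizer ((Q : Subgroup G) : Set G) := by
    rw [← hQz]
    have hmap : (zpowers x).map (MulAut.conj c).toMonoidHom = zpowers x := by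
      rw [MonoidHom.map_zpowers, MulEquiv.coe_toMonoidHom, MulAut.conj_apply, hc, zpowers_inv]
    rw [mem_normalizer_iff]
    intro q
    constructor
    · intro hq
      rw [← hmap]
      exact ⟨q, hq, rfl⟩
    · intro hq
      rw [← hmap] at hq
      obtain ⟨r, hr, hr'⟩ := hq
      simp only [MulEquiv.coe_toMonoidHom, MulAut.conj_apply, mul_left_inj, mul_right_inj] at hr'
      exact hr' ▸ hr
  have h55 : c ^ 55 = 1 := by
    have h1 := Subgroup.orderOf_dvd_natCard _ hcN
    rw [(normalizer_eleven hG Q).1] at h1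
    exact orderOf_dvd_iff_pow_eq_one.mp h1
  have hsc : SemiconjBy c x x⁻¹ := mul_inv_eq_iff_eq_mul.mp hc
  have h2 : Commute (c ^ 2) x := by
    have h' : SemiconjBy (c * c) x x⁻¹⁻¹ := (hsc.inv_right).mul_left hsc
    rw [inv_inv] at h'
    rw [pow_two]
    exact h'
  have hcx : Commute c x := by
    have h56 : (c ^ 2) ^ 28 = c := by rw [← pow_mul, show 2 * 28 = 55 + 1 from rfl, pow_succ, h55, one_mul]
    rw [← h56]
    exact h2.pow_left 28
  have hxx : x = x⁻¹ := mul_right_cancel (hcx.symm.eq.trans hsc.eq)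
  have : x ^ 2 = 1 := by rw [pow_two]; exact mul_eq_one_iff_eq_inv.mpr hxx
  have hd := orderOf_dvd_of_pow_eq_one this
  rw [hx] at hd
  norm_num at hd

include hG in
/-- A generic triple `w`, `t`, `w * t` of orders three, two, six. -/
theorem exists_six {w : G} (h18 : Nat.card (centralizer ({w} : Set G)) = 18) :
    ∃ t : G, orderOf t = 2 ∧ Commute w t := by
  have _ := hG
  have : Fact (Nat.Prime 2) := ⟨by norm_num⟩
  obtain ⟨⟨t, htC⟩, ht⟩ := exists_prime_orderOf_dvd_card' (G := ↥(centralizer ({w} : Set G))) 2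
    (by rw [h18]; norm_num)
  rw [Subgroup.orderOf_mk] at ht
  exact ⟨t, ht, (mem_centralizer_singleton_iff.mp htC).symm⟩

include hG in
theorem six_data (K : Chars G) {w t : G} (hw : orderOf w = 3) (ht : orderOf t = 2) (hwt : Commute w t) :
    Nat.card (centralizer ({t} : Set G)) = 48 ∧
      orderOf (w * t) = 6 ∧ Nat.card (centralizer ({w * t} : Set G)) = 6 ∧ (w * t) ^ 4 = w := by
  have h18 := centralizer_three hG K hw
  have hwC : w ∈ centralizer ({t} : Set G) := mem_centralizer_singleton_iff.mpr hwt.eq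
  have h48 : Nat.card (centralizer ({t} : Set G)) = 48 := by
    have hd := Subgroup.orderOf_dvd_natCard _ hwC
    rw [hw] at hd
    rcases centralizer_two hG K ht with h | h
    · rw [h] at hd; norm_num at hd
    · exact h
  have ho : orderOf (w * t) = 6 := by
    rw [hwt.orderOf_mul_eq_mul_orderOf_of_coprime (by rw [hw, ht]; norm_num), hw, ht]
  have hw3 : w ^ 3 = 1 := hw ▸ pow_orderOf_eq_one w
  have ht2 : t ^ 2 = 1 := ht ▸ pow_orderOf_eq_one t
  have h4 : (w * t) ^ 4 = w := by
    rw [hwt.mul_pow, pow_succ w 3, hw3, one_mul, pow_mul t 2 2, ht2, one_pow, mul_one]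
  have h3 : (w * t) ^ 3 = t := by
    rw [hwt.mul_pow, hw3, one_mul, pow_succ t 2, ht2, one_mul]
  refine ⟨h48, ho, ?_, h4⟩
  have hle1 : centralizer ({w * t} : Set G) ≤ centralizer ({w} : Set G) := fun a ha => by
    have hc : Commute a (w * t) := mem_centralizer_singleton_iff.mp ha
    refine mem_centralizer_singleton_iff.mpr ?_
    have := hc.pow_right 4
    rw [h4] at this
    exact this.eq
  have hle2 : centralizer ({w * t} : Set G) ≤ centralizer ({t} : Set G) := fun a ha => by
    have hc : Commute a (w * t) := mem_centralizer_singleton_iff.mp ha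
    refine mem_centralizer_singleton_iff.mpr ?_
    have := hc.pow_right 3
    rw [h3] at this
    exact this.eq
  have d1 := Subgroup.card_dvd_of_le hle1
  have d2 := Subgroup.card_dvd_of_le hle2
  rw [h18] at d1
  rw [h48] at d2
  have d3 := Subgroup.orderOf_dvd_natCard (centralizer ({w * t} : Set G)) (mem_centralizer_singleton_iff.mpr rfl)
  rw [ho] at d3
  exact Nat.dvd_antisymm (Nat.dvd_gcd d1 d2) d3

omit [IsSimpleGroup G] in
include hG in
theorem exists_central_conj (S : Sylow 2 G) {u : G} (h16 : 16 ∣ Nat.card (centralizer ({u} : Set G))) :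
    ∃ u' : G, IsConj u u' ∧ ∀ s ∈ (S : Subgroup G), Commute s u' := by
  have : Fact (Nat.Prime 2) := ⟨by norm_num⟩
  obtain ⟨H, hH⟩ := Sylow.exists_subgroup_card_pow_prime (G := ↥(centralizer ({u} : Set G))) 2 (n := 4)
    (by rwa [show (2 : ℕ) ^ 4 = 16 from rfl])
  set H' : Subgroup G := H.map (centralizer ({u} : Set G)).subtype with hH'
  have hH'c : Nat.card H' = 2 ^ (Nat.card G).factorization 2 := by
    rw [hH', ← Nat.card_congr (H.equivMapOfInjective _ (Subgroup.subtype_injective _)).toEquiv, hH, hG,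
      show (7920 : ℕ).factorization 2 = 4 by
        rw [show (7920 : ℕ) = 2 ^ 4 * 495 from rfl, Nat.factorization_mul (by norm_num) (by norm_num),
          Finsupp.add_apply, Nat.Prime.factorization_pow (by norm_num), Finsupp.single_eq_same,
          Nat.factorization_eq_zero_of_not_dvd (by norm_num)]]
  obtain ⟨g, hg⟩ := MulAction.exists_smul_eq G (Sylow.ofCard H' hH'c) S
  refine ⟨g * u * g⁻¹, isConj_iff.mpr ⟨g, rfl⟩, fun s hs => ?_⟩
  rw [← hg] at hs
  obtain ⟨h, hh, rfl⟩ := hs
  obtain ⟨⟨k, hk⟩, -, rfl⟩ := hh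
  have hku : Commute k u := mem_centralizer_singleton_iff.mp hk
  show Commute (g * k * g⁻¹) (g * u * g⁻¹)
  exact hku.map (MulAut.conj g).toMonoidHom

include hG in
/-- All centralisers of involutions have order 48. -/
theorem centralizer_two_eq (K : Chars G) {a : G} (ha : orderOf a = 2) :
    Nat.card (centralizer ({a} : Set G)) = 48 := by
  rcases centralizer_two hG K ha with h16 | h48
  swap
  · exact h48
  exfalso
  have : Fact (Nat.Prime 3) := ⟨by norm_num⟩
  have : Fact (Nat.Prime 5) := ⟨by norm_num⟩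
  have : Fact (Nat.Prime 11) := ⟨by norm_num⟩
  have : Fact (Nat.Prime 2) := ⟨by norm_num⟩
  obtain ⟨x, hx⟩ := exists_prime_orderOf_dvd_card' (G := G) 11 (by rw [hG]; norm_num)
  obtain ⟨f, hf⟩ := exists_prime_orderOf_dvd_card' (G := G) 5 (by rw [hG]; norm_num)
  obtain ⟨w, hw⟩ := exists_prime_orderOf_dvd_card' (G := G) 3 (by rw [hG]; norm_num)
  obtain ⟨t, ht, hwt⟩ := exists_six hG (centralizer_three hG K hw)
  obtain ⟨h48, hy, hyC, -⟩ := six_data hG K hw ht hwt
  have d1 := one_data hG
  have dx := eleven_data hG hx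
  have dx' := eleven_data hG (x := x⁻¹) (by rw [orderOf_inv, hx])
  have df : orderOf f = 5 ∧ Nat.card (centralizer ({f} : Set G)) = 5 := ⟨hf, K.five f hf⟩
  have dw : orderOf w = 3 ∧ Nat.card (centralizer ({w} : Set G)) = 18 := ⟨hw, centralizer_three hG K hw⟩
  have dy : orderOf (w * t) = 6 ∧ Nat.card (centralizer ({w * t} : Set G)) = 6 := ⟨hy, hyC⟩
  have dt : orderOf t = 2 ∧ Nat.card (centralizer ({t} : Set G)) = 48 := ⟨ht, h48⟩
  have da : orderOf a = 2 ∧ Nat.card (centralizer ({a} : Set G)) = 16 := ⟨ha, h16⟩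
  obtain ⟨z1, hz1⟩ := exists_new K [1, x, x⁻¹, f, w, w * t, t, a] (by simp)
  obtain ⟨z2, hz2⟩ := exists_new K [1, x, x⁻¹, f, w, w * t, t, a, z1] (by simp)
  simp only [List.forall_mem_cons] at hz1 hz2
  obtain ⟨n1, n2, n3, n4, n5, n6, n7, n8, -⟩ := hz1
  obtain ⟨m1, m2, m3, m4, m5, m6, m7, m8, m9, -⟩ := hz2
  have hsum := sum_index hG K [1, x, x⁻¹, f, w, w * t, t, a, z1, z2] (by
    simp only [List.pairwise_cons, List.forall_mem_cons, List.not_mem_nil, List.Pairwise.nil, IsEmpty.forall_iff,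
      implies_true, and_true]
    refine ⟨⟨?_, ?_, ?_, ?_, ?_, ?_, ?_, n1, m1⟩, ⟨?_, ?_, ?_, ?_, ?_, ?_, n2, m2⟩, ⟨?_, ?_, ?_, ?_, ?_, n3, m3⟩,
      ⟨?_, ?_, ?_, ?_, n4, m4⟩, ⟨?_, ?_, ?_, n5, m5⟩, ⟨?_, ?_, n6, m6⟩, ⟨?_, n7, m7⟩, ⟨n8, m8⟩, m9⟩
    all_goals
      first
        | exact not_isConj_inv hG hx
        | exact not_isConj (by assumption) (by assumption) (by norm_num)) (by simp)
  simp only [List.map_cons, List.map_nil, List.sum_cons, List.sum_nil] at hsum
  rw [index_eq hG d1.2 (i := 1) rfl (by norm_num), index_eq hG dx.2 (i := 720) rfl (by norm_num),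
    index_eq hG dx'.2 (i := 720) rfl (by norm_num), index_eq hG df.2 (i := 1584) rfl (by norm_num),
    index_eq hG dw.2 (i := 440) rfl (by norm_num), index_eq hG dy.2 (i := 1320) rfl (by norm_num),
    index_eq hG dt.2 (i := 165) rfl (by norm_num), index_eq hG da.2 (i := 495) rfl (by norm_num)] at hsum
  have hnum : ∀ d ∈ Finset.range 2476, 7920 % d = 0 → 7920 % (2475 - d) = 0 → d = 1980 ∨ d = 495 := by
    decide +kernel
  have hd1 : 7920 % (centralizer ({z1} : Set G)).index = 0 :=
    Nat.mod_eq_zero_of_dvd ⟨_, (index_mul hG z1).symm⟩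
  have hd2 : 7920 % (centralizer ({z2} : Set G)).index = 0 :=
    Nat.mod_eq_zero_of_dvd ⟨_, (index_mul hG z2).symm⟩
  have h2475 : (centralizer ({z2} : Set G)).index = 2475 - (centralizer ({z1} : Set G)).index := by omega
  obtain ⟨z, hz⟩ : ∃ z : G, Nat.card (centralizer ({z} : Set G)) = 4 := by
    rcases hnum _ (Finset.mem_range.mpr (by omega)) hd1 (h2475 ▸ hd2) with h | h
    · refine ⟨z1, ?_⟩
      have := index_mul hG z1
      rw [h] at this
      omega
    · refine ⟨z2, ?_⟩
      have := index_mul hG z2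
      rw [h2475, h] at this
      omega
  have hz4 : orderOf z = 4 := by
    have hd := Subgroup.orderOf_dvd_natCard (centralizer ({z} : Set G)) (mem_centralizer_singleton_iff.mpr rfl)
    rw [hz] at hd
    have hne1 : orderOf z ≠ 1 := fun h => by
      rw [orderOf_eq_one_iff] at h
      rw [h, d1.2] at hz
      norm_num at hz
    have hne2 : orderOf z ≠ 2 := fun h => by
      rcases centralizer_two hG K h with h' | h' <;> rw [h'] at hz <;> norm_num at hz
    have hle := Nat.le_of_dvd (by norm_num) hd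
    interval_cases ho : orderOf z <;> omega
  obtain ⟨S, hS⟩ := (IsPGroup.of_card (n := 2) (by rw [Nat.card_zpowers, hz4]; norm_num) :
    IsPGroup 2 ↥(zpowers z)).exists_le_sylow
  have hCz : zpowers z = centralizer ({z} : Set G) :=
    Subgroup.eq_of_le_of_card_ge (zpowers_le.mpr (mem_centralizer_singleton_iff.mpr rfl))
      (by rw [hz, Nat.card_zpowers, hz4])
  have hsq : ∀ u : G, orderOf u = 2 → Commute z u → u = z ^ 2 := by
    intro u hu hzu
    have hmem : u ∈ zpowers z := hCz ▸ mem_centralizer_singleton_iff.mpr hzu.symm.eq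
    rw [← mem_powers_iff_mem_zpowers, (isOfFinOrder_of_finite z).mem_powers_iff_mem_range_orderOf,
      Finset.mem_image] at hmem
    obtain ⟨k, hk, rfl⟩ := hmem
    rw [Finset.mem_range, hz4] at hk
    interval_cases k
    · rw [pow_zero, orderOf_one] at hu; omega
    · rw [pow_one, hz4] at hu; omega
    · rfl
    · rw [Nat.Coprime.orderOf_pow (by rw [hz4]; norm_num), hz4] at hu; omega
  obtain ⟨a', haa, ha'⟩ := exists_central_conj hG S (u := a) (by rw [h16])
  obtain ⟨t', htt, ht'⟩ := exists_central_conj hG S (u := t) (by rw [h48]; norm_num)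
  have e1 := hsq a' ((orderOf_of_isConj haa).symm.trans ha) (ha' z (hS (mem_zpowers z)))
  have e2 := hsq t' ((orderOf_of_isConj htt).symm.trans ht) (ht' z (hS (mem_zpowers z)))
  exact not_isConj da dt (Or.inr (by norm_num)) (haa.trans (e1 ▸ e2 ▸ htt.symm))

include hG in
/-- There is one class of elements of order three. -/
theorem isConj_three (K : Chars G) {w w' : G} (hw : orderOf w = 3) (hw' : orderOf w' = 3) : IsConj w w' := by
  by_contra hne
  have : Fact (Nat.Prime 11) := ⟨by norm_num⟩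
  have : Fact (Nat.Prime 5) := ⟨by norm_num⟩
  obtain ⟨x, hx⟩ := exists_prime_orderOf_dvd_card' (G := G) 11 (by rw [hG]; norm_num)
  obtain ⟨f, hf⟩ := exists_prime_orderOf_dvd_card' (G := G) 5 (by rw [hG]; norm_num)
  obtain ⟨t, ht, hwt⟩ := exists_six hG (centralizer_three hG K hw)
  obtain ⟨t', ht', hwt'⟩ := exists_six hG (centralizer_three hG K hw')
  obtain ⟨h48, hy, hyC, hp⟩ := six_data hG K hw ht hwt
  obtain ⟨-, hy', hyC', hp'⟩ := six_data hG K hw' ht' hwt'
  have d1 := one_data hG
  have dx := eleven_data hG hx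
  have dx' := eleven_data hG (x := x⁻¹) (by rw [orderOf_inv, hx])
  have df : orderOf f = 5 ∧ Nat.card (centralizer ({f} : Set G)) = 5 := ⟨hf, K.five f hf⟩
  have dw : orderOf w = 3 ∧ Nat.card (centralizer ({w} : Set G)) = 18 := ⟨hw, centralizer_three hG K hw⟩
  have dw' : orderOf w' = 3 ∧ Nat.card (centralizer ({w'} : Set G)) = 18 := ⟨hw', centralizer_three hG K hw'⟩
  have dy : orderOf (w * t) = 6 ∧ Nat.card (centralizer ({w * t} : Set G)) = 6 := ⟨hy, hyC⟩
  have dy' : orderOf (w' * t') = 6 ∧ Nat.card (centralizer ({w' * t'} : Set G)) = 6 := ⟨hy', hyC'⟩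
  have dt : orderOf t = 2 ∧ Nat.card (centralizer ({t} : Set G)) = 48 := ⟨ht, h48⟩
  have hyy : ¬ IsConj (w * t) (w' * t') := fun h => hne (by
    obtain ⟨c, hc⟩ := isConj_iff.mp h
    refine isConj_iff.mpr ⟨c, ?_⟩
    rw [← hp, ← hp', ← hc, conj_pow])
  obtain ⟨z, hz⟩ := exists_new K [1, x, x⁻¹, f, w, w', w * t, w' * t', t] (by simp)
  simp only [List.forall_mem_cons] at hz
  obtain ⟨n1, n2, n3, n4, n5, n6, n7, n8, n9, -⟩ := hz
  have hsum := sum_index hG K [1, x, x⁻¹, f, w, w', w * t, w' * t', t, z] (by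
    simp only [List.pairwise_cons, List.forall_mem_cons, List.not_mem_nil, List.Pairwise.nil, IsEmpty.forall_iff,
      implies_true, and_true]
    refine ⟨⟨?_, ?_, ?_, ?_, ?_, ?_, ?_, ?_, n1⟩, ⟨?_, ?_, ?_, ?_, ?_, ?_, ?_, n2⟩, ⟨?_, ?_, ?_, ?_, ?_, ?_, n3⟩,
      ⟨?_, ?_, ?_, ?_, ?_, n4⟩, ⟨?_, ?_, ?_, ?_, n5⟩, ⟨?_, ?_, ?_, n6⟩, ⟨?_, ?_, n7⟩, ⟨?_, n8⟩, n9⟩
    all_goals
      first
        | exact not_isConj_inv hG hx
        | exact hne
        | exact hyy
        | exact not_isConj (by assumption) (by assumption) (by norm_num)) (by simp)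
  simp only [List.map_cons, List.map_nil, List.sum_cons, List.sum_nil] at hsum
  rw [index_eq hG d1.2 (i := 1) rfl (by norm_num), index_eq hG dx.2 (i := 720) rfl (by norm_num),
    index_eq hG dx'.2 (i := 720) rfl (by norm_num), index_eq hG df.2 (i := 1584) rfl (by norm_num),
    index_eq hG dw.2 (i := 440) rfl (by norm_num), index_eq hG dw'.2 (i := 440) rfl (by norm_num),
    index_eq hG dy.2 (i := 1320) rfl (by norm_num), index_eq hG dy'.2 (i := 1320) rfl (by norm_num),
    index_eq hG dt.2 (i := 165) rfl (by norm_num)] at hsum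
  have hd : (centralizer ({z} : Set G)).index ∣ 7920 := ⟨_, (index_mul hG z).symm⟩
  rw [show (centralizer ({z} : Set G)).index = 1210 by omega] at hd
  norm_num at hd

include hG in
/-- No element has order nine. -/
theorem orderOf_ne_nine (K : Chars G) (u : G) : orderOf u ≠ 9 := by
  intro hu
  have : Fact (Nat.Prime 11) := ⟨by norm_num⟩
  have : Fact (Nat.Prime 5) := ⟨by norm_num⟩
  obtain ⟨x, hx⟩ := exists_prime_orderOf_dvd_card' (G := G) 11 (by rw [hG]; norm_num)
  obtain ⟨f, hf⟩ := exists_prime_orderOf_dvd_card' (G := G) 5 (by rw [hG]; norm_num)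
  have hw : orderOf (u ^ 3) = 3 := by rw [orderOf_pow' u (by norm_num), hu]; norm_num
  have hu9 : u ^ 9 = 1 := hu ▸ pow_orderOf_eq_one u
  set w := u ^ 3 with hwdef
  have h18 := centralizer_three hG K hw
  obtain ⟨t, ht, hwt⟩ := exists_six hG h18
  obtain ⟨h48, hy, hyC, -⟩ := six_data hG K hw ht hwt
  -- the involution centralises `u`
  have huC : u ∈ centralizer ({w} : Set G) := mem_centralizer_singleton_iff.mpr (Commute.self_pow u 3).eq
  have htC : t ∈ centralizer ({w} : Set G) := mem_centralizer_singleton_iff.mpr hwt.symm.eq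
  set C := centralizer ({w} : Set G) with hC
  have hidx : (zpowers (⟨u, huC⟩ : C)).index = 2 := by
    have h := (zpowers (⟨u, huC⟩ : C)).index_mul_card
    rw [Nat.card_zpowers, Subgroup.orderOf_mk, hu, h18] at h
    omega
  have hnorm := Subgroup.normal_of_index_eq_two hidx
  obtain ⟨i, hi⟩ := hnorm.conj_mem _ (mem_zpowers _) ⟨t, htC⟩
  have hti : t * u * t⁻¹ = u ^ i := by simpa using (congrArg Subtype.val hi).symm
  have h9 : ∀ j : ℤ, u ^ j = 1 → (9 : ℤ) ∣ j := fun j hj => by
    have := orderOf_dvd_iff_zpow_eq_one.mpr hj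
    rw [hu] at this
    exact_mod_cast this
  have hcube : (u ^ i) ^ 3 = u ^ 3 := by
    rw [← hti, conj_pow, ← hwdef, hwt.symm.eq, mul_inv_cancel_right]
  have htt : (u ^ i) ^ i = u := by
    rw [← hti, conj_zpow, ← hti]
    have ht2 : t * t = 1 := by rw [← pow_two]; exact ht ▸ pow_orderOf_eq_one t
    have hti' : t⁻¹ = t := inv_eq_of_mul_eq_one_right ht2
    rw [hti']
    simp only [← mul_assoc, ht2, one_mul]
    rw [mul_assoc, ht2, mul_one]
  have e1 : (9 : ℤ) ∣ i * 3 - 3 := h9 _ (by
    rw [zpow_sub, zpow_mul, zpow_ofNat, zpow_ofNat, hcube, mul_inv_cancel])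
  have e2 : (9 : ℤ) ∣ i * i - 1 := h9 _ (by rw [zpow_sub, zpow_mul, htt, zpow_one, mul_inv_cancel])
  have e3 : (9 : ℤ) ∣ i - 1 := by
    obtain ⟨k, hk⟩ : (3 : ℤ) ∣ i - 1 := by omega
    have : i * i - 1 = 9 * (k * k) + 6 * k := by rw [show i = 3 * k + 1 by omega]; ring
    rw [this] at e2
    omega
  have hui : u ^ i = u := by
    obtain ⟨k, hk⟩ := e3
    rw [show i = 9 * k + 1 by omega, zpow_add, zpow_mul, zpow_ofNat, hu9, one_zpow, one_mul, zpow_one]
  have htu : Commute u t := by
    rw [hui] at hti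
    exact (mul_inv_eq_iff_eq_mul.mp hti).symm
  have hut : orderOf (u * t) = 18 := by
    rw [htu.orderOf_mul_eq_mul_orderOf_of_coprime (by rw [hu, ht]; norm_num), hu, ht]
  have hfull : ∀ s : G, centralizer ({s} : Set G) ≤ C → u ∈ centralizer ({s} : Set G) →
      t ∈ centralizer ({s} : Set G) → Nat.card (centralizer ({s} : Set G)) = 18 := by
    intro s hle h1 h2
    have d1 := Subgroup.card_dvd_of_le hle
    rw [h18] at d1
    have d2 := Subgroup.orderOf_dvd_natCard _ h1
    have d3 := Subgroup.orderOf_dvd_natCard _ h2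
    rw [hu] at d2
    rw [ht] at d3
    exact Nat.dvd_antisymm d1 (Nat.Coprime.mul_dvd_of_dvd_of_dvd (m := 9) (n := 2) (by norm_num) d2 d3)
  have hCu : Nat.card (centralizer ({u} : Set G)) = 18 := hfull u
    (fun a ha => mem_centralizer_singleton_iff.mpr ((Commute.pow_right (mem_centralizer_singleton_iff.mp ha) 3).eq))
    (mem_centralizer_singleton_iff.mpr rfl) (mem_centralizer_singleton_iff.mpr htu.symm.eq)
  have hCut : Nat.card (centralizer ({u * t} : Set G)) = 18 := hfull (u * t)
    (fun a ha => mem_centralizer_singleton_iff.mpr (by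
      have h := (Commute.pow_right (mem_centralizer_singleton_iff.mp ha : Commute a (u * t)) 12).eq
      have hp : (u * t) ^ 12 = w := by
        rw [htu.mul_pow, pow_mul t 2 6, show t ^ 2 = 1 from ht ▸ pow_orderOf_eq_one t, one_pow, mul_one,
          show (12 : ℕ) = 9 + 3 from rfl, pow_add, hu9, one_mul]
      rwa [hp] at h))
    (mem_centralizer_singleton_iff.mpr ((Commute.refl u).mul_right htu).eq)
    (mem_centralizer_singleton_iff.mpr (htu.symm.mul_right (Commute.refl t)).eq)
  have d1 := one_data hG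
  have dx := eleven_data hG hx
  have dx' := eleven_data hG (x := x⁻¹) (by rw [orderOf_inv, hx])
  have df : orderOf f = 5 ∧ Nat.card (centralizer ({f} : Set G)) = 5 := ⟨hf, K.five f hf⟩
  have dw : orderOf w = 3 ∧ Nat.card (centralizer ({w} : Set G)) = 18 := ⟨hw, h18⟩
  have dy : orderOf (w * t) = 6 ∧ Nat.card (centralizer ({w * t} : Set G)) = 6 := ⟨hy, hyC⟩
  have dt : orderOf t = 2 ∧ Nat.card (centralizer ({t} : Set G)) = 48 := ⟨ht, h48⟩
  have du : orderOf u = 9 ∧ Nat.card (centralizer ({u} : Set G)) = 18 := ⟨hu, hCu⟩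
  have dut : orderOf (u * t) = 18 ∧ Nat.card (centralizer ({u * t} : Set G)) = 18 := ⟨hut, hCut⟩
  obtain ⟨z, hz⟩ := exists_new K [1, x, x⁻¹, f, w, w * t, t, u, u * t] (by simp)
  simp only [List.forall_mem_cons] at hz
  obtain ⟨n1, n2, n3, n4, n5, n6, n7, n8, n9, -⟩ := hz
  have hsum := sum_index hG K [1, x, x⁻¹, f, w, w * t, t, u, u * t, z] (by
    simp only [List.pairwise_cons, List.forall_mem_cons, List.not_mem_nil, List.Pairwise.nil, IsEmpty.forall_iff,
      implies_true, and_true]
    refine ⟨⟨?_, ?_, ?_, ?_, ?_, ?_, ?_, ?_, n1⟩, ⟨?_, ?_, ?_, ?_, ?_, ?_, ?_, n2⟩, ⟨?_, ?_, ?_, ?_, ?_, ?_, n3⟩,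
      ⟨?_, ?_, ?_, ?_, ?_, n4⟩, ⟨?_, ?_, ?_, ?_, n5⟩, ⟨?_, ?_, ?_, n6⟩, ⟨?_, ?_, n7⟩, ⟨?_, n8⟩, n9⟩
    all_goals
      first
        | exact not_isConj_inv hG hx
        | exact not_isConj (by assumption) (by assumption) (by norm_num)) (by simp)
  simp only [List.map_cons, List.map_nil, List.sum_cons, List.sum_nil] at hsum
  rw [index_eq hG d1.2 (i := 1) rfl (by norm_num), index_eq hG dx.2 (i := 720) rfl (by norm_num),
    index_eq hG dx'.2 (i := 720) rfl (by norm_num), index_eq hG df.2 (i := 1584) rfl (by norm_num),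
    index_eq hG dw.2 (i := 440) rfl (by norm_num), index_eq hG dy.2 (i := 1320) rfl (by norm_num),
    index_eq hG dt.2 (i := 165) rfl (by norm_num), index_eq hG du.2 (i := 440) rfl (by norm_num),
    index_eq hG dut.2 (i := 440) rfl (by norm_num)] at hsum
  have hd : (centralizer ({z} : Set G)).index ∣ 7920 := ⟨_, (index_mul hG z).symm⟩
  rw [show (centralizer ({z} : Set G)).index = 2090 by omega] at hd
  norm_num at hd

include hG in
/-- The normaliser of a Sylow 3-subgroup has order 144. -/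
theorem normalizer_three (K : Chars G) [Fact (Nat.Prime 3)] (Q : Sylow 3 G) :
    Nat.card (normalizer ((Q : Subgroup G) : Set G)) = 144 := by
  have hQc : Nat.card (Q : Subgroup G) = 3 ^ 2 :=
    CfsgLib.SmallGroups.SimpleTools.card_sylow_subgroup (k := 2) (m := 880) (by rw [hG]; norm_num) (by norm_num) Q
  have hcomm : ∀ a ∈ (Q : Subgroup G), ∀ b ∈ (Q : Subgroup G), a * b = b * a := fun a ha b hb => by
    have := IsPGroup.isMulCommutative_of_card_eq_prime_sq hQc
    exact congrArg Subtype.val (mul_comm' (⟨a, ha⟩ : ↥(Q : Subgroup G)) ⟨b, hb⟩)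
  have hord : ∀ u ∈ (Q : Subgroup G), u ≠ 1 → orderOf u = 3 := fun u hu hu1 => by
    have h := Subgroup.orderOf_dvd_natCard _ hu
    rw [hQc] at h
    obtain ⟨k, hk, hk'⟩ := (Nat.dvd_prime_pow (by norm_num)).mp h
    interval_cases k
    · exact absurd (orderOf_eq_one_iff.mp (by simpa using hk')) hu1
    · simpa using hk'
    · exact absurd (by simpa using hk') (orderOf_ne_nine hG K u)
  have hpow : ∀ w ∈ (Q : Subgroup G), w ≠ 1 → ∀ a ∈ centralizer ({w} : Set G), a ^ 9 = 1 →
      a ∈ (Q : Subgroup G) := by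
    intro w hw hw1 a ha ha9
    have hle : (Q : Subgroup G) ≤ centralizer ({w} : Set G) := fun b hb =>
      mem_centralizer_singleton_iff.mpr (hcomm b hb w hw)
    have hidx : ((Q : Subgroup G).subgroupOf (centralizer ({w} : Set G))).index = 2 := by
      have h := ((Q : Subgroup G).subgroupOf (centralizer ({w} : Set G))).index_mul_card
      rw [Nat.card_congr (subgroupOfEquivOfLe hle).toEquiv, hQc, centralizer_three hG K (hord w hw hw1)] at h
      omega
    have h2 := Subgroup.sq_mem_of_index_two hidx (⟨a, ha⟩ : ↥(centralizer ({w} : Set G)))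
    rw [Subgroup.mem_subgroupOf] at h2
    have h10 : (a ^ 2) ^ 5 = a := by rw [← pow_mul, show 2 * 5 = 9 + 1 from rfl, pow_succ, ha9, one_mul]
    rw [← h10]
    exact pow_mem (by simpa using h2) 5
  have hQ9 : ∀ a ∈ (Q : Subgroup G), a ^ 9 = 1 := fun a ha => by
    have h := orderOf_dvd_iff_pow_eq_one.mp (hQc ▸ Subgroup.orderOf_dvd_natCard _ ha)
    simpa using h
  have hnorm : ∀ g : G, (∀ a ∈ (Q : Subgroup G), g * a * g⁻¹ ∈ (Q : Subgroup G)) →
      g ∈ normalizer ((Q : Subgroup G) : Set G) := by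
    intro g hg
    rw [mem_normalizer_iff]
    intro a
    refine ⟨hg a, fun h => ?_⟩
    have hbij : Function.Bijective fun b : ↥(Q : Subgroup G) => (⟨g * b * g⁻¹, hg b b.2⟩ : ↥(Q : Subgroup G)) :=
      Finite.injective_iff_bijective.mp fun b c hbc => Subtype.ext (by simpa using hbc)
    obtain ⟨⟨b, hb⟩, hb'⟩ := hbij.2 ⟨_, h⟩
    have : b = a := by simpa using congrArg Subtype.val hb'
    exact this ▸ hb
  obtain ⟨w, hwQ, hw1⟩ : ∃ w ∈ (Q : Subgroup G), w ≠ 1 :=
    (Subgroup.bot_or_exists_ne_one _).resolve_left fun h => by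
      rw [h, Subgroup.card_bot] at hQc; norm_num at hQc
  set N := normalizer ((Q : Subgroup G) : Set G) with hN
  have hQN : (Q : Subgroup G) ≤ N := le_normalizer
  have hCN : centralizer ({w} : Set G) ≤ N := fun c hc => hnorm c fun a ha => by
    refine hpow w hwQ hw1 _ ?_ (by rw [conj_pow, hQ9 a ha, mul_one, mul_inv_cancel])
    have haC : a ∈ centralizer ({w} : Set G) := mem_centralizer_singleton_iff.mpr (hcomm a ha w hwQ)
    exact mul_mem (mul_mem hc haC) (inv_mem hc)
  let wN : N := ⟨w, hQN hwQ⟩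
  have hCc : Nat.card (centralizer ({wN} : Set N)) = 18 := by
    rw [← centralizer_three hG K (hord w hwQ hw1), ← Nat.card_congr (subgroupOfEquivOfLe hCN).toEquiv]
    congr 1
    congr 1
    ext a
    rw [Subgroup.mem_subgroupOf, mem_centralizer_singleton_iff, mem_centralizer_singleton_iff, Subtype.ext_iff]
    rfl
  have hcl : Nat.card {v : N // IsConj v wN} = 8 := by
    have hiff : ∀ v : N, IsConj v wN ↔ ((v : G) ∈ (Q : Subgroup G) ∧ (v : G) ≠ 1) := by
      intro v
      constructor
      · intro hv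
        obtain ⟨c, rfl⟩ := isConj_iff.mp hv.symm
        refine ⟨(mem_normalizer_iff.mp c.2 w).mp hwQ, fun h => hw1 ?_⟩
        have : (c : G) * w * (c : G)⁻¹ = 1 := h
        simpa using this
      · rintro ⟨hvQ, hv1⟩
        obtain ⟨g, hg⟩ := isConj_iff.mp (isConj_three hG K (hord v hvQ hv1) (hord w hwQ hw1))
        have hgN : g ∈ N := hnorm g fun a ha => by
          refine hpow w hwQ hw1 _ ?_ (by rw [conj_pow, hQ9 a ha, mul_one, mul_inv_cancel])
          rw [mem_centralizer_singleton_iff, ← hg]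
          exact ((show Commute a (v : G) from hcomm a ha v hvQ).map (MulAut.conj g).toMonoidHom).eq
        exact isConj_iff.mpr ⟨⟨g, hgN⟩, Subtype.ext hg⟩
    have e : {v : N // IsConj v wN} ≃ {q : ↥(Q : Subgroup G) // q ≠ 1} :=
      { toFun := fun v => ⟨⟨v.1, ((hiff v.1).mp v.2).1⟩, fun h => ((hiff v.1).mp v.2).2 (congrArg Subtype.val h)⟩
        invFun := fun q => ⟨⟨q.1, hQN q.1.2⟩, (hiff _).mpr ⟨q.1.2, fun h => q.2 (Subtype.ext h)⟩⟩
        left_inv := fun v => rfl
        right_inv := fun q => rfl }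
    rw [Nat.card_congr e, Nat.card_eq_fintype_card, Fintype.card_subtype_compl, Fintype.card_subtype_eq,
      ← Nat.card_eq_fintype_card, hQc]
    norm_num
  have h := (centralizer ({wN} : Set N)).index_mul_card
  rw [← CfsgLib.Char.card_isConj_eq_index, hcl, hCc] at h
  omega

end CfsgLib.KGroups.M11Classes
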