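import Cfsg.Agent.Lib.KGroups.M11Block

/-!
# The Sylow 5-subgroup of a simple group of order 7920 is self-centralising
-/

set_option autoImplicit false

namespace CfsgLib.KGroups.M11Five

open Cfsg CfsgLib.Blocks CfsgLib.KGroups.M11Tools CfsgLib.KGroups.M11Local CfsgLib.KGroups.M11Block Subgroup
open CfsgLib.SmallGroups
open scoped Classical

variable {G : Type*} [Group G] [Fintype G] [IsSimpleGroup G] (hG : Nat.card G = 7920)

/-- An element of prime order moves a multiple of that prime of the cosets. -/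
theorem fixed_mod (H : Subgroup G) {w : G} {p : ℕ} [Fact p.Prime] (hw : orderOf w = p) :
    Nat.card (MulAction.fixedBy (G ⧸ H) w) % p = H.index % p := by
  have hP : IsPGroup p ↥(zpowers w) := IsPGroup.of_card (n := 1) (by rw [Nat.card_zpowers, hw, pow_one])
  have hmod := hP.card_modEq_card_fixedPoints (G ⧸ H)
  have hfix : MulAction.fixedPoints ↥(zpowers w) (G ⧸ H) = MulAction.fixedBy (G ⧸ H) w := by
    ext q
    rw [MulAction.mem_fixedPoints, MulAction.mem_fixedBy]
    refine ⟨fun h => h ⟨w, mem_zpowers w⟩, fun h g => ?_⟩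
    have hmem : w ∈ MulAction.stabilizer G q := h
    exact (zpowers_le.mpr hmem) g.2
  rw [hfix] at hmod
  exact hmod.symm

/-- Only the identity fixes every coset of a proper subgroup. -/
theorem eq_one_of_fixed_all (hna : ¬ IsMulCommutative G) {H : Subgroup G} (hH : H ≠ ⊤) {w : G}
    (h : Nat.card (MulAction.fixedBy (G ⧸ H) w) = H.index) : w = 1 := by
  have hker : (MulAction.toPermHom G (G ⧸ H)).ker = ⊥ :=
    ((inferInstance : (MulAction.toPermHom G (G ⧸ H)).ker.Normal).eq_bot_or_eq_top).resolve_right fun htop =>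
      hH (eq_top_iff.mpr fun g _ => by
        have h1 := MonoidHom.mem_ker.mp (htop ▸ mem_top g : g ∈ (MulAction.toPermHom G (G ⧸ H)).ker)
        have h2 := Equiv.Perm.congr_fun h1 ((1 : G) : G ⧸ H)
        simp only [MulAction.toPermHom_apply, MulAction.toPerm_apply, Equiv.Perm.one_apply] at h2
        rw [MulAction.Quotient.smul_coe, smul_eq_mul, mul_one, eq_comm, QuotientGroup.eq] at h2
        simpa using h2)
  have _ := hna
  have hall : ∀ q : G ⧸ H, w • q = q := by
    intro q
    have hinj : Function.Injective (Subtype.val : MulAction.fixedBy (G ⧸ H) w → G ⧸ H) := Subtype.val_injective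
    have hbij : Function.Bijective (Subtype.val : MulAction.fixedBy (G ⧸ H) w → G ⧸ H) :=
      (Nat.bijective_iff_injective_and_card _).mpr ⟨hinj, h⟩
    obtain ⟨⟨q', hq'⟩, rfl⟩ := hbij.2 q
    exact hq'
  exact (MonoidHom.ker_eq_bot_iff _).mp hker (Equiv.ext fun q => by simpa using hall q)

include hG in
theorem card_sylow_five [Fact (Nat.Prime 5)] (P : Sylow 5 G) : Nat.card (P : Subgroup G) = 5 :=
  (SimpleTools.card_sylow_subgroup (k := 1) (m := 1584) (by rw [hG]; norm_num) (by norm_num) P).trans (pow_one _)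

include hG in
theorem five_cases [Fact (Nat.Prime 5)] (P : Sylow 5 G) :
    ∃ e k : ℕ, ((e = 2 ∧ k = 2) ∨ (e = 4 ∧ k = 1) ∨ (e = 2 ∧ k = 12) ∨ (e = 4 ∧ k = 6)) ∧
      Nat.card (normalizer ((P : Subgroup G) : Set G)) = e * (5 * k) ∧
      Nat.card (centralizer ((P : Subgroup G) : Set G)) = 5 * k := by
  have hna := not_comm hG
  haveI : Fact (Nat.Prime 11) := ⟨by norm_num⟩
  haveI : Fact (Nat.Prime 3) := ⟨by norm_num⟩
  have hP := card_sylow_five hG P
  obtain ⟨e, k, he1, he, hN, hC⟩ := LocalTools.exists_e hna P hP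
  refine ⟨e, k, ?_, hN, hC⟩
  have hn := SimpleTools.card_sylow_mem (G := G) (p := 5) (k := 1) (m := 1584)
    (by rw [hG]; norm_num) (by norm_num)
  have hne1 := SimpleTools.card_sylow_ne_one (p := 5) hna (by rw [hG]; norm_num)
  have hmul : Nat.card (Sylow 5 G) * Nat.card (normalizer ((P : Subgroup G) : Set G)) = Nat.card G :=
    SimpleTools.card_normalizer_mul P
  rw [hG, hN] at hmul
  have he4 : e ∈ Nat.divisors 4 := Nat.mem_divisors.mpr ⟨he, by norm_num⟩
  have hn6 : Nat.card (Sylow 5 G) ≠ 6 := fun h => by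
    have h2 := SimpleTools.card_normalizer_of_succ hna (by norm_num) P hP (by omega)
    rw [hN] at h2
    rw [h] at hmul
    have := Nat.le_of_dvd (by norm_num) h2
    omega
  have h11 : ¬ 11 ∣ k := fun hd => by
    obtain ⟨⟨u, huC⟩, hu⟩ := exists_prime_orderOf_dvd_card' 11
      (show 11 ∣ Nat.card (centralizer ((P : Subgroup G) : Set G)) by rw [hC]; exact Dvd.dvd.mul_left hd 5)
    rw [Subgroup.orderOf_mk] at hu
    obtain ⟨Q, hQ⟩ := (IsPGroup.of_card (n := 1) (by rw [Nat.card_zpowers, hu, pow_one]) :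
      IsPGroup 11 ↥(zpowers u)).exists_le_sylow
    have hQc := card_sylow_eleven hG Q
    have hQz : zpowers u = (Q : Subgroup G) :=
      Subgroup.eq_of_le_of_card_ge hQ (by rw [hQc, Nat.card_zpowers, hu])
    have hle : (P : Subgroup G) ≤ centralizer ((Q : Subgroup G) : Set G) := fun y hy => by
      rw [← hQz, zpowers_eq_closure, centralizer_closure, mem_centralizer_singleton_iff]
      exact mem_centralizer_iff.mp huC y hy
    have := Subgroup.card_dvd_of_le hle
    rw [hP, (normalizer_eleven hG Q).2] at this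
    norm_num at this
  have h720 : Nat.card (Sylow 5 G) = 11 → False := fun h => by
    rw [h] at hmul
    have hek : e * (5 * k) = 720 := by omega
    have h3 : 3 ∣ k := by fin_cases he4 <;> omega
    obtain ⟨⟨w, hwC⟩, hw⟩ := exists_prime_orderOf_dvd_card' 3
      (show 3 ∣ Nat.card (centralizer ((P : Subgroup G) : Set G)) by rw [hC]; exact Dvd.dvd.mul_left h3 5)
    rw [Subgroup.orderOf_mk] at hw
    set H := normalizer ((P : Subgroup G) : Set G) with hH
    have hidx : H.index = 11 := P.card_eq_index_normalizer.symm.trans h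
    have h5 := LocalTools.card_fixedBy_modEq_one P hP hwC
    have h3' := fixed_mod H hw
    have hle : Nat.card (MulAction.fixedBy (G ⧸ H) w) ≤ H.index :=
      Nat.card_le_card_of_injective _ Subtype.val_injective
    rw [hidx] at h3' hle
    have hw1 := eq_one_of_fixed_all hna (SimpleTools.normalizer_ne_top hna (by rw [hG]; norm_num) P)
      (show Nat.card (MulAction.fixedBy (G ⧸ H) w) = H.index by rw [hidx]; rw [hH] at *; omega)
    rw [hw1, orderOf_one] at hw
    norm_num at hw
  have hcases : Nat.card (Sylow 5 G) = 11 ∨ Nat.card (Sylow 5 G) = 16 ∨ Nat.card (Sylow 5 G) = 36 ∨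
      Nat.card (Sylow 5 G) = 66 ∨ Nat.card (Sylow 5 G) = 176 ∨ Nat.card (Sylow 5 G) = 396 := by
    revert hn hne1 hn6
    generalize Nat.card (Sylow 5 G) = n
    intro hn hne1 hn6
    rw [Finset.mem_filter, Nat.mem_divisors] at hn
    obtain ⟨⟨hd, -⟩, hm⟩ := hn
    obtain ⟨c, d, hc, hd', rfl⟩ := Nat.dvd_mul.mp (show n ∣ 16 * 99 from hd)
    have hc' : c ∈ Nat.divisors 16 := Nat.mem_divisors.mpr ⟨hc, by norm_num⟩
    have hd'' : d ∈ Nat.divisors 99 := Nat.mem_divisors.mpr ⟨hd', by norm_num⟩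
    fin_cases hc' <;> fin_cases hd'' <;> omega
  rcases hcases with h | h | h | h | h | h
  · exact (h720 h).elim
  all_goals (rw [h] at hmul; fin_cases he4 <;> omega)

include hG in
theorem centralizer_five_eq [Fact (Nat.Prime 5)] {x : G} (hx : orderOf x = 5) :
    ∃ P : Sylow 5 G, x ∈ (P : Subgroup G) ∧
      centralizer ((P : Subgroup G) : Set G) = centralizer ({x} : Set G) := by
  obtain ⟨P, hP⟩ := (IsPGroup.of_card (n := 1) (by rw [Nat.card_zpowers, hx, pow_one]) :
    IsPGroup 5 ↥(zpowers x)).exists_le_sylow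
  have hz : zpowers x = (P : Subgroup G) :=
    Subgroup.eq_of_le_of_card_ge hP (by rw [card_sylow_five hG P, Nat.card_zpowers, hx])
  refine ⟨P, hP (mem_zpowers x), ?_⟩
  rw [← hz, zpowers_eq_closure, centralizer_closure]

include hG in
/-- A character of degree five makes the elements of order five self-centralising. -/
theorem centralizer_of_deg_five [Fact (Nat.Prime 5)] {χ : IrrCharacter G}
    (hχ : charDegree (χ : G → ℂ) = 5) {x : G} (hx : orderOf x = 5) :
    Nat.card (centralizer ({x} : Set G)) = 5 := by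
  have hna := not_comm hG
  obtain ⟨P, hxP, hPC⟩ := centralizer_five_eq hG hx
  obtain ⟨e, k, hek, -, hC⟩ := five_cases hG P
  rw [← hPC, hC]
  by_contra hne
  have hk2 : k.minFac.Prime := Nat.minFac_prime (by intro h; rw [h] at hne; exact hne rfl)
  set q := k.minFac with hq
  haveI : Fact q.Prime := ⟨hk2⟩
  have hqk : q ∣ k := Nat.minFac_dvd k
  have hq5 : q ≠ 5 := fun h => by
    rw [h] at hqk
    rcases hek with ⟨-, rfl⟩ | ⟨-, rfl⟩ | ⟨-, rfl⟩ | ⟨-, rfl⟩ <;> norm_num at hqk
  obtain ⟨⟨y, hyC⟩, hy⟩ := exists_prime_orderOf_dvd_card' q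
    (show q ∣ Nat.card (centralizer ((P : Subgroup G) : Set G)) by rw [hC]; exact Dvd.dvd.mul_left hqk 5)
  rw [Subgroup.orderOf_mk] at hy
  have hxy : Commute x y := mem_centralizer_iff.mp hyC x hxP
  have hco : Nat.Coprime 5 q := (Nat.coprime_primes (by norm_num) hk2).mpr (Ne.symm hq5)
  have hord : orderOf (x * y) = 5 * q := by
    rw [hxy.orderOf_mul_eq_mul_orderOf_of_coprime (by rw [hx, hy]; exact hco), hx, hy]
  set g := x * y with hg
  obtain ⟨μ, hμ, hval⟩ := exists_roots χ g
  rw [hord] at hμ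
  have hvan : ∀ i : ℕ, ¬ 5 ∣ i → (χ : G → ℂ) (g ^ i) = 0 := fun i hi => by
    refine vanish χ (p := 5) (n := 1) (by norm_num) (by rw [hG]; norm_num) (by rw [hG]; norm_num)
      (by rw [hχ]; norm_num) ?_
    rw [orderOf_pow, hord]
    refine Nat.dvd_div_of_mul_dvd ?_
    rw [mul_comm _ 5]
    refine Nat.mul_dvd_mul_left 5 ?_
    have h1 : Nat.gcd (5 * q) i ∣ 5 * q := Nat.gcd_dvd_left _ _
    have h2 : Nat.Coprime (Nat.gcd (5 * q) i) 5 := by
      refine Nat.Coprime.coprime_dvd_left (Nat.gcd_dvd_right _ _) ?_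
      exact ((show Nat.Prime 5 by norm_num).coprime_iff_not_dvd.mpr hi).symm
    exact h2.dvd_of_dvd_mul_left h1
  -- the powers of `g ^ 5` carry the whole character
  have hzeq : ∀ ν : ℂ, ν ^ (5 * q) = 1 →
      ((5 * q : ℕ) : ℂ) * ((Finset.univ.filter fun a => μ a = ν).card : ℂ) =
        (q : ℂ) * ((Finset.univ.filter fun a => μ a ^ 5 = ν ^ 5).card : ℂ) := by
    intro ν hν
    rw [← sum_twist μ hμ hν, ← sum_twist (fun a => μ a ^ 5) (n := q)
      (fun a => by rw [← pow_mul]; exact hμ a) (by rw [← pow_mul]; exact hν)]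
    simp_rw [← hval]
    rw [← Finset.sum_subset (s₁ := (Finset.range q).image (5 * ·)) (fun i hi => by
      obtain ⟨j, hj, rfl⟩ := Finset.mem_image.mp hi
      simp only [Finset.mem_range] at hj ⊢
      omega) (fun i hi hi' => ?_), Finset.sum_image (fun a _ b _ h => by
      exact Nat.eq_of_mul_eq_mul_left (by norm_num) h)]
    · refine Finset.sum_congr rfl fun j _ => ?_
      rw [pow_mul ν⁻¹, inv_pow]
      rw [hval (5 * j)]
      exact congrArg (· * _) (Finset.sum_congr rfl fun a _ => pow_mul _ _ _)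
    · have : ¬ 5 ∣ i := fun ⟨j, hj⟩ => hi' (Finset.mem_image.mpr ⟨j, Finset.mem_range.mpr (by
        simp only [Finset.mem_range] at hi; omega), hj.symm⟩)
      rw [hvan i this, zero_mul]
  set a0 : Fin (charDegree (χ : G → ℂ)) := ⟨0, charDegree_pos χ⟩ with ha0
  have hone := hzeq (μ a0) (hμ a0)
  have hall : ∀ a, μ a ^ 5 = μ a0 ^ 5 := by
    have hq0 : (q : ℂ) ≠ 0 := Nat.cast_ne_zero.mpr hk2.ne_zero
    have h1 : 5 * (Finset.univ.filter fun a => μ a = μ a0).card =
        (Finset.univ.filter fun a => μ a ^ 5 = μ a0 ^ 5).card := by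
      have h2 : ((5 : ℂ) * ((Finset.univ.filter fun a => μ a = μ a0).card : ℂ)) =
          ((Finset.univ.filter fun a => μ a ^ 5 = μ a0 ^ 5).card : ℂ) := by
        push_cast at hone
        exact mul_left_cancel₀ hq0 (by linear_combination hone)
      exact_mod_cast h2
    have hpos : 0 < (Finset.univ.filter fun a => μ a = μ a0).card :=
      Finset.card_pos.mpr ⟨a0, by simp⟩
    have hle : (Finset.univ.filter fun a => μ a ^ 5 = μ a0 ^ 5).card ≤ 5 :=
      (Finset.card_le_univ _).trans (le_of_eq ((Fintype.card_fin _).trans hχ))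
    have hfull : (Finset.univ.filter fun a => μ a ^ 5 = μ a0 ^ 5) = Finset.univ :=
      Finset.eq_univ_of_card _ (le_antisymm (Finset.card_le_univ _)
        (le_trans (le_of_eq ((Fintype.card_fin _).trans hχ)) (by omega)))
    intro a
    have := hfull ▸ Finset.mem_univ a
    exact (Finset.mem_filter.mp this).2
  have hg5 : (χ : G → ℂ) (g ^ 5) = (5 : ℂ) * μ a0 ^ 5 := by
    rw [hval, Finset.sum_congr rfl fun a _ => hall a, Finset.sum_const, Finset.card_univ, Fintype.card_fin,
      hχ, nsmul_eq_mul]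
    norm_num
  have hne1 : g ^ 5 ≠ 1 := fun h => by
    have := orderOf_dvd_of_pow_eq_one h
    rw [hord] at this
    have := Nat.le_of_dvd (by norm_num) this
    have := hk2.two_le
    omega
  have hlt := norm_lt hna χ (by omega) hne1
  rw [hg5, norm_mul, norm_pow, Complex.norm_eq_one_of_pow_eq_one (hμ a0) (by have := hk2.two_le; omega), hχ] at hlt
  norm_num at hlt

include hG in
/-- Self-centralising elements of order five have rational values. -/
theorem values_five [Fact (Nat.Prime 5)] {x : G} (hx : orderOf x = 5)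
    (hC : Nat.card (centralizer ({x} : Set G)) = 5) (χ : IrrCharacter G) :
    ∃ v : ℤ, (χ : G → ℂ) x = v ∧ (charDegree (χ : G → ℂ) : ℤ) ≡ v [ZMOD 5] := by
  obtain ⟨P, hxP, hPC⟩ := centralizer_five_eq hG hx
  obtain ⟨e, k, hek, hN, hC'⟩ := five_cases hG P
  rw [hPC, hC] at hC'
  obtain rfl : k = 1 := by omega
  obtain rfl : e = 4 := by omega
  have haut : TIAbelian.autCard P = 4 := autCard_of P (by rw [hN, hPC, hC])
  have hP := card_sylow_five hG P
  haveI : IsCyclic ↥(P : Subgroup G) := isCyclic_of_prime_card hP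
  have htop : TIAbelian.autGroup P = ⊤ := by
    refine Subgroup.eq_top_of_card_eq _ ?_
    rw [show Nat.card (TIAbelian.autGroup P) = 4 from haut, IsCyclic.card_mulAut, hP]
    decide
  have hconj : ∀ i : ℕ, ¬ 5 ∣ i → IsConj x (x ^ i) := by
    intro i hi
    have hcop : (Nat.card ↥(P : Subgroup G)).Coprime i := by
      rw [hP]; exact (show Nat.Prime 5 by norm_num).coprime_iff_not_dvd.mpr hi
    let α : MulAut ↥(P : Subgroup G) :=
      MulEquiv.ofBijective
        ({ toFun := fun a => a ^ i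
           map_one' := one_pow i
           map_mul' := fun a b => Commute.mul_pow (show Commute a b from IsCyclic.isMulCommutative.is_comm.comm a b) i } :
          ↥(P : Subgroup G) →* ↥(P : Subgroup G))
        (powCoprime hcop).bijective
    exact TIAbelian.isConj_of_mem_autGroup (P := P) (α := α) (htop ▸ mem_top α) ⟨x, hxP⟩
  obtain ⟨m, hm⟩ := sum_powers χ x
  rw [hx, sum_range_split (by norm_num), pow_zero, irr_one_eq,
    Finset.sum_congr rfl (g := fun _ => (χ : G → ℂ) x) fun i hi => by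
      have : ¬ 5 ∣ i := fun h => by
        have := Finset.mem_Ico.mp hi
        exact absurd (Nat.le_of_dvd (by omega) h) (by omega)
      exact (CfsgLib.Char.IsClassFunction.apply_eq_of_isConj
        (CfsgLib.Char.IsIrrCharacter.isClassFunction χ.2) (hconj i this)).symm] at hm
  simp at hm
  obtain ⟨v, hv⟩ := CfsgLib.Char.exists_int_of_isIntegral_rat (irr_isIntegral χ x)
    (q := ((5 * m : ℚ) - charDegree (χ : G → ℂ)) / 4) (by push_cast; linear_combination hm / 4)
  refine ⟨v, hv, ?_⟩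
  rw [hv] at hm
  have h' : (charDegree (χ : G → ℂ) : ℂ) + 4 * (v : ℂ) = 5 * (m : ℂ) := by linear_combination hm
  have h : (charDegree (χ : G → ℂ) : ℤ) + 4 * v = 5 * m := by exact_mod_cast h'
  rw [Int.modEq_iff_dvd]
  exact ⟨v - m, by linarith⟩

include hG in
theorem sum_sq_five [Fact (Nat.Prime 5)] {x : G} (_hx : orderOf x = 5)
    (hC : Nat.card (centralizer ({x} : Set G)) = 5) (s : Finset (IrrCharacter G)) :
    ∑ χ ∈ s, ‖(χ : G → ℂ) x‖ ^ 2 ≤ 5 := by
  have h := sum_norm_sq_column x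
  rw [hC] at h
  refine (Finset.sum_le_sum_of_subset_of_nonneg (Finset.subset_univ s) fun _ _ _ => sq_nonneg _).trans ?_
  rw [h]; norm_num

theorem norm_sq_ge {z : ℂ} {v : ℤ} (hz : z = v) {r : ℤ} (hv : r ≤ v ^ 2) : (r : ℝ) ≤ ‖z‖ ^ 2 := by
  rw [hz, Complex.norm_intCast, sq_abs]
  exact_mod_cast hv

include hG in
/-- The degrees prime to eleven. -/
theorem data_sixteen [Fact (Nat.Prime 5)] (D : Data G) :
    (∀ θ ∈ D.Y, charDegree (θ : G → ℂ) = 16) ∧ D.εy = 1 ∧
        ((D.X.erase (trivChar G)).filter fun χ : IrrCharacter G => charDegree (χ : G → ℂ) = 12).card = 0 ∧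
        ((D.X.erase (trivChar G)).filter fun χ : IrrCharacter G => charDegree (χ : G → ℂ) = 45).card = 1 := by
  refine D.hcases.resolve_left ?_
  rintro ⟨hY5, h12, -⟩
  obtain ⟨θ, hθ⟩ : D.Y.Nonempty := Finset.card_pos.1 (by rw [D.hY]; norm_num)
  obtain ⟨x, hx⟩ := exists_prime_orderOf_dvd_card' 5 (show 5 ∣ Nat.card G by rw [hG]; norm_num)
  have hC := centralizer_of_deg_five hG (hY5 θ hθ) hx
  set T := (D.X.erase (trivChar G)).filter fun χ : IrrCharacter G => charDegree (χ : G → ℂ) = 12 with hT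
  have hle := sum_sq_five hG hx hC (insert (trivChar G) T)
  rw [Finset.sum_insert (by simp [hT]), trivChar_apply, norm_one, one_pow] at hle
  have h8 : (8 : ℝ) ≤ ∑ χ ∈ T, ‖(χ : G → ℂ) x‖ ^ 2 := by
    refine le_trans (le_of_eq ?_) (Finset.sum_le_sum (f := fun _ => (4 : ℝ)) fun χ hχ => ?_)
    · rw [Finset.sum_const, h12]; norm_num
    obtain ⟨v, hv, hmod⟩ := values_five hG hx hC χ
    rw [(Finset.mem_filter.mp hχ).2, Int.ModEq] at hmod
    have h4 : (4 : ℤ) ≤ v ^ 2 := by
      rcases le_or_gt v 0 with h | h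
      · nlinarith [show v ≤ -2 by omega]
      · nlinarith [show 2 ≤ v by omega]
    exact_mod_cast norm_sq_ge hv h4
  linarith

include hG in
theorem deg_list [Fact (Nat.Prime 5)] (D : Data G) (χ : IrrCharacter G) :
    charDegree (χ : G → ℂ) = 1 ∨ charDegree (χ : G → ℂ) = 45 ∨ charDegree (χ : G → ℂ) = 10 ∨
      charDegree (χ : G → ℂ) = 16 ∨ 11 ∣ charDegree (χ : G → ℂ) := by
  obtain ⟨hY, -, h12, -⟩ := data_sixteen hG D
  by_cases hX : χ ∈ D.X
  · by_cases ht : χ = trivChar G
    · left; rw [ht]; simp [charDegree]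
    have hmem : χ ∈ D.X.erase (trivChar G) := Finset.mem_erase.mpr ⟨ht, hX⟩
    rcases D.hdeg χ hmem with ⟨-, h⟩ | ⟨-, h⟩ | ⟨-, h⟩
    · rw [Finset.card_eq_zero, Finset.filter_eq_empty_iff] at h12
      exact absurd h (h12 hmem)
    · exact Or.inr (Or.inl h)
    · exact Or.inr (Or.inr (Or.inl h))
  by_cases hY' : χ ∈ D.Y
  · exact Or.inr (Or.inr (Or.inr (Or.inl (hY χ hY'))))
  · exact Or.inr (Or.inr (Or.inr (Or.inr (D.hrest χ hX hY'))))

end CfsgLib.KGroups.M11Five
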