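import Cfsg.Agent.Lib.KGroups.M11Tools
import Cfsg.Agent.Lib.SmallGroups.LocalTools
import Cfsg.Agent.Lib.SmallGroups.SimpleOrders

/-!
# The Sylow 11-normaliser of a simple group of order 7920
-/

set_option autoImplicit false

namespace CfsgLib.KGroups.M11Local

open Cfsg CfsgLib.Blocks CfsgLib.KGroups.M11Tools Subgroup
open CfsgLib.SmallGroups
open scoped Classical

variable {G : Type*} [Group G] [Fintype G] [IsSimpleGroup G] (hG : Nat.card G = 7920)

include hG in
theorem not_comm : ¬ IsMulCommutative G :=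
  SimpleTools.not_comm_of_card (by rw [hG]; norm_num)

include hG in
theorem card_sylow_eleven (P : Sylow 11 G) [Fact (Nat.Prime 11)] : Nat.card (P : Subgroup G) = 11 :=
  (SimpleTools.card_sylow_subgroup (k := 1) (m := 720) (by rw [hG]; norm_num) (by norm_num) P).trans (pow_one _)

theorem autCard_of {p : ℕ} [Fact p.Prime] (P : Sylow p G) {e : ℕ}
    (hN : Nat.card (normalizer ((P : Subgroup G) : Set G)) =
      e * Nat.card (centralizer ((P : Subgroup G) : Set G))) : TIAbelian.autCard P = e := by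
  rw [TIAbelian.autCard_eq, relIndex]
  have h := ((centralizer ((P : Subgroup G) : Set G)).subgroupOf
    (normalizer ((P : Subgroup G) : Set G))).index_mul_card
  rw [Nat.card_congr (subgroupOfEquivOfLe (centralizer_le_normalizer _)).toEquiv, hN] at h
  exact Nat.eq_of_mul_eq_mul_right Nat.card_pos h

theorem isPPart_mul_of {p : ℕ} {a z : G} {k : ℕ} (ha : orderOf a = p ^ k) (hc : Commute a z)
    (hz : ¬ p ∣ orderOf z) : IsPPart p (a * z) a :=
  ⟨z, rfl, hc, ⟨k, ha⟩, hz⟩

theorem orderOf_pow_prime {p : ℕ} (hp : p.Prime) {x : G} (hx : orderOf x = p) {i : ℕ} (hi : ¬ p ∣ i) :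
    orderOf (x ^ i) = p := by
  rw [orderOf_pow, hx, ((hp.coprime_iff_not_dvd).mpr hi).gcd_eq_one, Nat.div_one]

theorem pow_ne_one_of_not_dvd {p : ℕ} {x : G} (hx : orderOf x = p) {i : ℕ} (hi : ¬ p ∣ i) : x ^ i ≠ 1 :=
  fun h => hi (hx ▸ orderOf_dvd_of_pow_eq_one h)

theorem mem_block_small {a : ℕ} (h1 : 2 ≤ a) (h2 : a ≤ 88) (hd : a ∣ 7920) :
    (a % 11 = 1 → a = 12 ∨ a = 45) ∧ (a % 11 = 10 → a = 10) := by
  have : ∀ b ∈ Finset.Icc 2 88, b ∣ 7920 → (b % 11 = 1 → b = 12 ∨ b = 45) ∧ (b % 11 = 10 → b = 10) := by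
    decide
  exact this a (Finset.mem_Icc.mpr ⟨h1, h2⟩) hd

include hG in
theorem deg_le (χ : IrrCharacter G) : charDegree (χ : G → ℂ) ≤ 88 := by
  have h := Finset.single_le_sum (f := fun ψ : IrrCharacter G => charDegree (ψ : G → ℂ) ^ 2)
    (fun _ _ => Nat.zero_le _) (Finset.mem_univ χ)
  rw [sum_deg_sq, hG] at h
  nlinarith

include hG in
theorem normalizer_eleven [Fact (Nat.Prime 11)] (P : Sylow 11 G) :
    Nat.card (normalizer ((P : Subgroup G) : Set G)) = 55 ∧
      Nat.card (centralizer ((P : Subgroup G) : Set G)) = 11 := by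
  have hna := not_comm hG
  have hP := card_sylow_eleven hG P
  obtain ⟨e, k, he1, he, hN, hC⟩ := LocalTools.exists_e hna P hP
  have hn := SimpleTools.card_sylow_mem (G := G) (p := 11) (k := 1) (m := 720)
    (by rw [hG]; norm_num) (by norm_num)
  have hne1 := SimpleTools.card_sylow_ne_one (p := 11) hna (by rw [hG]; norm_num)
  have hmul : Nat.card (Sylow 11 G) * Nat.card (normalizer ((P : Subgroup G) : Set G)) = Nat.card G :=
    SimpleTools.card_normalizer_mul P
  rw [hG, hN] at hmul
  have hcases : Nat.card (Sylow 11 G) = 12 ∨ Nat.card (Sylow 11 G) = 45 ∨ Nat.card (Sylow 11 G) = 144 := by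
    revert hn hne1
    generalize Nat.card (Sylow 11 G) = n
    intro hn hne1
    rw [Finset.mem_filter, Nat.mem_divisors] at hn
    obtain ⟨⟨hd, -⟩, hm⟩ := hn
    obtain ⟨c, d, hc, hd', rfl⟩ := Nat.dvd_mul.mp (show n ∣ 16 * 45 from hd)
    have hc' : c ∈ Nat.divisors 16 := Nat.mem_divisors.mpr ⟨hc, by norm_num⟩
    have hd'' : d ∈ Nat.divisors 45 := Nat.mem_divisors.mpr ⟨hd', by norm_num⟩
    fin_cases hc' <;> fin_cases hd'' <;> omega
  have he10 : e ∈ Nat.divisors 10 := Nat.mem_divisors.mpr ⟨he, by norm_num⟩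
  rcases hcases with h | h | h <;> rw [h] at hmul
  · exfalso
    have h2 := SimpleTools.card_normalizer_of_succ hna (by norm_num) P hP (by omega)
    rw [hN] at h2
    have := Nat.le_of_dvd (by norm_num) h2
    omega
  · exfalso
    have hek : e * k = 16 := by nlinarith
    obtain ⟨rfl, rfl⟩ : e = 2 ∧ k = 8 := by
      fin_cases he10 <;> omega
    obtain ⟨M, hM⟩ := DegreeTools.TISum.exists_pmodular (show Nat.Prime 11 by norm_num)
    obtain ⟨X, Y, εX, ε, hB, hdisj, hX, hY, hXp, hε, hYd, hYeq, hrel⟩ :=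
      PrimeOrder.principal_block hM (by norm_num) P hP
    rw [autCard_of P (e := 2) (by rw [hN, hC])] at hX hY hYd
    obtain ⟨x, hxP, hx, -⟩ := PrimeOrder.exists_generator P hP
    -- the non-principal member of `X`
    have htriv : trivChar G ∈ X := by
      refine ((hB _).1 (trivChar_mem_principalBlock hM)).resolve_right fun h => ?_
      have h1 := hYd _ h
      rw [show charDegree ((trivChar G : IrrCharacter G) : G → ℂ) = 1 by simp [charDegree]] at h1
      rcases hε with rfl | rfl <;> simp [Int.modEq_iff_dvd] at h1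
    have hεt : εX (trivChar G) = 1 := by
      have h := (hXp _ htriv).2.2 x x ⟨1, mul_one _, Commute.one_right _, ⟨1, by rw [hx, pow_one]⟩,
        by rw [orderOf_one]; norm_num⟩ hxP (fun h => by rw [h, orderOf_one] at hx; omega)
      rw [trivChar_apply] at h
      exact_mod_cast h.symm
    obtain ⟨χ, hχ⟩ := Finset.card_eq_one.mp (show (X.erase (trivChar G)).card = 1 by
      rw [Finset.card_erase_of_mem htriv, hX])
    have hχX : χ ∈ X ∧ χ ≠ trivChar G := by
      have : χ ∈ X.erase (trivChar G) := hχ ▸ Finset.mem_singleton_self χ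
      exact ⟨(Finset.mem_erase.mp this).2, (Finset.mem_erase.mp this).1⟩
    obtain ⟨θ, hθ⟩ : Y.Nonempty := Finset.card_pos.1 (by rw [hY]; norm_num)
    have hχd2 : 2 ≤ charDegree (χ : G → ℂ) := by
      have := charDegree_pos χ
      have : charDegree (χ : G → ℂ) ≠ 1 := fun h => hχX.2 (BlockDegrees.eq_trivChar hna χ h)
      omega
    obtain ⟨hs, hmod, hconst⟩ := hXp χ hχX.1
    have hr := hrel θ hθ 1 (by rw [orderOf_one]; norm_num)
    rw [← Finset.add_sum_erase _ _ htriv, hχ, Finset.sum_singleton, hεt] at hr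
    simp only [irr_one_eq, trivChar_apply, Int.cast_one, mul_one] at hr
    have hr' : ε * (charDegree (θ : G → ℂ) : ℤ) = 1 + εX χ * (charDegree (χ : G → ℂ) : ℤ) := by
      exact_mod_cast hr
    -- five exceptional characters of that degree
    have hsq : 5 * charDegree (θ : G → ℂ) ^ 2 ≤ 7920 := by
      have h5 : Y.card = 5 := by rw [hY]
      calc 5 * charDegree (θ : G → ℂ) ^ 2 = ∑ η ∈ Y, charDegree (η : G → ℂ) ^ 2 := by
            rw [Finset.sum_congr rfl (g := fun _ => charDegree (θ : G → ℂ) ^ 2) fun η hη => ?_,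
              Finset.sum_const, h5, smul_eq_mul]
            have := hYeq η hη θ hθ 1 (by rw [orderOf_one]; norm_num)
            rw [irr_one_eq, irr_one_eq, Nat.cast_inj] at this
            rw [this]
        _ ≤ ∑ η : IrrCharacter G, charDegree (η : G → ℂ) ^ 2 :=
            Finset.sum_le_sum_of_subset_of_nonneg (Finset.subset_univ _) fun _ _ _ => Nat.zero_le _
        _ = 7920 := by rw [sum_deg_sq, hG]
    have hθ39 : charDegree (θ : G → ℂ) ≤ 39 := by nlinarith
    have hθdvd : charDegree (θ : G → ℂ) ∣ 7920 := hG ▸ charDegree_dvd θ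
    obtain ⟨hsm, hsn⟩ := mem_block_small hχd2 (deg_le hG χ) (hG ▸ charDegree_dvd χ)
    obtain ⟨hχ10, hεχ⟩ : charDegree (χ : G → ℂ) = 10 ∧ εX χ = -1 := by
      rcases hs with h | h <;> rw [h] at hmod hr' ⊢ <;> rw [Int.ModEq] at hmod
      · exfalso
        rcases hsm (by omega) with h12 | h45 <;> rcases hε with rfl | rfl
        · have e : charDegree (θ : G → ℂ) = 13 := by omega
          rw [e] at hθdvd; norm_num at hθdvd
        · omega
        · omega
        · omega
      · exact ⟨hsn (by omega), rfl⟩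
    -- an involution centralising `P`
    haveI : Fact (Nat.Prime 2) := ⟨Nat.prime_two⟩
    obtain ⟨⟨z, hzC⟩, hz⟩ := exists_prime_orderOf_dvd_card' 2
      (show 2 ∣ Nat.card (centralizer ((P : Subgroup G) : Set G)) by rw [hC]; norm_num)
    rw [Subgroup.orderOf_mk] at hz
    have hxz : Commute x z := mem_centralizer_iff.mp hzC x hxP
    have hval : ∀ (i : ℕ) (u : G), ¬ 11 ∣ i → Commute x u → ¬ 11 ∣ orderOf u →
        (χ : G → ℂ) (x ^ i * u) = -1 := by
      intro i u hi hc hu
      rw [hconst _ _ (isPPart_mul_of (k := 1) (by rw [orderOf_pow_prime (by norm_num) hx hi, pow_one])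
        (hc.pow_left i) hu) (pow_mem hxP i) (pow_ne_one_of_not_dvd hx hi), hεχ]
      push_cast; rfl
    have hord : orderOf (x * z) = 22 := by
      rw [hxz.orderOf_mul_eq_mul_orderOf_of_coprime (by rw [hx, hz]; norm_num), hx, hz]
    obtain ⟨m, hm⟩ := sum_powers χ (x * z)
    rw [hord] at hm
    have hterm : ∀ i ∈ Finset.range 22, (χ : G → ℂ) ((x * z) ^ i) =
        if i = 11 then (χ : G → ℂ) z else if i = 0 then (10 : ℂ) else -1 := by
      intro i hi
      rw [Finset.mem_range] at hi
      have hx11 : x ^ 11 = 1 := hx ▸ pow_orderOf_eq_one x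
      have hz2 : z ^ 2 = 1 := hz ▸ pow_orderOf_eq_one z
      split_ifs with h1 h0
      · subst h1
        rw [hxz.mul_pow, hx11, one_mul, show (11 : ℕ) = 2 * 5 + 1 from rfl, pow_succ, pow_mul, hz2, one_pow,
          one_mul]
      · subst h0
        rw [pow_zero, irr_one_eq, hχ10]; norm_num
      · rw [hxz.mul_pow]
        refine hval i _ (by omega) (hxz.pow_right i) fun hd => ?_
        have h2 : orderOf (z ^ i) ∣ 2 := hz ▸ orderOf_pow_dvd i
        exact absurd (Nat.le_of_dvd (by norm_num) (hd.trans h2)) (by norm_num)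
    rw [Finset.sum_congr rfl hterm] at hm
    simp only [Finset.sum_range_succ, Finset.sum_range_zero] at hm
    norm_num at hm
    have hzne : z ≠ 1 := fun h => by rw [h, orderOf_one] at hz; omega
    have hlt := norm_lt hna χ (by omega) hzne
    have hzv : (χ : G → ℂ) z = (((22 * m + 10 : ℕ) : ℤ) : ℂ) := by push_cast; linear_combination hm
    rw [hzv, hχ10, Complex.norm_intCast] at hlt
    push_cast at hlt
    have hm0 : (0 : ℝ) ≤ m := Nat.cast_nonneg m
    rw [abs_of_nonneg (by positivity)] at hlt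
    linarith
  · have hek : e * k = 5 := by nlinarith
    obtain ⟨rfl, rfl⟩ : e = 5 ∧ k = 1 := by
      fin_cases he10 <;> omega
    exact ⟨by rw [hN], by rw [hC]⟩

end CfsgLib.KGroups.M11Local
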