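import Cfsg.Agent.Lib.KGroups.M11Classes
import Mathlib.RepresentationTheory.Character

/-!
# A subgroup of index eleven in a simple group of order 7920

The vectors fixed by two conjugates of `P ⋊ Q` in the character of degree ten meet in a nonzero one.
-/

set_option autoImplicit false

namespace CfsgLib.KGroups.M11Point

open Cfsg CfsgLib.Blocks CfsgLib.KGroups.M11Tools CfsgLib.KGroups.M11Chars CfsgLib.KGroups.M11Values
  CfsgLib.KGroups.M11Classes CfsgLib.KGroups.M11Local Subgroup
open scoped Classical ComplexConjugate Pointwise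

variable {G : Type*} [Group G] [Fintype G] [IsSimpleGroup G] (hG : Nat.card G = 7920)

omit [IsSimpleGroup G] in
theorem finrank_invariants_mul {n : ℕ} (ρ : Representation ℂ G (Fin n → ℂ)) (A : Subgroup G) :
    ∑ a : A, ρ.character a =
      (Nat.card A : ℂ) * (Module.finrank ℂ (Representation.invariants (ρ.comp A.subtype)) : ℂ) := by
  have hne : (Nat.card A : ℂ) ≠ 0 := Nat.cast_ne_zero.mpr Nat.card_pos.ne'
  have : Invertible (Nat.card A : ℂ) := invertibleOfNonzero hne
  have h : (Nat.card A : ℂ)⁻¹ * ∑ a : A, ρ.character a =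
      (Module.finrank ℂ (Representation.invariants (ρ.comp A.subtype)) : ℂ) :=
    FDRep.average_char_eq_finrank_invariants (k := ℂ) (G := A) (FDRep.of (ρ.comp A.subtype))
  rw [← h, ← mul_assoc, mul_inv_cancel₀ hne, one_mul]

include hG in
theorem commute_of_orderOf_dvd_two_pow {q a : G} (K : Chars G) (ha : orderOf a = 3) (hqa : Commute q a)
    (hq : q ^ 8 = 1) : q ^ 2 = 1 := by
  have hd := Subgroup.orderOf_dvd_natCard (centralizer ({a} : Set G)) (mem_centralizer_singleton_iff.mpr hqa.eq)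
  rw [centralizer_three hG K ha] at hd
  have hd8 := orderOf_dvd_of_pow_eq_one hq
  have h2 : orderOf q ∣ 2 := (Nat.dvd_gcd hd hd8)
  exact orderOf_dvd_iff_pow_eq_one.mp h2

omit [Fintype G] [IsSimpleGroup G] in
theorem cube_eq {w : G} (hw : orderOf w = 3) : w * (w * w) = 1 := by
  have h := pow_orderOf_eq_one w
  rw [hw, pow_succ', pow_two] at h
  exact h

/-- The data used to construct the subgroup of index eleven. -/
structure Setup (G : Type*) [Group G] where
  P : Subgroup G
  Q : Subgroup G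
  z : G
  w : G
  cardP : Nat.card P = 9
  cardN : Nat.card (normalizer (P : Set G)) = 144
  cardQ : Nat.card Q = 8
  hQN : Q ≤ normalizer (P : Set G)
  hz : orderOf z = 2
  hzQ : z ∈ Q
  hw : orderOf w = 3
  hwz : Commute w z
  hwQ : ∀ q ∈ Q, w * q * w⁻¹ ∈ Q
  hzc : ∀ q ∈ Q, Commute q z
  hinv : ∀ a ∈ P, z * a * z⁻¹ = a⁻¹
  ordP : ∀ a ∈ P, a ≠ 1 → orderOf a = 3
  commP : ∀ a ∈ P, ∀ b ∈ P, a * b = b * a

include hG in
theorem exists_setup (K : Chars G) : Nonempty (Setup G) := by
  have h3 : Fact (Nat.Prime 3) := ⟨by norm_num⟩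
  have h2 : Fact (Nat.Prime 2) := ⟨by norm_num⟩
  obtain ⟨P⟩ : Nonempty (Sylow 3 G) := inferInstance
  have hN := normalizer_three hG K P
  set N := normalizer ((P : Subgroup G) : Set G) with hNdef
  have hPc : Nat.card (P : Subgroup G) = 3 ^ 2 :=
    CfsgLib.SmallGroups.SimpleTools.card_sylow_subgroup (k := 2) (m := 880) (by rw [hG]; norm_num) (by norm_num) P
  have hcomm : ∀ a ∈ (P : Subgroup G), ∀ b ∈ (P : Subgroup G), a * b = b * a := fun a ha b hb => by
    have := IsPGroup.isMulCommutative_of_card_eq_prime_sq hPc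
    exact congrArg Subtype.val (mul_comm' (⟨a, ha⟩ : ↥(P : Subgroup G)) ⟨b, hb⟩)
  have hord : ∀ u ∈ (P : Subgroup G), u ≠ 1 → orderOf u = 3 := fun u hu hu1 => by
    have h := Subgroup.orderOf_dvd_natCard _ hu
    rw [hPc] at h
    obtain ⟨k, hk, hk'⟩ := (Nat.dvd_prime_pow (by norm_num)).mp h
    interval_cases k
    · exact absurd (orderOf_eq_one_iff.mp (by simpa using hk')) hu1
    · simpa using hk'
    · exact absurd (by simpa using hk') (orderOf_ne_nine hG K u)
  -- a Sylow 2-subgroup `S` of `N`, and an involution `z` of its centre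
  obtain ⟨S0, hS0⟩ := Sylow.exists_subgroup_card_pow_prime (G := ↥N) 2 (n := 4)
    (by rw [hN]; norm_num)
  set S : Subgroup G := S0.map N.subtype with hS
  have hSc : Nat.card S = 2 ^ 4 := by
    rw [hS, ← Nat.card_congr (S0.equivMapOfInjective _ (Subgroup.subtype_injective _)).toEquiv, hS0]
  have hSN : S ≤ N := by
    rw [hS]
    exact Subgroup.map_subtype_le _
  have hSp : IsPGroup 2 S := IsPGroup.of_card hSc
  have : Nontrivial S := Finite.one_lt_card_iff_nontrivial.mp (by rw [hSc]; norm_num)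
  have hZn := hSp.center_nontrivial
  obtain ⟨⟨⟨z, hzS⟩, hzc⟩, hz⟩ := exists_prime_orderOf_dvd_card' (G := ↥(Subgroup.center S)) 2 (by
    obtain ⟨k, hk⟩ := IsPGroup.iff_card.mp (hSp.to_subgroup (Subgroup.center S))
    have h1 : 1 < Nat.card (Subgroup.center S) := Finite.one_lt_card
    rw [hk] at h1 ⊢
    exact dvd_pow_self 2 (fun h0 => by rw [h0] at h1; norm_num at h1))
  rw [Subgroup.orderOf_mk, Subgroup.orderOf_mk] at hz
  have hzcomm : ∀ s ∈ S, Commute s z := fun s hs =>
    congrArg Subtype.val (Subgroup.mem_center_iff.mp hzc ⟨s, hs⟩)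
  have hzN : z ∈ N := hSN hzS
  have hz2 : z * z = 1 := by rw [← pow_two]; exact hz ▸ pow_orderOf_eq_one z
  have hzi : z⁻¹ = z := inv_eq_of_mul_eq_one_right hz2
  -- `z` fixes no nontrivial element of `P`
  have hfree : ∀ a ∈ (P : Subgroup G), Commute z a → a = 1 := by
    intro a ha hza
    by_contra ha1
    set D : Subgroup G := (P : Subgroup G) ⊓ centralizer ({z} : Set G) with hD
    have haD : a ∈ D := ⟨ha, mem_centralizer_singleton_iff.mpr hza.symm.eq⟩
    have hDle : D ≤ (P : Subgroup G) := inf_le_left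
    have hD3 : Nat.card D = 3 := by
      have hd := Subgroup.card_dvd_of_le hDle
      rw [hPc] at hd
      have h3d : 3 ∣ Nat.card D := by
        have := Subgroup.orderOf_dvd_natCard D haD
        rwa [hord a ha ha1] at this
      have hne : Nat.card D ≠ 9 := fun h9 => by
        have hd48 := Subgroup.card_dvd_of_le (inf_le_right : D ≤ centralizer ({z} : Set G))
        rw [h9, centralizer_two_eq hG K hz] at hd48
        norm_num at hd48
      obtain ⟨k, hk, hk'⟩ := (Nat.dvd_prime_pow (by norm_num)).mp hd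
      interval_cases k <;> omega
    have hDz : D = zpowers a := (Subgroup.eq_of_le_of_card_ge (zpowers_le.mpr haD)
      (by rw [hD3, Nat.card_zpowers, hord a ha ha1])).symm
    -- `S` normalises `D = ⟨a⟩`, so embeds modulo `C(a)` into a group of order two
    have hSD : S ≤ normalizer (zpowers a : Set G) := by
      rw [← hDz]
      intro s hs
      rw [mem_normalizer_iff]
      intro b
      have e1 := (mem_normalizer_iff.mp (hSN hs) b)
      have hsz : ∀ c : G, Commute c z → Commute (s * c * s⁻¹) z := fun c hc =>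
        ((hzcomm s hs).mul_left hc).mul_left (hzcomm s hs).inv_left
      constructor
      · rintro ⟨hb, hb'⟩
        exact ⟨e1.mp hb, mem_centralizer_singleton_iff.mpr
          (hsz b (mem_centralizer_singleton_iff.mp hb')).eq⟩
      · rintro ⟨hb, hb'⟩
        refine ⟨e1.mpr hb, mem_centralizer_singleton_iff.mpr ?_⟩
        have h' := ((hzcomm s hs).inv_left.mul_left
          (mem_centralizer_singleton_iff.mp hb' : Commute (s * b * s⁻¹) z)).mul_left (hzcomm s hs)
        simpa [mul_assoc] using h'.eq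
    set M := normalizer (zpowers a : Set G) with hM
    have hCM : centralizer ({a} : Set G) ≤ M := by
      rw [hM, ← centralizer_closure, ← zpowers_eq_closure]
      exact Subgroup.centralizer_le_normalizer _
    have hidx : ((centralizer ({a} : Set G)).subgroupOf M).index ≤ 2 := by
      have hfun : ∀ m : M, (m : G) * a * (m : G)⁻¹ = a ∨ (m : G) * a * (m : G)⁻¹ = a ^ 2 := by
        intro m
        have hmem : (m : G) * a * (m : G)⁻¹ ∈ zpowers a := (mem_normalizer_iff.mp m.2 a).mp (mem_zpowers a)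
        rw [← mem_powers_iff_mem_zpowers, (isOfFinOrder_of_finite a).mem_powers_iff_mem_range_orderOf,
          Finset.mem_image] at hmem
        obtain ⟨k, hk, hk'⟩ := hmem
        rw [Finset.mem_range, hord a ha ha1] at hk
        interval_cases k
        · exact absurd (by simpa using hk'.symm) ha1
        · left; simpa using hk'.symm
        · right; exact hk'.symm
      let f : M ⧸ (centralizer ({a} : Set G)).subgroupOf M → ({a, a ^ 2} : Finset G) :=
        Quotient.lift (fun m : M => (⟨(m : G) * a * (m : G)⁻¹, by rcases hfun m with h | h <;> simp [h]⟩ :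
          ({a, a ^ 2} : Finset G))) fun m m' hmm => by
          replace hmm := QuotientGroup.leftRel_apply.mp hmm
          rw [Subgroup.mem_subgroupOf, mem_centralizer_singleton_iff] at hmm
          refine Subtype.ext ?_
          have := hmm
          simp only [Subgroup.coe_mul, InvMemClass.coe_inv] at this
          show (m : G) * a * (m : G)⁻¹ = (m' : G) * a * (m' : G)⁻¹
          calc (m : G) * a * (m : G)⁻¹ = (m : G) * (a * ((m : G)⁻¹ * m')) * (m' : G)⁻¹ := by group
            _ = (m : G) * (((m : G)⁻¹ * m') * a) * (m' : G)⁻¹ := by rw [this]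
            _ = (m' : G) * a * (m' : G)⁻¹ := by group
      have hf : Function.Injective f := by
        intro p p' hpp
        induction p using QuotientGroup.induction_on with | H m => ?_
        induction p' using QuotientGroup.induction_on with | H m' => ?_
        rw [QuotientGroup.eq, Subgroup.mem_subgroupOf, mem_centralizer_singleton_iff]
        have : (m : G) * a * (m : G)⁻¹ = (m' : G) * a * (m' : G)⁻¹ := congrArg Subtype.val hpp
        simp only [Subgroup.coe_mul, InvMemClass.coe_inv]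
        calc (m : G)⁻¹ * (m' : G) * a = (m : G)⁻¹ * ((m' : G) * a * (m' : G)⁻¹) * m' := by group
          _ = (m : G)⁻¹ * ((m : G) * a * (m : G)⁻¹) * m' := by rw [this]
          _ = a * ((m : G)⁻¹ * (m' : G)) := by group
      rw [Subgroup.index_eq_card]
      refine (Nat.card_le_card_of_injective f hf).trans ?_
      rw [Nat.card_eq_fintype_card, Fintype.card_coe]
      exact Finset.card_le_two
    have hMcard := ((centralizer ({a} : Set G)).subgroupOf M).index_mul_card
    rw [Nat.card_congr (subgroupOfEquivOfLe hCM).toEquiv, centralizer_three hG K (hord a ha ha1)] at hMcard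
    have h16 := Subgroup.card_dvd_of_le hSD
    rw [hSc, ← hMcard] at h16
    have h0 := Subgroup.FiniteIndex.index_ne_zero (H := (centralizer ({a} : Set G)).subgroupOf M)
    norm_num at h16
    omega
  -- hence inverts it
  have hinv : ∀ a ∈ (P : Subgroup G), z * a * z⁻¹ = a⁻¹ := by
    intro a ha
    have hm : z * a * z⁻¹ ∈ (P : Subgroup G) := (mem_normalizer_iff.mp hzN a).mp ha
    have h := hfree (a * (z * a * z⁻¹)) (mul_mem ha hm) (by
      show z * (a * (z * a * z⁻¹)) = (a * (z * a * z⁻¹)) * z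
      have hm' : z * a * z ∈ (P : Subgroup G) := by rw [hzi] at hm; exact hm
      rw [hzi]
      calc z * (a * (z * a * z)) = (z * a * z) * a * z := by simp only [mul_assoc]
        _ = _ := by rw [hcomm _ hm' _ ha])
    exact eq_inv_of_mul_eq_one_right h
  -- an element of order three centralising `z`
  obtain ⟨⟨w, hwC⟩, hw⟩ := exists_prime_orderOf_dvd_card' (G := ↥(centralizer ({z} : Set G))) 3
    (by rw [centralizer_two_eq hG K hz]; norm_num)
  rw [Subgroup.orderOf_mk] at hw
  have hwz : Commute w z := mem_centralizer_singleton_iff.mp hwC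
  set C := centralizer ({z} : Set G) with hC
  have hCc : Nat.card C = 48 := centralizer_two_eq hG K hz
  have hSC : S ≤ C := fun s hs => mem_centralizer_singleton_iff.mpr (hzcomm s hs).eq
  set S' : Subgroup G := S.map (MulAut.conj w).toMonoidHom with hS'
  have hS'c : Nat.card S' = 2 ^ 4 := by
    rw [hS', ← Nat.card_congr (S.equivMapOfInjective _ (MulAut.conj w).injective).toEquiv, hSc]
  have hS'C : S' ≤ C := by
    rintro _ ⟨s, hs, rfl⟩
    exact mul_mem (mul_mem hwC (hSC hs)) (inv_mem hwC)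
  -- `w` does not normalise `S`
  have hne : S' ≠ S := by
    intro heq
    have hwS : ∀ s ∈ S, w * s * w⁻¹ ∈ S := fun s hs => heq ▸ (⟨s, hs, rfl⟩ : w * s * w⁻¹ ∈ S')
    let φ : Function.End S := fun s => ⟨w * s * w⁻¹, hwS s s.2⟩
    have hφ : φ ^ 3 ^ 1 = 1 := by
      funext s
      apply Subtype.ext
      show ((φ (φ (φ s)) : S) : G) = s
      show w * (w * (w * s * w⁻¹) * w⁻¹) * w⁻¹ = s
      have h3 : w * (w * w) = 1 := cube_eq hw
      calc w * (w * (w * s * w⁻¹) * w⁻¹) * w⁻¹ = w * (w * w) * s * (w * (w * w))⁻¹ := by group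
        _ = s := by rw [h3]; simp
    have hfix : Function.fixedPoints φ = {s : S | (s : G) ∈ zpowers z} := by
      ext ⟨s, hs⟩
      constructor
      · intro h
        have hws : Commute s w := (mul_inv_eq_iff_eq_mul.mp (congrArg Subtype.val h)).symm
        have hs16 : s ^ 16 = 1 := by
          have := Subgroup.orderOf_dvd_natCard S hs
          rw [hSc] at this
          exact orderOf_dvd_iff_pow_eq_one.mp (by simpa using this)
        have hy : s ∈ centralizer ({w * z} : Set G) :=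
          mem_centralizer_singleton_iff.mpr (hws.mul_right (hzcomm s hs)).eq
        have hCy : Nat.card (centralizer ({w * z} : Set G)) = 6 := (six_data hG K hw hz hwz).2.2.1
        have hzp : zpowers (w * z) = centralizer ({w * z} : Set G) :=
          Subgroup.eq_of_le_of_card_ge (zpowers_le.mpr (mem_centralizer_singleton_iff.mpr rfl))
            (by rw [hCy, Nat.card_zpowers, (six_data hG K hw hz hwz).2.1])
        rw [← hzp] at hy
        obtain ⟨i, rfl⟩ := hy
        have hi : (w * z) ^ (16 * i) = 1 := by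
          rw [mul_comm, zpow_mul]; exact_mod_cast hs16
        rw [← orderOf_dvd_iff_zpow_eq_one, (six_data hG K hw hz hwz).2.1] at hi
        obtain ⟨j, rfl⟩ : (3 : ℤ) ∣ i := by push_cast at hi; omega
        show (w * z) ^ (3 * j) ∈ zpowers z
        rw [zpow_mul, zpow_ofNat, hwz.mul_pow, ← hw, pow_orderOf_eq_one, one_mul, hw]
        exact zpow_mem (pow_mem (mem_zpowers z) 3) j
      · intro h
        obtain ⟨i, rfl⟩ : s ∈ zpowers z := h
        refine Subtype.ext ?_
        show w * z ^ i * w⁻¹ = z ^ i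
        rw [(hwz.zpow_right i).eq, mul_inv_cancel_right]
    have hmod := Equiv.Perm.card_fixedPoints_modEq (p := 3) (n := 1) hφ
    have hfc : Fintype.card (Function.fixedPoints φ) = 2 := by
      rw [← Nat.card_eq_fintype_card, hfix]
      have : Nat.card ((zpowers z).subgroupOf S) = 2 := by
        rw [Nat.card_congr (subgroupOfEquivOfLe (zpowers_le.mpr hzS)).toEquiv, Nat.card_zpowers, hz]
      exact this
    rw [hfc, ← Nat.card_eq_fintype_card, hSc] at hmod
    exact absurd hmod (by decide)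
  set Q : Subgroup G := S ⊓ S' with hQ
  have hQle : Q ≤ S := inf_le_left
  have hQc : Nat.card Q = 8 := by
    have hd := Subgroup.card_dvd_of_le hQle
    rw [hSc] at hd
    obtain ⟨k, hk, hk'⟩ := (Nat.dvd_prime_pow (by norm_num)).mp hd
    have hprod : Nat.card S * Nat.card S' ≤ Nat.card C * Nat.card Q := by
      rw [← Nat.card_prod, hQ]
      calc Nat.card (S × S') ≤ Nat.card (C × ↥(S ⊓ S' : Subgroup G)) := ?_
        _ = _ := Nat.card_prod _ _
      let F : S × S' → C := fun p => ⟨(p.1 : G) * p.2, mul_mem (hSC p.1.2) (hS'C p.2.2)⟩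
      let r : C → S × S' := fun c => if h : ∃ p, F p = c then h.choose else (1, 1)
      have hF : ∀ p : S × S', (r (F p)).1.1⁻¹ * p.1.1 ∈ S ⊓ S' := by
        intro p
        have hex : ∃ p', F p' = F p := ⟨p, rfl⟩
        have hr : F (r (F p)) = F p := by
          simp only [r, dif_pos hex]
          exact hex.choose_spec
        have hval : ((r (F p)).1 : G) * (r (F p)).2 = (p.1 : G) * p.2 := congrArg Subtype.val hr
        refine ⟨S.mul_mem (S.inv_mem (r (F p)).1.2) p.1.2, ?_⟩
        have e : ((r (F p)).1 : G)⁻¹ * p.1 = (r (F p)).2 * (p.2 : G)⁻¹ :=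
          calc ((r (F p)).1 : G)⁻¹ * p.1 = ((r (F p)).1 : G)⁻¹ * ((p.1 : G) * p.2) * (p.2 : G)⁻¹ := by group
            _ = ((r (F p)).1 : G)⁻¹ * (((r (F p)).1 : G) * (r (F p)).2) * (p.2 : G)⁻¹ := by rw [hval]
            _ = _ := by group
        rw [e]
        exact S'.mul_mem (r (F p)).2.2 (S'.inv_mem p.2.2)
      refine Nat.card_le_card_of_injective (fun p => (F p, ⟨_, hF p⟩)) fun p p' hpp => ?_
      have h1 : F p = F p' := congrArg Prod.fst hpp
      have h2 : ((r (F p)).1 : G)⁻¹ * p.1 = ((r (F p')).1 : G)⁻¹ * p'.1 :=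
        congrArg (fun x => (x.2 : G)) hpp
      rw [h1, mul_left_cancel_iff] at h2
      have h3 : (p.1 : G) * p.2 = (p'.1 : G) * p'.2 := congrArg Subtype.val h1
      rw [h2, mul_left_cancel_iff] at h3
      exact Prod.ext (Subtype.ext h2) (Subtype.ext h3)
    rw [hSc, hS'c, hCc, hk'] at hprod
    interval_cases k
    · norm_num at hprod
    · norm_num at hprod
    · norm_num at hprod
    · rw [hk']; norm_num
    · refine absurd ?_ hne
      have hQS : Q = S := Subgroup.eq_of_le_of_card_ge hQle (by rw [hSc, hk'])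
      exact (Subgroup.eq_of_le_of_card_ge (hQS ▸ (inf_le_right : Q ≤ S')) (by rw [hSc, hS'c])).symm
  have hnormal : ∀ c ∈ C, ∀ q ∈ Q, c * q * c⁻¹ ∈ Q := by
    have hidx : ∀ T : Subgroup G, Q ≤ T → Nat.card T = 2 ^ 4 → ∀ c ∈ T, c ∈ normalizer (Q : Set G) := by
      intro T hQT hT c hc
      have hi : (Q.subgroupOf T).index = 2 := by
        have h := (Q.subgroupOf T).index_mul_card
        rw [Nat.card_congr (subgroupOfEquivOfLe hQT).toEquiv, hQc, hT] at h
        omega
      have hn := Subgroup.normal_of_index_eq_two hi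
      exact (Subgroup.normal_subgroupOf_iff_le_normalizer hQT).mp hn hc
    have hle : C ≤ normalizer (Q : Set G) := by
      set D := normalizer (Q : Set G) ⊓ C with hD
      have hSD : S ≤ D := fun s hs => ⟨hidx S hQle hSc s hs, hSC hs⟩
      have hS'D : S' ≤ D := fun s hs => ⟨hidx S' inf_le_right hS'c s hs, hS'C hs⟩
      have hd1 : 16 ∣ Nat.card D := by
        have h := Subgroup.card_dvd_of_le hSD
        rw [hSc] at h
        exact h
      have hd2 : Nat.card D ∣ 48 := hCc ▸ Subgroup.card_dvd_of_le (show D ≤ C from inf_le_right)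
      have hne16 : Nat.card D ≠ 16 := fun h16 => hne (by
        have e1 := Subgroup.eq_of_le_of_card_ge hSD (by rw [h16, hSc]; norm_num)
        have e2 := Subgroup.eq_of_le_of_card_ge hS'D (by rw [h16, hS'c]; norm_num)
        exact e2.trans e1.symm)
      obtain ⟨j, hj⟩ := hd1
      have hle48 := Nat.le_of_dvd (by norm_num) hd2
      have hD48 : Nat.card D = 48 := by
        have : j ≤ 3 := by omega
        rw [hj] at hd2 hne16 ⊢
        interval_cases j <;> first | (norm_num at hd2; done) | (norm_num at hne16; done) | norm_num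
      exact (Subgroup.eq_of_le_of_card_ge (inf_le_right : D ≤ C) (by rw [hD48, hCc])).ge.trans inf_le_left
    exact fun c hc q hq => (mem_normalizer_iff.mp (hle hc) q).mp hq
  have hzQ : z ∈ Q := ⟨hzS, z, hzS, by
    show w * z * w⁻¹ = z
    rw [hwz.eq, mul_inv_cancel_right]⟩
  exact ⟨{ P := P, Q := Q, z := z, w := w, cardP := by rw [hPc]; norm_num, cardN := hN, cardQ := hQc,
           hQN := hQle.trans hSN, hz := hz, hzQ := hzQ, hw := hw, hwz := hwz, hwQ := hnormal w hwC,
           hzc := fun q hq => hzcomm q (hQle hq), hinv := hinv, ordP := hord, commP := hcomm }⟩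

namespace Setup

variable (D : Setup G)

omit [IsSimpleGroup G] in
theorem pow_eight {q : G} (hq : q ∈ D.Q) : q ^ 8 = 1 := by
  have := Subgroup.orderOf_dvd_natCard D.Q hq
  rw [D.cardQ] at this
  exact orderOf_dvd_iff_pow_eq_one.mp this

omit [IsSimpleGroup G] [Fintype G] in
theorem not_mem_zpowers {q : G} (h1 : q ≠ 1) (hz : q ≠ D.z) : q ∉ zpowers D.z := by
  rintro ⟨i, rfl⟩
  rcases Int.even_or_odd i with ⟨j, rfl⟩ | ⟨j, rfl⟩
  · refine h1 ?_
    show D.z ^ (j + j) = 1
    rw [← two_mul, zpow_mul, zpow_ofNat, ← D.hz, pow_orderOf_eq_one, one_zpow]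
  · refine hz ?_
    show D.z ^ (2 * j + 1) = D.z
    rw [zpow_add, zpow_mul, zpow_ofNat, ← D.hz, pow_orderOf_eq_one, one_zpow, one_mul, zpow_one]

include hG in
/-- The centraliser of `w` meets `Q` in `⟨z⟩`. -/
theorem mem_zpowers_of_commute (K : Chars G) {q : G} (hq : q ∈ D.Q) (hqw : Commute q D.w) :
    q = 1 ∨ q = D.z := by
  have h2 := commute_of_orderOf_dvd_two_pow hG K D.hw hqw (D.pow_eight hq)
  by_contra hcon
  obtain ⟨h1, hz⟩ := not_or.mp hcon
  have hd := Subgroup.orderOf_dvd_natCard (centralizer ({D.w * D.z} : Set G))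
    (mem_centralizer_singleton_iff.mpr (hqw.mul_right (D.hzc q hq)).eq)
  obtain ⟨-, ho, hc, -⟩ := six_data hG K D.hw D.hz D.hwz
  have hzp : zpowers (D.w * D.z) = centralizer ({D.w * D.z} : Set G) :=
    Subgroup.eq_of_le_of_card_ge (zpowers_le.mpr (mem_centralizer_singleton_iff.mpr rfl))
      (by rw [hc, Nat.card_zpowers, ho])
  have hmem : q ∈ zpowers (D.w * D.z) := hzp ▸ mem_centralizer_singleton_iff.mpr (hqw.mul_right (D.hzc q hq)).eq
  rw [← mem_powers_iff_mem_zpowers, (isOfFinOrder_of_finite (D.w * D.z)).mem_powers_iff_mem_range_orderOf,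
    Finset.mem_image] at hmem
  obtain ⟨k, hk, rfl⟩ := hmem
  rw [Finset.mem_range, ho] at hk
  have h3 : (D.w * D.z) ^ 3 = D.z := by
    rw [D.hwz.mul_pow, ← D.hw, pow_orderOf_eq_one, one_mul, D.hw, pow_succ, ← D.hz, pow_orderOf_eq_one, one_mul]
  rw [← pow_mul, ← orderOf_dvd_iff_pow_eq_one, ho] at h2
  interval_cases k <;> norm_num at h2
  · exact h1 (pow_zero _)
  · exact hz h3

include hG in
theorem six_list (K : Chars G) {q : G} (hq : q ∈ D.Q) (h1 : q ≠ 1) (hz : q ≠ D.z) :
    let c := fun a : G => D.w * a * D.w⁻¹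
    (∀ x ∈ [1, D.z, q, q * D.z, c q, c q * D.z, c (c q), c (c q) * D.z], x ∈ D.Q) ∧
      [1, D.z, q, q * D.z, c q, c q * D.z, c (c q), c (c q) * D.z].Nodup := by
  intro c
  have hz2 : D.z * D.z = 1 := by rw [← pow_two, ← D.hz]; exact pow_orderOf_eq_one D.z
  have cz : c D.z = D.z := by show D.w * D.z * D.w⁻¹ = D.z; rw [D.hwz.eq, mul_inv_cancel_right]
  have cm : ∀ a b, c (a * b) = c a * c b := fun a b => by simp only [c]; group
  have c1 : c 1 = 1 := by simp [c]
  have c3 : ∀ a, c (c (c a)) = a := fun a => by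
    have h3 : D.w * (D.w * D.w) = 1 := cube_eq D.hw
    show D.w * (D.w * (D.w * a * D.w⁻¹) * D.w⁻¹) * D.w⁻¹ = a
    calc _ = D.w * (D.w * D.w) * a * (D.w * (D.w * D.w))⁻¹ := by group
      _ = a := by rw [h3]; simp
  have hc_inj : Function.Injective c := fun a b hab => by simpa [c] using hab
  have hcQ : ∀ a ∈ D.Q, c a ∈ D.Q := D.hwQ
  -- the basic separations
  have n1 : c q ≠ q := fun h => by
    rcases D.mem_zpowers_of_commute hG K hq (mul_inv_eq_iff_eq_mul.mp h).symm with h' | h' <;> contradiction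
  have n2 : c q ≠ q * D.z := fun h => n1 (by
    have h' : c (c q) = q := by rw [h, cm, cz, h, mul_assoc, hz2, mul_one]
    calc c q = c (c (c q)) := by rw [h']
      _ = q := c3 q)
  have n3 : q * D.z ≠ 1 := fun h => hz (by
    have := congrArg (· * D.z) h
    simpa [mul_assoc, hz2] using this)
  have n4 : q * D.z ≠ D.z := fun h => h1 (by simpa using h)
  have n5 : q ≠ q * D.z := fun h => by
    have : D.z = 1 := by simpa using h.symm
    have ho := D.hz
    rw [this, orderOf_one] at ho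
    norm_num at ho
  have n6 : (1 : G) ≠ D.z := fun h => by
    have ho := D.hz
    rw [← h, orderOf_one] at ho
    norm_num at ho
  have mul_z_inj : ∀ a b : G, a * D.z = b * D.z → a = b := fun a b h => mul_right_cancel h
  have swap : ∀ a b : G, a * D.z = b → a = b * D.z := fun a b h => by rw [← h, mul_assoc, hz2, mul_one]
  refine ⟨fun x hx => ?_, ?_⟩
  · simp only [List.mem_cons, List.not_mem_nil, or_false] at hx
    rcases hx with rfl | rfl | rfl | rfl | rfl | rfl | rfl | rfl
    · exact one_mem _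
    · exact D.hzQ
    · exact hq
    · exact mul_mem hq D.hzQ
    · exact hcQ _ hq
    · exact mul_mem (hcQ _ hq) D.hzQ
    · exact hcQ _ (hcQ _ hq)
    · exact mul_mem (hcQ _ (hcQ _ hq)) D.hzQ
  · have e : ∀ a, c a * D.z = c (a * D.z) := fun a => by rw [cm, cz]
    have base : ∀ a, a = q ∨ a = c q ∨ a = c (c q) →
        a ≠ 1 ∧ a ≠ D.z ∧ a * D.z ≠ 1 ∧ a * D.z ≠ D.z ∧ a ≠ a * D.z := by
      rintro a (rfl | rfl | rfl)
      · exact ⟨h1, hz, n3, n4, n5⟩
      · exact ⟨fun h => h1 (hc_inj (h.trans c1.symm)), fun h => hz (hc_inj (h.trans cz.symm)),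
          fun h => n3 (hc_inj (((e q).symm.trans h).trans c1.symm)),
          fun h => n4 (hc_inj (((e q).symm.trans h).trans cz.symm)),
          fun h => n5 (hc_inj (h.trans (e q)))⟩
      · have i1 : ∀ x y, c (c x) = c (c y) → x = y := fun x y h => hc_inj (hc_inj h)
        exact ⟨fun h => h1 (i1 _ _ (by rw [h, c1, c1])), fun h => hz (i1 _ _ (by rw [h, cz, cz])),
          fun h => n3 (i1 _ _ (by rw [← e q, ← e (c q), h, c1, c1])),
          fun h => n4 (i1 _ _ (by rw [← e q, ← e (c q), h, cz, cz])),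
          fun h => n5 (i1 _ _ (by rw [← e q, ← e (c q)]; exact h))⟩
    obtain ⟨a1, a2, a3, a4, a5⟩ := base q (Or.inl rfl)
    obtain ⟨b1, b2, b3, b4, b5⟩ := base (c q) (Or.inr (Or.inl rfl))
    obtain ⟨d1, d2, d3, d4, d5⟩ := base (c (c q)) (Or.inr (Or.inr rfl))
    have p1 : c (c q) ≠ c q := fun h => n1 (hc_inj h)
    have p2 : c (c q) ≠ c q * D.z := fun h => n2 (hc_inj (h.trans (e q)))
    have p3 : c (c q) ≠ q := fun h => n1 (by
      calc c q = c (c (c q)) := by rw [h]
        _ = q := c3 q)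
    have p4 : c (c q) ≠ q * D.z := fun h => n2 (by
      have hh : q = c q * D.z := by rw [e, ← h, c3]
      exact swap _ _ hh.symm)
    simp only [List.nodup_cons, List.mem_cons, List.not_mem_nil, or_false, not_or, not_false_eq_true,
      List.nodup_nil, and_true]
    refine ⟨⟨n6, a1.symm, a3.symm, b1.symm, b3.symm, d1.symm, d3.symm⟩,
      ⟨a2.symm, a4.symm, b2.symm, b4.symm, d2.symm, d4.symm⟩,
      ⟨a5, n1.symm, fun h => n2 (swap _ _ h.symm), p3.symm, fun h => p4 (swap _ _ h.symm)⟩,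
      ⟨n2.symm, fun h => n1 (mul_z_inj _ _ h.symm), p4.symm, fun h => p3 (mul_z_inj _ _ h.symm)⟩,
      ⟨b5, p1.symm, fun h => p2 (swap _ _ h.symm)⟩,
      ⟨p2.symm, fun h => p1 (mul_z_inj _ _ h.symm)⟩, d5⟩

include hG in
theorem toFinset_six (K : Chars G) {q : G} (hq : q ∈ D.Q) (h1 : q ≠ 1) (hz : q ≠ D.z) :
    let c := fun a : G => D.w * a * D.w⁻¹
    [1, D.z, q, q * D.z, c q, c q * D.z, c (c q), c (c q) * D.z].toFinset =
      (Finset.univ.filter fun x : G => x ∈ D.Q) := by
  intro c
  obtain ⟨hmem, hnd⟩ := D.six_list hG K hq h1 hz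
  apply Finset.eq_of_subset_of_card_le
  · intro x hx
    rw [List.mem_toFinset] at hx
    exact Finset.mem_filter.mpr ⟨Finset.mem_univ x, hmem x hx⟩
  · rw [List.toFinset_card_of_nodup hnd, ← Fintype.card_subtype, ← Nat.card_eq_fintype_card]
    exact le_of_eq D.cardQ

include hG in
/-- The only involution of `Q` is `z`, and `Q` acts on `P` without fixed points. -/
theorem free (K : Chars G) {q a : G} (hq : q ∈ D.Q) (hq1 : q ≠ 1) (ha : a ∈ D.P) (hqa : Commute q a) :
    a = 1 := by
  by_contra ha1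
  have hq2 : q * q = 1 := by
    rw [← pow_two]; exact commute_of_orderOf_dvd_two_pow hG K (D.ordP a ha ha1) hqa (D.pow_eight hq)
  have hqz : q ≠ D.z := fun h => ha1 (by
    have h' := D.hinv a ha
    rw [← h, hqa.eq, mul_inv_cancel_right] at h'
    have h3 : a ^ 3 = 1 := D.ordP a ha ha1 ▸ pow_orderOf_eq_one a
    calc a = a ^ 3 * (a * a)⁻¹ := by group
      _ = 1 := by rw [h3, one_mul]; nth_rewrite 2 [h']; simp)
  -- all of `Q` has exponent two, so is abelian
  set c := fun x : G => D.w * x * D.w⁻¹ with hc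
  have hz2 : D.z * D.z = 1 := by rw [← pow_two, ← D.hz]; exact pow_orderOf_eq_one D.z
  have sqc : ∀ x, x * x = 1 → c x * c x = 1 := fun x hx => by
    calc c x * c x = D.w * (x * x) * D.w⁻¹ := by simp only [hc]; group
      _ = 1 := by rw [hx]; simp
  have sqz : ∀ x ∈ D.Q, x * x = 1 → (x * D.z) * (x * D.z) = 1 := fun x hx hxx => by
    calc (x * D.z) * (x * D.z) = x * (D.z * x) * D.z := by group
      _ = x * (x * D.z) * D.z := by rw [(D.hzc x hx).eq]
      _ = 1 := by rw [← mul_assoc, hxx, one_mul, hz2]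
  have hexp : ∀ x ∈ D.Q, x * x = 1 := by
    intro x hx
    have hmem := (D.toFinset_six hG K hq hq1 hqz).symm ▸ Finset.mem_filter.mpr ⟨Finset.mem_univ x, hx⟩
    simp only [List.mem_toFinset, List.mem_cons, List.not_mem_nil, or_false] at hmem
    rcases hmem with rfl | rfl | rfl | rfl | rfl | rfl | rfl | rfl
    · exact one_mul 1
    · exact hz2
    · exact hq2
    · exact sqz _ hq hq2
    · exact sqc _ hq2
    · exact sqz _ (D.hwQ _ hq) (sqc _ hq2)
    · exact sqc _ (sqc _ hq2)
    · exact sqz _ (D.hwQ _ (D.hwQ _ hq)) (sqc _ (sqc _ hq2))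
  have habel : ∀ x ∈ D.Q, ∀ y ∈ D.Q, x * y = y * x := fun x hx y hy => by
    have ix : x⁻¹ = x := inv_eq_of_mul_eq_one_right (hexp x hx)
    have iy : y⁻¹ = y := inv_eq_of_mul_eq_one_right (hexp y hy)
    calc x * y = (x * y)⁻¹ := (inv_eq_of_mul_eq_one_right (hexp _ (mul_mem hx hy))).symm
      _ = y * x := by rw [mul_inv_rev, ix, iy]
  -- the fixed points of `q` on `P`
  set A : Subgroup G := D.P ⊓ centralizer ({q} : Set G) with hA
  have haA : a ∈ A := ⟨ha, mem_centralizer_singleton_iff.mpr hqa.symm.eq⟩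
  have hAc : Nat.card A ≤ 3 := by
    have hd := Subgroup.card_dvd_of_le (inf_le_left : A ≤ D.P)
    rw [D.cardP] at hd
    have hne : Nat.card A ≠ 9 := fun h9 => by
      have hd48 := Subgroup.card_dvd_of_le (inf_le_right : A ≤ centralizer ({q} : Set G))
      rw [h9, centralizer_two_eq hG K (orderOf_eq_prime (by rw [pow_two]; exact hq2) hq1)] at hd48
      norm_num at hd48
    have hle := Nat.le_of_dvd (by norm_num) hd
    interval_cases h : Nat.card A <;> omega
  -- the orbit of `a` lies in it, so is too small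
  have hmap : ∀ x ∈ D.Q, x * a * x⁻¹ ∈ A ∧ x * a * x⁻¹ ≠ 1 := fun x hx => by
    refine ⟨⟨(mem_normalizer_iff.mp (D.hQN hx) a).mp ha, mem_centralizer_singleton_iff.mpr ?_⟩,
      fun h => ha1 (by simpa using h)⟩
    have : Commute q x := habel q hq x hx
    exact ((this.mul_right hqa).mul_right this.inv_right).symm.eq
  have hD : D.Q ⊓ centralizer ({a} : Set G) ≤ centralizer ({a} : Set G) := inf_le_right
  have hDc : Nat.card ↥(D.Q ⊓ centralizer ({a} : Set G)) ≤ 2 := by
    have h1 := Subgroup.card_dvd_of_le hD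
    have h2 := Subgroup.card_dvd_of_le (inf_le_left : D.Q ⊓ centralizer ({a} : Set G) ≤ D.Q)
    rw [centralizer_three hG K (D.ordP a ha ha1)] at h1
    rw [D.cardQ] at h2
    exact Nat.le_of_dvd (by norm_num) (Nat.dvd_gcd h1 h2)
  let f : D.Q → {b : A // b ≠ 1} := fun x =>
    ⟨⟨(x : G) * a * (x : G)⁻¹, (hmap x x.2).1⟩, fun h => (hmap x x.2).2 (congrArg Subtype.val h)⟩
  have hle : Nat.card D.Q ≤ Nat.card {b : A // b ≠ 1} * Nat.card ↥(D.Q ⊓ centralizer ({a} : Set G)) := by
    let r : {b : A // b ≠ 1} → D.Q := fun b => if h : ∃ x, f x = b then h.choose else 1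
    have hr : ∀ x, f (r (f x)) = f x := fun x => by
      have hex : ∃ x', f x' = f x := ⟨x, rfl⟩
      simp only [r, dif_pos hex]
      exact hex.choose_spec
    have hin : ∀ x : D.Q, ((r (f x) : G))⁻¹ * x ∈ D.Q ⊓ centralizer ({a} : Set G) := fun x => by
      refine ⟨D.Q.mul_mem (D.Q.inv_mem (r (f x)).2) x.2, mem_centralizer_singleton_iff.mpr ?_⟩
      have h : (r (f x) : G) * a * (r (f x) : G)⁻¹ = (x : G) * a * (x : G)⁻¹ :=
        congrArg (fun b => ((b.1 : A) : G)) (hr x)
      calc (r (f x) : G)⁻¹ * x * a = (r (f x) : G)⁻¹ * ((x : G) * a * (x : G)⁻¹) * x := by group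
        _ = (r (f x) : G)⁻¹ * ((r (f x) : G) * a * (r (f x) : G)⁻¹) * x := by rw [h]
        _ = a * ((r (f x) : G)⁻¹ * x) := by group
    rw [← Nat.card_prod]
    refine Nat.card_le_card_of_injective (fun x => (f x, ⟨_, hin x⟩)) fun x y hxy => ?_
    have h1 : f x = f y := congrArg Prod.fst hxy
    have h2 : (r (f x) : G)⁻¹ * x = (r (f y) : G)⁻¹ * y := congrArg (fun p => (p.2 : G)) hxy
    rw [h1, mul_left_cancel_iff] at h2
    exact Subtype.ext h2
  have hsub : Nat.card {b : A // b ≠ 1} ≤ 2 := by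
    rw [Nat.card_eq_fintype_card, Fintype.card_subtype_compl, Fintype.card_subtype_eq, ← Nat.card_eq_fintype_card]
    omega
  rw [D.cardQ] at hle
  have := hle.trans (Nat.mul_le_mul hsub hDc)
  omega

/-- The subgroup `P ⋊ Q`. -/
def K72 : Subgroup G := D.Q ⊔ D.P

omit [Fintype G] [IsSimpleGroup G] in
theorem mem_K72 {g : G} : g ∈ D.K72 ↔ ∃ q ∈ D.Q, ∃ a ∈ D.P, q * a = g := by
  rw [← SetLike.mem_coe, K72, Subgroup.coe_mul_of_left_le_normalizer_right D.Q D.P D.hQN, Set.mem_mul]
  rfl

omit [IsSimpleGroup G] in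
theorem eq_one_of_mem {g : G} (hQ : g ∈ D.Q) (hP : g ∈ D.P) : g = 1 := by
  have h1 := Subgroup.orderOf_dvd_natCard _ hQ
  have h2 := Subgroup.orderOf_dvd_natCard _ hP
  rw [D.cardQ] at h1
  rw [D.cardP] at h2
  exact orderOf_eq_one_iff.mp (Nat.eq_one_of_dvd_one (Nat.dvd_gcd h1 h2))

noncomputable def prodEquiv : D.Q × D.P ≃ D.K72 :=
  Equiv.ofBijective (fun p => ⟨(p.1 : G) * p.2, (D.mem_K72).mpr ⟨p.1, p.1.2, p.2, p.2.2, rfl⟩⟩) <| by
    refine ⟨fun p p' h => ?_, fun g => ?_⟩
    · have h' : (p.1 : G) * p.2 = (p'.1 : G) * p'.2 := congrArg Subtype.val h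
      have hm : (p'.1 : G)⁻¹ * p.1 = (p'.2 : G) * (p.2 : G)⁻¹ :=
        calc (p'.1 : G)⁻¹ * p.1 = (p'.1 : G)⁻¹ * ((p.1 : G) * p.2) * (p.2 : G)⁻¹ := by group
          _ = (p'.1 : G)⁻¹ * ((p'.1 : G) * p'.2) * (p.2 : G)⁻¹ := by rw [h']
          _ = _ := by group
      have h1 := D.eq_one_of_mem (mul_mem (inv_mem p'.1.2) p.1.2) (hm ▸ mul_mem p'.2.2 (inv_mem p.2.2))
      have e1 : (p.1 : G) = p'.1 := (inv_mul_eq_one.mp h1).symm
      rw [e1, mul_left_cancel_iff] at h'
      exact Prod.ext (Subtype.ext e1) (Subtype.ext h')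
    · obtain ⟨q, hq, a, ha, h⟩ := (D.mem_K72).mp g.2
      exact ⟨(⟨q, hq⟩, ⟨a, ha⟩), Subtype.ext h⟩

omit [IsSimpleGroup G] in
theorem card_K72 : Nat.card D.K72 = 72 := by
  rw [← Nat.card_congr D.prodEquiv, Nat.card_prod, D.cardQ, D.cardP]

include hG in
theorem free_K72 (K : Chars G) {g a : G} (hg : g ∈ D.K72) (ha : a ∈ D.P) (ha1 : a ≠ 1) (hga : Commute g a) :
    g ∈ D.P := by
  obtain ⟨q, hq, b, hb, rfl⟩ := (D.mem_K72).mp hg
  by_cases hq1 : q = 1
  · rw [hq1, one_mul]; exact hb
  exfalso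
  refine ha1 (D.free hG K hq hq1 ha ?_)
  have hba : Commute b a := D.commP b hb a ha
  simpa [mul_assoc] using hga.mul_left hba.inv_left

include hG in
theorem char_conj_coset (K : Chars G) (χ : IrrCharacter G) {q a : G} (hq : q ∈ D.Q) (hq1 : q ≠ 1) (ha : a ∈ D.P) :
    (χ : G → ℂ) (q * a) = (χ : G → ℂ) q := by
  let f : D.P → D.P := fun b => ⟨q⁻¹ * b * q * (b : G)⁻¹, mul_mem
    (by simpa using (mem_normalizer_iff.mp (inv_mem (D.hQN hq)) (b : G)).mp b.2) (inv_mem b.2)⟩
  have hf : Function.Injective f := by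
    intro b b' h
    have h' : q⁻¹ * b * q * (b : G)⁻¹ = q⁻¹ * b' * q * (b' : G)⁻¹ := congrArg Subtype.val h
    have hd := D.free hG K hq hq1 (mul_mem (inv_mem b'.2) b.2) (by
      show q * ((b' : G)⁻¹ * b) = (b' : G)⁻¹ * b * q
      have h'' : (b : G) * q * (b : G)⁻¹ = (b' : G) * q * (b' : G)⁻¹ := by
        calc (b : G) * q * (b : G)⁻¹ = q * (q⁻¹ * b * q * (b : G)⁻¹) := by group
          _ = q * (q⁻¹ * b' * q * (b' : G)⁻¹) := by rw [h']
          _ = _ := by group
      calc q * ((b' : G)⁻¹ * b) = (b' : G)⁻¹ * ((b' : G) * q * (b' : G)⁻¹) * b := by group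
        _ = (b' : G)⁻¹ * ((b : G) * q * (b : G)⁻¹) * b := by rw [h'']
        _ = (b' : G)⁻¹ * b * q := by group)
    exact Subtype.ext (inv_mul_eq_one.mp hd).symm
  obtain ⟨b, hb⟩ := (Finite.injective_iff_surjective.mp hf) ⟨a, ha⟩
  have hb' : q⁻¹ * b * q * (b : G)⁻¹ = a := congrArg Subtype.val hb
  rw [show q * a = (b : G) * q * (b : G)⁻¹ by rw [← hb']; group]
  exact irr_conj_apply χ q b

include hG in
theorem six_sum (K : Chars G) {q : G} (hq : q ∈ D.Q) (h1 : q ≠ 1) (hz : q ≠ D.z) (χ : IrrCharacter G) :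
    ∑ x : D.Q, (χ : G → ℂ) x =
      (χ : G → ℂ) 1 + (χ : G → ℂ) D.z + 3 * ((χ : G → ℂ) q + (χ : G → ℂ) (q * D.z)) := by
  set c := fun a : G => D.w * a * D.w⁻¹ with hc
  obtain ⟨-, hnd⟩ := D.six_list hG K hq h1 hz
  have hset := D.toFinset_six hG K hq h1 hz
  have e : ∑ x : D.Q, (χ : G → ℂ) x = ∑ x ∈ Finset.univ.filter (fun x : G => x ∈ D.Q), (χ : G → ℂ) x :=
    (Finset.sum_subtype (f := fun x : G => (χ : G → ℂ) x) _ (fun x => by simp)).symm
  rw [e, ← hset, List.sum_toFinset _ hnd]
  have hcc : ∀ a, (χ : G → ℂ) (c a) = (χ : G → ℂ) a := fun a => irr_conj_apply χ a D.w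
  have hcz : ∀ a, c a * D.z = c (a * D.z) := fun a => by
    simp only [hc]
    calc D.w * a * D.w⁻¹ * D.z = D.w * a * (D.w⁻¹ * D.z) := by group
      _ = D.w * a * (D.z * D.w⁻¹) := by rw [D.hwz.inv_left.eq]
      _ = _ := by group
  simp only [List.map_cons, List.map_nil, List.sum_cons, List.sum_nil]
  rw [show D.w * q * D.w⁻¹ = c q from rfl, show D.w * (c q) * D.w⁻¹ = c (c q) from rfl,
    hcz q, hcz (c q), hcc, hcc, hcc, hcc, hcz q, hcc]
  simp only [hcc]
  ring

end Setup

include hG in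
/-- A subgroup of index eleven, with the data of a Sylow 3-normaliser inside it. -/
theorem exists_point : ∃ (H : Subgroup G) (P : Subgroup G), H.index = 11 ∧ P ≤ H ∧ Nat.card P = 9 ∧
    Nat.card ↥(H ⊓ normalizer (P : Set G)) = 72 ∧
      ∀ g ∈ H, g ∈ normalizer (P : Set G) → ∀ a ∈ P, a ≠ 1 → g * a = a * g → g ∈ P := by
  obtain ⟨K⟩ := exists_chars hG
  obtain ⟨D⟩ := exists_setup hG K
  have hna := not_comm hG
  obtain ⟨τ, hτT, hτz⟩ : ∃ τ ∈ K.T, (τ : G → ℂ) D.z = 2 := by
    rcases involution_cases hG K D.hz with h | h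
    · rw [centralizer_two_eq hG K D.hz] at h; norm_num at h
    · exact h.2
  obtain ⟨d, ρ, hρ, he⟩ := τ.2
  have hd : d = 10 := by
    have : (τ : G → ℂ) 1 = (d : ℂ) := by rw [← he, Representation.char_one]; simp
    rw [irr_one_eq, K.dT τ hτT] at this
    exact_mod_cast this.symm
  have hone : (τ : G → ℂ) 1 = 10 := by rw [irr_one_eq, K.dT τ hτT]; norm_num
  -- an element of `Q` outside `⟨z⟩`
  obtain ⟨q, hq, hq1, hqz⟩ : ∃ q ∈ D.Q, q ≠ 1 ∧ q ≠ D.z := by
    by_contra hcon
    simp only [not_exists, not_and, not_not] at hcon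
    have hle : D.Q ≤ zpowers D.z := fun x hx => by
      by_cases h1 : x = 1
      · rw [h1]; exact one_mem _
      · rw [hcon x hx h1]; exact mem_zpowers _
    have := Nat.le_of_dvd Nat.card_pos (Subgroup.card_dvd_of_le hle)
    rw [D.cardQ, Nat.card_zpowers, D.hz] at this
    norm_num at this
  -- the common value on the nontrivial elements of `P`
  obtain ⟨a₀, ha₀, ha₀1⟩ : ∃ a ∈ D.P, a ≠ 1 := (Subgroup.bot_or_exists_ne_one _).resolve_left fun h => by
    have := D.cardP; rw [h, Subgroup.card_bot] at this; norm_num at this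
  set m := Module.finrank ℂ (Representation.invariants (ρ.comp D.Q.subtype)) with hm
  set n := Module.finrank ℂ (Representation.invariants (ρ.comp D.K72.subtype)) with hn
  set u := (τ : G → ℂ) q + (τ : G → ℂ) (q * D.z) with hu
  set v := (τ : G → ℂ) a₀ with hv
  have eQ : 10 + 2 + 3 * u = 8 * (m : ℂ) := by
    have h := finrank_invariants_mul ρ D.Q
    rw [he, D.cardQ, D.six_sum hG K hq hq1 hqz τ, hone, hτz] at h
    exact_mod_cast h
  have eK : 10 + 8 * v + 9 * (2 + 3 * u) = 72 * (n : ℂ) := by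
    have h := finrank_invariants_mul ρ D.K72
    rw [he, D.card_K72, ← Equiv.sum_comp D.prodEquiv, Fintype.sum_prod_type] at h
    rw [Finset.sum_eq_add_sum_sdiff_singleton_of_mem (Finset.mem_univ (1 : D.Q))] at h
    have h1 : ∑ a : D.P, (τ : G → ℂ) (((1 : D.Q) : G) * (a : G)) = 10 + 8 * v := by
      rw [Finset.sum_eq_add_sum_sdiff_singleton_of_mem (Finset.mem_univ (1 : D.P))]
      rw [Finset.sum_congr rfl (g := fun _ => v) fun a ha => ?_, Finset.sum_const, Finset.card_sdiff_of_subset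
        (Finset.subset_univ _), Finset.card_singleton, Finset.card_univ, ← Nat.card_eq_fintype_card, D.cardP]
      · simp [hone]
      · rw [Finset.mem_sdiff, Finset.mem_singleton] at ha
        have ha' : (a : G) ≠ 1 := fun h => ha.2 (Subtype.ext h)
        obtain ⟨g, hg⟩ := isConj_iff.mp (isConj_three hG K (D.ordP a₀ ha₀ ha₀1) (D.ordP a a.2 ha'))
        show (τ : G → ℂ) (((1 : D.Q) : G) * (a : G)) = v
        rw [OneMemClass.coe_one, one_mul, ← hg]
        exact irr_conj_apply τ a₀ g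
    have h2 : ∑ x ∈ Finset.univ \ {(1 : D.Q)}, ∑ a : D.P, (τ : G → ℂ) ((x : G) * (a : G)) =
        9 * (2 + 3 * u) := by
      rw [Finset.sum_congr rfl (g := fun x : D.Q => 9 * (τ : G → ℂ) x) fun x hx => ?_, ← Finset.mul_sum]
      · congr 1
        have hs := D.six_sum hG K hq hq1 hqz τ
        rw [Finset.sum_eq_add_sum_sdiff_singleton_of_mem (Finset.mem_univ (1 : D.Q)), hτz] at hs
        simp only [OneMemClass.coe_one] at hs
        linear_combination hs
      · rw [Finset.mem_sdiff, Finset.mem_singleton] at hx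
        rw [Finset.sum_congr rfl (g := fun _ => (τ : G → ℂ) x) fun a _ =>
          D.char_conj_coset hG K τ x.2 (fun h => hx.2 (Subtype.ext h)) a.2, Finset.sum_const, Finset.card_univ,
          ← Nat.card_eq_fintype_card, D.cardP]
        simp
    change (∑ a : D.P, (τ : G → ℂ) (((1 : D.Q) : G) * (a : G))) + _ = _ at h
    rw [show (∑ x ∈ Finset.univ \ {(1 : D.Q)}, ∑ y : D.P, (τ : G → ℂ) (((D.prodEquiv (x, y)) : G))) =
      ∑ x ∈ Finset.univ \ {(1 : D.Q)}, ∑ a : D.P, (τ : G → ℂ) ((x : G) * (a : G)) from rfl, h1, h2] at h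
    exact_mod_cast h
  obtain ⟨u', hu'⟩ := CfsgLib.Char.exists_int_of_isIntegral_rat
    ((irr_isIntegral τ q).add (irr_isIntegral τ (q * D.z))) (q := ((8 * m : ℚ) - 12) / 3)
    (by push_cast; linear_combination eQ / 3)
  rw [← hu] at hu'
  obtain ⟨v', hv'⟩ := CfsgLib.Char.exists_int_of_isIntegral_rat (irr_isIntegral τ a₀)
    (q := ((72 * n : ℚ) - 28 - 27 * u') / 8) (by
      push_cast
      rw [← hu', ← hv]
      linear_combination eK / 8)
  rw [← hv] at hv'
  rw [hu'] at eQ eK
  rw [hv'] at eK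
  have eQ' : 12 + 3 * u' = 8 * (m : ℤ) := by
    have : ((12 + 3 * u' : ℤ) : ℂ) = ((8 * (m : ℤ) : ℤ) : ℂ) := by push_cast; linear_combination eQ
    exact_mod_cast this
  have eK' : 28 + 8 * v' + 27 * u' = 72 * (n : ℤ) := by
    have : ((28 + 8 * v' + 27 * u' : ℤ) : ℂ) = ((72 * (n : ℤ) : ℤ) : ℂ) := by push_cast; linear_combination eK
    exact_mod_cast this
  have hv2 : v' ^ 2 ≤ 18 := by
    have h := sum_norm_sq_column a₀
    rw [centralizer_three hG K (D.ordP a₀ ha₀ ha₀1)] at h
    have hs := Finset.single_le_sum (f := fun χ : IrrCharacter G => ‖(χ : G → ℂ) a₀‖ ^ 2)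
      (fun _ _ => sq_nonneg _) (Finset.mem_univ τ)
    rw [h] at hs
    change ‖v‖ ^ 2 ≤ _ at hs
    rw [hv', Complex.norm_intCast, sq_abs] at hs
    exact_mod_cast hs
  have hvb : -4 ≤ v' ∧ v' ≤ 4 := ⟨by nlinarith, by nlinarith⟩
  have hmn : m + 1 ≤ 2 * n := by omega
  -- two conjugates of the fixed space of `K72` meet
  set UQ := Representation.invariants (ρ.comp D.Q.subtype) with hUQ
  set UK := Representation.invariants (ρ.comp D.K72.subtype) with hUK
  set UK' := UK.map (ρ D.w) with hUK'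
  have hwinj : Function.Injective (ρ D.w) := fun x y h => by
    have := congrArg (ρ D.w⁻¹) h
    rwa [← Module.End.mul_apply, ← Module.End.mul_apply, ← map_mul, inv_mul_cancel, map_one] at this
  have hnK' : Module.finrank ℂ UK' = n := by
    rw [hUK', hn]
    exact (Submodule.equivMapOfInjective _ hwinj UK).finrank_eq.symm
  have hQK : D.Q ≤ D.K72 := le_sup_left
  have hle1 : UK ≤ UQ := fun x hx => by
    rw [hUQ, Representation.mem_invariants]
    rw [hUK, Representation.mem_invariants] at hx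
    exact fun g => hx ⟨g, hQK g.2⟩
  have hle2 : UK' ≤ UQ := by
    rintro _ ⟨x, hx, rfl⟩
    rw [hUQ, Representation.mem_invariants]
    rw [SetLike.mem_coe, hUK, Representation.mem_invariants] at hx
    intro g
    show ρ (g : G) (ρ D.w x) = ρ D.w x
    have hg' : D.w⁻¹ * (g : G) * D.w ∈ D.Q := by
      have h3 : D.w⁻¹ = D.w * D.w := by
        exact inv_eq_of_mul_eq_one_right (cube_eq D.hw)
      have := D.hwQ _ (D.hwQ _ g.2)
      have e : D.w⁻¹ * (g : G) * D.w = D.w * (D.w * (g : G) * D.w⁻¹) * D.w⁻¹ := by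
        calc D.w⁻¹ * (g : G) * D.w = D.w⁻¹ * (g : G) * (D.w⁻¹)⁻¹ := by rw [inv_inv]
          _ = D.w * D.w * (g : G) * (D.w * D.w)⁻¹ := by rw [h3]
          _ = _ := by group
      exact e ▸ this
    have := hx ⟨_, hQK hg'⟩
    change ρ (D.w⁻¹ * (g : G) * D.w) x = x at this
    calc ρ (g : G) (ρ D.w x) = ρ (D.w * (D.w⁻¹ * (g : G) * D.w)) x := by
          rw [← Module.End.mul_apply, ← map_mul]; congr 2; group
      _ = ρ D.w x := by rw [map_mul, Module.End.mul_apply, this]
  obtain ⟨x, hxK, hxK', hx0⟩ : ∃ x, x ∈ UK ∧ x ∈ UK' ∧ x ≠ 0 := by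
    have h := Submodule.finrank_sup_add_finrank_inf_eq UK UK'
    have hs : Module.finrank ℂ ↥(UK ⊔ UK') ≤ m := Submodule.finrank_mono (sup_le hle1 hle2)
    rw [hnK', ← hn] at h
    have hpos : UK ⊓ UK' ≠ ⊥ := fun hb => by
      rw [hb, finrank_bot] at h; omega
    obtain ⟨x, hx, hx0⟩ := Submodule.exists_mem_ne_zero_of_ne_bot hpos
    exact ⟨x, hx.1, hx.2, hx0⟩
  let H : Subgroup G :=
    { carrier := {g | ρ g x = x}
      one_mem' := by simp
      mul_mem' := fun {g h} (hg : ρ g x = x) (hh : ρ h x = x) => by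
        show ρ (g * h) x = x
        rw [map_mul, Module.End.mul_apply, hh, hg]
      inv_mem' := fun {g} (hg : ρ g x = x) => by
        show ρ g⁻¹ x = x
        nth_rewrite 1 [← hg]
        rw [← Module.End.mul_apply, ← map_mul, inv_mul_cancel, map_one]; rfl }
  have hHne : H ≠ ⊤ := by
    intro htop
    have hall : ∀ g, ρ g x = x := fun g => (htop ▸ mem_top g : g ∈ H)
    have hsub : ∀ g, ∀ y ∈ Submodule.span ℂ ({x} : Set (Fin d → ℂ)), ρ g y ∈ Submodule.span ℂ ({x} : Set (Fin d → ℂ)) :=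
      fun g y hy => by
        obtain ⟨c, rfl⟩ := Submodule.mem_span_singleton.mp hy
        rw [map_smul, hall]
        exact Submodule.smul_mem _ _ (Submodule.mem_span_singleton_self x)
    have hir := hρ
    let σ : Subrepresentation ρ := ⟨Submodule.span ℂ {x}, fun g y hy => hsub g y hy⟩
    rcases hir.eq_bot_or_eq_top σ with h | h
    · exact hx0 (by
        have : x ∈ (σ : Subrepresentation ρ).toSubmodule := Submodule.mem_span_singleton_self x
        rw [h] at this
        exact (Submodule.mem_bot ℂ).mp this)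
    · have : Submodule.span ℂ ({x} : Set (Fin d → ℂ)) = ⊤ := congrArg Subrepresentation.toSubmodule h
      have hr := congrArg (fun W : Submodule ℂ (Fin d → ℂ) => Module.finrank ℂ W) this
      simp only [finrank_span_singleton hx0, finrank_top, Module.finrank_fin_fun] at hr
      omega
  have hKH : D.K72 ≤ H := fun g hg => by
    rw [hUK, Representation.mem_invariants] at hxK
    exact hxK ⟨g, hg⟩
  have hKH' : ∀ g ∈ D.K72, D.w * g * D.w⁻¹ ∈ H := by
    intro g hg
    obtain ⟨y, hy, hyx⟩ := hxK'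
    rw [SetLike.mem_coe, hUK, Representation.mem_invariants] at hy
    show ρ (D.w * g * D.w⁻¹) x = x
    rw [← hyx, ← Module.End.mul_apply, ← map_mul, inv_mul_cancel_right, map_mul, Module.End.mul_apply]
    exact congrArg _ (hy ⟨g, hg⟩)
  have hPK : D.P ≤ D.K72 := le_sup_right
  set N := normalizer (D.P : Set G) with hN
  have hKN : D.K72 ≤ H ⊓ N := le_inf hKH (sup_le D.hQN le_normalizer)
  -- the conjugate of `P` differs
  have hmemP : ∀ a ∈ N, a ^ 9 = 1 → a ∈ D.P := by
    intro a ha ha9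
    have : (D.P.subgroupOf N).Normal := Subgroup.normal_in_normalizer
    have hi : (D.P.subgroupOf N).index = 16 := by
      have h := (D.P.subgroupOf N).index_mul_card
      rw [Nat.card_congr (subgroupOfEquivOfLe (le_normalizer : D.P ≤ N)).toEquiv, D.cardP, D.cardN] at h
      omega
    have h16 := Subgroup.pow_index_mem (D.P.subgroupOf N) (⟨a, ha⟩ : N)
    rw [hi, Subgroup.mem_subgroupOf] at h16
    have e : a = (a ^ 16) ^ 4 := by
      rw [← pow_mul, show 16 * 4 = 9 * 7 + 1 from rfl, pow_succ, pow_mul, ha9, one_pow, one_mul]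
    rw [e]
    exact pow_mem (by simpa using h16) 4
  have hwN : D.w ∉ N := fun h => by
    have hwP := hmemP _ h (orderOf_dvd_iff_pow_eq_one.mp (by rw [D.hw]; norm_num))
    have h' := D.hinv _ hwP
    rw [← D.hwz.eq, mul_inv_cancel_right] at h'
    have h2 : D.w ^ 2 = 1 := by rw [pow_two]; exact mul_eq_one_iff_eq_inv.mpr h'
    have := orderOf_dvd_of_pow_eq_one h2
    rw [D.hw] at this
    norm_num at this
  have hHN : ¬ H ≤ N := by
    intro hle
    refine hwN (mem_normalizer_iff.mpr fun a => ?_)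
    have hall : ∀ a ∈ D.P, D.w * a * D.w⁻¹ ∈ D.P := fun a ha => by
      refine hmemP _ (hle (hKH' a (hPK ha))) ?_
      have h := orderOf_dvd_iff_pow_eq_one.mp (D.cardP ▸ Subgroup.orderOf_dvd_natCard D.P ha)
      rw [conj_pow, h, mul_one, mul_inv_cancel]
    refine ⟨hall a, fun h => ?_⟩
    have h3 : D.w * (D.w * D.w) = 1 := cube_eq D.hw
    have e : a = D.w * (D.w * (D.w * a * D.w⁻¹) * D.w⁻¹) * D.w⁻¹ := by
      calc a = D.w * (D.w * D.w) * a * (D.w * (D.w * D.w))⁻¹ := by rw [h3]; simp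
        _ = _ := by group
    rw [e]
    exact hall _ (hall _ h)
  -- counting Sylow subgroups of `H`
  have h3 : Fact (Nat.Prime 3) := ⟨by norm_num⟩
  have h11 : 11 ≤ H.index := by
    by_contra hlt
    push Not at hlt
    have := Subgroup.FiniteIndex.index_ne_zero (H := H)
    let φ : G →* Equiv.Perm (G ⧸ H) := MulAction.toPermHom G (G ⧸ H)
    have hker : φ.ker = ⊥ := by
      refine ((inferInstance : φ.ker.Normal).eq_bot_or_eq_top).resolve_right fun htop => hHne ?_
      rw [eq_top_iff]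
      intro g _
      have hg : g ∈ φ.ker := htop ▸ mem_top g
      have hg' := congrArg (fun p : Equiv.Perm (G ⧸ H) => p ((1 : G) : G ⧸ H)) (MonoidHom.mem_ker.mp hg)
      simp only [φ, MulAction.toPermHom_apply, MulAction.toPerm_apply, Equiv.Perm.coe_one, id_eq] at hg'
      rw [MulAction.Quotient.smul_coe, smul_eq_mul, mul_one, QuotientGroup.eq, mul_one, inv_mem_iff] at hg'
      exact hg'
    have hdv := Subgroup.card_dvd_of_injective φ ((MonoidHom.ker_eq_bot_iff φ).mp hker)
    rw [hG, Nat.card_perm, ← Subgroup.index_eq_card] at hdv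
    have h11 : 11 ∣ (H.index).factorial := (show 11 ∣ 7920 by norm_num).trans hdv
    exact absurd ((Nat.Prime.dvd_factorial (by norm_num)).mp h11) (by omega)
  have hHi := H.index_mul_card
  rw [hG] at hHi
  have h72H : 72 ∣ Nat.card H := D.card_K72 ▸ Subgroup.card_dvd_of_le hKH
  have h72 : 72 ∣ Nat.card ↥(H ⊓ N) := D.card_K72 ▸ Subgroup.card_dvd_of_le hKN
  have h144 : Nat.card ↥(H ⊓ N) ∣ 144 := D.cardN ▸ Subgroup.card_dvd_of_le (inf_le_right : H ⊓ N ≤ N)
  let PH : Sylow 3 H := Sylow.ofCard (D.P.subgroupOf H) (by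
    have hfac : (Nat.card H).factorization 3 = 2 := by
      have h1 : (Nat.card H).factorization 3 ≤ (7920 : ℕ).factorization 3 :=
        (Nat.factorization_le_iff_dvd Nat.card_pos.ne' (by norm_num)).mpr ⟨_, (mul_comm _ _).trans hHi |>.symm⟩ 3
      have h2 : (72 : ℕ).factorization 3 ≤ (Nat.card H).factorization 3 :=
        (Nat.factorization_le_iff_dvd (by norm_num) Nat.card_pos.ne').mpr h72H 3
      have e1 : (7920 : ℕ).factorization 3 = 2 := by
        rw [show (7920 : ℕ) = 3 ^ 2 * 880 from rfl, Nat.factorization_mul (by norm_num) (by norm_num),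
          Finsupp.add_apply, Nat.Prime.factorization_pow (by norm_num), Finsupp.single_eq_same,
          Nat.factorization_eq_zero_of_not_dvd (by norm_num)]
      have e2 : (72 : ℕ).factorization 3 = 2 := by
        rw [show (72 : ℕ) = 3 ^ 2 * 8 from rfl, Nat.factorization_mul (by norm_num) (by norm_num),
          Finsupp.add_apply, Nat.Prime.factorization_pow (by norm_num), Finsupp.single_eq_same,
          Nat.factorization_eq_zero_of_not_dvd (by norm_num)]
      omega
    rw [hfac, Nat.card_congr (subgroupOfEquivOfLe (hPK.trans hKH)).toEquiv, D.cardP]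
    norm_num)
  have hnorm : (normalizer (PH : Set H)) = (H ⊓ N).subgroupOf H := by
    have hc : (PH : Subgroup H) = D.P.subgroupOf H := rfl
    rw [← Sylow.coe_coe, hc, ← Subgroup.subgroupOf_normalizer_eq (hPK.trans hKH), Subgroup.inf_subgroupOf_left]
  have hmod := card_sylow_modEq_one 3 H
  rw [PH.card_eq_index_normalizer, hnorm] at hmod
  have hidx := ((H ⊓ N).subgroupOf H).index_mul_card
  rw [Nat.card_congr (subgroupOfEquivOfLe (inf_le_left : H ⊓ N ≤ H)).toEquiv] at hidx
  have hne1 : ((H ⊓ N).subgroupOf H).index ≠ 1 := fun h1 => hHN (by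
    rw [Subgroup.index_eq_one, Subgroup.subgroupOf_eq_top] at h1
    exact h1.trans inf_le_right)
  have hcardH : Nat.card H ≤ 720 := by
    by_contra hgt
    push Not at hgt
    nlinarith [hHi, h11, hgt]
  obtain ⟨hH720, hN72⟩ : Nat.card H = 720 ∧ Nat.card ↥(H ⊓ N) = 72 := by
    have key : ∀ c ∈ Finset.Icc 1 10, ∀ e ∈ Finset.Icc 1 2, ∀ i ∈ Finset.Icc 1 10,
        7920 % (72 * c) = 0 → i * (72 * e) = 72 * c → i % 3 = 1 → i ≠ 1 → c = 10 ∧ e = 1 := by decide +kernel
    obtain ⟨c, hc⟩ := h72H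
    obtain ⟨e, he'⟩ := h72
    set i := ((H ⊓ N).subgroupOf H).index with hi
    rw [he', hc] at hidx
    have hcpos : 0 < Nat.card H := Nat.card_pos
    have hepos : 0 < Nat.card ↥(H ⊓ N) := Nat.card_pos
    have he2 : e ≤ 2 := by
      have := Nat.le_of_dvd (by norm_num) h144
      omega
    have hi10 : i ≤ 10 := by
      have he1 : 1 ≤ e := by omega
      have hc10 : c ≤ 10 := by omega
      have hie : i * e = c := by linarith
      have hle : i ≤ i * e := Nat.le_mul_of_pos_right i he1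
      omega
    have hipos : 0 < i := Nat.pos_of_ne_zero Subgroup.FiniteIndex.index_ne_zero
    obtain ⟨h1, h2⟩ := key c (Finset.mem_Icc.mpr ⟨by omega, by omega⟩) e (Finset.mem_Icc.mpr ⟨by omega, he2⟩)
      i (Finset.mem_Icc.mpr ⟨hipos, hi10⟩)
      (by rw [← hc]; exact Nat.mod_eq_zero_of_dvd ⟨H.index, by rw [mul_comm, hHi]⟩) hidx hmod hne1
    exact ⟨by rw [hc, h1], by rw [he', h2]⟩
  refine ⟨H, D.P, ?_, hPK.trans hKH, D.cardP, hN72, fun g hg hgN a ha ha1 hga => ?_⟩
  · rw [hH720] at hHi; omega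
  · have heq : D.K72 = H ⊓ N := Subgroup.eq_of_le_of_card_ge hKN (by rw [hN72, D.card_K72])
    exact D.free_K72 hG K (heq ▸ ⟨hg, hgN⟩) ha ha1 hga

end CfsgLib.KGroups.M11Point
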