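import Cfsg.Agent.Lib.KGroups.M11Five
import Cfsg.Agent.Lib.Char.Induced

/-!
# No element of order five in a simple group of order 7920 has a larger centraliser
-/

set_option autoImplicit false

namespace CfsgLib.KGroups.M11Selfcent

open Cfsg CfsgLib.Blocks CfsgLib.KGroups.M11Tools CfsgLib.KGroups.M11Local CfsgLib.KGroups.M11Block
  CfsgLib.KGroups.M11Five Subgroup
open CfsgLib.SmallGroups
open scoped Classical

variable {G : Type*} [Group G] [Fintype G] [IsSimpleGroup G] (hG : Nat.card G = 7920)

include hG in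
/-- An automiser of order two is impossible. -/
theorem no_two [Fact (Nat.Prime 5)] (D : Data G) (P : Sylow 5 G) {k : ℕ}
    (hN : Nat.card (normalizer ((P : Subgroup G) : Set G)) = 2 * (5 * k))
    (hC : Nat.card (centralizer ((P : Subgroup G) : Set G)) = 5 * k) : False := by
  have hna := not_comm hG
  have hP := card_sylow_five hG P
  obtain ⟨M, hM⟩ := DegreeTools.TISum.exists_pmodular (show Nat.Prime 5 by norm_num)
  obtain ⟨X, Y, εX, ε, hB, hdisj, hX, hY, hXp, hε, hYd, hYeq, hrel⟩ :=
    PrimeOrder.principal_block hM (by norm_num) P hP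
  rw [autCard_of P (e := 2) (by rw [hN, hC])] at hX hY hYd
  obtain ⟨x, hxP, hx, -⟩ := PrimeOrder.exists_generator P hP
  have htriv : trivChar G ∈ X := by
    refine ((hB _).1 (trivChar_mem_principalBlock hM)).resolve_right fun h => ?_
    have h1 := hYd _ h
    rw [show charDegree ((trivChar G : IrrCharacter G) : G → ℂ) = 1 by simp [charDegree]] at h1
    rcases hε with rfl | rfl <;> simp [Int.modEq_iff_dvd] at h1
  have hεt : εX (trivChar G) = 1 := by
    have h := (hXp _ htriv).2.2 x x ⟨1, mul_one _, Commute.one_right _, ⟨1, by rw [hx, pow_one]⟩,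
      by rw [orderOf_one]; norm_num⟩ hxP (fun h => by rw [h, orderOf_one] at hx; omega)
    rw [trivChar_apply] at h
    exact_mod_cast h.symm
  obtain ⟨χ, hχ⟩ := Finset.card_eq_one.mp (show (X.erase (trivChar G)).card = 1 by
    rw [Finset.card_erase_of_mem htriv, hX])
  have hχmem : χ ∈ X.erase (trivChar G) := hχ ▸ Finset.mem_singleton_self χ
  obtain ⟨θ, hθ⟩ : Y.Nonempty := Finset.card_pos.1 (by rw [hY]; norm_num)
  obtain ⟨hs, hmod, -⟩ := hXp χ (Finset.mem_erase.mp hχmem).2
  have hr := hrel θ hθ 1 (by rw [orderOf_one]; norm_num)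
  rw [← Finset.add_sum_erase _ _ htriv, hχ, Finset.sum_singleton, hεt] at hr
  simp only [irr_one_eq, trivChar_apply, Int.cast_one, mul_one] at hr
  have hr' : ε * (charDegree (θ : G → ℂ) : ℤ) = 1 + εX χ * (charDegree (χ : G → ℂ) : ℤ) := by
    exact_mod_cast hr
  have hθmod := hYd θ hθ
  have h1 := deg_list hG D χ
  have h2 := deg_list hG D θ
  have h3 := deg_le hG χ
  have h4 := deg_le hG θ
  rw [Int.ModEq] at hmod hθmod
  rcases hs with e | e <;> rw [e] at hmod hr' <;> rcases hε with rfl | rfl <;> omega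

/-- A subgroup of index eleven gives a character of degree ten. -/
theorem exists_perm_char (hna : ¬ IsMulCommutative G) (hdeg : ∀ χ : IrrCharacter G,
      charDegree (χ : G → ℂ) = 1 ∨ 10 ≤ charDegree (χ : G → ℂ)) (H : Subgroup G) (hH : H.index = 11) :
    ∃ χ : IrrCharacter G, charDegree (χ : G → ℂ) = 10 ∧
      ∀ g : G, (CharDeep.PermChar.fixCount H g : ℂ) = 1 + (χ : G → ℂ) g := by
  set π : G → ℂ := Cfsg.indFun H (fun _ => 1) with hπ
  have hπc : Cfsg.IsCharacter G π := CfsgLib.Char.IsCharacter.indFun H CfsgLib.Char.isCharacter_one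
  obtain ⟨hcl, hnat⟩ := CfsgLib.Char.isCharacter_iff.mp hπc
  choose n hn using fun χ : IrrCharacter G => hnat χ χ.2
  have hexp : ∀ g, π g = ∑ χ : IrrCharacter G, (n χ : ℂ) * (χ : G → ℂ) g := fun g => by
    conv_lhs => rw [CfsgLib.Char.IsClassFunction.eq_sum_irr hcl]
    simp [hn, Finset.sum_apply]
  have hn1 : n (trivChar G) = 1 := by
    have h := hn (trivChar G)
    rw [hπ, CfsgLib.Char.classInner_indFun H _ (CfsgLib.Char.IsIrrCharacter.isClassFunction (trivChar G).2)] at h
    simp only [trivChar_apply] at h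
    rw [CfsgLib.Char.classInner_fun_one_right, Finset.sum_const, Finset.card_univ, nsmul_eq_mul, mul_one,
      ← Nat.card_eq_fintype_card, inv_mul_cancel₀ (Nat.cast_ne_zero.mpr Nat.card_pos.ne')] at h
    exact_mod_cast h.symm
  have hdeg1 : ∑ χ : IrrCharacter G, n χ * charDegree (χ : G → ℂ) = 11 := by
    have h := hexp 1
    rw [hπ, CharDeep.PermChar.indFun_one_eq, CharDeep.PermChar.fixCount] at h
    simp only [irr_one_eq, one_smul] at h
    rw [Nat.card_congr (Equiv.subtypeUnivEquiv fun _ => trivial)] at h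
    rw [← hH, Subgroup.index]
    exact_mod_cast h.symm
  rw [← Finset.add_sum_erase _ _ (Finset.mem_univ (trivChar G)), hn1, one_mul,
    show charDegree ((trivChar G : IrrCharacter G) : G → ℂ) = 1 by simp [charDegree]] at hdeg1
  have h10 : ∑ χ ∈ Finset.univ.erase (trivChar G), n χ * charDegree (χ : G → ℂ) = 10 := by omega
  obtain ⟨χ, hχ, hne⟩ := Finset.exists_ne_zero_of_sum_ne_zero (by rw [h10]; norm_num)
  have hχt : χ ≠ trivChar G := (Finset.mem_erase.mp hχ).1
  have hd : 10 ≤ charDegree (χ : G → ℂ) :=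
    (hdeg χ).resolve_left fun h => hχt (BlockDegrees.eq_trivChar hna χ h)
  have hle := Finset.single_le_sum (f := fun η : IrrCharacter G => n η * charDegree (η : G → ℂ))
    (fun _ _ => Nat.zero_le _) hχ
  simp only [h10] at hle
  have hnz : 1 ≤ n χ := Nat.pos_of_ne_zero fun h => hne (by rw [h, zero_mul])
  have hd10 : charDegree (χ : G → ℂ) = 10 ∧ n χ = 1 := by
    have h' : n χ * 10 ≤ n χ * charDegree (χ : G → ℂ) := Nat.mul_le_mul_left _ hd
    have hnχ : n χ = 1 := by omega
    rw [hnχ] at hle
    omega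
  refine ⟨χ, hd10.1, fun g => ?_⟩
  rw [← CharDeep.PermChar.indFun_one_eq, ← hπ, hexp, ← Finset.add_sum_erase _ _ (Finset.mem_univ (trivChar G)), hn1,
    trivChar_apply, Nat.cast_one, mul_one]
  congr 1
  rw [Finset.sum_eq_single χ (fun η hη hne' => ?_) (fun h => absurd hχ h), hd10.2, Nat.cast_one, one_mul]
  have hpair := Finset.sum_le_sum_of_subset_of_nonneg (f := fun η : IrrCharacter G => n η * charDegree (η : G → ℂ))
    (s := {χ, η}) (t := Finset.univ.erase (trivChar G))
    (fun a ha => by
      rcases Finset.mem_insert.mp ha with rfl | ha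
      · exact hχ
      · rw [Finset.mem_singleton.mp ha]; exact hη) (fun _ _ _ => Nat.zero_le _)
  rw [Finset.sum_pair (Ne.symm hne'), h10, hd10.1, hd10.2, one_mul] at hpair
  have h0 : n η * charDegree (η : G → ℂ) = 0 := by omega
  rcases Nat.mul_eq_zero.mp h0 with h | h
  · rw [h, Nat.cast_zero, zero_mul]
  · exact absurd h (charDegree_pos η).ne'

theorem zpowers_map_conj (g a : G) :
    (zpowers a).map (MulAut.conj g).toMonoidHom = zpowers (g * a * g⁻¹) := by
  rw [MonoidHom.map_zpowers]; rfl

include hG in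
/-- The centraliser of an element of order five cannot have order thirty. -/
theorem no_thirty [Fact (Nat.Prime 5)] (D : Data G) (P : Sylow 5 G)
    (hN : Nat.card (normalizer ((P : Subgroup G) : Set G)) = 120)
    (hC : Nat.card (centralizer ((P : Subgroup G) : Set G)) = 30) : False := by
  have hna := not_comm hG
  haveI : Fact (Nat.Prime 3) := ⟨by norm_num⟩
  have hP := card_sylow_five hG P
  set C := centralizer ((P : Subgroup G) : Set G) with hCdef
  set N := normalizer ((P : Subgroup G) : Set G) with hNdef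
  obtain ⟨⟨w, hwC⟩, hw⟩ := exists_prime_orderOf_dvd_card' 3 (show 3 ∣ Nat.card C by rw [hC]; norm_num)
  rw [Subgroup.orderOf_mk] at hw
  set W := zpowers w with hW
  have hWcard : Nat.card W = 3 := by rw [hW, Nat.card_zpowers, hw]
  -- the Sylow 3-subgroup of the centraliser is unique
  have huniq : ∀ u ∈ C, orderOf u = 3 → u ∈ W := by
    intro u hu huo
    haveI : Fact (Nat.Prime 3) := ⟨by norm_num⟩
    obtain ⟨Q, hQ⟩ := (IsPGroup.of_card (n := 1) (by rw [Nat.card_zpowers, Subgroup.orderOf_mk, hw, pow_one]) :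
      IsPGroup 3 ↥(zpowers (⟨w, hwC⟩ : ↥C))).exists_le_sylow
    have hQc : Nat.card (Q : Subgroup ↥C) = 3 :=
      (SimpleTools.card_sylow_subgroup (k := 1) (m := 10) (by rw [hC]; norm_num) (by norm_num) Q).trans (pow_one _)
    have hQz : zpowers (⟨w, hwC⟩ : ↥C) = Q :=
      Subgroup.eq_of_le_of_card_ge hQ (by rw [hQc, Nat.card_zpowers, Subgroup.orderOf_mk, hw])
    have hPC : (P : Subgroup G) ≤ C := fun a ha => mem_centralizer_iff.mpr fun b hb => by
      haveI : IsCyclic ↥(P : Subgroup G) := isCyclic_of_prime_card hP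
      exact congrArg Subtype.val
        ((IsCyclic.isMulCommutative (α := ↥(P : Subgroup G))).is_comm.comm ⟨b, hb⟩ ⟨a, ha⟩)
    have hle5 : (P : Subgroup G).subgroupOf C ≤ normalizer ((Q : Subgroup ↥C) : Set ↥C) := fun a ha => by
      refine centralizer_le_normalizer _ ?_
      rw [← hQz, zpowers_eq_closure, centralizer_closure, mem_centralizer_singleton_iff]
      exact Subtype.ext (mem_centralizer_iff.mp hwC (a : G) ha)
    have h5 : 5 ∣ Nat.card (normalizer ((Q : Subgroup ↥C) : Set ↥C)) := by
      have := Subgroup.card_dvd_of_le hle5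
      rwa [Nat.card_congr (subgroupOfEquivOfLe hPC).toEquiv, hP] at this
    have h3 : 3 ∣ Nat.card (normalizer ((Q : Subgroup ↥C) : Set ↥C)) := by
      have := Subgroup.card_dvd_of_le (le_normalizer (H := (Q : Subgroup ↥C)))
      rwa [hQc] at this
    have hmul := SimpleTools.card_normalizer_mul Q
    rw [hC] at hmul
    have hn := SimpleTools.card_sylow_mem (G := ↥C) (p := 3) (k := 1) (m := 10) (by rw [hC]; norm_num) (by norm_num)
    have hn1 : Nat.card (Sylow 3 ↥C) = 1 := by
      obtain ⟨c, hc⟩ := (show 15 ∣ Nat.card (normalizer ((Q : Subgroup ↥C) : Set ↥C)) from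
        Nat.Coprime.mul_dvd_of_dvd_of_dvd (by norm_num) h3 h5)
      have hd := (Finset.mem_filter.mp hn).2
      rw [hc] at hmul
      have h2 : Nat.card (Sylow 3 ↥C) * c = 2 := by nlinarith
      have h2' : Nat.card (Sylow 3 ↥C) ≤ 2 := Nat.le_of_dvd (by norm_num) ⟨c, h2.symm⟩
      omega
    obtain ⟨R, hR⟩ := (IsPGroup.of_card (n := 1) (by rw [Nat.card_zpowers, Subgroup.orderOf_mk, huo, pow_one]) :
      IsPGroup 3 ↥(zpowers (⟨u, hu⟩ : ↥C))).exists_le_sylow
    have hRQ : R = Q := (Nat.card_eq_one_iff_unique.mp hn1).1.elim R Q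
    rw [hRQ, ← hQz] at hR
    obtain ⟨z, hz⟩ := mem_zpowers_iff.mp (hR (mem_zpowers _))
    exact mem_zpowers_iff.mpr ⟨z, by simpa using congrArg Subtype.val hz⟩
  set M := normalizer (W : Set G) with hMdef
  have hNM : N ≤ M := fun g hg => by
    refine mem_normalizer_iff_map_conj_eq.mpr ?_
    show (zpowers w).map (MulAut.conj g).toMonoidHom = zpowers w
    rw [zpowers_map_conj]
    have hmem : g * w * g⁻¹ ∈ C := mem_centralizer_iff.mpr fun a ha => by
      have h1 : g⁻¹ * a * g ∈ (P : Subgroup G) := (mem_normalizer_iff''.mp hg a).mp ha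
      have h2 := mem_centralizer_iff.mp hwC _ h1
      calc a * (g * w * g⁻¹) = g * ((g⁻¹ * a * g) * w) * g⁻¹ := by group
        _ = g * (w * (g⁻¹ * a * g)) * g⁻¹ := by rw [h2]
        _ = g * w * g⁻¹ * a := by group
    have ho : orderOf (g * w * g⁻¹) = 3 :=
      (MulEquiv.orderOf_eq (MulAut.conj g) w).trans hw
    exact Subgroup.eq_of_le_of_card_ge (zpowers_le.mpr (huniq _ hmem ho))
      (by rw [Nat.card_zpowers, Nat.card_zpowers, ho, hw])
  have h120 : 120 ∣ Nat.card M := hN ▸ Subgroup.card_dvd_of_le hNM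
  have hCw : centralizer ({w} : Set G) ≤ M := fun g hg => by
    refine centralizer_le_normalizer _ ?_
    rwa [hW, zpowers_eq_closure, centralizer_closure]
  have h9 : 9 ∣ Nat.card (centralizer ({w} : Set G)) := by
    obtain ⟨Q, hQ⟩ := (IsPGroup.of_card (n := 1) (by rw [Nat.card_zpowers, hw, pow_one]) :
      IsPGroup 3 ↥(zpowers w)).exists_le_sylow
    have hQc : Nat.card (Q : Subgroup G) = 3 ^ 2 :=
      SimpleTools.card_sylow_subgroup (k := 2) (m := 880) (by rw [hG]; norm_num) (by norm_num) Q
    haveI : Fact (Nat.Prime 3) := ⟨by norm_num⟩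
    have hle : (Q : Subgroup G) ≤ centralizer ({w} : Set G) := fun a ha =>
      mem_centralizer_singleton_iff.mpr (congrArg Subtype.val
        (IsPGroup.commutative_of_card_eq_prime_sq hQc ⟨a, ha⟩ ⟨w, hQ (mem_zpowers w)⟩))
    have := Subgroup.card_dvd_of_le hle
    rwa [hQc] at this
  have h360 : 360 ∣ Nat.card M := by
    exact (show Nat.lcm 120 9 = 360 by decide) ▸ Nat.lcm_dvd h120 (h9.trans (Subgroup.card_dvd_of_le hCw))
  have hMne : M ≠ ⊤ := fun h => by
    have hnorm : W.Normal := Subgroup.normalizer_eq_top_iff.mp h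
    rcases hnorm.eq_bot_or_eq_top with h' | h'
    · rw [h', Subgroup.card_bot] at hWcard; omega
    · rw [h', Subgroup.card_top, hG] at hWcard; omega
  have hMidx : M.index ≠ 1 := fun h => hMne (Subgroup.index_eq_one.mp h)
  have hMmul := M.index_mul_card
  rw [hG] at hMmul
  have hidx2 : M.index ≠ 2 := fun h => by
    rcases (Subgroup.normal_of_index_eq_two h).eq_bot_or_eq_top with h' | h'
    · have e : Nat.card M = 1 := by rw [h', Subgroup.card_bot]
      rw [e, h] at hMmul; omega
    · exact hMne h'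
  have hMcard : Nat.card M = 720 := by
    obtain ⟨c, hc⟩ := h360
    rw [hc] at hMmul
    have h22 : M.index * c = 22 := by nlinarith
    have hd : M.index ∈ Nat.divisors 22 := Nat.mem_divisors.mpr ⟨⟨c, h22.symm⟩, by norm_num⟩
    rcases (show M.index = 1 ∨ M.index = 2 ∨ M.index = 11 ∨ M.index = 22 by
      revert hd; generalize M.index = i; intro hd; fin_cases hd <;> norm_num) with h | h | h | h
    · exact absurd h hMidx
    · exact absurd h hidx2
    · rw [h] at h22; rw [hc]; omega
    · exfalso
      rw [h] at h22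
      -- three Sylow 5-subgroups
      have hM360 : Nat.card M = 360 := by rw [hc]; omega
      have hPM : (P : Subgroup G) ≤ M := le_normalizer.trans hNM
      have hS : IsPGroup 5 ↥((P : Subgroup G).subgroupOf M) :=
        IsPGroup.of_card (n := 1) (by rw [Nat.card_congr (subgroupOfEquivOfLe hPM).toEquiv, hP, pow_one])
      obtain ⟨Q, hQ⟩ := hS.exists_le_sylow
      have hQc : Nat.card (Q : Subgroup ↥M) = 5 :=
        (SimpleTools.card_sylow_subgroup (k := 1) (m := 72) (by rw [hM360]; norm_num) (by norm_num) Q).trans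
          (pow_one _)
      have hQe : (P : Subgroup G).subgroupOf M = Q := Subgroup.eq_of_le_of_card_ge hQ
        (by rw [hQc, Nat.card_congr (subgroupOfEquivOfLe hPM).toEquiv, hP])
      have hNQ : normalizer ((Q : Subgroup ↥M) : Set ↥M) = N.subgroupOf M := by
        ext a
        rw [mem_subgroupOf, ← hQe]
        simp only [hNdef, mem_normalizer_iff]
        constructor
        · intro h b
          by_cases hb : b ∈ M
          · simpa [mem_subgroupOf] using h ⟨b, hb⟩
          · exact ⟨fun hbP => absurd (hPM hbP) hb, fun hbP => absurd (by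
              have := M.mul_mem (M.mul_mem (M.inv_mem a.2) (hPM hbP)) a.2
              simpa [mul_assoc] using this) hb⟩
        · intro h b
          simpa [mem_subgroupOf] using h (b : G)
      have hmul' := SimpleTools.card_normalizer_mul Q
      rw [hNQ, Nat.card_congr (subgroupOfEquivOfLe hNM).toEquiv, hN, hM360] at hmul'
      have hn := (Finset.mem_filter.mp (SimpleTools.card_sylow_mem (G := ↥M) (p := 5) (k := 1) (m := 72)
        (by rw [hM360]; norm_num) (by norm_num))).2
      omega
  have hidx : M.index = 11 := by rw [hMcard] at hMmul; omega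
  have hdeg : ∀ χ : IrrCharacter G, charDegree (χ : G → ℂ) = 1 ∨ 10 ≤ charDegree (χ : G → ℂ) := fun χ => by
    have hpos := charDegree_pos χ
    rcases deg_list hG D χ with h | h | h | h | h
    · exact Or.inl h
    all_goals right; omega
  obtain ⟨χ, hχ10, hval⟩ := exists_perm_char hna hdeg M hidx
  -- the class of `w`
  have hrel : (centralizer ({w} : Set G)).relIndex M ∣ 2 := by
    rw [show centralizer ({w} : Set G) = centralizer (W : Set G) by
      rw [hW, zpowers_eq_closure, centralizer_closure], relIndex, ← normalizerMonoidHom_ker, index_ker]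
    refine (card_subgroup_dvd_card _).trans ?_
    haveI : IsCyclic ↥W := isCyclic_of_prime_card hWcard
    rw [IsCyclic.card_mulAut, hWcard]
    decide
  have hidxw : (centralizer ({w} : Set G)).index ∣ 22 := by
    rw [← relIndex_mul_index hCw, hidx]
    exact (Nat.mul_dvd_mul_right hrel 11).trans (dvd_of_eq (by norm_num))
  set f := Nat.card (MulAction.fixedBy (G ⧸ M) w) with hf
  have hv : (χ : G → ℂ) w = (((f : ℤ) - 1 : ℤ) : ℂ) := by
    have h1 := hval w
    rw [show CharDeep.PermChar.fixCount M w = f from rfl] at h1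
    push_cast
    linear_combination -h1
  have hdvd := degree_dvd_index_mul χ w hv
  rw [hχ10] at hdvd
  have h5 : (5 : ℤ) ∣ (f : ℤ) - 1 := by
    have h1 : (10 : ℤ) ∣ 22 * ((f : ℤ) - 1) :=
      hdvd.trans (mul_dvd_mul_right (by exact_mod_cast hidxw) _)
    omega
  have hmod := fixed_mod M hw
  rw [hidx] at hmod
  have hle : f ≤ 11 := hidx ▸ Nat.card_le_card_of_injective _ Subtype.val_injective
  have hw1 := eq_one_of_fixed_all hna hMne (w := w) (by rw [← hf, hidx]; omega)
  rw [hw1, orderOf_one] at hw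
  norm_num at hw

include hG in
theorem centralizer_five [Fact (Nat.Prime 5)] (D : Data G) {x : G} (hx : orderOf x = 5) :
    Nat.card (centralizer ({x} : Set G)) = 5 := by
  obtain ⟨P, -, hPC⟩ := centralizer_five_eq hG hx
  obtain ⟨e, k, hek, hN, hC⟩ := five_cases hG P
  rw [← hPC, hC]
  rcases hek with ⟨rfl, rfl⟩ | ⟨rfl, rfl⟩ | ⟨rfl, rfl⟩ | ⟨rfl, rfl⟩
  · exact (no_two hG D P hN hC).elim
  · rfl
  · exact (no_two hG D P hN hC).elim
  · exact (no_thirty hG D P (by rw [hN]) (by rw [hC])).elim

end CfsgLib.KGroups.M11Selfcent
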