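import Cfsg.Agent.Lib.Blocks.PrimeOrderBlock
import Cfsg.Agent.Lib.DegreeTools.CharTools
import Cfsg.Agent.Lib.CharDeep.PermChar
import Cfsg.Agent.Lib.Char.Linear
import Cfsg.Agent.Lib.SmallGroups.BlockDegrees
import Cfsg.Agent.S0165

/-!
# Character sums over a cyclic subgroup, and other small tools
-/

set_option autoImplicit false

namespace CfsgLib.KGroups.M11Tools

open Cfsg CfsgLib.Blocks
open scoped Classical ComplexConjugate

variable {G : Type*} [Group G] [Fintype G]

theorem sum_root_pow {n : ℕ} {z : ℂ} (hz : z ^ n = 1) :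
    ∑ i ∈ Finset.range n, z ^ i = if z = 1 then (n : ℂ) else 0 := by
  split_ifs with h
  · subst h; simp
  · rw [geom_sum_eq h, hz, sub_self, zero_div]

/-- The eigenvalues of an element, read off from the powers. -/
theorem exists_roots (χ : IrrCharacter G) (g : G) :
    ∃ μ : Fin (charDegree (χ : G → ℂ)) → ℂ,
      (∀ a, μ a ^ orderOf g = 1) ∧ ∀ k : ℕ, (χ : G → ℂ) (g ^ k) = ∑ a, μ a ^ k := by
  obtain ⟨n, ρ, hρ, he⟩ := χ.2
  obtain ⟨μ, h1, h2⟩ := CfsgLib.Char.exists_eigenvalues ρ g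
  have hn : charDegree (χ : G → ℂ) = Module.finrank ℂ (Fin n → ℂ) := by
    apply Nat.cast_injective (R := ℂ)
    rw [← irr_one_eq, ← he, Representation.char_one]
  rw [hn]
  exact ⟨μ, h1, fun k => by rw [← he]; exact h2 k⟩

/-- A twisted sum over the powers counts an eigenvalue. -/
theorem sum_twist {d n : ℕ} (μ : Fin d → ℂ) (hμ : ∀ a, μ a ^ n = 1) {ν : ℂ} (hν : ν ^ n = 1) :
    ∑ i ∈ Finset.range n, (∑ a, μ a ^ i) * (ν⁻¹) ^ i =
      (n : ℂ) * ((Finset.univ.filter fun a => μ a = ν).card : ℂ) := by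
  rcases Nat.eq_zero_or_pos n with rfl | hn
  · simp
  have hν0 : ν ≠ 0 := fun h => by rw [h, zero_pow hn.ne'] at hν; exact zero_ne_one hν
  simp_rw [Finset.sum_mul, ← mul_pow]
  rw [Finset.sum_comm, Finset.sum_congr rfl fun a _ =>
    sum_root_pow (z := μ a * ν⁻¹) (n := n) (by rw [mul_pow, hμ a, inv_pow, hν, inv_one, mul_one]),
    ← Finset.sum_filter, Finset.sum_const, nsmul_eq_mul, mul_comm]
  congr 3
  ext a
  simp [mul_inv_eq_one₀ hν0]

/-- The sum of a character over a cyclic subgroup. -/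
theorem sum_powers (χ : IrrCharacter G) (g : G) :
    ∃ m : ℕ, ∑ i ∈ Finset.range (orderOf g), (χ : G → ℂ) (g ^ i) = (orderOf g : ℂ) * m := by
  obtain ⟨μ, h1, h2⟩ := exists_roots χ g
  have h := sum_twist μ h1 (one_pow (orderOf g))
  simp only [inv_one, one_pow, mul_one] at h
  simp only [← h2] at h
  exact ⟨_, h⟩

theorem range_eq_insert {n : ℕ} (hn : 0 < n) : Finset.range n = insert 0 (Finset.Ico 1 n) := by
  ext i; simp only [Finset.mem_range, Finset.mem_insert, Finset.mem_Ico]; omega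

theorem sum_range_split {n : ℕ} (hn : 0 < n) (f : ℕ → ℂ) :
    ∑ i ∈ Finset.range n, f i = f 0 + ∑ i ∈ Finset.Ico 1 n, f i := by
  rw [range_eq_insert hn, Finset.sum_insert (by simp)]

/-- The sum of the squares on a subgroup of prime order is at least `r (p - r)`. -/
theorem norm_sum_lower (χ : IrrCharacter G) {g : G} {p : ℕ} (hp : p.Prime) (hg : orderOf g = p) :
    ((charDegree (χ : G → ℂ) % p * (p - charDegree (χ : G → ℂ) % p) : ℕ) : ℝ) ≤
      ∑ i ∈ Finset.Ico 1 p, ‖(χ : G → ℂ) (g ^ i)‖ ^ 2 := by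
  obtain ⟨μ, hμ, hval⟩ := exists_roots χ g
  rw [hg] at hμ
  generalize hd : charDegree (χ : G → ℂ) = d at μ hμ hval ⊢
  haveI : NeZero p := ⟨hp.ne_zero⟩
  set ζ : ℂ := Complex.exp (2 * Real.pi * Complex.I / p) with hζ
  have hprim : IsPrimitiveRoot ζ p := Complex.isPrimitiveRoot_exp p hp.ne_zero
  have hj : ∀ a, ∃ j : Fin p, ζ ^ (j : ℕ) = μ a := fun a => by
    obtain ⟨i, hi, e⟩ := hprim.eq_pow_of_pow_eq_one (hμ a)
    exact ⟨⟨i, hi⟩, e⟩
  choose j hj using hj
  set m : Fin p → ℕ := fun k => (Finset.univ.filter fun a => j a = k).card with hm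
  have hsum : ∑ k, m k = d := by
    rw [hm, ← Finset.card_eq_sum_card_fiberwise (fun a _ => Finset.mem_univ _)]
    simp
  have hpairs : ∑ a, ((Finset.univ.filter fun b => μ a = μ b).card : ℂ) = ∑ k, (m k : ℂ) ^ 2 := by
    rw [← Finset.sum_fiberwise Finset.univ j (fun a => ((Finset.univ.filter fun b => μ a = μ b).card : ℂ))]
    refine Finset.sum_congr rfl fun k _ => ?_
    rw [Finset.sum_congr rfl (g := fun _ => (m k : ℂ)) fun a ha => ?_, Finset.sum_const, nsmul_eq_mul, pow_two]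
    · simp only [Finset.mem_filter, Finset.mem_univ, true_and] at ha
      show _ = ((Finset.univ.filter fun b => j b = k).card : ℂ)
      congr 2
      ext b
      simp only [Finset.mem_filter, Finset.mem_univ, true_and]
      rw [← hj a, ← hj b, ← ha]
      exact ⟨fun e => Fin.ext (hprim.pow_inj (j b).2 (j a).2 e.symm), fun e => by rw [e]⟩
  have hall : ∑ i ∈ Finset.range p, (χ : G → ℂ) (g ^ i) * conj ((χ : G → ℂ) (g ^ i)) =
      (p : ℂ) * ∑ k, (m k : ℂ) ^ 2 := by
    have hconj : ∀ a (i : ℕ), conj (μ a) ^ i = ((μ a)⁻¹) ^ i := fun a i => by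
      rw [Complex.inv_eq_conj (Complex.norm_eq_one_of_pow_eq_one (hμ a) hp.ne_zero)]
    rw [← hpairs, Finset.mul_sum, Finset.sum_congr rfl fun i _ => by
      rw [hval i, map_sum, Finset.mul_sum], Finset.sum_comm]
    refine Finset.sum_congr rfl fun a _ => ?_
    simp_rw [map_pow, hconj]
    rw [sum_twist μ hμ (hμ a)]
    congr 3
    ext b
    simp [eq_comm]
  rw [sum_range_split hp.pos, pow_zero, irr_one_eq, hd] at hall
  simp only [Complex.mul_conj, Complex.normSq_eq_norm_sq, Complex.norm_natCast] at hall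
  have hall' : (d : ℝ) ^ 2 + ∑ i ∈ Finset.Ico 1 p, ‖(χ : G → ℂ) (g ^ i)‖ ^ 2 =
      (p : ℝ) * ∑ k, (m k : ℝ) ^ 2 := by
    exact_mod_cast hall
  set a := d / p with ha
  set r := d % p with hr
  have hda : d = p * a + r := (Nat.div_add_mod d p).symm
  have hrp : r < p := Nat.mod_lt d hp.pos
  have hnonneg : 0 ≤ ∑ k, ((m k : ℤ) - a) * ((m k : ℤ) - a - 1) := Finset.sum_nonneg fun k _ => by
    rcases le_or_gt ((m k : ℤ) - a) 0 with h | h
    · exact mul_nonneg_of_nonpos_of_nonpos h (by omega)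
    · exact mul_nonneg h.le (by omega)
  have hexp : ∑ k, ((m k : ℤ) - a) * ((m k : ℤ) - a - 1) =
      ∑ k, (m k : ℤ) ^ 2 - (2 * a + 1) * d + p * (a * (a + 1)) := by
    have hsum' : ∑ k, (m k : ℤ) = d := by exact_mod_cast hsum
    rw [← hsum', Finset.mul_sum, ← Finset.sum_sub_distrib]
    have : ((p : ℤ) * (a * (a + 1))) = ∑ _k : Fin p, (a : ℤ) * (a + 1) := by simp
    rw [this, ← Finset.sum_add_distrib]
    exact Finset.sum_congr rfl fun k _ => by ring
  rw [hexp] at hnonneg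
  have hnR : (0 : ℝ) ≤ ∑ k, (m k : ℝ) ^ 2 - (2 * a + 1) * d + p * (a * (a + 1)) := by exact_mod_cast hnonneg
  have hdR : (d : ℝ) = p * a + r := by exact_mod_cast hda
  push_cast [Nat.cast_sub hrp.le]
  have hp0 : (0 : ℝ) ≤ p := Nat.cast_nonneg p
  nlinarith [mul_le_mul_of_nonneg_left hnR hp0]

/-- Column orthogonality at one element, in real numbers. -/
theorem sum_norm_sq_column (g : G) :
    ∑ χ : IrrCharacter G, ‖(χ : G → ℂ) g‖ ^ 2 = Nat.card (Subgroup.centralizer ({g} : Set G)) := by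
  have h := CfsgLib.Char.sum_irr_mul_conj g g
  rw [if_pos (IsConj.refl g)] at h
  simp only [Complex.mul_conj, Complex.normSq_eq_norm_sq] at h
  exact_mod_cast h

/-- Column orthogonality against the identity. -/
theorem sum_deg_mul {g : G} (hg : g ≠ 1) :
    ∑ χ : IrrCharacter G, (charDegree (χ : G → ℂ) : ℂ) * (χ : G → ℂ) g = 0 := by
  have h := CfsgLib.Char.sum_irr_mul_conj g (1 : G)
  rw [if_neg fun e => hg (isConj_one_left.mp e)] at h
  simpa [irr_one_eq, mul_comm] using h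

theorem sum_deg_sq : ∑ χ : IrrCharacter G, charDegree (χ : G → ℂ) ^ 2 = Nat.card G := by
  have h := CfsgLib.Char.sum_irr_mul_conj (1 : G) (1 : G)
  rw [if_pos (IsConj.refl 1)] at h
  rw [show Subgroup.centralizer ({(1 : G)} : Set G) = ⊤ from
    eq_top_iff.mpr fun k _ => Subgroup.mem_centralizer_singleton_iff.mpr (by rw [mul_one, one_mul]),
    Subgroup.card_top] at h
  simp [irr_one_eq, ← pow_two] at h
  rw [Nat.card_eq_fintype_card]
  exact_mod_cast h

/-- Central characters at an integer value. -/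
theorem degree_dvd_index_mul (χ : IrrCharacter G) (g : G) {v : ℤ} (hv : (χ : G → ℂ) g = v) :
    (charDegree (χ : G → ℂ) : ℤ) ∣ ((Subgroup.centralizer ({g} : Set G)).index : ℤ) * v := by
  obtain ⟨n, ρ, hρ, he⟩ := χ.2
  haveI := hρ
  have h := CfsgLib.Char.isIntegral_centralChar ρ g
  rw [he, ← Representation.char_one (ρ := ρ), he, irr_one_eq, hv] at h
  obtain ⟨z, hz⟩ := CfsgLib.Char.exists_int_of_isIntegral_rat h
    (q := ((Subgroup.centralizer ({g} : Set G)).index : ℚ) * v / charDegree (χ : G → ℂ)) (by push_cast; rfl)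
  refine ⟨z, ?_⟩
  have hd : (charDegree (χ : G → ℂ) : ℂ) ≠ 0 := Nat.cast_ne_zero.mpr (charDegree_pos χ).ne'
  rw [div_eq_iff hd] at hz
  exact_mod_cast (hz.trans (mul_comm _ _))

/-- A character of full `p`-part in its degree vanishes at the `p`-singular elements. -/
theorem vanish (χ : IrrCharacter G) {p : ℕ} (hp : p.Prime) {n : ℕ} (h1 : p ^ n ∣ Nat.card G)
    (h2 : ¬ p ^ (n + 1) ∣ Nat.card G) (hdeg : p ^ n ∣ charDegree (χ : G → ℂ)) {g : G} (hg : p ∣ orderOf g) :
    (χ : G → ℂ) g = 0 := by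
  obtain ⟨m, ρ, hρ, he⟩ := χ.2
  haveI := hρ
  have hn : charDegree (χ : G → ℂ) = Module.finrank ℂ (Fin m → ℂ) := by
    apply Nat.cast_injective (R := ℂ)
    rw [← irr_one_eq, ← he, Representation.char_one]
  rw [← he]
  exact Cfsg.Agent.S0165.result ρ p n hp h1 h2 (hn ▸ hdeg) g hg

/-- In a simple group only the identity takes a value of full modulus. -/
theorem norm_lt [IsSimpleGroup G] (hG : ¬ IsMulCommutative G) (χ : IrrCharacter G)
    (hχ : charDegree (χ : G → ℂ) ≠ 1) {g : G} (hg : g ≠ 1) :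
    ‖(χ : G → ℂ) g‖ < charDegree (χ : G → ℂ) := by
  refine lt_of_le_of_ne ?_ fun heq => ?_
  · obtain ⟨μ, hμ, hval⟩ := exists_roots χ g
    rw [← pow_one g, hval 1]
    refine (norm_sum_le _ _).trans ?_
    simp only [pow_one, Complex.norm_eq_one_of_pow_eq_one (hμ _) (orderOf_pos g).ne']
    simp
  · obtain ⟨n, ρ, hρ, he⟩ := χ.2
    haveI := hρ
    have hn : charDegree (χ : G → ℂ) = Module.finrank ℂ (Fin n → ℂ) := by
      apply Nat.cast_injective (R := ℂ)
      rw [← irr_one_eq, ← he, Representation.char_one]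
    obtain ⟨ω, hω⟩ : ∃ ω : ℂ, IsPrimitiveRoot ω (orderOf g) :=
      ⟨_, Complex.isPrimitiveRoot_exp _ (orderOf_pos g).ne'⟩
    obtain ⟨r, hr⟩ := DegreeTools.CharTools.exists_eq_smul_of_norm_eq ρ g (orderOf_pos g).ne'
      (ω := ω) hω (pow_orderOf_eq_one g) (by rw [he, heq, hn])
    have hcomm : ∀ k : G, ρ (g * k * g⁻¹ * k⁻¹) = 1 := fun k => by
      have h1 : ρ g * ρ k = ρ k * ρ g := by
        rw [hr, smul_one_mul, mul_smul_one]
      rw [map_mul, map_mul, map_mul, h1, mul_assoc (ρ k), ← map_mul, mul_inv_cancel, map_one, mul_one,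
        ← map_mul, mul_inv_cancel, map_one]
    have hker : (MonoidHom.toHomUnits ρ).ker = ⊥ := by
      refine ((inferInstance : (MonoidHom.toHomUnits ρ).ker.Normal).eq_bot_or_eq_top).resolve_right fun htop => hχ ?_
      have hall : ∀ k : G, ρ k = 1 := fun k => by
        have := congrArg Units.val (MonoidHom.mem_ker.mp (htop ▸ Subgroup.mem_top k : k ∈ (MonoidHom.toHomUnits ρ).ker))
        exact this
      have h0 := CfsgLib.DegreeTools.CharTools.sum_norm_sq ρ
      have hc : ∀ k : G, ρ.character k = charDegree (χ : G → ℂ) := fun k => by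
        rw [Representation.character, hall k, LinearMap.trace_one, hn]
      simp only [hc, Complex.norm_natCast, Finset.sum_const, Finset.card_univ, nsmul_eq_mul] at h0
      have hc0 : (Fintype.card G : ℝ) ≠ 0 := Nat.cast_ne_zero.mpr Fintype.card_ne_zero
      rw [← Nat.card_eq_fintype_card] at hc0 h0
      have h1 : (charDegree (χ : G → ℂ) : ℝ) ^ 2 = 1 := mul_left_cancel₀ hc0 (by rw [h0, mul_one])
      have := charDegree_pos χ
      have h2 : charDegree (χ : G → ℂ) ^ 2 = 1 := by exact_mod_cast h1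
      nlinarith
    apply hg
    have hZ := CfsgLib.SmallGroups.SimpleTools.center_eq_bot hG
    refine (Subgroup.eq_bot_iff_forall _).mp hZ g (Subgroup.mem_center_iff.mpr fun k => ?_)
    have h2 : g * k * g⁻¹ * k⁻¹ = 1 := (MonoidHom.ker_eq_bot_iff _).mp hker (Units.ext (by
      show ρ (g * k * g⁻¹ * k⁻¹) = ((MonoidHom.toHomUnits ρ) 1 : Module.End ℂ (Fin n → ℂ))
      rw [hcomm k, map_one]; rfl))
    calc k * g = (g * k * g⁻¹ * k⁻¹) * (k * g) := by rw [h2, one_mul]
      _ = g * k := by group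

end CfsgLib.KGroups.M11Tools
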