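import Cfsg.Agent.Lib.KGroups.M11Point
import Cfsg.Agent.Lib.SmallGroups.Steiner11

/-!
# A simple group of order 7920 is the automorphism group of an `S(4,5,11)`
-/

set_option autoImplicit false

namespace CfsgLib.KGroups.M11Unique

open Cfsg CfsgLib.KGroups.M11Chars CfsgLib.KGroups.M11Classes CfsgLib.KGroups.M11Values Subgroup
open scoped Classical

variable (G : Type*) [Group G] (α : Type*) [MulAction G α]

/-- A sharply four-transitive action on eleven points, with the fixed point numbers. -/
structure Sharp [Fintype α] : Prop where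
  card : Fintype.card α = 11
  uniq : ∀ (g : G) (a b c d : α), a ≠ b → a ≠ c → a ≠ d → b ≠ c → b ≠ d → c ≠ d →
    g • a = a → g • b = b → g • c = c → g • d = d → g = 1
  exist : ∀ a b c d a' b' c' d' : α, a ≠ b → a ≠ c → a ≠ d → b ≠ c → b ≠ d → c ≠ d →
    a' ≠ b' → a' ≠ c' → a' ≠ d' → b' ≠ c' → b' ≠ d' → c' ≠ d' →
    ∃ g : G, g • a = a' ∧ g • b = b' ∧ g • c = c' ∧ g • d = d'
  two_fix : ∀ (s t : G) (x y : α), x ≠ y → s ^ 2 = 1 → s ≠ 1 → t ^ 2 = 1 → t ≠ 1 → Commute s t →
    s • x = x → s • y = y → t • x = x → t • y = y → s = t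
  three_fix : ∀ w : G, orderOf w = 3 → ∀ x y z : α, w • x = x → w • y = y → w • z = z → x = y ∨ x = z ∨ y = z
  inv_fix : ∀ t : G, orderOf t = 2 → (Finset.univ.filter fun x : α => t • x = x).card = 3

variable {G α}

section Build

variable [Fintype α] (hα : Fintype.card α = 11) (a₀ : α) (P : Subgroup G)

theorem regular_aux (b₀ : α) (hP : Nat.card P = 9) (hα : Fintype.card α = 11)
    (hfix : ∀ p ∈ P, p ≠ (1 : G) → ∀ x, (p • x = x ↔ x = a₀ ∨ x = b₀))
    (hab : a₀ ≠ b₀) [Fintype G] {c d : α} (hca : c ≠ a₀) (hcb : c ≠ b₀) (hda : d ≠ a₀) (hdb : d ≠ b₀) :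
    ∃ p ∈ P, p • c = d := by
  let f : P → {x : α // x ∉ ({a₀, b₀} : Finset α)} := fun p => ⟨(p : G) • c, by
    simp only [Finset.mem_insert, Finset.mem_singleton, not_or]
    by_cases h1 : (p : G) = 1
    · rw [h1, one_smul]; exact ⟨hca, hcb⟩
    · have hf : ∀ x, x = a₀ ∨ x = b₀ → (p : G) • c ≠ x := fun x hx h => by
        have : (p : G) • c = (p : G) • x := h.trans ((hfix p p.2 h1 x).mpr hx).symm
        rcases hx with rfl | rfl
        · exact hca (smul_left_cancel _ this)
        · exact hcb (smul_left_cancel _ this)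
      exact ⟨hf _ (Or.inl rfl), hf _ (Or.inr rfl)⟩⟩
  have hinj : Function.Injective f := by
    intro p p' h
    have h' : (p : G) • c = (p' : G) • c := congrArg Subtype.val h
    by_contra hne
    have h1 : ((p' : G)⁻¹ * p) • c = c := by rw [mul_smul, h', inv_smul_smul]
    rcases (hfix _ (mul_mem (inv_mem p'.2) p.2) (fun he => hne (Subtype.ext (inv_mul_eq_one.mp he).symm)) c).mp h1
      with h2 | h2
    · exact hca h2
    · exact hcb h2
  have hsurj : Function.Surjective f := by
    refine ((Fintype.bijective_iff_injective_and_card f).mpr ⟨hinj, ?_⟩).2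
    rw [Fintype.card_subtype_compl, Fintype.card_coe, Finset.card_pair hab, hα, ← Nat.card_eq_fintype_card, hP]
  obtain ⟨p, hp⟩ := hsurj ⟨d, by simp [hda, hdb]⟩
  exact ⟨p, p.2, congrArg Subtype.val hp⟩

theorem sharp_of [Fintype G] [IsSimpleGroup G] (hG : Nat.card G = 7920) (K : Chars G)
    [MulAction.IsPretransitive G α] [FaithfulSMul G α] (hα : Fintype.card α = 11)
    (hPc : Nat.card P = 9) (hPa : ∀ p ∈ P, p • a₀ = a₀)
    (hN : ∀ g : G, g • a₀ = a₀ → g ∈ normalizer (P : Set G) → ∀ a ∈ P, a ≠ 1 → g * a = a * g → g ∈ P)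
    (hNc : Nat.card ↥(MulAction.stabilizer G a₀ ⊓ normalizer (P : Set G)) = 72) :
    Sharp G α := by
  have : Fact (Nat.Prime 3) := ⟨by norm_num⟩
  have : Fact (Nat.Prime 2) := ⟨by norm_num⟩
  have hna := M11Local.not_comm hG
  have hord : ∀ u ∈ P, u ≠ 1 → orderOf u = 3 := fun u hu hu1 => by
    have h := Subgroup.orderOf_dvd_natCard _ hu
    rw [hPc, show (9 : ℕ) = 3 ^ 2 from rfl] at h
    obtain ⟨k, hk, hk'⟩ := (Nat.dvd_prime_pow (by norm_num)).mp h
    interval_cases k
    · exact absurd (orderOf_eq_one_iff.mp (by simpa using hk')) hu1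
    · simpa using hk'
    · exact absurd (by simpa using hk') (orderOf_ne_nine hG K u)
  have hcomm : ∀ a ∈ P, ∀ b ∈ P, a * b = b * a := fun a ha b hb => by
    have := IsPGroup.isMulCommutative_of_card_eq_prime_sq (p := 3) (G := P) (by rw [hPc]; norm_num)
    exact congrArg Subtype.val (mul_comm' (⟨a, ha⟩ : P) ⟨b, hb⟩)
  obtain ⟨w₀, hw₀P, hw₀1⟩ : ∃ w ∈ P, w ≠ (1 : G) := (Subgroup.bot_or_exists_ne_one _).resolve_left fun h => by
    rw [h, Subgroup.card_bot] at hPc; norm_num at hPc
  have hw₀ := hord w₀ hw₀P hw₀1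
  let fx : G → Finset α := fun g => Finset.univ.filter fun x => g • x = x
  have hfxc : ∀ w w' : G, IsConj w w' → (fx w).card = (fx w').card := by
    intro w w' h
    obtain ⟨c, rfl⟩ := isConj_iff.mp h
    refine Finset.card_bij (fun x _ => c • x) (fun x hx => ?_) (fun x _ y _ h => smul_left_cancel c h) fun y hy => ?_
    · rw [Finset.mem_filter] at hx ⊢
      exact ⟨Finset.mem_univ _, by rw [mul_smul, mul_smul, inv_smul_smul, hx.2]⟩
    · rw [Finset.mem_filter] at hy
      refine ⟨c⁻¹ • y, Finset.mem_filter.mpr ⟨Finset.mem_univ _, ?_⟩, smul_inv_smul c y⟩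
      have := hy.2
      rw [mul_smul, mul_smul] at this
      exact eq_inv_smul_iff.mpr this
  have hw3 : (fx w₀).card = 2 := by
    set f := (fx w₀).card with hf
    have hsum := MulAction.sum_card_fixedBy_eq_card_orbits_mul_card_group P α
    rw [← Nat.card_eq_fintype_card (α := P), hPc,
      ← Finset.add_sum_erase _ _ (Finset.mem_univ (1 : P))] at hsum
    have h1 : Fintype.card (MulAction.fixedBy α (1 : P)) = 11 := by
      rw [← hα]
      exact Fintype.card_congr (Equiv.subtypeUnivEquiv fun x => one_smul P x)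
    have h2 : ∀ p ∈ (Finset.univ : Finset P).erase 1, Fintype.card (MulAction.fixedBy α p) = f := by
      intro p hp
      rw [Finset.mem_erase] at hp
      have hp1 : (p : G) ≠ 1 := fun h => hp.1 (Subtype.ext h)
      rw [hf, hfxc w₀ p (isConj_three hG K hw₀ (hord p p.2 hp1)), ← Fintype.card_coe]
      exact Fintype.card_congr (Equiv.subtypeEquivRight fun x => by
        simp only [fx, Finset.mem_filter, Finset.mem_univ, true_and]; rfl)
    rw [h1, Finset.sum_congr rfl h2, Finset.sum_const, Finset.card_erase_of_mem (Finset.mem_univ _),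
      Finset.card_univ, ← Nat.card_eq_fintype_card, hPc, smul_eq_mul] at hsum
    have hle : f ≤ 11 := hα ▸ Finset.card_le_univ _
    have hne : f ≠ 11 := fun h => hw₀1 (eq_of_smul_eq_smul (α := α) fun x => by
      have hu := Finset.eq_univ_of_card (fx w₀) (by rw [← hf, h, hα])
      have hx : x ∈ fx w₀ := hu ▸ Finset.mem_univ x
      rw [one_smul]
      exact (Finset.mem_filter.mp hx).2)
    omega
  have hthree : ∀ w : G, orderOf w = 3 → (fx w).card = 2 := fun w hw =>
    (hfxc w w₀ (isConj_three hG K hw hw₀)).trans hw3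
  have three : ∀ w : G, orderOf w = 3 → ∀ x y z : α, w • x = x → w • y = y → w • z = z →
      x = y ∨ x = z ∨ y = z := by
    intro w hw x y z hx hy hz
    by_contra hcon
    simp only [not_or] at hcon
    have hsub : ({x, y, z} : Finset α) ⊆ fx w := by
      intro v hv
      simp only [Finset.mem_insert, Finset.mem_singleton] at hv
      rcases hv with rfl | rfl | rfl <;> simp [fx, hx, hy, hz]
    have := Finset.card_le_card hsub
    rw [hthree w hw, Finset.card_eq_three.mpr ⟨x, y, z, hcon.1, hcon.2.1, hcon.2.2, rfl⟩] at this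
    omega
  obtain ⟨b₀, hab, hfix₀⟩ : ∃ b₀, a₀ ≠ b₀ ∧ fx w₀ = {a₀, b₀} := by
    obtain ⟨x, y, hxy, he⟩ := Finset.card_eq_two.mp hw3
    have ha : a₀ ∈ fx w₀ := Finset.mem_filter.mpr ⟨Finset.mem_univ _, hPa w₀ hw₀P⟩
    rw [he, Finset.mem_insert, Finset.mem_singleton] at ha
    rcases ha with rfl | rfl
    · exact ⟨y, hxy, he⟩
    · exact ⟨x, hxy.symm, he.trans (Finset.pair_comm _ _)⟩
  have hPb : ∀ p ∈ P, p • b₀ = b₀ := by
    intro p hp
    have hb : b₀ ∈ fx w₀ := by rw [hfix₀]; simp
    have hmem : p • b₀ ∈ fx w₀ := by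
      refine Finset.mem_filter.mpr ⟨Finset.mem_univ _, ?_⟩
      rw [← mul_smul, hcomm w₀ hw₀P p hp, mul_smul, (Finset.mem_filter.mp hb).2]
    rw [hfix₀, Finset.mem_insert, Finset.mem_singleton] at hmem
    refine hmem.resolve_left fun h => hab ?_
    exact (smul_left_cancel p (h.trans (hPa p hp).symm)).symm
  have hfix : ∀ p ∈ P, p ≠ (1 : G) → ∀ x, (p • x = x ↔ x = a₀ ∨ x = b₀) := by
    intro p hp hp1 x
    refine ⟨fun hx => ?_, ?_⟩
    · rcases three p (hord p hp hp1) a₀ b₀ x (hPa p hp) (hPb p hp) hx with h | h | h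
      · exact absurd h hab
      · exact Or.inl h.symm
      · exact Or.inr h.symm
    · rintro (rfl | rfl)
      · exact hPa p hp
      · exact hPb p hp
  have hreg : ∀ c d : α, c ≠ a₀ → c ≠ b₀ → d ≠ a₀ → d ≠ b₀ → ∃ p ∈ P, p • c = d :=
    fun c d h1 h2 h3 h4 => regular_aux a₀ P b₀ hPc hα hfix hab h1 h2 h3 h4
  set H := MulAction.stabilizer G a₀ with hH
  have hHi : H.index = 11 := by
    rw [hH, MulAction.index_stabilizer_of_transitive G a₀, Nat.card_eq_fintype_card, hα]
  have hHc : Nat.card H = 720 := by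
    have h := H.index_mul_card
    rw [hHi, hG] at h
    omega
  -- `H` moves `b₀`
  obtain ⟨h₁, hh₁, hb₁⟩ : ∃ h ∈ H, h • b₀ ≠ b₀ := by
    by_contra hcon
    simp only [not_exists, not_and, not_not] at hcon
    have hle : H ≤ MulAction.stabilizer G b₀ := fun h hh => hcon h hh
    have hi2 : (MulAction.stabilizer G b₀).index = 11 := by
      rw [MulAction.index_stabilizer_of_transitive G b₀, Nat.card_eq_fintype_card, hα]
    have heq : MulAction.stabilizer G b₀ = H := by
      refine (Subgroup.eq_of_le_of_card_ge hle ?_).symm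
      have h := (MulAction.stabilizer G b₀).index_mul_card
      rw [hi2, hG] at h
      omega
    obtain ⟨g, hg⟩ := MulAction.exists_smul_eq G a₀ b₀
    have hgN : g ∈ normalizer (H : Set G) := by
      rw [mem_normalizer_iff]
      intro k
      constructor
      · intro hk
        rw [← heq, MulAction.mem_stabilizer_iff, ← hg, mul_smul, mul_smul, inv_smul_smul]
        exact congrArg _ hk
      · intro hk
        rw [← heq, MulAction.mem_stabilizer_iff, ← hg, mul_smul, mul_smul, inv_smul_smul] at hk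
        exact smul_left_cancel g hk
    have hHN : H ≤ normalizer (H : Set G) := le_normalizer
    have hd := Subgroup.index_dvd_of_le hHN
    rw [hHi] at hd
    rcases (Nat.dvd_prime (by norm_num)).mp hd with h1 | h1
    · rw [Subgroup.index_eq_one] at h1
      rcases (Subgroup.normalizer_eq_top_iff.mp h1).eq_bot_or_eq_top with h | h
      · rw [h, Subgroup.card_bot] at hHc; norm_num at hHc
      · rw [h, Subgroup.index_top] at hHi; norm_num at hHi
    · have : normalizer (H : Set G) = H := by
        refine (Subgroup.eq_of_le_of_card_ge hHN ?_).symm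
        have h := (normalizer (H : Set G)).index_mul_card
        rw [h1, hG] at h
        omega
      rw [this] at hgN
      exact hab (hgN.symm.trans hg)
  have hh₁a : h₁ • a₀ = a₀ := hh₁
  have htransH : ∀ x, x ≠ a₀ → ∃ h : G, h • a₀ = a₀ ∧ h • b₀ = x := by
    intro x hx
    by_cases hxb : x = b₀
    · exact ⟨1, one_smul _ _, hxb ▸ one_smul _ _⟩
    · have hc : h₁ • b₀ ≠ a₀ := fun h => hab (smul_left_cancel h₁ (hh₁a.trans h.symm))
      obtain ⟨p, hp, hpx⟩ := hreg (h₁ • b₀) x hc hb₁ hx hxb
      exact ⟨p * h₁, by rw [mul_smul, hh₁a, hPa p hp], by rw [mul_smul, hpx]⟩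
  have two : ∀ x y : α, x ≠ y → ∃ g : G, g • x = a₀ ∧ g • y = b₀ := by
    intro x y hxy
    obtain ⟨g, hg⟩ := MulAction.exists_smul_eq G x a₀
    obtain ⟨h, hha, hhb⟩ := htransH (g • y) fun h => hxy (smul_left_cancel g (hg.trans h.symm))
    refine ⟨h⁻¹ * g, ?_, ?_⟩
    · rw [mul_smul, hg, inv_smul_eq_iff, hha]
    · rw [mul_smul, inv_smul_eq_iff, hhb]
  -- the stabiliser of `a₀`, `b₀` normalises `P`
  set L := H ⊓ MulAction.stabilizer G b₀ with hL
  have hKL : H ⊓ normalizer (P : Set G) ≤ L := by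
    rintro g ⟨hgH, hgN⟩
    refine ⟨hgH, ?_⟩
    have hfixw : w₀ • (g • b₀) = g • b₀ := by
      have hm : g⁻¹ * w₀ * g ∈ P := by
        simpa using (mem_normalizer_iff.mp (inv_mem hgN) w₀).mp hw₀P
      have h := hPb _ hm
      rw [mul_smul, mul_smul, inv_smul_eq_iff] at h
      exact h
    rcases (hfix w₀ hw₀P hw₀1 _).mp hfixw with h | h
    · exact absurd (smul_left_cancel g (h.trans (hgH : g • a₀ = a₀).symm)).symm hab
    · exact h
  have hLc : Nat.card L = 72 := by
    have horb : MulAction.orbit H b₀ = {x | x ≠ a₀} := by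
      ext x
      constructor
      · rintro ⟨⟨h, hh⟩, rfl⟩ he
        exact hab (smul_left_cancel h ((hh : h • a₀ = a₀).trans he.symm))
      · intro hx
        obtain ⟨h, hha, hhb⟩ := htransH x hx
        exact ⟨⟨h, hha⟩, hhb⟩
    have h := (MulAction.stabilizer H b₀).index_mul_card
    rw [MulAction.index_stabilizer, horb, hHc,
      show ({x | x ≠ a₀} : Set α).ncard = 10 by
        rw [Set.ncard_eq_toFinset_card', show ({x | x ≠ a₀} : Set α).toFinset = Finset.univ.erase a₀ by ext; simp,
          Finset.card_erase_of_mem (Finset.mem_univ _), Finset.card_univ, hα]] at h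
    have e : MulAction.stabilizer H b₀ = L.subgroupOf H := by
      ext g
      simp only [MulAction.mem_stabilizer_iff, Subgroup.mem_subgroupOf, hL, Subgroup.mem_inf]
      exact ⟨fun h => ⟨g.2, h⟩, fun h => h.2⟩
    rw [e, Nat.card_congr (subgroupOfEquivOfLe (show L ≤ H from inf_le_left)).toEquiv] at h
    omega
  have hLN : ∀ g : G, g • a₀ = a₀ → g • b₀ = b₀ → g ∈ normalizer (P : Set G) := by
    intro g ha hb
    have heq : H ⊓ normalizer (P : Set G) = L := Subgroup.eq_of_le_of_card_ge hKL (by rw [hLc, hNc])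
    have : g ∈ H ⊓ normalizer (P : Set G) := heq ▸ ⟨ha, hb⟩
    exact this.2
  have uniq₀ : ∀ g : G, ∀ c d : α, c ≠ a₀ → c ≠ b₀ → d ≠ a₀ → d ≠ b₀ → c ≠ d →
      g • a₀ = a₀ → g • b₀ = b₀ → g • c = c → g • d = d → g = 1 := by
    intro g c d h1 h2 h3 h4 hcd ga gb gc gd
    obtain ⟨p, hp, hpd⟩ := hreg c d h1 h2 h3 h4
    have hgN := hLN g ga gb
    have hm : g * p * g⁻¹ ∈ P := (mem_normalizer_iff.mp hgN p).mp hp
    have heq : g * p * g⁻¹ = p := by
      by_contra hne
      have h5 : (p⁻¹ * (g * p * g⁻¹)) • c = c := by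
        rw [mul_smul, mul_smul, mul_smul, inv_smul_eq_iff.mpr gc.symm, hpd, gd, inv_smul_eq_iff.mpr hpd.symm]
      rcases (hfix _ (mul_mem (inv_mem hp) hm) (fun he => hne (inv_mul_eq_one.mp he).symm) c).mp h5 with h | h
      · exact h1 h
      · exact h2 h
    have hp1 : p ≠ 1 := fun h => hcd (by rw [← hpd, h, one_smul])
    have hgP := hN g ga hgN p hp hp1 (mul_inv_eq_iff_eq_mul.mp heq)
    by_contra hg1
    rcases (hfix g hgP hg1 c).mp gc with h | h
    · exact h1 h
    · exact h2 h
  have uniq : ∀ (g : G) (a b c d : α), a ≠ b → a ≠ c → a ≠ d → b ≠ c → b ≠ d → c ≠ d →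
      g • a = a → g • b = b → g • c = c → g • d = d → g = 1 := by
    intro g a b c d nab nac nad nbc nbd ncd ga gb gc gd
    obtain ⟨m, hma, hmb⟩ := two a b nab
    have hv : ∀ v : α, g • v = v → (m * g * m⁻¹) • (m • v) = m • v := fun v hv => by
      rw [mul_smul, mul_smul, inv_smul_smul, hv]
    have h := uniq₀ (m * g * m⁻¹) (m • c) (m • d)
      (fun h => nac (smul_left_cancel m (hma.trans h.symm))) (fun h => nbc (smul_left_cancel m (hmb.trans h.symm)))
      (fun h => nad (smul_left_cancel m (hma.trans h.symm))) (fun h => nbd (smul_left_cancel m (hmb.trans h.symm)))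
      (fun h => ncd (smul_left_cancel m h))
      (by have := hv a ga; rwa [hma] at this) (by have := hv b gb; rwa [hmb] at this) (hv c gc) (hv d gd)
    exact conj_eq_one_iff.mp h
  refine ⟨hα, uniq, ?_, ?_, three, ?_⟩
  · intro a b c d a' b' c' d' nab nac nad nbc nbd ncd mab mac mad mbc mbd mcd
    have emb : ∀ x y z w : α, x ≠ y → x ≠ z → x ≠ w → y ≠ z → y ≠ w → z ≠ w →
        Function.Injective ![x, y, z, w] := by
      intro x y z w h1 h2 h3 h4 h5 h6 i j h
      fin_cases i <;> fin_cases j <;>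
        first
          | rfl
          | exact absurd h h1
          | exact absurd h h2
          | exact absurd h h3
          | exact absurd h h4
          | exact absurd h h5
          | exact absurd h h6
          | exact absurd h h1.symm
          | exact absurd h h2.symm
          | exact absurd h h3.symm
          | exact absurd h h4.symm
          | exact absurd h h5.symm
          | exact absurd h h6.symm
    let e : Fin 4 ↪ α := ⟨![a, b, c, d], emb a b c d nab nac nad nbc nbd ncd⟩
    let F : G → (Fin 4 ↪ α) := fun g => e.trans (MulAction.toPerm g).toEmbedding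
    have hinj : Function.Injective F := by
      intro g k h
      have hval : ∀ i, g • e i = k • e i := fun i => congrArg (fun E : Fin 4 ↪ α => E i) h
      have h1 := uniq (k⁻¹ * g) a b c d nab nac nad nbc nbd ncd
        (by rw [mul_smul, inv_smul_eq_iff]; exact hval 0) (by rw [mul_smul, inv_smul_eq_iff]; exact hval 1)
        (by rw [mul_smul, inv_smul_eq_iff]; exact hval 2) (by rw [mul_smul, inv_smul_eq_iff]; exact hval 3)
      exact (inv_mul_eq_one.mp h1).symm
    have hsurj := ((Fintype.bijective_iff_injective_and_card F).mpr ⟨hinj, by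
      rw [Fintype.card_embedding_eq, Fintype.card_fin, hα, ← Nat.card_eq_fintype_card, hG]; rfl⟩).2
    obtain ⟨g, hg⟩ := hsurj ⟨![a', b', c', d'], emb a' b' c' d' mab mac mad mbc mbd mcd⟩
    exact ⟨g, congrArg (fun E : Fin 4 ↪ α => E 0) hg, congrArg (fun E : Fin 4 ↪ α => E 1) hg,
      congrArg (fun E : Fin 4 ↪ α => E 2) hg, congrArg (fun E : Fin 4 ↪ α => E 3) hg⟩
  · intro s t x y hxy hs hs1 ht ht1 hst sx sy tx ty
    obtain ⟨m, hmx, hmy⟩ := two x y hxy
    -- an involution fixing `a₀`, `b₀` inverts `P`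
    have inv : ∀ r : G, r ^ 2 = 1 → r ≠ 1 → r • a₀ = a₀ → r • b₀ = b₀ → ∀ p ∈ P, r * p * r⁻¹ = p⁻¹ := by
      intro r hr hr1 ra rb p hp
      have hrN := hLN r ra rb
      have hm : r * p * r⁻¹ ∈ P := (mem_normalizer_iff.mp hrN p).mp hp
      by_contra hne
      have hrr : r * r = 1 := by rw [← pow_two]; exact hr
      have hri : r⁻¹ = r := inv_eq_of_mul_eq_one_right hrr
      have hne1 : p * (r * p * r⁻¹) ≠ 1 := fun h => hne (eq_inv_of_mul_eq_one_right h)
      have hrP := hN r ra hrN (p * (r * p * r⁻¹)) (mul_mem hp hm) hne1 (by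
        rw [hri]
        have hm' : r * p * r ∈ P := by rw [hri] at hm; exact hm
        calc r * (p * (r * p * r)) = (r * p * r) * p * r := by simp only [mul_assoc]
          _ = _ := by rw [hcomm _ hm' _ hp])
      have h3 := hord r hrP hr1
      have hd := orderOf_dvd_of_pow_eq_one hr
      rw [h3] at hd
      norm_num at hd
    have hv : ∀ (r : G) (v : α), r • v = v → (m * r * m⁻¹) • (m • v) = m • v := fun r v hv => by
      rw [mul_smul, mul_smul, inv_smul_smul, hv]
    have hsq : ∀ r : G, r ^ 2 = 1 → (m * r * m⁻¹) ^ 2 = 1 := fun r hr => by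
      rw [conj_pow, hr, mul_one, mul_inv_cancel]
    have hne : ∀ r : G, r ≠ 1 → m * r * m⁻¹ ≠ 1 := fun r hr h => hr (conj_eq_one_iff.mp h)
    set s' := m * s * m⁻¹ with hs'
    set t' := m * t * m⁻¹ with ht'
    have sa : s' • a₀ = a₀ := by have := hv s x sx; rwa [hmx] at this
    have sb : s' • b₀ = b₀ := by have := hv s y sy; rwa [hmy] at this
    have ta : t' • a₀ = a₀ := by have := hv t x tx; rwa [hmx] at this
    have tb : t' • b₀ = b₀ := by have := hv t y ty; rwa [hmy] at this
    have is' := inv s' (hsq s hs) (hne s hs1) sa sb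
    have it' := inv t' (hsq t ht) (hne t ht1) ta tb
    have stc : Commute s' t' := hst.map (MulAut.conj m).toMonoidHom
    have ua : (s' * t') • a₀ = a₀ := by rw [mul_smul, ta, sa]
    have ub : (s' * t') • b₀ = b₀ := by rw [mul_smul, tb, sb]
    have hP' := hN (s' * t') ua (hLN _ ua ub) w₀ hw₀P hw₀1 (by
      have h1 : s' * t' * w₀ * (s' * t')⁻¹ = w₀ :=
        calc s' * t' * w₀ * (s' * t')⁻¹ = s' * (t' * w₀ * t'⁻¹) * s'⁻¹ := by group
          _ = w₀ := by rw [it' w₀ hw₀P, is' _ (inv_mem hw₀P), inv_inv]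
      exact mul_inv_eq_iff_eq_mul.mp h1)
    have h2 : (s' * t') ^ 2 = 1 := by rw [stc.mul_pow, hsq s hs, hsq t ht, one_mul]
    have h1 : s' * t' = 1 := by
      by_contra hne1
      have hd := orderOf_dvd_of_pow_eq_one h2
      rw [hord _ hP' hne1] at hd
      norm_num at hd
    have h3 : t'⁻¹ = t' := inv_eq_of_mul_eq_one_right (by rw [← pow_two]; exact hsq t ht)
    have hst' : s' = t' := by rw [← h3]; exact eq_inv_of_mul_eq_one_left h1
    exact mul_left_cancel (mul_right_cancel hst')
  · intro t ht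
    have ht2 : t ^ 2 = 1 := ht ▸ pow_orderOf_eq_one t
    have ht1 : t ≠ 1 := fun h => by rw [h, orderOf_one] at ht; norm_num at ht
    have hle : (fx t).card ≤ 3 := by
      by_contra hgt
      push Not at hgt
      obtain ⟨u, hu, hu4⟩ := Finset.exists_subset_card_eq (show 4 ≤ (fx t).card by omega)
      obtain ⟨a, b, c, d, nab, nac, nad, nbc, nbd, ncd, rfl⟩ := Finset.card_eq_four.mp hu4
      have hm : ∀ v ∈ ({a, b, c, d} : Finset α), t • v = v := fun v hv => (Finset.mem_filter.mp (hu hv)).2
      exact ht1 (uniq t a b c d nab nac nad nbc nbd ncd (hm _ (by simp)) (hm _ (by simp)) (hm _ (by simp))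
        (hm _ (by simp)))
    have hp2 : IsPGroup 2 (zpowers t) := IsPGroup.of_card (n := 1) (by rw [Nat.card_zpowers, ht, pow_one])
    have hmod := hp2.card_modEq_card_fixedPoints α
    have hfp : Nat.card (MulAction.fixedPoints (zpowers t) α) = (fx t).card := by
      rw [← Fintype.card_coe, ← Nat.card_eq_fintype_card]
      refine Nat.card_congr (Equiv.subtypeEquivRight fun x => ?_)
      simp only [fx, Finset.mem_filter, Finset.mem_univ, true_and, MulAction.mem_fixedPoints]
      constructor
      · exact fun h => h ⟨t, mem_zpowers t⟩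
      · rintro h ⟨g, hg⟩
        exact (zpowers_le.mpr (MulAction.mem_stabilizer_iff.mpr h) hg : g ∈ MulAction.stabilizer G x)
    rw [hfp, Nat.card_eq_fintype_card, hα, Nat.ModEq] at hmod
    have hne1 : (fx t).card ≠ 1 := by
      intro h1
      obtain ⟨x, hx⟩ := Finset.card_eq_one.mp h1
      obtain ⟨⟨w, hwC⟩, hw⟩ := exists_prime_orderOf_dvd_card' (G := ↥(centralizer ({t} : Set G))) 3
        (by rw [centralizer_two_eq hG K ht]; norm_num)
      rw [Subgroup.orderOf_mk] at hw
      have hwt : Commute w t := mem_centralizer_singleton_iff.mp hwC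
      have hxt : t • x = x := (Finset.mem_filter.mp (show x ∈ fx t by rw [hx]; simp)).2
      have huniq : ∀ y, t • y = y → y = x := fun y hy => by
        have : y ∈ fx t := Finset.mem_filter.mpr ⟨Finset.mem_univ _, hy⟩
        rw [hx, Finset.mem_singleton] at this
        exact this
      have hwx : w • x = x := huniq _ (by rw [← mul_smul, ← hwt.eq, mul_smul, hxt])
      obtain ⟨p, q, hpq, he⟩ := Finset.card_eq_two.mp (hthree w hw)
      have hxm : x ∈ fx w := Finset.mem_filter.mpr ⟨Finset.mem_univ _, hwx⟩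
      obtain ⟨y, hyx, hy⟩ : ∃ y, y ≠ x ∧ w • y = y := by
        have hp : w • p = p := (Finset.mem_filter.mp (show p ∈ fx w by rw [he]; simp)).2
        have hq : w • q = q := (Finset.mem_filter.mp (show q ∈ fx w by rw [he]; simp)).2
        by_cases h : p = x
        · exact ⟨q, fun h' => hpq (h.trans h'.symm), hq⟩
        · exact ⟨p, h, hp⟩
      have hty : w • (t • y) = t • y := by rw [← mul_smul, hwt.eq, mul_smul, hy]
      rcases three w hw x y (t • y) hwx hy hty with h | h | h
      · exact hyx h.symm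
      · exact hyx (smul_left_cancel t ((h.symm).trans hxt.symm))
      · exact hyx (huniq y h.symm)
    show (fx t).card = 3
    omega

end Build

section Steiner

variable [Fintype α] (S : Sharp G α)

/-- `g` acts on `T` as a fixed point free involution. -/
def Flip (g : G) (T : Finset α) : Prop := ∀ x ∈ T, g • x ∈ T ∧ g • x ≠ x ∧ g • g • x = x

/-- The point completing the four-set `T` to a block. -/
def Ext (G : Type*) [Group G] [MulAction G α] (T : Finset α) (e : α) : Prop :=
  e ∉ T ∧ ∀ g : G, Flip g T → g • e = e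

theorem eq_one_of_fix (S : Sharp G α) {T : Finset α} (hT : T.card = 4) {g : G} (hg : ∀ x ∈ T, g • x = x) :
    g = 1 := by
  obtain ⟨a, b, c, d, nab, nac, nad, nbc, nbd, ncd, rfl⟩ := Finset.card_eq_four.mp hT
  exact S.uniq g a b c d nab nac nad nbc nbd ncd (hg _ (by simp)) (hg _ (by simp)) (hg _ (by simp)) (hg _ (by simp))

theorem flip_conj {g : G} {T : Finset α} (h : G) (hf : Flip g T) :
    Flip (h * g * h⁻¹) (T.image (h • ·)) := by
  intro y hy
  obtain ⟨x, hx, rfl⟩ := Finset.mem_image.mp hy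
  obtain ⟨h1, h2, h3⟩ := hf x hx
  have e : ∀ v : α, (h * g * h⁻¹) • (h • v) = h • (g • v) := fun v => by rw [mul_smul, mul_smul, inv_smul_smul]
  show (h * g * h⁻¹) • (h • x) ∈ _ ∧ _ ≠ h • x ∧ _ = h • x
  rw [e, e, h3]
  exact ⟨Finset.mem_image_of_mem _ h1, fun hh => h2 (smul_left_cancel h hh), rfl⟩

theorem ext_smul {T : Finset α} {e : α} (h : G) (he : Ext G T e) : Ext G (T.image (h • ·)) (h • e) := by
  refine ⟨fun hm => ?_, fun g hg => ?_⟩
  · obtain ⟨x, hx, hxe⟩ := Finset.mem_image.mp hm
    exact he.1 (smul_left_cancel h hxe ▸ hx)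
  · have hf := flip_conj h⁻¹ hg
    rw [Finset.image_image, show ((fun x : α => h⁻¹ • x) ∘ fun x : α => h • x) = id from
      funext fun x => inv_smul_smul h x, Finset.image_id, inv_inv] at hf
    have := he.2 _ hf
    rwa [mul_smul, mul_smul, inv_smul_eq_iff] at this

/-- The three fixed point free involutions of a four-set, and their common fixed point. -/
theorem exists_ext (S : Sharp G α) {T : Finset α} (hT : T.card = 4) : ∃! e, Ext G T e := by
  obtain ⟨a, b, c, d, nab, nac, nad, nbc, nbd, ncd, rfl⟩ := Finset.card_eq_four.mp hT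
  obtain ⟨g1, p1, p2, p3, p4⟩ := S.exist a b c d b a d c nab nac nad nbc nbd ncd nab.symm nbd nbc nad nac ncd.symm
  obtain ⟨g2, q1, q2, q3, q4⟩ := S.exist a b c d c d a b nab nac nad nbc nbd ncd ncd nac.symm nbc.symm nad.symm
    nbd.symm nab
  obtain ⟨g3, r1, r2, r3, r4⟩ := S.exist a b c d d c b a nab nac nad nbc nbd ncd ncd.symm nbd.symm nad.symm nbc.symm
    nac.symm nab.symm
  have ext4 : ∀ g k : G, g • a = k • a → g • b = k • b → g • c = k • c → g • d = k • d → g = k := by
    intro g k ha hb hc hd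
    have := S.uniq (k⁻¹ * g) a b c d nab nac nad nbc nbd ncd (by rw [mul_smul, inv_smul_eq_iff, ha])
      (by rw [mul_smul, inv_smul_eq_iff, hb]) (by rw [mul_smul, inv_smul_eq_iff, hc])
      (by rw [mul_smul, inv_smul_eq_iff, hd])
    exact (inv_mul_eq_one.mp this).symm
  have h12 : g1 * g2 = g3 := ext4 _ _ (by rw [mul_smul, q1, p3, r1]) (by rw [mul_smul, q2, p4, r2])
    (by rw [mul_smul, q3, p1, r3]) (by rw [mul_smul, q4, p2, r4])
  have h21 : g2 * g1 = g3 := ext4 _ _ (by rw [mul_smul, p1, q2, r1]) (by rw [mul_smul, p2, q1, r2])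
    (by rw [mul_smul, p3, q4, r3]) (by rw [mul_smul, p4, q3, r4])
  have sq1 : g1 ^ 2 = 1 := by
    rw [pow_two]
    exact S.uniq _ a b c d nab nac nad nbc nbd ncd (by rw [mul_smul, p1, p2]) (by rw [mul_smul, p2, p1])
      (by rw [mul_smul, p3, p4]) (by rw [mul_smul, p4, p3])
  have sq2 : g2 ^ 2 = 1 := by
    rw [pow_two]
    exact S.uniq _ a b c d nab nac nad nbc nbd ncd (by rw [mul_smul, q1, q3]) (by rw [mul_smul, q2, q4])
      (by rw [mul_smul, q3, q1]) (by rw [mul_smul, q4, q2])
  have hc12 : Commute g1 g2 := h12.trans h21.symm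
  have sq3 : g3 ^ 2 = 1 := by rw [← h12, hc12.mul_pow, sq1, sq2, one_mul]
  have n1 : g1 ≠ 1 := fun h => nab (by rw [← p1, h, one_smul])
  have n2 : g2 ≠ 1 := fun h => nac (by rw [← q1, h, one_smul])
  have n3 : g3 ≠ 1 := fun h => nad (by rw [← r1, h, one_smul])
  have g1ne2 : g1 ≠ g2 := fun h => nbc (p1.symm.trans (h ▸ q1))
  let fx : G → Finset α := fun g => Finset.univ.filter fun x => g • x = x
  have mfx : ∀ {g : G} {x : α}, x ∈ fx g ↔ g • x = x := by intro g x; simp [fx]
  have hfx : ∀ g : G, g ^ 2 = 1 → g ≠ 1 → (fx g).card = 3 := fun g h1 h2 =>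
    S.inv_fix g (orderOf_eq_prime h1 h2)
  set T : Finset α := {a, b, c, d} with hTdef
  -- the three are the only such involutions
  have hflip : ∀ g : G, Flip g T → g = g1 ∨ g = g2 ∨ g = g3 := by
    intro g hg
    obtain ⟨ma, na, aa⟩ := hg a (by simp [hTdef])
    obtain ⟨mb, nb, bb⟩ := hg b (by simp [hTdef])
    obtain ⟨mc, nc, cc⟩ := hg c (by simp [hTdef])
    obtain ⟨md, nd, dd⟩ := hg d (by simp [hTdef])
    simp only [hTdef, Finset.mem_insert, Finset.mem_singleton] at ma mb mc md
    have inj : ∀ x y : α, g • x = g • y → x = y := fun x y h => smul_left_cancel g h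
    rcases ma with h | h | h | h
    · exact absurd h na
    · have hb' : g • b = a := by rw [← h]; exact aa
      have hc' : g • c = d := by
        rcases mc with h' | h' | h' | h'
        · exact absurd (inj c b (h'.trans hb'.symm)) nbc.symm
        · exact absurd (inj c a (h'.trans h.symm)) nac.symm
        · exact absurd h' nc
        · exact h'
      have hd' : g • d = c := by rw [← hc']; exact cc
      exact Or.inl (ext4 _ _ (h.trans p1.symm) (hb'.trans p2.symm) (hc'.trans p3.symm) (hd'.trans p4.symm))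
    · have hc' : g • c = a := by rw [← h]; exact aa
      have hb' : g • b = d := by
        rcases mb with h' | h' | h' | h'
        · exact absurd (inj b c (h'.trans hc'.symm)) nbc
        · exact absurd h' nb
        · exact absurd (inj b a (h'.trans h.symm)) nab.symm
        · exact h'
      have hd' : g • d = b := by rw [← hb']; exact bb
      exact Or.inr (Or.inl (ext4 _ _ (h.trans q1.symm) (hb'.trans q2.symm) (hc'.trans q3.symm) (hd'.trans q4.symm)))
    · have hd' : g • d = a := by rw [← h]; exact aa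
      have hb' : g • b = c := by
        rcases mb with h' | h' | h' | h'
        · exact absurd (inj b d (h'.trans hd'.symm)) nbd
        · exact absurd h' nb
        · exact h'
        · exact absurd (inj b a (h'.trans h.symm)) nab.symm
      have hc' : g • c = b := by rw [← hb']; exact bb
      exact Or.inr (Or.inr (ext4 _ _ (h.trans r1.symm) (hb'.trans r2.symm) (hc'.trans r3.symm) (hd'.trans r4.symm)))
  have f1 : Flip g1 T := by
    intro x hx
    simp only [hTdef, Finset.mem_insert, Finset.mem_singleton] at hx ⊢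
    rcases hx with rfl | rfl | rfl | rfl <;>
      simp [p1, p2, p3, p4, nab, nab.symm, ncd, ncd.symm]
  have f2 : Flip g2 T := by
    intro x hx
    simp only [hTdef, Finset.mem_insert, Finset.mem_singleton] at hx ⊢
    rcases hx with rfl | rfl | rfl | rfl <;>
      simp [q1, q2, q3, q4, nac, nac.symm, nbd, nbd.symm]
  have move : ∀ g : G, Flip g T → ∀ x ∈ T, g • x ≠ x := fun g hg x hx => (hg x hx).2.1
  -- a common fixed point
  obtain ⟨e, he1, he2⟩ : ∃ e, g1 • e = e ∧ g2 • e = e := by
    by_contra hcon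
    simp only [not_exists, not_and] at hcon
    have d12 : Disjoint (fx g1) (fx g2) := Finset.disjoint_left.mpr fun x h1 h2 => hcon x (mfx.mp h1) (mfx.mp h2)
    have i1 : g1⁻¹ = g1 := inv_eq_of_mul_eq_one_right (by rw [← pow_two]; exact sq1)
    have i2 : g2⁻¹ = g2 := inv_eq_of_mul_eq_one_right (by rw [← pow_two]; exact sq2)
    have d3 : Disjoint (fx g1 ∪ fx g2) (fx g3) := by
      refine Finset.disjoint_left.mpr fun x h h3 => ?_
      rw [mfx, ← h12] at h3
      rw [Finset.mem_union, mfx, mfx] at h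
      rcases h with h | h
      · refine hcon x h ?_
        have h' : g1 • (g2 • x) = g1 • x := by rw [← mul_smul, h3, h]
        exact smul_left_cancel g1 h'
      · rw [mul_smul, h] at h3
        exact hcon x h3 h
    have dT : Disjoint T (fx g1 ∪ fx g2 ∪ fx g3) := by
      have f3 : ∀ x ∈ T, g3 • x ≠ x := by
        intro x hx
        simp only [hTdef, Finset.mem_insert, Finset.mem_singleton] at hx
        rcases hx with rfl | rfl | rfl | rfl <;> simp [r1, r2, r3, r4, nad, nad.symm, nbc, nbc.symm]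
      refine Finset.disjoint_left.mpr fun x hx h => ?_
      rw [Finset.mem_union, Finset.mem_union, mfx, mfx, mfx] at h
      rcases h with (h | h) | h
      · exact move g1 f1 x hx h
      · exact move g2 f2 x hx h
      · exact f3 x hx h
    have hcard := Finset.card_le_univ (T ∪ (fx g1 ∪ fx g2 ∪ fx g3))
    rw [Finset.card_union_of_disjoint dT, Finset.card_union_of_disjoint d3, Finset.card_union_of_disjoint d12, hT,
      hfx g1 sq1 n1, hfx g2 sq2 n2, hfx g3 sq3 n3, S.card] at hcard
    omega
  refine ⟨e, ⟨fun hm => move g1 f1 e hm he1, fun g hg => ?_⟩, fun e' he' => ?_⟩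
  · rcases hflip g hg with rfl | rfl | rfl
    · exact he1
    · exact he2
    · rw [← h12, mul_smul, he2, he1]
  · by_contra hne
    exact g1ne2 (S.two_fix g1 g2 e' e hne sq1 n1 sq2 n2 hc12 (he'.2 _ f1) he1 (he'.2 _ f2) he2)

/-- Each point of a block completes the other four. -/
theorem ext_exchange (S : Sharp G α) {T : Finset α} (hT : T.card = 4) {e a : α} (he : Ext G T e) (ha : a ∈ T) :
    Ext G (insert e (T.erase a)) a := by
  have hcard3 : (T.erase a).card = 3 := by rw [Finset.card_erase_of_mem ha, hT]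
  obtain ⟨b, c, d, nbc, nbd, ncd, hbcd⟩ := Finset.card_eq_three.mp hcard3
  have hm : ∀ x, x ∈ T ↔ x = a ∨ x = b ∨ x = c ∨ x = d := fun x => by
    rw [← Finset.insert_erase ha, hbcd]; simp
  have hne : ∀ x, x ∈ ({b, c, d} : Finset α) → a ≠ x := fun x hx h => by
    rw [← hbcd] at hx; exact Finset.notMem_erase a T (h ▸ hx)
  have nab : a ≠ b := hne b (by simp)
  have nac : a ≠ c := hne c (by simp)
  have nad : a ≠ d := hne d (by simp)
  have hea : e ≠ a := fun h => he.1 (h ▸ ha)
  have heb : e ≠ b := fun h => he.1 ((hm _).mpr (Or.inr (Or.inl h)))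
  have hec : e ≠ c := fun h => he.1 ((hm _).mpr (Or.inr (Or.inr (Or.inl h))))
  have hed : e ≠ d := fun h => he.1 ((hm _).mpr (Or.inr (Or.inr (Or.inr h))))
  obtain ⟨w, wa, wb, wc, wd⟩ := S.exist a b c d a c d b nab nac nad nbc nbd ncd nac nad nab ncd nbc.symm nbd.symm
  have hw1 : w ≠ 1 := fun h => nbc (by rw [← wb, h, one_smul])
  have hw3 : w ^ 3 = 1 := by
    rw [pow_succ, pow_two]
    exact S.uniq _ a b c d nab nac nad nbc nbd ncd (by rw [mul_smul, mul_smul, wa, wa, wa])
      (by rw [mul_smul, mul_smul, wb, wc, wd]) (by rw [mul_smul, mul_smul, wc, wd, wb])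
      (by rw [mul_smul, mul_smul, wd, wb, wc])
  have : Fact (Nat.Prime 3) := ⟨by norm_num⟩
  have hwo : orderOf w = 3 := orderOf_eq_prime hw3 hw1
  have hTT : T.image (w • ·) = T := by
    apply Finset.eq_of_subset_of_card_le
    · intro y hy
      obtain ⟨x, hx, rfl⟩ := Finset.mem_image.mp hy
      show w • x ∈ T
      rcases (hm x).mp hx with rfl | rfl | rfl | rfl
      · rw [wa]; exact ha
      · rw [wb]; exact (hm _).mpr (Or.inr (Or.inr (Or.inl rfl)))
      · rw [wc]; exact (hm _).mpr (Or.inr (Or.inr (Or.inr rfl)))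
      · rw [wd]; exact (hm _).mpr (Or.inr (Or.inl rfl))
    · rw [Finset.card_image_of_injective _ (MulAction.injective w)]
  have hwe : w • e = e := by
    obtain ⟨e0, -, hu⟩ := exists_ext S hT
    exact (hu (w • e) (hTT ▸ ext_smul w he)).trans (hu e he).symm
  have hT' : (insert e (T.erase a)).card = 4 := by
    rw [Finset.card_insert_of_notMem (fun h => he.1 (Finset.mem_of_mem_erase h)), hcard3]
  obtain ⟨e', he', hu'⟩ := exists_ext S hT'
  have hT'T : (insert e (T.erase a)).image (w • ·) = insert e (T.erase a) := by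
    rw [Finset.image_insert, hwe, Finset.image_erase (MulAction.injective w), hTT, wa]
  have hwe' : w • e' = e' := hu' _ (hT'T ▸ ext_smul w he')
  rcases S.three_fix w hwo a e e' wa hwe hwe' with h | h | h
  · exact absurd h.symm hea
  · exact h ▸ he'
  · exact absurd (h ▸ Finset.mem_insert_self e _ : e' ∈ insert e (T.erase a)) he'.1

/-- The blocks. -/
def blocksOf (G : Type*) [Group G] (α : Type*) [MulAction G α] : Set (Finset α) :=
  {B | ∃ T e, T.card = 4 ∧ Ext G T e ∧ B = insert e T}

theorem steiner (S : Sharp G α) : IsSteinerSystem 4 5 (blocksOf G α) := by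
  refine ⟨?_, ?_⟩
  · rintro _ ⟨T, e, hT, he, rfl⟩
    rw [Finset.card_insert_of_notMem he.1, hT]
  · intro s hs
    obtain ⟨e₀, he₀, hu⟩ := exists_ext S hs
    refine ⟨insert e₀ s, ⟨⟨s, e₀, hs, he₀, rfl⟩, Finset.subset_insert _ _⟩, ?_⟩
    rintro _ ⟨⟨T, e, hT, he, rfl⟩, hsub⟩
    by_cases hes : e ∈ s
    · have hsT : s.erase e ⊆ T := fun x hx => by
        rw [Finset.mem_erase] at hx
        exact (Finset.mem_insert.mp (hsub hx.2)).resolve_left hx.1
      have hc : (T \ s.erase e).card = 1 := by
        rw [Finset.card_sdiff_of_subset hsT, hT, Finset.card_erase_of_mem hes, hs]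
      obtain ⟨a, ha⟩ := Finset.card_eq_one.mp hc
      have haT : a ∈ T := (Finset.mem_sdiff.mp (ha ▸ Finset.mem_singleton_self a)).1
      have hTe : T.erase a = s.erase e := by
        refine (Finset.eq_of_subset_of_card_le (fun x hx => ?_) ?_).symm
        · refine Finset.mem_erase.mpr ⟨fun h => ?_, hsT hx⟩
          exact (Finset.mem_sdiff.mp (ha ▸ Finset.mem_singleton_self a)).2 (h ▸ hx)
        · rw [Finset.card_erase_of_mem haT, Finset.card_erase_of_mem hes, hT, hs]
      have hsa : insert e (T.erase a) = s := by rw [hTe, Finset.insert_erase hes]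
      have hEa : a = e₀ := hu a (hsa ▸ ext_exchange S hT he haT)
      rw [← hEa, ← hsa, Finset.insert_comm, Finset.insert_erase haT]
    · have hsT : s = T := Finset.eq_of_subset_of_card_le
        (fun x hx => (Finset.mem_insert.mp (hsub hx)).resolve_left (fun h => hes (h ▸ hx))) (by rw [hT, hs])
      subst hsT
      rw [hu e he]

end Steiner

universe u

/-- A simple group of order 7920 is the automorphism group of an `S(4,5,11)`. -/
theorem exists_steiner {G : Type u} [Group G] [Fintype G] [IsSimpleGroup G] (hG : Nat.card G = 7920) :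
    ∃ (α : Type u) (_ : Fintype α) (_ : DecidableEq α) (B : Set (Finset α)), Fintype.card α = 11 ∧
      IsSteinerSystem 4 5 B ∧ Nonempty (G ≃* setSystemAut B) := by
  obtain ⟨K⟩ := exists_chars hG
  obtain ⟨H, P, hHi, hPH, hPc, hNc, hfree⟩ := M11Point.exists_point hG
  have hα : Fintype.card (G ⧸ H) = 11 := by
    rw [← Nat.card_eq_fintype_card, ← Subgroup.index_eq_card, hHi]
  have hst : MulAction.stabilizer G ((1 : G) : G ⧸ H) = H := MulAction.stabilizer_quotient H
  let φ : G →* Equiv.Perm (G ⧸ H) := MulAction.toPermHom G (G ⧸ H)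
  have hφ : Function.Injective φ := by
    rw [← MonoidHom.ker_eq_bot_iff]
    refine ((inferInstance : φ.ker.Normal).eq_bot_or_eq_top).resolve_right fun htop => ?_
    have hH : H = ⊤ := by
      rw [eq_top_iff, ← hst]
      intro g _
      have hg : g ∈ φ.ker := htop ▸ mem_top g
      rw [MulAction.mem_stabilizer_iff]
      exact congrArg (fun p : Equiv.Perm (G ⧸ H) => p ((1 : G) : G ⧸ H)) (MonoidHom.mem_ker.mp hg)
    rw [hH, Subgroup.index_top] at hHi
    norm_num at hHi
  have : FaithfulSMul G (G ⧸ H) := ⟨fun {g k} h => hφ (Equiv.ext h)⟩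
  have S : Sharp G (G ⧸ H) := sharp_of ((1 : G) : G ⧸ H) P hG K hα hPc
    (fun p hp => (hst.symm ▸ hPH hp : p ∈ MulAction.stabilizer G ((1 : G) : G ⧸ H)))
    (fun g hg => hfree g (hst ▸ (MulAction.mem_stabilizer_iff.mpr hg))) (by rw [hst]; exact hNc)
  have hB := steiner S
  let _ : DecidableEq (G ⧸ H) := Classical.decEq _
  refine ⟨G ⧸ H, inferInstance, Classical.decEq _, blocksOf G (G ⧸ H), hα, hB, ?_⟩
  have hmem : ∀ g, φ g ∈ setSystemAut (blocksOf G (G ⧸ H)) := fun g => by
    refine CfsgLib.SmallGroups.Steiner12.mem_aut ?_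
    rintro _ ⟨T, e, hT, he, rfl⟩
    refine ⟨T.image (g • ·), g • e, ?_, ext_smul g he, ?_⟩
    · rw [Finset.card_image_of_injective _ (MulAction.injective g), hT]
    · rw [Finset.image_insert]; rfl
  let ψ : G →* setSystemAut (blocksOf G (G ⧸ H)) := φ.codRestrict _ hmem
  have hc := (CfsgLib.SmallGroups.Steiner12.aut11 hα hB).1.2
  have hψ : Function.Bijective ψ :=
    (Nat.bijective_iff_injective_and_card ψ).mpr ⟨fun a b h => hφ (congrArg Subtype.val h), by rw [hG, hc]⟩
  exact ⟨MulEquiv.ofBijective ψ hψ⟩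

theorem smul_setSystemIso {α : Type*} {β : Type*} [DecidableEq α] [DecidableEq β] [Fintype α] [Fintype β]
    {B : Set (Finset α)} {B' : Set (Finset β)} (h : SetSystemIso B B') :
    Nonempty (setSystemAut B ≃* setSystemAut B') := by
  obtain ⟨e, he⟩ := h
  have key : ∀ g : Equiv.Perm α, g ∈ setSystemAut B ↔ e.permCongrHom g ∈ setSystemAut B' := by
    intro g
    have him : ∀ S : Finset α, (S.image e).image (e.permCongrHom g) = (S.image g).image e := fun S => by
      rw [Finset.image_image, Finset.image_image]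
      exact Finset.image_congr fun x _ => by simp [Equiv.permCongrHom]
    constructor
    · intro hg
      refine CfsgLib.SmallGroups.Steiner12.mem_aut fun S' hS' => ?_
      rw [← he] at hS' ⊢
      obtain ⟨S, hS, rfl⟩ := hS'
      exact ⟨S.image g, CfsgLib.SmallGroups.Steiner12.smul_image hg S hS, (him S).symm⟩
    · intro hg
      refine CfsgLib.SmallGroups.Steiner12.mem_aut fun S hS => ?_
      have h1 := CfsgLib.SmallGroups.Steiner12.smul_image hg (S.image e) (he ▸ ⟨S, hS, rfl⟩)
      rw [him, ← he] at h1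
      obtain ⟨R, hR, hRe⟩ := h1
      exact Finset.image_injective e.injective hRe ▸ hR
  exact ⟨(e.permCongrHom.subgroupMap (setSystemAut B)).trans (MulEquiv.subgroupCongr (by
    ext g
    constructor
    · rintro ⟨f, hf, rfl⟩
      exact (key f).mp hf
    · intro hg
      refine ⟨e.permCongrHom.symm g, (key _).mpr (by rwa [MulEquiv.apply_symm_apply]), ?_⟩
      exact MulEquiv.apply_symm_apply _ g))⟩

/-- Simple groups of order 7920 are isomorphic. -/
theorem nonempty_mulEquiv {G M : Type*} [Group G] [Group M] [Finite G] [Finite M] [IsSimpleGroup G]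
    [IsSimpleGroup M] (hG : Nat.card G = 7920) (hM : Nat.card M = 7920) : Nonempty (G ≃* M) := by
  cases nonempty_fintype G
  cases nonempty_fintype M
  obtain ⟨α, _, _, B, hα, hB, ⟨f⟩⟩ := exists_steiner hG
  obtain ⟨β, _, _, B', hβ, hB', ⟨f'⟩⟩ := exists_steiner hM
  obtain ⟨m⟩ := smul_setSystemIso (CfsgLib.SmallGroups.Steiner12.iso11 hα hβ hB hB')
  exact ⟨(f.trans m).trans f'.symm⟩

end CfsgLib.KGroups.M11Unique
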