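import Cfsg.Agent.Lib.KGroups.M11Chars
import Cfsg.Agent.Lib.Char.Perm

/-!
# Centralisers of the elements of orders two and three in a simple group of order 7920
-/

set_option autoImplicit false

namespace CfsgLib.KGroups.M11Values

open Cfsg CfsgLib.Blocks CfsgLib.KGroups.M11Tools CfsgLib.KGroups.M11Local CfsgLib.KGroups.M11Five
  CfsgLib.KGroups.M11Chars Subgroup
open CfsgLib.SmallGroups
open scoped Classical ComplexConjugate

variable {G : Type*} [Group G] [Fintype G] [IsSimpleGroup G] (hG : Nat.card G = 7920) (K : Chars G)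

omit [IsSimpleGroup G] in
theorem eq_cases (K : Chars G) (ψ : IrrCharacter G) :
    ψ = trivChar G ∨ ψ = K.c45 ∨ ψ ∈ K.T ∨ ψ = K.θ ∨ ψ = K.θ' ∨ ψ = K.c11 ∨ ψ = K.c44 ∨ ψ = K.c55 := by
  by_contra hcon
  simp only [not_or] at hcon
  obtain ⟨h1, h2, h3, h4, h5, h6, h7, h8⟩ := hcon
  have h := K.total fun χ => if χ = ψ then (1 : ℂ) else 0
  rw [Finset.sum_ite_eq' Finset.univ ψ, if_pos (Finset.mem_univ ψ),
    Finset.sum_ite_eq' K.T ψ, if_neg h3, if_neg (Ne.symm h1), if_neg (Ne.symm h2), if_neg (Ne.symm h4),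
    if_neg (Ne.symm h5), if_neg (Ne.symm h6), if_neg (Ne.symm h7), if_neg (Ne.symm h8)] at h
  norm_num at h

omit [IsSimpleGroup G] in
/-- The characters told apart by their degrees take real values at the 11-regular elements. -/
theorem real_values (K : Chars G) {g : G} (hg : ¬ 11 ∣ orderOf g) :
    conj ((K.θ : G → ℂ) g) = (K.θ : G → ℂ) g ∧ conj ((K.c11 : G → ℂ) g) = (K.c11 : G → ℂ) g ∧
      conj ((K.c44 : G → ℂ) g) = (K.c44 : G → ℂ) g ∧ conj ((K.c55 : G → ℂ) g) = (K.c55 : G → ℂ) g := by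
  have key : ∀ χ : IrrCharacter G, ∃ ψ : IrrCharacter G, charDegree (ψ : G → ℂ) = charDegree (χ : G → ℂ) ∧
      (ψ : G → ℂ) g = conj ((χ : G → ℂ) g) := fun χ => by
    refine ⟨⟨fun k => conj ((χ : G → ℂ) k), CfsgLib.Char.IsIrrCharacter.conj' χ.2⟩, ?_, rfl⟩
    apply Nat.cast_injective (R := ℂ)
    rw [← irr_one_eq, ← irr_one_eq]
    show conj ((χ : G → ℂ) 1) = _
    rw [irr_one_eq, map_natCast]
  have hdegs : ∀ ψ : IrrCharacter G, ψ ∈ K.T → charDegree (ψ : G → ℂ) = 10 := K.dT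
  have ht : charDegree ((trivChar G : IrrCharacter G) : G → ℂ) = 1 := by simp [charDegree]
  refine ⟨?_, ?_, ?_, ?_⟩
  · obtain ⟨ψ, hd, hv⟩ := key K.θ
    rw [K.dθ] at hd
    rcases eq_cases K ψ with rfl | rfl | h | rfl | rfl | rfl | rfl | rfl
    · omega
    · rw [K.d45] at hd; omega
    · rw [hdegs ψ h] at hd; omega
    · exact hv.symm
    · rw [← hv, K.agree g hg]
    · rw [K.d11] at hd; omega
    · rw [K.d44] at hd; omega
    · rw [K.d55] at hd; omega
  all_goals
    first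
      | obtain ⟨ψ, hd, hv⟩ := key K.c11
        rw [K.d11] at hd
        rcases eq_cases K ψ with rfl | rfl | h | rfl | rfl | rfl | rfl | rfl
        · omega
        · rw [K.d45] at hd; omega
        · rw [hdegs ψ h] at hd; omega
        · rw [K.dθ] at hd; omega
        · rw [K.dθ'] at hd; omega
        · exact hv.symm
        · rw [K.d44] at hd; omega
        · rw [K.d55] at hd; omega
      | obtain ⟨ψ, hd, hv⟩ := key K.c44
        rw [K.d44] at hd
        rcases eq_cases K ψ with rfl | rfl | h | rfl | rfl | rfl | rfl | rfl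
        · omega
        · rw [K.d45] at hd; omega
        · rw [hdegs ψ h] at hd; omega
        · rw [K.dθ] at hd; omega
        · rw [K.dθ'] at hd; omega
        · rw [K.d11] at hd; omega
        · exact hv.symm
        · rw [K.d55] at hd; omega
      | obtain ⟨ψ, hd, hv⟩ := key K.c55
        rw [K.d55] at hd
        rcases eq_cases K ψ with rfl | rfl | h | rfl | rfl | rfl | rfl | rfl
        · omega
        · rw [K.d45] at hd; omega
        · rw [hdegs ψ h] at hd; omega
        · rw [K.dθ] at hd; omega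
        · rw [K.dθ'] at hd; omega
        · rw [K.d11] at hd; omega
        · rw [K.d44] at hd; omega
        · exact hv.symm

include hG in
/-- The linear relations among the values at an element of order two or three. -/
theorem relations (K : Chars G) {g : G} (hg : orderOf g = 2 ∨ orderOf g = 3) :
    (K.θ' : G → ℂ) g = (K.θ : G → ℂ) g ∧
      (K.θ : G → ℂ) g = 1 + (K.c45 : G → ℂ) g - ∑ χ ∈ K.T, (χ : G → ℂ) g ∧
      1 + 2 * (K.θ : G → ℂ) g + (K.c11 : G → ℂ) g = (K.c44 : G → ℂ) g ∧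
      1 + 45 * (K.c45 : G → ℂ) g + 10 * ∑ χ ∈ K.T, (χ : G → ℂ) g + 32 * (K.θ : G → ℂ) g +
        11 * (K.c11 : G → ℂ) g + 44 * (K.c44 : G → ℂ) g + 55 * (K.c55 : G → ℂ) g = 0 := by
  have : Fact (Nat.Prime 5) := ⟨by norm_num⟩
  have hr : ¬ 11 ∣ orderOf g := by rcases hg with h | h <;> rw [h] <;> norm_num
  have hg1 : g ≠ 1 := fun h => by rw [h, orderOf_one] at hg; omega
  refine ⟨K.agree g hr, K.rel g hr, ?_, ?_⟩
  · obtain ⟨x, hx⟩ := exists_prime_orderOf_dvd_card' 5 (show 5 ∣ Nat.card G by rw [hG]; norm_num)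
    have hC := K.five x hx
    -- the column of an element of order five
    have hzero : ∀ χ : IrrCharacter G, 5 ∣ charDegree (χ : G → ℂ) → (χ : G → ℂ) x = 0 := fun χ h =>
      vanish χ (p := 5) (n := 1) (by norm_num) (by rw [hG]; norm_num) (by rw [hG]; norm_num)
        (by rw [pow_one]; exact h) (by rw [hx])
    obtain ⟨a, ha, ha'⟩ := values_five hG hx hC K.θ
    obtain ⟨a', haa, haa'⟩ := values_five hG hx hC K.θ'
    obtain ⟨b, hb, hb'⟩ := values_five hG hx hC K.c11
    obtain ⟨c, hc, hc'⟩ := values_five hG hx hC K.c44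
    rw [K.dθ, Int.ModEq] at ha'
    rw [K.dθ', Int.ModEq] at haa'
    rw [K.d11, Int.ModEq] at hb'
    rw [K.d44, Int.ModEq] at hc'
    have hcol := sum_norm_sq_column x
    rw [hC] at hcol
    have hcolC : (1 : ℝ) + a ^ 2 + a' ^ 2 + b ^ 2 + c ^ 2 = 5 := by
      have h := congrArg (fun r : ℝ => (r : ℂ)) hcol
      push_cast at h
      rw [K.total] at h
      rw [Finset.sum_congr rfl (g := fun _ => (0 : ℂ)) fun χ hχ => by
          rw [hzero χ (by rw [K.dT χ hχ]; norm_num)]; simp,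
        hzero K.c45 (by rw [K.d45]; norm_num), hzero K.c55 (by rw [K.d55]; norm_num), ha, haa, hb, hc,
        trivChar_apply] at h
      simp only [norm_one, norm_zero, Complex.norm_intCast, Finset.sum_const_zero] at h
      have h' := congrArg Complex.re h
      simp [sq_abs] at h'
      norm_cast at h'
      rw [sq_abs a, sq_abs a', sq_abs b, sq_abs c] at h'
      push_cast at h' ⊢
      linarith
    have hcolZ : 1 + a ^ 2 + a' ^ 2 + b ^ 2 + c ^ 2 = 5 := by exact_mod_cast hcolC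
    have hsq : ∀ v : ℤ, v % 5 ≠ 0 → 1 ≤ v ^ 2 := fun v hv => by
      rcases lt_or_gt_of_ne (show v ≠ 0 by omega) with h | h <;> nlinarith
    have e1 := hsq a (by omega)
    have e2 := hsq a' (by omega)
    have e3 := hsq b (by omega)
    have e4 := hsq c (by omega)
    have s1 : ∀ v : ℤ, v ^ 2 = 1 → v = 1 ∨ v = -1 := fun v h => sq_eq_one_iff.mp h
    have ea : a = 1 := by rcases s1 a (by linarith) with h | h <;> omega
    have ea' : a' = 1 := by rcases s1 a' (by linarith) with h | h <;> omega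
    have eb : b = 1 := by rcases s1 b (by linarith) with h | h <;> omega
    have ec : c = -1 := by rcases s1 c (by linarith) with h | h <;> omega
    have hnc : ¬ IsConj g x := fun h => by
      obtain ⟨u, hu⟩ := isConj_iff.mp h
      have := (MulEquiv.orderOf_eq (MulAut.conj u) g)
      rw [MulAut.conj_apply, hu, hx] at this
      omega
    have h := CfsgLib.Char.sum_irr_mul_conj g x
    rw [if_neg hnc, K.total] at h
    rw [Finset.sum_congr rfl (g := fun _ => (0 : ℂ)) fun χ hχ => by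
        rw [hzero χ (by rw [K.dT χ hχ]; norm_num)]; simp,
      hzero K.c45 (by rw [K.d45]; norm_num), hzero K.c55 (by rw [K.d55]; norm_num), ha, haa, hb, hc,
      K.agree g hr, ea, ea', eb, ec] at h
    simp at h
    linear_combination h
  · have h := sum_deg_mul hg1
    rw [K.total] at h
    rw [Finset.sum_congr rfl (g := fun χ : IrrCharacter G => (10 : ℂ) * (χ : G → ℂ) g) fun χ hχ => by
        rw [K.dT χ hχ]; norm_num,
      ← Finset.mul_sum, K.d45, K.dθ, K.dθ', K.d11, K.d44, K.d55, K.agree g hr,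
      show charDegree ((trivChar G : IrrCharacter G) : G → ℂ) = 1 by simp [charDegree], trivChar_apply] at h
    push_cast at h
    linear_combination h

include hG in
theorem centralizer_dvd (K : Chars G) {g : G} (hg : orderOf g = 2 ∨ orderOf g = 3) :
    Nat.card (centralizer ({g} : Set G)) ∣ 144 := by
  have key : ∀ r : ℕ, r.Prime → (r = 5 ∨ r = 11) → ¬ r ∣ Nat.card (centralizer ({g} : Set G)) := by
    intro r hr hr' hdvd
    have : Fact r.Prime := ⟨hr⟩
    obtain ⟨⟨u, huC⟩, hu⟩ := exists_prime_orderOf_dvd_card' r hdvd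
    rw [Subgroup.orderOf_mk] at hu
    have hCu : Nat.card (centralizer ({u} : Set G)) = r := by
      rcases hr' with rfl | rfl
      · exact K.five u hu
      · obtain ⟨Q, hQ⟩ := (IsPGroup.of_card (n := 1) (by rw [Nat.card_zpowers, hu, pow_one]) :
          IsPGroup 11 ↥(zpowers u)).exists_le_sylow
        have hQz : zpowers u = (Q : Subgroup G) :=
          Subgroup.eq_of_le_of_card_ge hQ (by rw [M11Local.card_sylow_eleven hG Q, Nat.card_zpowers, hu])
        rw [← centralizer_closure, ← zpowers_eq_closure, hQz]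
        exact (normalizer_eleven hG Q).2
    have hgu : g ∈ centralizer ({u} : Set G) :=
      mem_centralizer_singleton_iff.mpr (mem_centralizer_singleton_iff.mp huC).symm
    have hd := Subgroup.orderOf_dvd_natCard _ hgu
    rw [hCu] at hd
    rcases hg with h | h <;> rw [h] at hd <;> rcases hr' with rfl | rfl <;> norm_num at hd
  have hd : Nat.card (centralizer ({g} : Set G)) ∣ 144 * 55 := by
    rw [show 144 * 55 = Nat.card G by rw [hG]]
    exact card_subgroup_dvd_card _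
  refine (Nat.Coprime.dvd_of_dvd_mul_right ?_ hd)
  rw [show (55 : ℕ) = 5 * 11 from rfl]
  exact Nat.Coprime.mul_right ((Nat.Prime.coprime_iff_not_dvd (by norm_num)).mpr (key 5 (by norm_num) (Or.inl rfl))).symm
    ((Nat.Prime.coprime_iff_not_dvd (by norm_num)).mpr (key 11 (by norm_num) (Or.inr rfl))).symm

include hG in
theorem index_mul (g : G) :
    (centralizer ({g} : Set G)).index * Nat.card (centralizer ({g} : Set G)) = 7920 :=
  hG ▸ (centralizer ({g} : Set G)).index_mul_card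

include hG in
theorem centralizer_three (K : Chars G) {w : G} (hw : orderOf w = 3) :
    Nat.card (centralizer ({w} : Set G)) = 18 := by
  have hna := not_comm hG
  have : Fact (Nat.Prime 3) := ⟨by norm_num⟩
  obtain ⟨hθ', hrel, h44, hdeg⟩ := relations hG K (Or.inr hw)
  have hr : ¬ 11 ∣ orderOf w := by rw [hw]; norm_num
  have h45 : (K.c45 : G → ℂ) w = 0 :=
    vanish K.c45 (p := 3) (n := 2) (by norm_num) (by rw [hG]; norm_num) (by rw [hG]; norm_num)
      (by rw [K.d45]; norm_num) (by rw [hw])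
  have hsum : ∀ χ : IrrCharacter G, ∃ m : ℕ,
      (charDegree (χ : G → ℂ) : ℂ) + (χ : G → ℂ) w + conj ((χ : G → ℂ) w) = 3 * (m : ℂ) := by
    intro χ
    obtain ⟨m, hm⟩ := sum_powers χ w
    refine ⟨m, ?_⟩
    have hw2 : w ^ 2 = w⁻¹ := eq_inv_of_mul_eq_one_left (by
      have h3 := pow_orderOf_eq_one w
      rw [hw] at h3
      rwa [← pow_succ])
    rw [hw, Finset.sum_range_succ, Finset.sum_range_succ, Finset.sum_range_one, pow_zero, pow_one, hw2,
      irr_one_eq, ← conj_irr] at hm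
    exact_mod_cast hm
  have hint : ∀ χ : IrrCharacter G, conj ((χ : G → ℂ) w) = (χ : G → ℂ) w →
      ∃ v : ℤ, (χ : G → ℂ) w = v ∧ (3 : ℤ) ∣ v - charDegree (χ : G → ℂ) := by
    intro χ hreal
    obtain ⟨m, hm⟩ := hsum χ
    rw [hreal] at hm
    obtain ⟨v, hv⟩ := CfsgLib.Char.exists_int_of_isIntegral_rat (irr_isIntegral χ w)
      (q := ((3 * m : ℚ) - charDegree (χ : G → ℂ)) / 2) (by push_cast; linear_combination hm / 2)
    refine ⟨v, hv, ?_⟩
    rw [hv] at hm
    have h' : (charDegree (χ : G → ℂ) : ℂ) + 2 * (v : ℂ) = 3 * (m : ℂ) := by linear_combination hm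
    have h : (charDegree (χ : G → ℂ) : ℤ) + 2 * v = 3 * m := by exact_mod_cast h'
    omega
  obtain ⟨r1, r2, r3, r4⟩ := real_values K hr
  obtain ⟨θ, hθ, mθ⟩ := hint K.θ r1
  obtain ⟨e, he, me⟩ := hint K.c11 r2
  obtain ⟨f, hf, mf⟩ := hint K.c44 r3
  obtain ⟨h, hh, mh⟩ := hint K.c55 r4
  rw [K.dθ] at mθ
  rw [K.d11] at me
  rw [K.d44] at mf
  rw [hθ, h45] at hrel
  rw [hθ, he, hf] at h44
  rw [h45, hθ, he, hf, hh] at hdeg
  have hfe : f = 1 + 2 * θ + e := by exact_mod_cast h44.symm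
  have hfh : h = -f := by
    have : (55 : ℂ) * ((h : ℂ) + f) = 0 := by linear_combination hdeg - 10 * hrel - 11 * h44
    have h2 : (55 : ℤ) * (h + f) = 0 := by exact_mod_cast this
    omega
  -- a nonzero value on `T`
  obtain ⟨τ, hτ⟩ : K.T.Nonempty := Finset.card_pos.mp (by rw [K.cT]; norm_num)
  have hQ : (0 : ℝ) < ∑ χ ∈ K.T, ‖(χ : G → ℂ) w‖ ^ 2 := by
    refine lt_of_lt_of_le (b := ‖(τ : G → ℂ) w‖ ^ 2) ?_
      (Finset.single_le_sum (f := fun χ : IrrCharacter G => ‖(χ : G → ℂ) w‖ ^ 2) (fun _ _ => sq_nonneg _) hτ)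
    have : (τ : G → ℂ) w ≠ 0 := fun h0 => by
      obtain ⟨m, hm⟩ := hsum τ
      rw [h0, map_zero, K.dT τ hτ] at hm
      have : (10 : ℕ) = 3 * m := by exact_mod_cast (show ((10 : ℕ) : ℂ) = ((3 * m : ℕ) : ℂ) by
        push_cast; linear_combination hm)
      omega
    positivity
  set C := Nat.card (centralizer ({w} : Set G)) with hC
  have hcol : (C : ℝ) = 1 + ∑ χ ∈ K.T, ‖(χ : G → ℂ) w‖ ^ 2 + 2 * (θ : ℝ) ^ 2 + (e : ℝ) ^ 2 + 2 * (f : ℝ) ^ 2 := by
    have hcol := congrArg (fun r : ℝ => (r : ℂ)) (sum_norm_sq_column w)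
    push_cast at hcol
    rw [K.total, hθ', hθ, he, hf, hh, hfh, h45, trivChar_apply, ← hC] at hcol
    simp only [norm_one, norm_zero, Int.cast_neg, norm_neg, Complex.norm_intCast] at hcol
    apply Complex.ofReal_injective
    push_cast
    rw [← hcol]
    have habs : ∀ z : ℤ, (((|(z : ℝ)| : ℝ)) : ℂ) ^ 2 = (z : ℂ) ^ 2 := fun z => by
      rw [← Complex.ofReal_pow, sq_abs]; push_cast; rfl
    rw [habs, habs, habs]
    simp only [Complex.ofReal_one, Complex.ofReal_zero]
    ring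
  have hlt : 1 + 2 * θ ^ 2 + e ^ 2 + 2 * f ^ 2 < (C : ℤ) := by
    have : ((1 + 2 * θ ^ 2 + e ^ 2 + 2 * f ^ 2 : ℤ) : ℝ) < ((C : ℤ) : ℝ) := by
      push_cast; rw [hcol]; linarith
    exact_mod_cast this
  have h9 : 9 ∣ C := by
    obtain ⟨Q, hQ'⟩ := (IsPGroup.of_card (n := 1) (by rw [Nat.card_zpowers, hw, pow_one]) :
      IsPGroup 3 ↥(zpowers w)).exists_le_sylow
    have hQc : Nat.card (Q : Subgroup G) = 3 ^ 2 :=
      SimpleTools.card_sylow_subgroup (k := 2) (m := 880) (by rw [hG]; norm_num) (by norm_num) Q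
    have hle : (Q : Subgroup G) ≤ centralizer ({w} : Set G) := fun a ha =>
      mem_centralizer_singleton_iff.mpr (congrArg Subtype.val
        (IsPGroup.commutative_of_card_eq_prime_sq hQc ⟨a, ha⟩ ⟨w, hQ' (mem_zpowers w)⟩))
    have := Subgroup.card_dvd_of_le hle
    rwa [hQc] at this
  have h144 := centralizer_dvd hG K (Or.inr hw)
  rw [← hC] at h144
  have hidx := index_mul hG w
  rw [← hC] at hidx
  have hdv := degree_dvd_index_mul K.θ w hθ
  rw [K.dθ] at hdv
  have hCcases : C = 9 ∨ C = 18 ∨ C = 36 ∨ C = 72 ∨ C = 144 := by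
    have : ∀ c ∈ Finset.Icc 1 144, c ∣ 144 → 9 ∣ c → c = 9 ∨ c = 18 ∨ c = 36 ∨ c = 72 ∨ c = 144 := by decide +kernel
    exact this C (Finset.mem_Icc.mpr ⟨Nat.pos_of_dvd_of_pos h144 (by norm_num), Nat.le_of_dvd (by norm_num) h144⟩)
      h144 h9
  rcases hCcases with hc | hc | hc | hc | hc
  · exfalso
    rw [hc] at hlt
    push_cast at hlt
    have b1 : -1 ≤ θ ∧ θ ≤ 1 := ⟨by nlinarith, by nlinarith⟩
    have hθ1 : θ = 1 := by omega
    subst hθ1
    have b2 : -2 ≤ e ∧ e ≤ 2 := ⟨by nlinarith, by nlinarith⟩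
    obtain ⟨b2l, b2u⟩ := b2
    subst hfe
    interval_cases e <;> omega
  · exact hc
  · exfalso
    rw [hc] at hlt hidx
    push_cast at hlt
    have hi : (centralizer ({w} : Set G)).index = 220 := by omega
    rw [hi] at hdv
    push_cast at hdv
    have b1 : -4 ≤ θ ∧ θ ≤ 4 := ⟨by nlinarith, by nlinarith⟩
    have hθ1 : θ = 4 := by omega
    subst hθ1
    have b2 : -1 ≤ e ∧ e ≤ 1 := ⟨by nlinarith, by nlinarith⟩
    obtain ⟨b2l, b2u⟩ := b2
    subst hfe
    interval_cases e <;> omega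
  · exfalso
    rw [hc] at hlt hidx
    push_cast at hlt
    have hi : (centralizer ({w} : Set G)).index = 110 := by omega
    rw [hi] at hdv
    push_cast at hdv
    have b1 : -6 ≤ θ ∧ θ ≤ 6 := ⟨by nlinarith, by nlinarith⟩
    omega
  · exfalso
    rw [hc] at hlt hidx
    push_cast at hlt
    have hi : (centralizer ({w} : Set G)).index = 55 := by omega
    rw [hi] at hdv
    push_cast at hdv
    have b1 : -9 ≤ θ ∧ θ ≤ 9 := ⟨by nlinarith, by nlinarith⟩
    omega

include hG in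
/-- Involutions have determinant one in every representation. -/
theorem involution_value (hna : ¬ IsMulCommutative G) (χ : IrrCharacter G) {t : G} (ht : orderOf t = 2) :
    ∃ v : ℤ, (χ : G → ℂ) t = v ∧ (4 : ℤ) ∣ v - charDegree (χ : G → ℂ) := by
  have _ := hG
  obtain ⟨n, ρ, hρ, he⟩ := χ.2
  have hn : charDegree (χ : G → ℂ) = Module.finrank ℂ (Fin n → ℂ) := by
    apply Nat.cast_injective (R := ℂ)
    rw [← irr_one_eq, ← he, Representation.char_one]
  obtain ⟨b, μ, hμ, hb⟩ := CfsgLib.Char.exists_eigenbasis ρ t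
  rw [ht] at hμ
  have hb1 : ∀ i, ρ t (b i) = μ i • b i := fun i => by simpa using hb 1 i
  have hmat : LinearMap.toMatrix b b (ρ t) = Matrix.diagonal μ := by
    ext i j
    rw [LinearMap.toMatrix_apply, hb1, map_smul, Module.Basis.repr_self, Finsupp.smul_single, smul_eq_mul, mul_one,
      Finsupp.single_apply, Matrix.diagonal_apply]
    by_cases hij : i = j
    · subst hij; simp
    · simp [hij, Ne.symm hij]
  have hdet1 : LinearMap.det (ρ t) = 1 := by
    let φ : G →* ℂ := LinearMap.det.comp ρ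
    have htop : φ.toHomUnits.ker = ⊤ := by
      refine ((inferInstance : φ.toHomUnits.ker.Normal).eq_bot_or_eq_top).resolve_left fun hb' => hna
        ⟨⟨fun a c => (MonoidHom.ker_eq_bot_iff _).mp hb' (by rw [map_mul, map_mul, mul_comm])⟩⟩
    have := congrArg Units.val (MonoidHom.mem_ker.mp (htop ▸ mem_top t : t ∈ φ.toHomUnits.ker))
    exact this
  have hprod : ∏ i, μ i = 1 := by
    rw [← hdet1, ← LinearMap.det_toMatrix b, hmat, Matrix.det_diagonal]
  have htr : (χ : G → ℂ) t = ∑ i, μ i := by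
    rw [← he, Representation.character, LinearMap.trace_eq_matrix_trace ℂ b, hmat, Matrix.trace_diagonal]
  have hpm : ∀ i, μ i = 1 ∨ μ i = -1 := fun i => sq_eq_one_iff.mp (hμ i)
  set S := Finset.univ.filter fun i => μ i = -1 with hS
  have hval : ∀ i, μ i = if i ∈ S then (-1 : ℂ) else 1 := fun i => by
    rcases hpm i with h | h
    · rw [if_neg, h]
      rw [hS, Finset.mem_filter, h]; norm_num
    · rw [if_pos, h]
      rw [hS, Finset.mem_filter]; exact ⟨Finset.mem_univ i, h⟩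
  have hone : ((-1 : ℂ)) ^ S.card = 1 := by
    refine (?_ : _ = ∏ i, μ i).trans hprod
    rw [Finset.prod_congr rfl fun i _ => hval i, Finset.prod_ite_mem, Finset.univ_inter, Finset.prod_const]
  have heven : Even S.card := by
    rcases Nat.even_or_odd S.card with h | h
    · exact h
    · rw [h.neg_one_pow] at hone; norm_num at hone
  refine ⟨(charDegree (χ : G → ℂ) : ℤ) - 2 * S.card, ?_, ?_⟩
  · rw [htr, hn]
    have hsum : ∀ i, μ i = 1 - 2 * (if i ∈ S then (1 : ℂ) else 0) := fun i => by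
      rw [hval i]; split_ifs <;> norm_num
    rw [Finset.sum_congr rfl fun i _ => hsum i, Finset.sum_sub_distrib, ← Finset.mul_sum, Finset.sum_ite_mem,
      Finset.univ_inter]
    simp
  · obtain ⟨c, hc⟩ := heven
    rw [hc]
    exact ⟨-c, by push_cast; ring⟩

theorem involution_numeric (i j k l : ℕ) (hi : i < 6) (hj : j < 6) (hk : k < 6) (hl : l < 6)
    (a b c e : ℤ) (ha : a = 4 * i - 10) (hb : b = 4 * j - 10) (hc : c = 4 * k - 10) (he : e = 4 * l - 9)
    {C : ℕ} (hC : (C : ℤ) = 1 + a ^ 2 + b ^ 2 + c ^ 2 + (a + b + c - 1) ^ 2 + e ^ 2 + (1 + e) ^ 2 + (a + b + c + e) ^ 2)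
    (hd : C ∣ 144) (h4 : (4 : ℤ) ∣ a + b + c - 2) :
    C = 16 ∨ (C = 48 ∧ ((a = 2 ∨ b = 2 ∨ c = 2) ∨ ¬ (3 : ℤ) ∣ a + b + c - 1)) ∨
      (C = 144 ∧ ¬ (9 : ℤ) ∣ a + b + c - 1) := by
  have key : ∀ i ∈ Finset.range 6, ∀ j ∈ Finset.range 6, ∀ k ∈ Finset.range 6, ∀ l ∈ Finset.range 6,
      let a : ℤ := 4 * i - 10
      let b : ℤ := 4 * j - 10
      let c : ℤ := 4 * k - 10
      let e : ℤ := 4 * l - 9
      let C := (1 + a ^ 2 + b ^ 2 + c ^ 2 + (a + b + c - 1) ^ 2 + e ^ 2 + (1 + e) ^ 2 + (a + b + c + e) ^ 2).toNat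
      C ≤ 144 → 144 % C = 0 → (a + b + c - 2) % 4 = 0 →
        C = 16 ∨ (C = 48 ∧ ((a = 2 ∨ b = 2 ∨ c = 2) ∨ (a + b + c - 1) % 3 ≠ 0)) ∨
          (C = 144 ∧ (a + b + c - 1) % 9 ≠ 0) := by
    decide +kernel
  have hCeq : C = (1 + a ^ 2 + b ^ 2 + c ^ 2 + (a + b + c - 1) ^ 2 + e ^ 2 + (1 + e) ^ 2 + (a + b + c + e) ^ 2).toNat := by
    rw [← hC]; rfl
  subst ha hb hc he
  rcases key i (Finset.mem_range.mpr hi) j (Finset.mem_range.mpr hj) k (Finset.mem_range.mpr hk) l
    (Finset.mem_range.mpr hl) (hCeq ▸ Nat.le_of_dvd (by norm_num) hd) (hCeq ▸ Nat.mod_eq_zero_of_dvd hd)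
    (Int.emod_eq_zero_of_dvd h4) with h | ⟨h, h'⟩ | ⟨h, h'⟩
  · exact Or.inl (hCeq.trans h)
  · exact Or.inr (Or.inl ⟨hCeq.trans h, h'.imp_right fun h3 hd => h3 (Int.emod_eq_zero_of_dvd hd)⟩)
  · exact Or.inr (Or.inr ⟨hCeq.trans h, fun hd => h' (Int.emod_eq_zero_of_dvd hd)⟩)

include hG in
theorem involution_cases (K : Chars G) {t : G} (ht : orderOf t = 2) :
    Nat.card (centralizer ({t} : Set G)) = 16 ∨
      (Nat.card (centralizer ({t} : Set G)) = 48 ∧ ∃ τ ∈ K.T, (τ : G → ℂ) t = 2) := by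
  have hna := not_comm hG
  obtain ⟨hθ', hrel, h44, hdeg⟩ := relations hG K (Or.inl ht)
  have hθ0 : (K.θ : G → ℂ) t = 0 :=
    vanish K.θ (p := 2) (n := 4) (by norm_num) (by rw [hG]; norm_num) (by rw [hG]; norm_num)
      (by rw [K.dθ]; norm_num) (by rw [ht])
  obtain ⟨τ₁, τ₂, τ₃, h12, h13, h23, hT⟩ := Finset.card_eq_three.mp K.cT
  obtain ⟨a, ha, ma⟩ := involution_value hG hna τ₁ ht
  obtain ⟨b, hb, mb⟩ := involution_value hG hna τ₂ ht
  obtain ⟨c, hc, mc⟩ := involution_value hG hna τ₃ ht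
  obtain ⟨d, hd, md⟩ := involution_value hG hna K.c45 ht
  obtain ⟨e, he, me⟩ := involution_value hG hna K.c11 ht
  obtain ⟨f, hf, -⟩ := involution_value hG hna K.c44 ht
  obtain ⟨h, hh, -⟩ := involution_value hG hna K.c55 ht
  rw [K.dT τ₁ (by rw [hT]; simp)] at ma
  rw [K.dT τ₂ (by rw [hT]; simp)] at mb
  rw [K.dT τ₃ (by rw [hT]; simp)] at mc
  rw [K.d45] at md
  rw [K.d11] at me
  have hS : ∑ χ ∈ K.T, (χ : G → ℂ) t = (a : ℂ) + b + c := by
    rw [hT, Finset.sum_insert (by simp [h12, h13]), Finset.sum_pair h23, ha, hb, hc]; ring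
  rw [hθ0, hd, hS] at hrel
  rw [hθ0, he, hf] at h44
  rw [hθ0, hd, hS, he, hf, hh] at hdeg
  have hd' : d = a + b + c - 1 := by
    have : (d : ℂ) = ((a + b + c - 1 : ℤ) : ℂ) := by push_cast; linear_combination -hrel
    exact_mod_cast this
  have hf' : f = 1 + e := by
    have : (f : ℂ) = ((1 + e : ℤ) : ℂ) := by push_cast; linear_combination -h44
    exact_mod_cast this
  have hh' : h = -(a + b + c + e) := by
    have h1 : (55 : ℂ) * ((h : ℂ) + (a + b + c + e)) = 0 := by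
      rw [hd', hf'] at hdeg; push_cast at hdeg
      linear_combination hdeg
    have h2 : (55 : ℤ) * (h + (a + b + c + e)) = 0 := by exact_mod_cast h1
    omega
  set C := Nat.card (centralizer ({t} : Set G)) with hC
  have hcol := congrArg (fun r : ℝ => (r : ℂ)) (sum_norm_sq_column t)
  push_cast at hcol
  have hterm : ∀ (χ : IrrCharacter G) (v : ℤ), (χ : G → ℂ) t = v →
      ((‖(χ : G → ℂ) t‖ : ℝ) : ℂ) ^ 2 = ((v ^ 2 : ℤ) : ℂ) := fun χ v hv => by
    rw [hv, Complex.norm_intCast, ← Complex.ofReal_pow, sq_abs]; push_cast; ring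
  rw [K.total, hT, Finset.sum_insert (by simp [h12, h13]), Finset.sum_pair h23, hterm τ₁ a ha, hterm τ₂ b hb,
    hterm τ₃ c hc, hterm K.c45 d hd, hterm K.c11 e he, hterm K.c44 f hf, hterm K.c55 h hh, hθ', hθ0,
    trivChar_apply, ← hC, hd', hf', hh'] at hcol
  simp only [norm_zero, norm_one, Complex.ofReal_zero, Complex.ofReal_one] at hcol
  have hCZ : (C : ℤ) = 1 + a ^ 2 + b ^ 2 + c ^ 2 + (a + b + c - 1) ^ 2 + e ^ 2 + (1 + e) ^ 2 +
      (a + b + c + e) ^ 2 := by
    have : ((C : ℤ) : ℂ) = ((1 + a ^ 2 + b ^ 2 + c ^ 2 + (a + b + c - 1) ^ 2 + e ^ 2 + (1 + e) ^ 2 +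
        (a + b + c + e) ^ 2 : ℤ) : ℂ) := by
      push_cast at hcol ⊢
      rw [← hcol]; ring
    exact_mod_cast this
  have h144 := centralizer_dvd hG K (Or.inl ht)
  rw [← hC] at h144
  have hle : (C : ℤ) ≤ 144 := by exact_mod_cast Nat.le_of_dvd (by norm_num) h144
  have bd : ∀ v : ℤ, v ^ 2 ≤ 143 → -11 ≤ v ∧ v ≤ 11 := fun v hv => ⟨by nlinarith, by nlinarith⟩
  have ba := bd a (by nlinarith)
  have bb := bd b (by nlinarith)
  have bc := bd c (by nlinarith)
  have be := bd e (by nlinarith)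
  obtain ⟨i, hi⟩ : ∃ i : ℕ, a = 4 * i - 10 := ⟨((a + 10) / 4).toNat, by omega⟩
  obtain ⟨j, hj⟩ : ∃ j : ℕ, b = 4 * j - 10 := ⟨((b + 10) / 4).toNat, by omega⟩
  obtain ⟨k, hk⟩ : ∃ k : ℕ, c = 4 * k - 10 := ⟨((c + 10) / 4).toNat, by omega⟩
  obtain ⟨l, hl⟩ : ∃ l : ℕ, e = 4 * l - 9 := ⟨((e + 9) / 4).toNat, by omega⟩
  rcases involution_numeric i j k l (by omega) (by omega) (by omega) (by omega) a b c e hi hj hk hl hCZ h144
    (by omega) with h' | ⟨h', h2⟩ | ⟨h', h9⟩
  · exact Or.inl h'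
  · refine Or.inr ⟨h', ?_⟩
    rcases h2 with (e2 | e2 | e2) | h3
    · exact ⟨τ₁, by rw [hT]; simp, by rw [ha, e2]; norm_num⟩
    · exact ⟨τ₂, by rw [hT]; simp, by rw [hb, e2]; norm_num⟩
    · exact ⟨τ₃, by rw [hT]; simp, by rw [hc, e2]; norm_num⟩
    · exfalso
      have hidx := index_mul hG t
      rw [← hC, h'] at hidx
      have hdv := degree_dvd_index_mul K.c45 t hd
      rw [K.d45, show (centralizer ({t} : Set G)).index = 165 by omega, hd'] at hdv
      push_cast at hdv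
      exact h3 (by omega)
  · exfalso
    have hidx := index_mul hG t
    rw [← hC, h'] at hidx
    have hdv := degree_dvd_index_mul K.c45 t hd
    rw [K.d45, show (centralizer ({t} : Set G)).index = 55 by omega, hd'] at hdv
    push_cast at hdv
    exact h9 (by omega)

include hG in
theorem centralizer_two (K : Chars G) {t : G} (ht : orderOf t = 2) :
    Nat.card (centralizer ({t} : Set G)) = 16 ∨ Nat.card (centralizer ({t} : Set G)) = 48 :=
  (involution_cases hG K ht).imp_right And.left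

end CfsgLib.KGroups.M11Values
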