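import Cfsg.Agent.Lib.KGroups.M12Tools

/-!
# Twisted sums over cyclic subgroups for the group of order 95040
-/

set_option autoImplicit false

namespace CfsgLib.KGroups.M12Reps

open Cfsg CfsgLib.Blocks CfsgLib.KGroups.M11Tools CfsgLib.KGroups.M12Tools
open scoped Classical ComplexConjugate

variable {G : Type*} [Group G] [Fintype G]

theorem orderOf_pow_five {x : G} (hx : orderOf x = 5) {i : ℕ} (hi : ¬ 5 ∣ i) : orderOf (x ^ i) = 5 := by
  rw [orderOf_pow, hx, ((Nat.prime_five.coprime_iff_not_dvd).mpr hi).gcd_eq_one, Nat.div_one]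

/-- An automorphism of `ℂ` which acts on the values at `g` as a power map. -/
theorem exists_galois_pow (g : G) {j : ℕ} (hj : j.Coprime (orderOf g)) :
    ∃ σ : ℂ ≃+* ℂ, ∀ χ : IrrCharacter G, σ ((χ : G → ℂ) g) = (χ : G → ℂ) (g ^ j) := by
  have hn : orderOf g ≠ 0 := (orderOf_pos g).ne'
  have hω := Complex.isPrimitiveRoot_exp (orderOf g) hn
  obtain ⟨σ, hσ⟩ := CfsgLib.CharDeep.Galois.exists_ringEquiv_primitive hn hω (hω.pow_of_coprime j hj)
  refine ⟨σ, fun χ => ?_⟩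
  obtain ⟨μ, hμ, hval⟩ := exists_roots χ g
  have h1 := hval 1
  simp only [pow_one] at h1
  rw [h1, hval j, map_sum]
  refine Finset.sum_congr rfl fun a _ => ?_
  haveI : NeZero (orderOf g) := ⟨hn⟩
  obtain ⟨i, -, hi⟩ := hω.eq_pow_of_pow_eq_one (hμ a)
  rw [← hi, map_pow, hσ]; ring

/-- A rational value is shared by the powers of coprime exponent. -/
theorem pow_value (χ : IrrCharacter G) (g : G) {j : ℕ} (hj : j.Coprime (orderOf g)) {n : ℤ}
    (h : (χ : G → ℂ) g = n) : (χ : G → ℂ) (g ^ j) = n := by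
  obtain ⟨σ, hσ⟩ := exists_galois_pow g hj
  rw [← hσ χ, h, map_intCast]

/-- A twisted sum over a cyclic subgroup counts an eigenvalue. -/
theorem twist_nat (χ : IrrCharacter G) {g : G} {n : ℕ} (hg : orderOf g = n) {μ : ℂ} (hμ : μ ^ n = 1) :
    ∃ m : ℕ, ∑ i ∈ Finset.range n, (χ : G → ℂ) (g ^ i) * μ ^ i = (n : ℂ) * m := by
  obtain ⟨r, hr, hval⟩ := exists_roots χ g
  rw [hg] at hr
  have h := sum_twist r hr (ν := μ⁻¹) (by rw [inv_pow, hμ, inv_one])
  simp only [inv_inv] at h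
  simp only [← hval] at h
  exact ⟨_, h⟩

/-- Vanishing at the elements of order divisible by 5 multiplies a twisted sum by 5. -/
theorem twist_five (χ : IrrCharacter G) {x v : G} (hx : orderOf x = 5) {n : ℕ} (hv : orderOf v = n)
    (hxv : Commute x v) {K : ℕ} (hK : 5 * K ≡ 1 [MOD n]) (hn5 : Nat.Coprime 5 n)
    (hvan : ∀ g : G, 5 ∣ orderOf g → (χ : G → ℂ) g = 0) {μ : ℂ} (hμ : μ ^ n = 1) :
    ∃ m : ℕ, ∑ j ∈ Finset.range n, (χ : G → ℂ) (v ^ j) * μ ^ j = (5 * n : ℂ) * m := by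
  have hn0 : n ≠ 0 := hv ▸ (orderOf_pos v).ne'
  have hKn : Nat.Coprime K n := by
    rw [Nat.coprime_iff_gcd_eq_one]
    have h1 : Nat.gcd (5 * K) n = 1 := by rw [hK.gcd_eq, Nat.gcd_one_left]
    exact Nat.eq_one_of_dvd_one (h1 ▸ Nat.gcd_dvd_gcd_mul_left_left K n 5)
  have hvK : orderOf (v ^ K) = n := by rw [orderOf_pow, hv, Nat.Coprime.gcd_eq_one hKn.symm, Nat.div_one]
  have hord : orderOf (x * v ^ K) = 5 * n := by
    rw [(hxv.pow_right K).orderOf_mul_eq_mul_orderOf_of_coprime (by rw [hx, hvK]; exact hn5), hx, hvK]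
  obtain ⟨m, hm⟩ := twist_nat χ hord (μ := μ ^ K) (by rw [← pow_mul, mul_comm, mul_assoc, pow_mul', pow_mul, hμ]; simp)
  refine ⟨m, ?_⟩
  push_cast at hm
  rw [← hm]
  symm
  refine Finset.sum_bij_ne_zero (fun i _ _ => i / 5) (fun i hi _ => ?_) (fun i hi hne j hj hne' h => ?_)
    (fun j hj hne => ?_) fun i hi hne => ?_
  · rw [Finset.mem_range] at hi ⊢; omega
  · have h5 : ∀ k, (χ : G → ℂ) ((x * v ^ K) ^ k) * (μ ^ K) ^ k ≠ 0 → 5 ∣ k := fun k hk => by
      by_contra hk5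
      refine hk (mul_eq_zero_of_left (hvan _ ?_) _)
      rw [(hxv.pow_right K).mul_pow, ((hxv.pow_right K).pow_pow k k).orderOf_mul_eq_mul_orderOf_of_coprime ?_]
      · exact Dvd.dvd.mul_right (by rw [orderOf_pow_five hx hk5]) _
      · rw [orderOf_pow_five hx hk5, orderOf_pow, hvK]
        exact hn5.coprime_dvd_right (Nat.div_dvd_of_dvd (Nat.gcd_dvd_left _ _))
    obtain ⟨a, rfl⟩ := h5 i hne
    obtain ⟨b, rfl⟩ := h5 j hne'
    omega
  · rw [Finset.mem_range] at hj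
    have hv' : v ^ (K * (5 * j)) = v ^ j := by
      rw [show K * (5 * j) = (5 * K) * j by ring, ← pow_mod_orderOf, hv, Nat.mul_mod, hK, ← Nat.mul_mod, one_mul,
        ← hv, pow_mod_orderOf]
    have hμ' : μ ^ (K * (5 * j)) = μ ^ j := by
      rw [show K * (5 * j) = (5 * K) * j by ring, pow_eq_pow_of_modEq ((hK.mul_right j).trans (by rw [one_mul])) hμ]
    have hval : (χ : G → ℂ) ((x * v ^ K) ^ (5 * j)) * (μ ^ K) ^ (5 * j) = (χ : G → ℂ) (v ^ j) * μ ^ j := by
      rw [(hxv.pow_right K).mul_pow, pow_mul x, show x ^ 5 = 1 from hx ▸ pow_orderOf_eq_one x, one_pow, one_mul,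
        ← pow_mul, ← pow_mul, hv', hμ']
    exact ⟨5 * j, Finset.mem_range.mpr (by omega), by rw [hval]; exact hne, by omega⟩
  · have hi5 : 5 ∣ i := by
      by_contra hk5
      refine hne (mul_eq_zero_of_left (hvan _ ?_) _)
      rw [(hxv.pow_right K).mul_pow, ((hxv.pow_right K).pow_pow i i).orderOf_mul_eq_mul_orderOf_of_coprime ?_]
      · exact Dvd.dvd.mul_right (by rw [orderOf_pow_five hx hk5]) _
      · rw [orderOf_pow_five hx hk5, orderOf_pow, hvK]
        exact hn5.coprime_dvd_right (Nat.div_dvd_of_dvd (Nat.gcd_dvd_left _ _))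
    obtain ⟨j, rfl⟩ := hi5
    rw [Nat.mul_div_cancel_left _ (by norm_num : 0 < 5)]
    have hv' : v ^ (K * (5 * j)) = v ^ j := by
      rw [show K * (5 * j) = (5 * K) * j by ring, ← pow_mod_orderOf, hv, Nat.mul_mod, hK, ← Nat.mul_mod, one_mul,
        ← hv, pow_mod_orderOf]
    have hμ' : μ ^ (K * (5 * j)) = μ ^ j := by
      rw [show K * (5 * j) = (5 * K) * j by ring, pow_eq_pow_of_modEq ((hK.mul_right j).trans (by rw [one_mul])) hμ]
    rw [(hxv.pow_right K).mul_pow, pow_mul x, show x ^ 5 = 1 from hx ▸ pow_orderOf_eq_one x, one_pow, one_mul,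
      ← pow_mul, ← pow_mul, hv', hμ']

/-- The eigenvalue count of an element whose cube is the identity. -/
theorem three_eigen {V : Type*} [AddCommGroup V] [Module ℂ V] [FiniteDimensional ℂ V] (f : Module.End ℂ V)
    (hf : f ^ 3 = 1) {ω : ℂ} (hω : IsPrimitiveRoot ω 3) :
    ∃ p q r : ℕ, Module.finrank ℂ V = p + q + r ∧
      LinearMap.trace ℂ V f = (p : ℂ) + q * ω + r * ω ^ 2 ∧
      LinearMap.trace ℂ V (f ^ 2) = (p : ℂ) + q * ω ^ 2 + r * ω ∧
      LinearMap.det f = ω ^ (q + 2 * r) := by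
  obtain ⟨b, μ, h⟩ := CfsgLib.Char.exists_eigenbasis_of_pow_eq_one f (n := 3) (by norm_num) hf
  have hμ : ∀ i, μ i = 1 ∨ μ i = ω ∨ μ i = ω ^ 2 := fun i => by
    obtain ⟨k, hk, hk'⟩ := hω.eq_pow_of_pow_eq_one (h i).2
    interval_cases k
    · exact Or.inl (by rw [← hk', pow_zero])
    · exact Or.inr (Or.inl (by rw [← hk', pow_one]))
    · exact Or.inr (Or.inr hk'.symm)
  have n1 : ω ≠ 1 := hω.ne_one (by norm_num)
  have n2 : ω ^ 2 ≠ 1 := hω.pow_ne_one_of_pos_of_lt (by norm_num) (by norm_num)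
  have n3 : ω ^ 2 ≠ ω := fun e => n1 (mul_left_cancel₀ (hω.ne_zero (by norm_num)) (by rw [mul_one, ← pow_two, e]))
  have h3 : ω ^ 3 = 1 := hω.pow_eq_one
  have h2 : ∀ i, (f ^ 2) (b i) = μ i ^ 2 • b i := fun i => by
    rw [pow_two, Module.End.mul_apply, (h i).1, map_smul, (h i).1, smul_smul, pow_two]
  set A := fun c : ℂ => (Finset.univ.filter fun i => μ i = c).card with hA
  have key : ∀ F : ℂ → ℂ, ∑ i, F (μ i) = (A 1 : ℂ) * F 1 + (A ω : ℂ) * F ω + (A (ω ^ 2) : ℂ) * F (ω ^ 2) :=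
    fun F => by
    rw [Finset.sum_congr rfl (g := fun i => (if μ i = 1 then F 1 else 0) + (if μ i = ω then F ω else 0) +
      (if μ i = ω ^ 2 then F (ω ^ 2) else 0)) fun i _ => ?_]
    · simp only [hA, Finset.sum_add_distrib, ← Finset.sum_filter, Finset.sum_const, nsmul_eq_mul]
    · rcases hμ i with e | e | e <;> rw [e] <;> simp [n1, n2, n3, n1.symm, n2.symm, n3.symm]
  refine ⟨A 1, A ω, A (ω ^ 2), ?_, ?_, ?_, ?_⟩
  · apply Nat.cast_injective (R := ℂ)
    have := key fun _ => 1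
    simp only [Finset.sum_const, Finset.card_univ, Fintype.card_fin, nsmul_eq_mul, mul_one] at this
    push_cast
    exact this
  · rw [CfsgLib.Char.trace_eq_sum_of_eigen f b μ fun i => (h i).1]
    have := key id
    simp only [id] at this
    rw [this]; ring
  · rw [CfsgLib.Char.trace_eq_sum_of_eigen (f ^ 2) b (fun i => μ i ^ 2) h2, key fun c => c ^ 2]
    simp only [one_pow, mul_one]
    linear_combination ((A (ω ^ 2) : ℂ) * ω) * h3
  · rw [← LinearMap.det_toMatrix b, show LinearMap.toMatrix b b f = Matrix.diagonal μ by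
      ext i j
      by_cases hij : i = j
      · subst hij
        simp [LinearMap.toMatrix_apply, (h i).1]
      · simp [LinearMap.toMatrix_apply, (h j).1, hij],
      Matrix.det_diagonal]
    have hp : ∀ i, μ i = (if μ i = 1 then (1 : ℂ) else 1) * (if μ i = ω then ω else 1) *
        (if μ i = ω ^ 2 then ω ^ 2 else 1) := fun i => by
      rcases hμ i with e | e | e <;> rw [e] <;> simp [n1, n2, n3, n1.symm, n2.symm, n3.symm]
    rw [Finset.prod_congr rfl fun i _ => hp i]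
    simp only [Finset.prod_mul_distrib, ← Finset.prod_filter, Finset.prod_const, hA, one_pow, one_mul, pow_add,
      pow_mul]

/-- A character of degree 10 vanishing at the elements of order divisible by 5 takes the value `-5` at the
elements of order 3 commuting with one of order 5. -/
theorem ten_value [IsSimpleGroup G] (hG : ¬ IsMulCommutative G) (χ : IrrCharacter G)
    (hd : charDegree (χ : G → ℂ) = 10) {x w : G} (hx : orderOf x = 5) (hw : orderOf w = 3) (hxw : Commute x w)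
    (hvan : ∀ g : G, 5 ∣ orderOf g → (χ : G → ℂ) g = 0) : (χ : G → ℂ) w = -5 := by
  set ω : ℂ := Complex.exp (2 * Real.pi * Complex.I / (3 : ℕ))
  have hω : IsPrimitiveRoot ω 3 := Complex.isPrimitiveRoot_exp 3 (by norm_num)
  obtain ⟨n, ρ, hρ, he⟩ := χ.2
  have hn : Module.finrank ℂ (Fin n → ℂ) = 10 := by
    rw [← hd]
    apply Nat.cast_injective (R := ℂ)
    rw [← irr_one_eq, ← he, Representation.char_one]
  have hw3 : w ^ 3 = 1 := hw ▸ pow_orderOf_eq_one w
  obtain ⟨p, q, r, hsum, ht1, ht2, hdet⟩ := three_eigen (ρ w) (by rw [← map_pow, hw3, map_one]) hω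
  rw [det_eq_one hG ρ w] at hdet
  rw [hn] at hsum
  have hg1 : (χ : G → ℂ) w = (p : ℂ) + q * ω + r * ω ^ 2 := by rw [← he]; exact ht1
  have hg2 : (χ : G → ℂ) (w ^ 2) = (p : ℂ) + q * ω ^ 2 + r * ω := by
    rw [← he]
    show LinearMap.trace ℂ _ (ρ (w ^ 2)) = _
    rw [map_pow]; exact ht2
  have h1 : 1 + ω + ω ^ 2 = 0 := by
    have := hω.geom_sum_eq_zero (by norm_num)
    simpa [Finset.sum_range_succ] using this
  have tw : ∀ μ : ℂ, μ ^ 3 = 1 → ∃ m : ℕ, (10 : ℂ) + (χ : G → ℂ) w * μ + (χ : G → ℂ) (w ^ 2) * μ ^ 2 = 15 * m := by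
    intro μ hμ
    obtain ⟨m, hm⟩ := twist_five χ hx hw hxw (K := 2) (by decide) (by norm_num) hvan hμ
    refine ⟨m, ?_⟩
    simp only [Finset.sum_range_succ, Finset.sum_range_zero, pow_zero, pow_one, irr_one_eq, hd] at hm
    push_cast at hm
    linear_combination hm
  obtain ⟨m0, e0⟩ := tw 1 (one_pow 3)
  obtain ⟨m1, e1⟩ := tw (ω ^ 2) (by rw [← pow_mul, mul_comm, pow_mul, hω.pow_eq_one, one_pow])
  obtain ⟨m2, e2⟩ := tw ω hω.pow_eq_one
  rw [hg1, hg2] at e0 e1 e2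
  have h10 : (p : ℂ) + q + r = 10 := by exact_mod_cast hsum.symm
  have hp : p = 5 * m0 := by
    have : (3 * p : ℂ) = 3 * (5 * m0 : ℕ) := by
      push_cast; linear_combination e0 + h10 - ((q : ℂ) + r) * h1
    exact_mod_cast mul_left_cancel₀ (by norm_num : (3 : ℂ) ≠ 0) this
  have hq : q = 5 * m1 := by
    have : (3 * q : ℂ) = 3 * (5 * m1 : ℕ) := by
      push_cast
      linear_combination e1 + h10 - (q : ℂ) * (2 + ω ^ 3) * hω.pow_eq_one - ((p : ℂ) + r) * h1
        - ((p : ℂ) * ω + (r : ℂ) * (ω + ω ^ 2)) * hω.pow_eq_one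
    exact_mod_cast mul_left_cancel₀ (by norm_num : (3 : ℂ) ≠ 0) this
  have hdet' : 3 ∣ q + 2 * r := (hω.pow_eq_one_iff_dvd _).mp hdet.symm
  have hw1 : w ≠ 1 := fun h => by rw [h, orderOf_one] at hw; omega
  have hlt := M11Tools.norm_lt hG χ (by omega) hw1
  have hcases : (p = 0 ∧ q = 5 ∧ r = 5) ∨ p = 10 := by omega
  rcases hcases with ⟨rfl, rfl, rfl⟩ | rfl
  · rw [hg1]; push_cast; linear_combination (5 : ℂ) * h1
  · obtain ⟨rfl, rfl⟩ : q = 0 ∧ r = 0 := by omega
    rw [hg1, hd] at hlt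
    norm_num at hlt

end CfsgLib.KGroups.M12Reps
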