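import Cfsg.Agent.Lib.KGroups.M12Involution
import Cfsg.Agent.Lib.KGroups.M12Reps

/-!
# The degrees in the principal 11-block of a simple group of order 95040
-/

set_option autoImplicit false

namespace CfsgLib.KGroups.M12Block

open Cfsg CfsgLib.Blocks CfsgLib.KGroups.M11Tools CfsgLib.KGroups.M12Tools CfsgLib.KGroups.M12Local
  CfsgLib.KGroups.M12Check CfsgLib.KGroups.M12Involution CfsgLib.KGroups.M12Reps Subgroup
open CfsgLib.SmallGroups
open scoped Classical

/-- The centraliser orders of an involution commuting with an element of order 5. -/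
def fiveOrders : List ℕ :=
  [10, 20, 30, 40, 60, 80, 90, 120, 160, 180, 240, 270, 320, 360, 480, 540, 720, 960, 1080, 1440, 2160, 2880, 4320,
    8640]

theorem mem_fiveOrders (C : ℕ) (_hC : C ∈ Finset.range 8641) (h : C ∣ 8640) (h10 : 10 ∣ C) : C ∈ fiveOrders := by
  obtain ⟨k, rfl⟩ := h10
  have hk : k ∣ 32 * 27 := Nat.dvd_of_mul_dvd_mul_left (by norm_num : 0 < 10) (by simpa using h)
  obtain ⟨a, b, ha, hb, rfl⟩ := Nat.dvd_mul.mp hk
  have key : ∀ a ∈ Finset.range 33, ∀ b ∈ Finset.range 28, a ∣ 32 → b ∣ 27 → 10 * (a * b) ∈ fiveOrders := by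
    decide +kernel
  exact key a (Finset.mem_range.mpr (Nat.lt_succ_of_le (Nat.le_of_dvd (by norm_num) ha))) b
    (Finset.mem_range.mpr (Nat.lt_succ_of_le (Nat.le_of_dvd (by norm_num) hb))) ha hb

theorem z_none : ∀ C ∈ fiveOrders, (tSols C 45 (-54) (-120) (-32)).isEmpty = true := by decide +kernel

variable {G : Type*} [Group G] [Fintype G] [IsSimpleGroup G] (hG : Nat.card G = 95040)

include hG in
theorem vanish_five (χ : IrrCharacter G) (hd : 5 ∣ charDegree (χ : G → ℂ)) (g : G) (hg : 5 ∣ orderOf g) :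
    (χ : G → ℂ) g = 0 :=
  vanish χ Nat.prime_five (n := 1) (by rw [hG]; norm_num) (by rw [hG]; norm_num) (by rwa [pow_one]) hg

include hG in
theorem vanish_three (χ : IrrCharacter G) (hd : 27 ∣ charDegree (χ : G → ℂ)) (g : G) (hg : 3 ∣ orderOf g) :
    (χ : G → ℂ) g = 0 :=
  vanish χ Nat.prime_three (n := 3) (by rw [hG]; norm_num) (by rw [hG]; norm_num) (by norm_num; exact hd) hg

include hG in
theorem eleven_dvd_false [Fact (Nat.Prime 11)] {g y : G} (hg : orderOf g ≠ 1) (h11 : ¬ 11 ∣ orderOf g)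
    (hy : orderOf y = 11) (hc : Commute y g) : False := by
  obtain ⟨Q, hQ⟩ := (IsPGroup.of_card (n := 1) (by rw [Nat.card_zpowers, hy, pow_one]) :
    IsPGroup 11 ↥(zpowers y)).exists_le_sylow
  have hQc := M12Local.card_sylow_eleven hG Q
  have heq : zpowers y = (Q : Subgroup G) :=
    Subgroup.eq_of_le_of_card_ge hQ (by rw [hQc, Nat.card_zpowers, hy])
  have hgC : g ∈ centralizer ((Q : Subgroup G) : Set G) := by
    rw [← heq, zpowers_eq_closure, centralizer_closure]
    exact mem_centralizer_singleton_iff.mpr hc.symm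
  have hd := Subgroup.orderOf_dvd_natCard _ hgC
  rw [(normalizer_eleven hG Q).2] at hd
  rcases (Nat.dvd_prime (by norm_num)).mp hd with h | h
  · exact hg h
  · exact h11 (h ▸ dvd_rfl)

include hG in
theorem card_sylow_five [Fact (Nat.Prime 5)] (P : Sylow 5 G) : Nat.card (P : Subgroup G) = 5 :=
  (SimpleTools.card_sylow_subgroup (k := 1) (m := 19008) (by rw [hG]; norm_num) (by norm_num) P).trans (pow_one _)

include hG in
/-- The Sylow 5-normaliser, first step. -/
theorem five_cases [Fact (Nat.Prime 5)] [Fact (Nat.Prime 11)] (P : Sylow 5 G) :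
    ∃ e k : ℕ, Nat.card (normalizer ((P : Subgroup G) : Set G)) = e * (5 * k) ∧
      Nat.card (centralizer ((P : Subgroup G) : Set G)) = 5 * k ∧
      ((e = 4 ∧ k = 2) ∨ (e = 4 ∧ k = 12) ∨ (e = 4 ∧ k = 72) ∨ (e = 4 ∧ k = 432) ∨ (e = 4 ∧ k = 27) ∨
        (e = 2 ∧ k = 9) ∨ (e = 2 ∧ (k = 4 ∨ k = 24 ∨ k = 54 ∨ k = 144 ∨ k = 864))) := by
  have hna := M12Local.not_comm hG
  have hP := card_sylow_five hG P
  obtain ⟨e, k, he1, he, hN, hC⟩ := LocalTools.exists_e hna P hP
  refine ⟨e, k, hN, hC, ?_⟩
  have h11 : ¬ 11 ∣ k := fun h => by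
    obtain ⟨⟨y, hyC⟩, hy⟩ := exists_prime_orderOf_dvd_card' (G := ↥(centralizer ((P : Subgroup G) : Set G))) 11
      (hC ▸ h.mul_left 5)
    rw [Subgroup.orderOf_mk] at hy
    obtain ⟨x, hxP, hx, -⟩ := PrimeOrder.exists_generator P hP
    exact eleven_dvd_false hG (g := x) (by omega) (by rw [hx]; norm_num) hy
      (show Commute y x from (mem_centralizer_iff.mp hyC x hxP).symm)
  have hn := SimpleTools.card_sylow_mem (G := G) (p := 5) (k := 1) (m := 19008)
    (by rw [hG]; norm_num) (by norm_num)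
  have hne1 := SimpleTools.card_sylow_ne_one (p := 5) hna (by rw [hG]; norm_num)
  have hmul : Nat.card (Sylow 5 G) * Nat.card (normalizer ((P : Subgroup G) : Set G)) = Nat.card G :=
    SimpleTools.card_normalizer_mul P
  rw [hG, hN] at hmul
  have hcases : Nat.card (Sylow 5 G) ∈
      ({6, 11, 16, 36, 66, 96, 176, 216, 396, 576, 1056, 2376, 6336} : Finset ℕ) := by
    have key : ∀ n ∈ (Nat.divisors 19008).filter (fun n => n % 5 = 1), n ≠ 1 →
        n ∈ ({6, 11, 16, 36, 66, 96, 176, 216, 396, 576, 1056, 2376, 6336} : Finset ℕ) := by decide +kernel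
    exact key _ hn hne1
  have he4 : e ∈ Nat.divisors 4 := Nat.mem_divisors.mpr ⟨he, by norm_num⟩
  simp only [Finset.mem_insert, Finset.mem_singleton] at hcases
  rcases hcases with h | h | h | h | h | h | h | h | h | h | h | h | h <;> rw [h] at hmul <;>
    fin_cases he4 <;> omega

include hG in
theorem card_centralizer_gen [Fact (Nat.Prime 5)] (P : Sylow 5 G) {x : G}
    (hzp : zpowers x = (P : Subgroup G)) :
    Nat.card (centralizer ({x} : Set G)) = Nat.card (centralizer ((P : Subgroup G) : Set G)) := by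
  rw [← centralizer_closure, ← zpowers_eq_closure, hzp]

include hG in
/-- An element of order 5, and the order of its centraliser. -/
theorem exists_five [Fact (Nat.Prime 11)] : ∃ (x : G) (k : ℕ), orderOf x = 5 ∧
    Nat.card (centralizer ({x} : Set G)) = 5 * k ∧ (2 ∣ k ∨ k = 9 ∨ k = 27) := by
  haveI : Fact (Nat.Prime 5) := ⟨by norm_num⟩
  obtain ⟨P⟩ : Nonempty (Sylow 5 G) := inferInstance
  obtain ⟨e, k, -, hC, h⟩ := five_cases hG P
  obtain ⟨x, -, hx, hzp⟩ := PrimeOrder.exists_generator P (card_sylow_five hG P)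
  exact ⟨x, k, hx, (card_centralizer_gen hG P hzp).trans hC, by omega⟩

include hG in
/-- No character of degree 5 is rational at the elements of order 3 and 9. -/
theorem no_five (θ : IrrCharacter G) (hd : charDegree (θ : G → ℂ) = 5)
    (hint : ∀ g : G, ¬ 11 ∣ orderOf g → ∃ n : ℤ, (θ : G → ℂ) g = n) : False := by
  have hna := M12Local.not_comm hG
  have hne : θ ≠ trivChar G := fun h => by rw [h] at hd; simp [charDegree] at hd
  haveI : Fact (Nat.Prime 3) := ⟨Nat.prime_three⟩
  set ω : ℂ := Complex.exp (2 * Real.pi * Complex.I / (3 : ℕ))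
  have hω : IsPrimitiveRoot ω 3 := Complex.isPrimitiveRoot_exp 3 (by norm_num)
  have hsum : ω + ω ^ 2 = -1 := by
    have := hω.geom_sum_eq_zero (by norm_num)
    simp [Finset.sum_range_succ] at this
    linear_combination this
  have h3 : ∀ w : G, orderOf w = 3 → ∃ v : ℤ, (θ : G → ℂ) w = v ∧ (v = 2 ∨ v = -1) := by
    intro w hw
    obtain ⟨v, hv⟩ := hint w (by rw [hw]; norm_num)
    have hlt := ValueTools.lt_degree hna hne (show w ≠ 1 from fun h => by rw [h, orderOf_one] at hw; omega) hv
    rw [hd] at hlt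
    obtain ⟨m, hm⟩ := twist_nat θ hw (μ := ω) hω.pow_eq_one
    simp only [Finset.sum_range_succ, Finset.sum_range_zero, pow_zero, pow_one, irr_one_eq, hd, hv,
      pow_value θ w (j := 2) (by rw [hw]; norm_num) hv] at hm
    have : (5 - v : ℂ) = (3 * m : ℕ) := by push_cast at hm ⊢; linear_combination hm - (v : ℂ) * hsum
    have : (5 : ℤ) - v = 3 * m := by exact_mod_cast this
    obtain ⟨m', hm'⟩ := twist_nat θ hw (μ := 1) (one_pow 3)
    simp only [Finset.sum_range_succ, Finset.sum_range_zero, pow_zero, pow_one, irr_one_eq, hd, hv,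
      pow_value θ w (j := 2) (by rw [hw]; norm_num) hv, one_pow, mul_one] at hm'
    have : (5 : ℤ) + 2 * v = 3 * m' := by
      have h' : (5 + 2 * v : ℂ) = (3 * m' : ℕ) := by push_cast at hm' ⊢; linear_combination hm'
      exact_mod_cast h'
    exact ⟨v, hv, by omega⟩
  have h9 : ∀ u : G, orderOf u ≠ 9 := by
    intro u hu
    obtain ⟨v, hv, hv'⟩ := h3 (u ^ 3) (by rw [orderOf_pow, hu]; norm_num)
    obtain ⟨c, hc⟩ := hint u (by rw [hu]; norm_num)
    have hv6 : (θ : G → ℂ) (u ^ 6) = v := by
      rw [show u ^ 6 = (u ^ 3) ^ 2 from pow_mul u 3 2]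
      exact pow_value θ _ (by rw [orderOf_pow, hu]; norm_num) hv
    set ν : ℂ := Complex.exp (2 * Real.pi * Complex.I / (9 : ℕ))
    have hν : IsPrimitiveRoot ν 9 := Complex.isPrimitiveRoot_exp 9 (by norm_num)
    have h36 : ν ^ 6 + ν ^ 3 + 1 = 0 := by
      have h := (hν.pow (show (0 : ℕ) < 9 by norm_num) (show (9 : ℕ) = 3 * 3 by norm_num)).geom_sum_eq_zero
        (by norm_num)
      simp [Finset.sum_range_succ, ← pow_mul] at h
      linear_combination h
    obtain ⟨m, hm⟩ := twist_nat θ hu (μ := ν) hν.pow_eq_one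
    have hc' : ∀ j, j.Coprime 9 → (θ : G → ℂ) (u ^ j) = c := fun j hj => pow_value θ u (by rwa [hu]) hc
    simp only [Finset.sum_range_succ, Finset.sum_range_zero, pow_zero, pow_one, irr_one_eq, hd, hv, hv6, hc,
      hc' 2 (by norm_num), hc' 4 (by norm_num), hc' 5 (by norm_num), hc' 7 (by norm_num), hc' 8 (by norm_num)] at hm
    have : (5 - v : ℂ) = (9 * m : ℕ) := by
      push_cast at hm ⊢
      linear_combination hm - (v : ℂ) * h36 - (c : ℂ) * (ν + ν ^ 2) * h36
    have : (5 : ℤ) - v = 9 * m := by exact_mod_cast this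
    omega
  obtain ⟨S⟩ : Nonempty (Sylow 3 G) := inferInstance
  have hS : Nat.card (S : Subgroup G) = 27 :=
    (SimpleTools.card_sylow_subgroup (k := 3) (m := 3520) (by rw [hG]; norm_num) (by norm_num) S).trans (by norm_num)
  have hord : ∀ s : (S : Subgroup G), s ≠ 1 → orderOf (s : G) = 3 := by
    intro s hs
    have h := Subgroup.orderOf_dvd_natCard _ s.2
    rw [hS, show (27 : ℕ) = 3 ^ 3 from rfl] at h
    obtain ⟨k, hk, hk'⟩ := (Nat.dvd_prime_pow Nat.prime_three).mp h
    interval_cases k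
    · exact absurd (Subtype.ext (orderOf_eq_one_iff.mp (by simpa using hk'))) hs
    · simpa using hk'
    · exact absurd (by simpa using hk') (h9 (s : G))
    · exact absurd (show orderOf ((s : G) ^ 3) = 9 by rw [orderOf_pow, hk']; norm_num) (h9 _)
  obtain ⟨m, hm⟩ := ValueTools.exists_mult θ (S : Subgroup G)
  have hres := CfsgLib.Char.IsCharacter.restrict (Char.isCharacter_irr θ) (S : Subgroup G)
  obtain ⟨m', hm'⟩ := CfsgLib.Char.IsCharacter.classInner_nat hres hres
  have hval : ∀ s : (S : Subgroup G), s ≠ 1 → ∃ v : ℤ, (θ : G → ℂ) s = v ∧ v * v = v + 2 := fun s hs => by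
    obtain ⟨v, hv, hv'⟩ := h3 _ (hord s hs)
    exact ⟨v, hv, by rcases hv' with rfl | rfl <;> norm_num⟩
  rw [Cfsg.classInner, hS] at hm'
  rw [hS, Finset.sum_eq_add_sum_sdiff_singleton_of_mem (Finset.mem_univ (1 : (S : Subgroup G)))] at hm
  have hm'' : ∑ s : (S : Subgroup G), (θ : G → ℂ) s * (starRingEnd ℂ) ((θ : G → ℂ) s) = 27 * m' := by
    rw [← hm']; push_cast; field_simp
  rw [Finset.sum_eq_add_sum_sdiff_singleton_of_mem (Finset.mem_univ (1 : (S : Subgroup G))),
    Finset.sum_congr rfl (g := fun s : (S : Subgroup G) => (θ : G → ℂ) s + 2) fun s hs => by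
      rw [Finset.mem_sdiff, Finset.mem_singleton] at hs
      obtain ⟨v, hv, hv'⟩ := hval s hs.2
      rw [hv, map_intCast, ← Int.cast_mul, hv']; push_cast; rfl,
    Finset.sum_add_distrib, Finset.sum_const, Finset.card_sdiff_of_subset (Finset.subset_univ _),
    Finset.card_singleton, Finset.card_univ, ← Nat.card_eq_fintype_card, hS] at hm''
  simp only [OneMemClass.coe_one, irr_one_eq, hd, nsmul_eq_mul, map_natCast] at hm hm''
  have : (72 : ℂ) + 27 * m = 27 * m' := by push_cast at hm hm''; linear_combination hm'' - hm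
  have : 72 + 27 * m = 27 * m' := by exact_mod_cast this
  omega

include hG in
/-- Degree 10 does not occur once, nor three times beside a degree 45. -/
theorem no_ten [Fact (Nat.Prime 11)] {P : Sylow 11 G} (F : Frame 11 5 P) {a b c d : IrrCharacter G}
    (nab : a ≠ b) (nac : a ≠ c) (nad : a ≠ d) (nbc : b ≠ c) (nbd : b ≠ d) (ncd : c ≠ d)
    (hset : F.X' = {a, b, c, d}) (ha : charDegree (a : G → ℂ) = 10)
    (h : (∀ ψ ∈ F.X', charDegree (ψ : G → ℂ) = 10 → ψ = a) ∨
      (charDegree (b : G → ℂ) = 10 ∧ charDegree (c : G → ℂ) = 10 ∧ charDegree (d : G → ℂ) = 45)) : False := by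
  have hna := M12Local.not_comm hG
  have hma : a ∈ F.X' := by simp [hset]
  obtain ⟨x, k, hx, hC, hk⟩ := exists_five hG
  have hmemC : ∀ g : G, g ∈ centralizer ({x} : Set G) → Commute x g := fun g hg =>
    (mem_centralizer_singleton_iff.mp hg).symm
  rcases hk with hk | hk
  · -- an involution commuting with `x`
    obtain ⟨⟨z, hzC⟩, hz⟩ := exists_prime_orderOf_dvd_card' (G := ↥(centralizer ({x} : Set G))) 2
      (hC ▸ hk.mul_left 5)
    rw [Subgroup.orderOf_mk] at hz
    obtain ⟨v, hv⟩ := exists_int_two a hz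
    obtain ⟨m, hm⟩ := twist_five a hx hz (hmemC z hzC) (K := 1) (by decide) (by norm_num)
      (vanish_five hG a (by omega)) (one_pow 2)
    simp only [Finset.sum_range_succ, Finset.sum_range_zero, pow_zero, pow_one, irr_one_eq, ha, hv, mul_one] at hm
    have : (10 : ℤ) + v = 10 * m := by
      have h' : ((10 : ℤ) + v : ℂ) = (10 * m : ℕ) := by push_cast at hm ⊢; linear_combination hm
      exact_mod_cast h'
    have hlt := ValueTools.lt_degree hna (F.mem_X hma).2
      (show z ≠ 1 from fun h => by rw [h, orderOf_one] at hz; omega) hv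
    have := ValueTools.mod_four hna a hz hv
    omega
  · -- a subgroup of order 9 commuting with `x`
    haveI : Fact (Nat.Prime 3) := ⟨Nat.prime_three⟩
    obtain ⟨K, hK⟩ := Sylow.exists_subgroup_card_pow_prime 3 (n := 2)
      (show 3 ^ 2 ∣ Nat.card (centralizer ({x} : Set G)) by rcases hk with rfl | rfl <;> rw [hC] <;> norm_num)
    have hKc : Nat.card K = 9 := by rw [hK]; norm_num
    by_cases hall : ∀ u : K, u ≠ 1 → orderOf ((u : centralizer ({x} : Set G)) : G) = 3
    · obtain ⟨m, hm⟩ := ValueTools.exists_mult a (K.map (centralizer ({x} : Set G)).subtype)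
      rw [Subgroup.card_map_of_injective (centralizer ({x} : Set G)).subtype_injective, hKc,
        ← (K.equivMapOfInjective _ (centralizer ({x} : Set G)).subtype_injective).toEquiv.sum_comp,
        Finset.sum_eq_add_sum_sdiff_singleton_of_mem (Finset.mem_univ (1 : K))] at hm
      simp only [MulEquiv.toEquiv_eq_coe, MulEquiv.coe_toEquiv, Subgroup.coe_equivMapOfInjective_apply] at hm
      rw [Finset.sum_congr rfl (g := fun _ => (-5 : ℂ)) fun u hu => by
          rw [Finset.mem_sdiff, Finset.mem_singleton] at hu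
          exact ten_value hna a ha hx (hall u hu.2) (hmemC _ (u : centralizer ({x} : Set G)).2)
            (vanish_five hG a (by omega)),
        Finset.sum_const, Finset.card_sdiff_of_subset (Finset.subset_univ _), Finset.card_singleton,
        Finset.card_univ, ← Nat.card_eq_fintype_card, hKc] at hm
      simp only [OneMemClass.coe_one, map_one, irr_one_eq, ha, nsmul_eq_mul] at hm
      have : (10 : ℤ) - 40 = 9 * m := by
        have h' : (((10 : ℤ) - 40 : ℤ) : ℂ) = (((9 * m : ℕ) : ℤ) : ℂ) := by push_cast at hm ⊢; linear_combination hm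
        exact_mod_cast h'
      omega
    · simp only [not_forall] at hall
      obtain ⟨u₀, hu1, hu3⟩ := hall
      set u : G := ((u₀ : centralizer ({x} : Set G)) : G)
      have hu : orderOf u = 9 := by
        have h' : orderOf u₀ ∣ 9 := hKc ▸ orderOf_dvd_natCard u₀
        have e : orderOf u = orderOf u₀ := by simp only [u, Subgroup.orderOf_coe]
        rw [show (9 : ℕ) = 3 ^ 2 from rfl, Nat.dvd_prime_pow Nat.prime_three] at h'
        obtain ⟨j, hj, hj'⟩ := h'
        interval_cases j
        · exact absurd (orderOf_eq_one_iff.mp (by simpa using hj')) hu1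
        · exact absurd (e.trans (by simpa using hj')) hu3
        · exact e.trans (by simpa using hj')
      have hxu : Commute x u := hmemC _ (u₀ : centralizer ({x} : Set G)).2
      have hw : orderOf (u ^ 3) = 3 := by rw [orderOf_pow, hu]; norm_num
      have hw6 : orderOf (u ^ 6) = 3 := by rw [orderOf_pow, hu]; norm_num
      set ν : ℂ := Complex.exp (2 * Real.pi * Complex.I / (9 : ℕ))
      have hν : IsPrimitiveRoot ν 9 := Complex.isPrimitiveRoot_exp 9 (by norm_num)
      have h36 : ν ^ 6 + ν ^ 3 + 1 = 0 := by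
        have h := (hν.pow (show (0 : ℕ) < 9 by norm_num) (show (9 : ℕ) = 3 * 3 by norm_num)).geom_sum_eq_zero
          (by norm_num)
        simp [Finset.sum_range_succ, ← pow_mul] at h
        linear_combination h
      -- the twisted sum of a rational character
      have twist : ∀ χ : IrrCharacter G, 5 ∣ charDegree (χ : G → ℂ) → (∀ g, ∃ n : ℤ, (χ : G → ℂ) g = n) →
          ∃ (v : ℤ) (m : ℕ), (χ : G → ℂ) (u ^ 3) = v ∧ (charDegree (χ : G → ℂ) : ℤ) - v = 45 * m := by
        intro χ h5 hint
        obtain ⟨v, hv⟩ := hint (u ^ 3)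
        obtain ⟨c', hc⟩ := hint u
        have hv6 : (χ : G → ℂ) (u ^ 6) = v := by
          rw [show u ^ 6 = (u ^ 3) ^ 2 from pow_mul u 3 2]
          exact pow_value χ _ (by rw [hw]; norm_num) hv
        obtain ⟨m, hm⟩ := twist_five χ hx hu hxu (K := 2) (by decide) (by norm_num) (vanish_five hG χ h5)
          (μ := ν) hν.pow_eq_one
        have hc' : ∀ j, j.Coprime 9 → (χ : G → ℂ) (u ^ j) = c' := fun j hj => pow_value χ u (by rwa [hu]) hc
        simp only [Finset.sum_range_succ, Finset.sum_range_zero, pow_zero, pow_one, irr_one_eq, hv, hv6, hc,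
          hc' 2 (by norm_num), hc' 4 (by norm_num), hc' 5 (by norm_num), hc' 7 (by norm_num),
          hc' 8 (by norm_num)] at hm
        refine ⟨v, m, hv, ?_⟩
        have h' : (((charDegree (χ : G → ℂ) : ℤ) - v : ℤ) : ℂ) = (((45 * m : ℕ) : ℤ) : ℂ) := by
          push_cast at hm ⊢
          linear_combination hm - (v : ℂ) * h36 - (c' : ℂ) * (ν + ν ^ 2) * h36
        exact_mod_cast h'
      rcases h with h | ⟨hb, hc, hd⟩
      · obtain ⟨v, m, hv, he⟩ := twist a (by omega)
          (exists_int_unique hG F hma fun ψ hψ e => h ψ hψ (e.trans ha))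
        rw [ten_value hna a ha hx hw (hxu.pow_right 3) (vanish_five hG a (by omega))] at hv
        have : v = -5 := by exact_mod_cast hv.symm
        omega
      · have hmd : d ∈ F.X' := by simp [hset]
        have huniq : ∀ ψ ∈ F.X', charDegree (ψ : G → ℂ) = charDegree (d : G → ℂ) → ψ = d := by
          intro ψ hψ e
          rw [hset] at hψ
          simp only [Finset.mem_insert, Finset.mem_singleton] at hψ
          rcases hψ with rfl | rfl | rfl | rfl <;> first | rfl | omega
        obtain ⟨v, m, hv, he⟩ := twist d (by omega) (exists_int_unique hG F hmd huniq)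
        have hw1 : u ^ 3 ≠ 1 := fun e => by rw [e, orderOf_one] at hw; omega
        have hlt := ValueTools.lt_degree hna (F.mem_X hmd).2 hw1 hv
        rw [hd] at he hlt
        obtain rfl : v = 0 := by omega
        obtain ⟨θ, hθ⟩ : F.Y.Nonempty := Finset.card_pos.1 (by rw [F.hY]; norm_num)
        have hth := th_eq hG F nab nac nad nbc nbd ncd hset hθ
        have hmb : b ∈ F.X' := by simp [hset]
        have hmc : c ∈ F.X' := by simp [hset]
        have sgn10 : ∀ χ ∈ F.X', charDegree (χ : G → ℂ) = 10 → F.sgn χ = -1 := fun χ hχ e => by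
          rcases deg_cases hG F hχ with ⟨-, h | h | h⟩ | ⟨h', -⟩ <;> omega
        have sd45 : F.sgn d = 1 := by
          rcases deg_cases hG F hmd with ⟨h', -⟩ | ⟨-, h | h | h | h⟩ <;> omega
        simp only [th, sd, sgn10 a hma ha, sgn10 b hmb hb, sgn10 c hmc hc, sd45, ha, hb, hc, hd] at hth
        norm_num at hth
        have hε : F.εy = 1 ∧ charDegree (θ : G → ℂ) = 16 := by
          rcases F.hεy with e | e <;> rw [e] at hth <;> omega
        have h1 := F.rel_split (triv_memX hG F) hθ (u ^ 3) (by rw [hw]; norm_num)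
        rw [hset, Finset.sum_insert (by simp [nab, nac, nad]), Finset.sum_insert (by simp [nbc, nbd]),
          Finset.sum_pair ncd, sgn10 a hma ha, sgn10 b hmb hb, sgn10 c hmc hc, sd45, hε.1, hv,
          ten_value hna a ha hx hw (hxu.pow_right 3) (vanish_five hG a (by omega)),
          ten_value hna b hb hx hw (hxu.pow_right 3) (vanish_five hG b (by omega)),
          ten_value hna c hc hx hw (hxu.pow_right 3) (vanish_five hG c (by omega))] at h1
        have hθv : (θ : G → ℂ) (u ^ 3) = ((16 : ℤ) : ℂ) := by push_cast at h1 ⊢; linear_combination h1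
        have := ValueTools.lt_degree hna (theta_ne_triv hG F hθ) hw1 hθv
        omega

include hG in
/-- Beside a rational character of degree 54 an element of order 5 commutes with an involution. -/
theorem exists_commuting_involution [Fact (Nat.Prime 11)] (χ : IrrCharacter G)
    (hd : charDegree (χ : G → ℂ) = 54) (hint : ∀ g, ∃ n : ℤ, (χ : G → ℂ) g = n) :
    ∃ x z : G, orderOf x = 5 ∧ orderOf z = 2 ∧ Commute x z := by
  obtain ⟨x, k, hx, hC, hk⟩ := exists_five hG
  rcases hk with hk | hk
  · obtain ⟨⟨z, hzC⟩, hz⟩ := exists_prime_orderOf_dvd_card' (G := ↥(centralizer ({x} : Set G))) 2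
      (hC ▸ hk.mul_left 5)
    rw [Subgroup.orderOf_mk] at hz
    exact ⟨x, z, hx, hz, (mem_centralizer_singleton_iff.mp hzC).symm⟩
  exfalso
  set C := centralizer ({x} : Set G)
  obtain ⟨a, ha⟩ := hint x
  have hxC : x ∈ C := mem_centralizer_singleton_iff.mpr rfl
  have hzero : ∀ g : C, ¬ 3 ∣ orderOf (g : G) → g ∈ zpowers (⟨x, hxC⟩ : C) := fun g hg => by
    have hd5 : orderOf g ∣ 5 := by
      have h' : orderOf g ∣ 5 * k := hC ▸ orderOf_dvd_natCard g
      rw [← Subgroup.orderOf_coe] at h' ⊢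
      have hk' : k ∣ 27 := by rcases hk with rfl | rfl <;> norm_num
      have hcop : Nat.Coprime (orderOf (g : G)) 27 := by
        rw [show (27 : ℕ) = 3 ^ 3 from rfl]
        exact ((Nat.prime_three.coprime_iff_not_dvd).mpr hg).symm.pow_right 3
      exact hcop.dvd_of_dvd_mul_right (h'.trans (mul_dvd_mul_left 5 hk'))
    haveI : Fact (Nat.Prime 5) := ⟨Nat.prime_five⟩
    rcases (Nat.dvd_prime Nat.prime_five).mp hd5 with e | e
    · rw [orderOf_eq_one_iff.mp e]; exact one_mem _
    · obtain ⟨Q⟩ : Nonempty (Sylow 5 C) := inferInstance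
      have hQ : Nat.card (Q : Subgroup C) = 5 :=
        (SimpleTools.card_sylow_subgroup (k := 1) (m := k) (by rw [hC, pow_one])
          (by rcases hk with rfl | rfl <;> norm_num) Q).trans (pow_one _)
      have hxo : orderOf (⟨x, hxC⟩ : C) = 5 := by rw [Subgroup.orderOf_mk]; exact hx
      have hn : (zpowers (⟨x, hxC⟩ : C)).Normal := ⟨fun n hn g' => by
        obtain ⟨i, rfl⟩ := mem_zpowers_iff.mp hn
        have hc : Commute g' (⟨x, hxC⟩ : C) := Subtype.ext (mem_centralizer_singleton_iff.mp g'.2)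
        rw [(hc.zpow_right i).eq, mul_assoc, mul_inv_cancel, mul_one]
        exact ⟨i, rfl⟩⟩
      obtain ⟨R, hR⟩ := (IsPGroup.of_card (n := 1) (by rw [Nat.card_zpowers, hxo, pow_one]) :
        IsPGroup 5 ↥(zpowers (⟨x, hxC⟩ : C))).exists_le_sylow
      obtain ⟨R', hR'⟩ := (IsPGroup.of_card (n := 1) (by rw [Nat.card_zpowers, e, pow_one]) :
        IsPGroup 5 ↥(zpowers g)).exists_le_sylow
      have hRc : Nat.card (R : Subgroup C) = 5 :=
        (SimpleTools.card_sylow_subgroup (k := 1) (m := k) (by rw [hC, pow_one])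
          (by rcases hk with rfl | rfl <;> norm_num) R).trans (pow_one _)
      have hRe : zpowers (⟨x, hxC⟩ : C) = (R : Subgroup C) :=
        Subgroup.eq_of_le_of_card_ge hR (by rw [hRc, Nat.card_zpowers, hxo])
      have := Sylow.unique_of_normal R (hRe ▸ hn)
      rw [hRe, Subsingleton.elim R R']
      exact hR' (mem_zpowers g)
  obtain ⟨m, hm⟩ := ValueTools.exists_mult χ C
  rw [hC, ← Finset.sum_subset (Finset.subset_univ ((zpowers (⟨x, hxC⟩ : C) : Set C).toFinset)) fun g _ hg =>
    vanish_three hG χ (by omega) _ (by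
      by_contra h3
      exact hg (Set.mem_toFinset.mpr (hzero g h3)))] at hm
  have hpow : ∀ i < 5, 0 < i → (χ : G → ℂ) (x ^ i) = a := fun i hi hi0 => pow_value χ x (by
    rw [hx]
    exact ((Nat.prime_five.coprime_iff_not_dvd).mpr fun h => by have := Nat.le_of_dvd hi0 h; omega).symm) ha
  have hsum : ∑ g ∈ (zpowers (⟨x, hxC⟩ : C) : Set C).toFinset, (χ : G → ℂ) (g : G) = 54 + 4 * (a : ℂ) := by
    have hxo : orderOf (⟨x, hxC⟩ : C) = 5 := by rw [Subgroup.orderOf_mk]; exact hx
    rw [show (zpowers (⟨x, hxC⟩ : C) : Set C).toFinset =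
      (Finset.range 5).image (fun i => (⟨x, hxC⟩ : C) ^ i) by
        ext g
        rw [Set.mem_toFinset, SetLike.mem_coe, mem_zpowers_iff_mem_range_orderOf, hxo],
      Finset.sum_image fun i hi j hj h => pow_injOn_Iio_orderOf
        (by rw [hxo]; exact Finset.mem_range.mp hi) (by rw [hxo]; exact Finset.mem_range.mp hj) h]
    simp only [Finset.sum_range_succ, Finset.sum_range_zero, SubmonoidClass.coe_pow]
    rw [pow_zero, irr_one_eq, hd, hpow 1 (by norm_num) (by norm_num), hpow 2 (by norm_num) (by norm_num),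
      hpow 3 (by norm_num) (by norm_num), hpow 4 (by norm_num) (by norm_num)]
    push_cast; ring
  rw [hsum] at hm
  have heq : (54 : ℤ) + 4 * a = 5 * k * m := by
    have h' : ((54 + 4 * a : ℤ) : ℂ) = (((5 * k * m : ℕ) : ℤ) : ℂ) := by push_cast at hm ⊢; linear_combination hm
    exact_mod_cast h'
  have hsq : a * a ≤ 5 * (k : ℤ) := by
    have h1 : ‖(χ : G → ℂ) x‖ ^ 2 ≤ (Nat.card C : ℝ) := (sum_norm_sq_column x).symm ▸
      Finset.single_le_sum (f := fun η : IrrCharacter G => ‖(η : G → ℂ) x‖ ^ 2)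
        (fun _ _ => sq_nonneg _) (Finset.mem_univ χ)
    rw [hC, ha, Complex.norm_intCast, sq_abs] at h1
    have h2 : ((a * a : ℤ) : ℝ) ≤ ((5 * k : ℕ) : ℤ) := by push_cast at h1 ⊢; linarith
    exact_mod_cast h2
  have ha11 : -11 ≤ a ∧ a ≤ 11 := by rcases hk with rfl | rfl <;> constructor <;> by_contra h <;> push_cast at hsq <;> nlinarith
  obtain ⟨hlo, hhi⟩ := ha11
  rcases hk with rfl | rfl <;> interval_cases a <;> omega

/-- The principal 11-block of degrees 1, 45, 54, 120, 144, 16, 16. -/
structure Data (G : Type*) [Group G] [Fintype G] [Fact (Nat.Prime 11)] where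
  P : Sylow 11 G
  F : Frame 11 5 P
  c45 : IrrCharacter G
  c54 : IrrCharacter G
  c120 : IrrCharacter G
  c144 : IrrCharacter G
  hset : F.X' = {c45, c54, c120, c144}
  d45 : charDegree (c45 : G → ℂ) = 45
  d54 : charDegree (c54 : G → ℂ) = 54
  d120 : charDegree (c120 : G → ℂ) = 120
  d144 : charDegree (c144 : G → ℂ) = 144
  s45 : F.sgn c45 = 1
  s54 : F.sgn c54 = -1
  s120 : F.sgn c120 = -1
  s144 : F.sgn c144 = 1
  hεy : F.εy = 1
  dθ : ∀ θ ∈ F.Y, charDegree (θ : G → ℂ) = 16

theorem perm_card {α : Type*} [DecidableEq α] {s : Finset α} {a b c d : α} (h : s.card = 4) (hs : ({a, b, c, d} : Finset α) ⊆ s)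
    (nab : a ≠ b) (nac : a ≠ c) (nad : a ≠ d) (nbc : b ≠ c) (nbd : b ≠ d) (ncd : c ≠ d) : s = {a, b, c, d} :=
  (Finset.eq_of_subset_of_card_le hs (by
    rw [h, Finset.card_insert_of_notMem (by simp [nab, nac, nad]),
      Finset.card_insert_of_notMem (by simp [nbc, nbd]), Finset.card_pair ncd])).symm

include hG in
/-- Every simple group of order 95040 has such a block. -/
theorem exists_data [Fact (Nat.Prime 11)] : Nonempty (Data G) := by
  have hna := M12Local.not_comm hG
  obtain ⟨P⟩ : Nonempty (Sylow 11 G) := inferInstance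
  obtain ⟨hN, hC⟩ := normalizer_eleven hG P
  obtain ⟨F⟩ := exists_frame (e := 5) (by norm_num) P (M12Local.card_sylow_eleven hG P) (by rw [hN, hC])
  have htX := triv_memX hG F
  obtain ⟨a, b, c, d, nab, nac, nad, nbc, nbd, ncd, hset⟩ :=
    Finset.card_eq_four.mp (show F.X'.card = 4 by have := F.card_X' htX; omega)
  obtain ⟨θ, hθ⟩ : F.Y.Nonempty := Finset.card_pos.1 (by rw [F.hY]; norm_num)
  have hth := th_eq hG F nab nac nad nbc nbd ncd hset hθ
  have hm : ∀ χ ∈ ({a, b, c, d} : Finset (IrrCharacter G)), χ ∈ F.X' := fun χ h => hset ▸ h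
  have hma := hm a (by simp)
  have hmb := hm b (by simp)
  have hmc := hm c (by simp)
  have hmd := hm d (by simp)
  -- the members of a given signed degree
  have pick : ∀ v : ℤ, [sd F a, sd F b, sd F c, sd F d].count v = 1 →
      ∃ χ ∈ F.X', sd F χ = v ∧ ∀ ψ ∈ F.X', sd F ψ = v → ψ = χ := by
    intro v hv
    simp only [List.count_cons, List.count_nil, beq_iff_eq] at hv
    rw [hset]
    by_cases e1 : sd F a = v
    · refine ⟨a, by simp, e1, fun ψ hψ e => ?_⟩
      simp only [Finset.mem_insert, Finset.mem_singleton] at hψ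
      rcases hψ with rfl | rfl | rfl | rfl <;> first | rfl | (simp [e1, e] at hv <;> split_ifs at hv <;> omega)
    by_cases e2 : sd F b = v
    · refine ⟨b, by simp, e2, fun ψ hψ e => ?_⟩
      simp only [Finset.mem_insert, Finset.mem_singleton] at hψ
      rcases hψ with rfl | rfl | rfl | rfl <;> first | rfl | exact absurd e e1 | (simp [e2, e] at hv <;> split_ifs at hv <;> omega)
    by_cases e3 : sd F c = v
    · refine ⟨c, by simp, e3, fun ψ hψ e => ?_⟩
      simp only [Finset.mem_insert, Finset.mem_singleton] at hψ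
      rcases hψ with rfl | rfl | rfl | rfl <;>
        first | rfl | exact absurd e e1 | exact absurd e e2 | (simp [e3, e] at hv <;> split_ifs at hv <;> omega)
    by_cases e4 : sd F d = v
    · refine ⟨d, by simp, e4, fun ψ hψ e => ?_⟩
      simp only [Finset.mem_insert, Finset.mem_singleton] at hψ
      rcases hψ with rfl | rfl | rfl | rfl <;> first | rfl | exact absurd e e1 | exact absurd e e2 | exact absurd e e3
    · simp [e1, e2, e3, e4] at hv
  have deg_of : ∀ χ ∈ F.X', ∀ v : ℤ, sd F χ = v → charDegree (χ : G → ℂ) = v.natAbs := fun χ h v e => by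
    rw [← e, natAbs_sd hG F (F.mem_X h).1]
  have sgn_of : ∀ χ ∈ F.X', ∀ v : ℤ, sd F χ = v → F.sgn χ = sg v := fun χ h v e => by
    rw [← e, sg_sd hG F (F.mem_X h).1]
  have sd_of_deg : ∀ χ ∈ F.X', charDegree (χ : G → ℂ) = 10 → sd F χ = -10 := fun χ h e => by
    rcases deg_cases hG F h with ⟨-, h' | h' | h'⟩ | ⟨h', -⟩ <;> first | omega | simp [sd, h', e]
  rcases classify _ (sd_mem hG F hma) _ (sd_mem hG F hmb) _ (sd_mem hG F hmc) _ (sd_mem hG F hmd)
    (valid_sd hG F nab nac nad nbc nbd ncd hset) with h5 | h5 | h10 | hfin | ht'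
  · exact (no_five hG θ (by rw [h5] at hth; rcases F.hεy with e | e <;> rw [e] at hth <;> omega)
        fun g hg => exists_int_theta hG F hθ hg).elim
  · exact (no_five hG θ (by rw [h5] at hth; rcases F.hεy with e | e <;> rw [e] at hth <;> omega)
        fun g hg => exists_int_theta hG F hθ hg).elim
  · exfalso
    simp only [tens, Bool.or_eq_true, Bool.and_eq_true, decide_eq_true_eq] at h10
    rcases h10 with h1 | ⟨h3, h45⟩
    · obtain ⟨χ, hχ, hχd, huniq⟩ := pick _ h1
      obtain ⟨A, B, C', D, n1, n2, n3, n4, n5, n6, hs'⟩ : ∃ A B C' D : IrrCharacter G, A ≠ B ∧ A ≠ C' ∧ A ≠ D ∧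
          B ≠ C' ∧ B ≠ D ∧ C' ≠ D ∧ F.X' = {A, B, C', D} ∧ A = χ := by
        obtain ⟨B, C', D, n4, n5, n6, he⟩ := Finset.card_eq_three.mp (show (F.X'.erase χ).card = 3 by
          rw [Finset.card_erase_of_mem hχ]; have := F.card_X' htX; omega)
        have hne : ∀ ψ ∈ ({B, C', D} : Finset (IrrCharacter G)), χ ≠ ψ := fun ψ h e =>
          Finset.notMem_erase χ F.X' (he ▸ e ▸ h)
        exact ⟨χ, B, C', D, hne B (by simp), hne C' (by simp), hne D (by simp), n4, n5, n6,
          by rw [← he, Finset.insert_erase hχ], rfl⟩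
      obtain ⟨hs', rfl⟩ := hs'
      exact no_ten hG F n1 n2 n3 n4 n5 n6 hs' (deg_of _ hχ _ hχd) (Or.inl fun ψ hψ e =>
        huniq ψ hψ (sd_of_deg ψ hψ e))
    · obtain ⟨D, hD, hDd, -⟩ := pick _ h45
      obtain ⟨A, B, C', n1, n2, n4, he⟩ := Finset.card_eq_three.mp (show (F.X'.erase D).card = 3 by
        rw [Finset.card_erase_of_mem hD]; have := F.card_X' htX; omega)
      have hne : ∀ ψ ∈ ({A, B, C'} : Finset (IrrCharacter G)), ψ ≠ D ∧ ψ ∈ F.X' := fun ψ h => by
        rw [← he] at h; exact Finset.mem_erase.mp h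
      have hten : ∀ ψ ∈ ({A, B, C'} : Finset (IrrCharacter G)), charDegree (ψ : G → ℂ) = 10 := by
        intro ψ h
        obtain ⟨hψD, hψ⟩ := hne ψ h
        refine (deg_of ψ hψ (-10) ?_).trans (by norm_num)
        by_contra hc
        simp only [List.count_cons, List.count_nil, beq_iff_eq] at h3 h45
        rw [hset] at hψ hD
        simp only [Finset.mem_insert, Finset.mem_singleton] at hψ hD
        rcases hψ with rfl | rfl | rfl | rfl <;> rcases hD with rfl | rfl | rfl | rfl <;>
          first | exact hψD rfl | (simp only [hc, hDd, if_false, if_true] at h3 h45; split_ifs at h3 <;> omega)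
      exact no_ten hG F n1 n2 (hne A (by simp)).1 n4 (hne B (by simp)).1 (hne C' (by simp)).1
        (by
          ext ψ
          conv_lhs => rw [← Finset.insert_erase hD, he]
          simp only [Finset.mem_insert, Finset.mem_singleton]
          tauto)
        (hten A (by simp)) (Or.inr ⟨hten B (by simp), hten C' (by simp), (deg_of D hD _ hDd).trans (by norm_num)⟩)
  · simp only [final, Bool.or_eq_true, Bool.and_eq_true, decide_eq_true_eq] at hfin
    obtain ⟨⟨⟨h45, h54⟩, h120⟩, hlast⟩ := hfin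
    obtain ⟨A, hA, hAd, -⟩ := pick _ h45
    obtain ⟨B, hB, hBd, hBu⟩ := pick _ h54
    obtain ⟨C', hC', hCd, -⟩ := pick _ h120
    obtain ⟨v, hv, hvc⟩ : ∃ v : ℤ, (v = 144 ∨ v = -32) ∧ [sd F a, sd F b, sd F c, sd F d].count v = 1 := by
      rcases hlast with h | h
      · exact ⟨144, Or.inl rfl, h⟩
      · exact ⟨-32, Or.inr rfl, h⟩
    obtain ⟨D, hD, hDd, -⟩ := pick _ hvc
    have hne : ∀ {χ ψ : IrrCharacter G} {u w : ℤ}, sd F χ = u → sd F ψ = w → u ≠ w → χ ≠ ψ :=
      fun h h' hn e => hn (by rw [← h, e, h'])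
    have n1 := hne hAd hBd (by norm_num)
    have n2 := hne hAd hCd (by norm_num)
    have n3 := hne hAd hDd (by omega)
    have n4 := hne hBd hCd (by norm_num)
    have n5 := hne hBd hDd (by omega)
    have n6 := hne hCd hDd (by omega)
    have hs' : F.X' = {A, B, C', D} := perm_card (by have := F.card_X' htX; omega)
      (by simp [Finset.insert_subset_iff, hA, hB, hC', hD]) n1 n2 n3 n4 n5 n6
    have hth' := th_eq hG F n1 n2 n3 n4 n5 n6 hs' hθ
    rw [hAd, hBd, hCd, hDd] at hth'
    rcases hv with rfl | rfl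
    · simp only [th] at hth'
      norm_num at hth'
      have hε : F.εy = 1 ∧ charDegree (θ : G → ℂ) = 16 := by
        rcases F.hεy with e | e <;> rw [e] at hth' <;> omega
      exact ⟨⟨P, F, A, B, C', D, hs', (deg_of A hA _ hAd).trans (by norm_num),
        (deg_of B hB _ hBd).trans (by norm_num), (deg_of C' hC' _ hCd).trans (by norm_num),
        (deg_of D hD _ hDd).trans (by norm_num), (sgn_of A hA _ hAd).trans rfl, (sgn_of B hB _ hBd).trans rfl,
        (sgn_of C' hC' _ hCd).trans rfl, (sgn_of D hD _ hDd).trans rfl, hε.1,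
        fun η hη => (F.deg_agree hη hθ).trans hε.2⟩⟩
    · exfalso
      obtain ⟨x, z, hx, hz, hxz⟩ := exists_commuting_involution hG B ((deg_of B hB _ hBd).trans (by norm_num))
        (exists_int_unique hG F hB fun ψ hψ e => hBu ψ hψ (by
          have h1 : charDegree (ψ : G → ℂ) = 54 := e.trans ((deg_of B hB _ hBd).trans (by norm_num))
          rcases deg_cases hG F hψ with ⟨-, h' | h' | h'⟩ | ⟨h', -⟩ <;> first | omega | simp [sd, h', h1]))
      obtain ⟨u, v, w, r, -, -, -, -, hu, hv', hw, hr, hcond, -⟩ := inv_column hG F n1 n2 n3 n4 n5 n6 hs' hz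
      rw [hAd, hBd, hCd, hDd] at hcond
      rw [hAd] at hu; rw [hBd] at hv'; rw [hCd] at hw; rw [hDd] at hr
      have h8640 := card_centralizer_dvd hG F hz
      have h10 : 10 ∣ Nat.card (centralizer ({z} : Set G)) := by
        have h2 : orderOf z ∣ Nat.card (centralizer ({z} : Set G)) :=
          Subgroup.orderOf_dvd_natCard _ (mem_centralizer_singleton_iff.mpr rfl)
        have h5 : orderOf x ∣ Nat.card (centralizer ({z} : Set G)) :=
          Subgroup.orderOf_dvd_natCard _ (mem_centralizer_singleton_iff.mpr hxz.eq)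
        rw [hz] at h2; rw [hx] at h5
        exact Nat.Coprime.mul_dvd_of_dvd_of_dvd (by norm_num : Nat.Coprime 2 5) h2 h5
      have hz0 := z_none _ (mem_fiveOrders _
        (Finset.mem_range.mpr (Nat.lt_succ_of_le (Nat.le_of_dvd (by norm_num) h8640))) h8640 h10)
      rw [List.isEmpty_iff] at hz0
      have hmem := mem_tSols hu hv' hw hr hcond
      rw [hz0] at hmem
      exact List.not_mem_nil hmem
  · exfalso
    haveI : Fact (Nat.Prime 2) := ⟨Nat.prime_two⟩
    obtain ⟨S⟩ : Nonempty (Sylow 2 G) := inferInstance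
    have hS : Nat.card (S : Subgroup G) = 64 :=
      (SimpleTools.card_sylow_subgroup (k := 6) (m := 1485) (by rw [hG]; norm_num) (by norm_num) S).trans
        (by norm_num)
    obtain ⟨t, ht, ht64⟩ : ∃ t : G, orderOf t = 2 ∧ 64 ∣ Nat.card (centralizer ({t} : Set G)) := by
      have : Nontrivial ↥(S : Subgroup G) := Finite.one_lt_card_iff_nontrivial.mp (by rw [hS]; norm_num)
      have hZ := S.isPGroup'.center_nontrivial
      have h2 : 2 ∣ Nat.card (center ↥(S : Subgroup G)) := by
        obtain ⟨j, hj⟩ := IsPGroup.iff_card.mp (S.isPGroup'.to_subgroup (center ↥(S : Subgroup G)))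
        rw [hj]
        refine dvd_pow_self 2 fun h0 => ?_
        have := Finite.one_lt_card_iff_nontrivial.mpr hZ
        rw [hj, h0] at this
        norm_num at this
      obtain ⟨⟨⟨t, htS⟩, htc⟩, ht⟩ := exists_prime_orderOf_dvd_card' 2 h2
      rw [Subgroup.orderOf_mk, Subgroup.orderOf_mk] at ht
      refine ⟨t, ht, hS ▸ Subgroup.card_dvd_of_le fun s hs => mem_centralizer_singleton_iff.mpr ?_⟩
      exact congrArg Subtype.val (mem_center_iff.mp htc ⟨s, hs⟩)
    obtain ⟨u, v, w, r, -, -, -, -, hu, hv, hw, hr, hcond, -⟩ := inv_column hG F nab nac nad nbc nbd ncd hset ht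
    have h8640 := card_centralizer_dvd hG F ht
    have key : ∀ k ∈ Finset.range 136, k ∣ 135 → 64 * k ∈ centralOrders := by decide +kernel
    have hCo : Nat.card (centralizer ({t} : Set G)) ∈ centralOrders := by
      obtain ⟨k, hk⟩ := ht64
      rw [hk] at h8640 ⊢
      have hk' : k ∣ 135 := Nat.dvd_of_mul_dvd_mul_left (by norm_num : 0 < 64) (by simpa using h8640)
      exact key k (Finset.mem_range.mpr (Nat.lt_succ_of_le (Nat.le_of_dvd (by norm_num) hk'))) hk'
    rw [not_tKill hCo hu hv hw hr hcond] at ht'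
    exact Bool.false_ne_true ht'

end CfsgLib.KGroups.M12Block
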