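import Mathlib

/-!
# Finite searches for the principal 11-block of a simple group of order 95040

A signed degree is the degree times the sign of the value on an element of order 11.
-/

set_option autoImplicit false

namespace CfsgLib.KGroups.M12Check

/-- The possible signed degrees. -/
def sdegs : List ℤ := [12, 45, 144, -10, -32, -54, -120]

/-- The signed degree of the exceptional characters. -/
def th (a b c d : ℤ) : ℤ := 1 + a + b + c + d

/-- The arithmetic conditions on the block. -/
def valid (a b c d : ℤ) : Bool :=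
  decide (2 ≤ (th a b c d).natAbs) && decide ((th a b c d).natAbs ∣ 95040) && decide (th a b c d % 11 = 5) &&
    decide (1 + a * a + b * b + c * c + d * d + 2 * (th a b c d * th a b c d) ≤ 95040)

/-- One character of degree 10, or three of them with one of degree 45. -/
def tens (a b c d : ℤ) : Bool :=
  decide ([a, b, c, d].count (-10) = 1) ||
    (decide ([a, b, c, d].count (-10) = 3) && decide ([a, b, c, d].count 45 = 1))

/-- The two degree patterns which survive. -/
def final (a b c d : ℤ) : Bool :=
  decide ([a, b, c, d].count 45 = 1) && decide ([a, b, c, d].count (-54) = 1) &&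
    decide ([a, b, c, d].count (-120) = 1) &&
      (decide ([a, b, c, d].count 144 = 1) || decide ([a, b, c, d].count (-32) = 1))

/-- The possible centraliser orders of a central involution. -/
def centralOrders : List ℕ := [64, 192, 320, 576, 960, 1728, 2880, 8640]

/-- Admissible values at an involution of a character of degree `n`, for a centraliser of order `C`. -/
def adm (C n : ℕ) : List ℤ :=
  (((List.range (2 * n)).map fun (i : ℕ) => (i : ℤ) - n)).filter fun v =>
    decide ((v - n) % 4 = 0) && decide (-(n : ℤ) < v) && decide ((n : ℤ) ∣ ((95040 / C : ℕ) : ℤ) * v) &&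
      decide (v * v ≤ (C : ℤ))

/-- The sign of a signed degree. -/
def sg (a : ℤ) : ℤ := if a < 0 then -1 else 1

/-- The two relations, the congruence, the bound and the column bound at an involution. -/
def tCond (C : ℕ) (a b c d u v w x : ℤ) : Bool :=
  let s := 1 + sg a * u + sg b * v + sg c * w + sg d * x
  let T := th a b c d
  let t := sg T * s
  decide ((t - T.natAbs) % 4 = 0) && decide (t.natAbs < T.natAbs) &&
    decide ((T.natAbs : ℤ) ∣ ((95040 / C : ℕ) : ℤ) * t) &&
      decide (1 + u * u + v * v + w * w + x * x + 2 * (t * t) ≤ (C : ℤ)) &&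
        decide (95040 + sg a * (((95040 / a.natAbs : ℕ) : ℤ) * (u * u)) +
          sg b * (((95040 / b.natAbs : ℕ) : ℤ) * (v * v)) + sg c * (((95040 / c.natAbs : ℕ) : ℤ) * (w * w)) +
            sg d * (((95040 / d.natAbs : ℕ) : ℤ) * (x * x)) =
              sg T * (((95040 / T.natAbs : ℕ) : ℤ) * (t * t)))

/-- The values at a central involution. -/
def tSols (C : ℕ) (a b c d : ℤ) : List (ℤ × ℤ × ℤ × ℤ) :=
  (adm C a.natAbs).flatMap fun u => (adm C b.natAbs).flatMap fun v => (adm C c.natAbs).flatMap fun w =>
    ((adm C d.natAbs).filter fun x => tCond C a b c d u v w x).map fun x => (u, v, w, x)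

/-- No central involution is possible. -/
def tKill (a b c d : ℤ) : Bool := centralOrders.all fun C => (tSols C a b c d).isEmpty

theorem mem_tSols {C : ℕ} {a b c d u v w x : ℤ} (hu : u ∈ adm C a.natAbs) (hv : v ∈ adm C b.natAbs)
    (hw : w ∈ adm C c.natAbs) (hx : x ∈ adm C d.natAbs) (h : tCond C a b c d u v w x = true) :
    (u, v, w, x) ∈ tSols C a b c d := by
  simp only [tSols, List.mem_flatMap, List.mem_map, List.mem_filter]
  exact ⟨u, hu, v, hv, w, hw, x, ⟨hx, h⟩, rfl⟩

theorem not_tKill {C : ℕ} {a b c d u v w x : ℤ} (hC : C ∈ centralOrders) (hu : u ∈ adm C a.natAbs)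
    (hv : v ∈ adm C b.natAbs) (hw : w ∈ adm C c.natAbs) (hx : x ∈ adm C d.natAbs)
    (h : tCond C a b c d u v w x = true) : tKill a b c d = false := by
  by_contra hne
  rw [Bool.not_eq_false, tKill, List.all_eq_true] at hne
  have h1 := hne C hC
  rw [List.isEmpty_iff] at h1
  have h2 := mem_tSols hu hv hw hx h
  rw [h1] at h2
  exact List.not_mem_nil h2

theorem classify : ∀ a ∈ sdegs, ∀ b ∈ sdegs, ∀ c ∈ sdegs, ∀ d ∈ sdegs, valid a b c d = true →
    th a b c d = 5 ∨ th a b c d = -5 ∨ tens a b c d = true ∨ final a b c d = true ∨ tKill a b c d = true := by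
  decide +kernel

theorem t_unique : ∀ C ∈ centralOrders, tSols C 45 (-54) (-120) 144 ⊆ [((-3 : ℤ), (6 : ℤ), (-8 : ℤ), (0 : ℤ))] ∧
    (tSols C 45 (-54) (-120) 144 ≠ [] → C = 192) := by
  decide +kernel

end CfsgLib.KGroups.M12Check
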