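import Mathlib

/-!
# The characters outside the principal 11-block of a group of order 95040, as an integer problem

`a` is the degree divided by 11, and `b`, `c`, `u` are the values on elements of orders 5, 10 and on the
involution commuting with them.
-/

set_option autoImplicit false

namespace CfsgLib.KGroups.M12Shape

/-- The value on an element of order 5, from the degree divided by 11. -/
def beta : ℕ → ℤ
  | 1 => 1
  | 6 => 1
  | 16 => 1
  | 4 => -1
  | 9 => -1
  | _ => 0

/-- A lower bound on the square of the value at the involution. -/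
def mu : ℕ → ℤ
  | 1 => 1
  | 9 => 1
  | 4 => 16
  | 16 => 16
  | 6 => 36
  | 5 => 25
  | 15 => 25
  | 10 => 100
  | _ => 0

/-- The possible degrees divided by 11. -/
def kinds : Finset ℕ := {1, 4, 6, 9, 16, 5, 10, 15, 20}

theorem kind_key : ∀ a ∈ Finset.range 22, a ∣ 8640 →
    (a % 5 = 0 → a ∈ ({5, 10, 15, 20} : Finset ℕ) ∨ a = 0) ∧
      (a % 5 = 1 → a = 1 ∨ a = 6 ∨ a = 16) ∧ (a % 5 = 4 → a = 4 ∨ a = 9) := by
  decide +kernel

variable {ι : Type*} [DecidableEq ι] (R : Finset ι) (a : ι → ℕ) (b c u : ι → ℤ)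

/-- The congruences satisfied by one character. -/
structure Local (i : ι) : Prop where
  pos : 0 < a i
  le : a i ≤ 21
  dvd : a i ∣ 8640
  vb : a i % 5 = 0 → b i = 0
  vc : a i % 5 = 0 → c i = 0
  cb : (b i - a i) % 5 = 0
  cu : (c i - u i) % 5 = 0
  par : (b i - c i) % 2 = 0
  four : (u i + a i) % 4 = 0

variable {R a b c u}

theorem abs_le_one (hl : ∀ i ∈ R, Local a b c u i) (hb : ∑ i ∈ R, b i * b i = 5)
    (hc : ∑ i ∈ R, c i * c i = 5) {s : ℤ} (hs : s = 1 ∨ s = -1) (hbc : ∑ i ∈ R, b i * c i = s)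
    {i : ι} (hi : i ∈ R) : -1 ≤ b i ∧ b i ≤ 1 := by
  by_contra hne
  rw [← Finset.add_sum_erase _ _ hi] at hb hc hbc
  have hsq := Finset.sum_nonneg (s := R.erase i) fun j _ => mul_self_nonneg (b j)
  have hb2 : b i * b i ≤ 5 := by linarith
  have hbi : b i = 2 ∨ b i = -2 := by
    have h1 : -3 < b i ∧ b i < 3 := ⟨by nlinarith, by nlinarith⟩
    omega
  have hrest : ∑ j ∈ R.erase i, b j * b j = 1 := by rcases hbi with e | e <;> rw [e] at hb <;> linarith
  obtain ⟨j, hj, hjb⟩ : ∃ j ∈ R.erase i, b j ≠ 0 := by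
    by_contra h
    push Not at h
    rw [Finset.sum_eq_zero fun j hj => by rw [h j hj, mul_zero]] at hrest
    omega
  rw [← Finset.add_sum_erase _ _ hj] at hrest hc hbc
  have h0 := Finset.sum_nonneg (s := (R.erase i).erase j) fun k _ => mul_self_nonneg (b k)
  have hbj : b j = 1 ∨ b j = -1 := by
    have h1 : -2 < b j ∧ b j < 2 := ⟨by nlinarith, by nlinarith⟩
    omega
  have hz : ∀ k ∈ (R.erase i).erase j, b k = 0 ∧ c k = 0 := fun k hk => by
    have hk' := hl k (Finset.mem_of_mem_erase (Finset.mem_of_mem_erase hk))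
    have h1 : ∑ m ∈ (R.erase i).erase j, b m * b m = 0 := by
      rcases hbj with e | e <;> rw [e] at hrest <;> linarith
    have hbk : b k = 0 := mul_self_eq_zero.mp
      ((Finset.sum_eq_zero_iff_of_nonneg fun m _ => mul_self_nonneg (b m)).mp h1 k hk)
    have := hk'.cb
    rw [hbk] at this
    exact ⟨hbk, hk'.vc (by omega)⟩
  rw [Finset.sum_eq_zero fun k hk => by rw [(hz k hk).2, mul_zero]] at hc
  rw [Finset.sum_eq_zero fun k hk => by rw [(hz k hk).2, mul_zero]] at hbc
  have hpi := (hl i hi).par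
  have hpj := (hl j (Finset.mem_of_mem_erase hj)).par
  have h1 : -3 < c i ∧ c i < 3 := ⟨by nlinarith, by nlinarith⟩
  have h2 : -3 < c j ∧ c j < 3 := ⟨by nlinarith, by nlinarith⟩
  obtain ⟨h11, h12⟩ := h1
  obtain ⟨h21, h22⟩ := h2
  rcases hbi with e | e <;> rcases hbj with e' | e' <;> rw [e] at hpi hbc <;> rw [e'] at hpj hbc <;>
    interval_cases h : c i <;> interval_cases h' : c j <;> omega

/-- The shape of one character. -/
theorem shape (hl : ∀ i ∈ R, Local a b c u i) (hb : ∑ i ∈ R, b i * b i = 5)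
    (hc : ∑ i ∈ R, c i * c i = 5) {s : ℤ} (hs : s = 1 ∨ s = -1) (hbc : ∑ i ∈ R, b i * c i = s) :
    (∀ i ∈ R, a i ∈ kinds ∧ b i = beta (a i) ∧ mu (a i) ≤ u i * u i) ∧
      ∀ i ∈ R, c i * c i = b i * b i := by
  have hge : ∀ i ∈ R, b i * b i ≤ c i * c i := fun i hi => by
    obtain ⟨h1, h2⟩ := abs_le_one hl hb hc hs hbc hi
    have hp := (hl i hi).par
    by_cases h0 : c i = 0
    · rw [h0] at hp ⊢
      interval_cases h : b i <;> omega
    · have : 1 ≤ c i * c i := by rcases lt_or_gt_of_ne h0 with h | h <;> nlinarith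
      have : b i * b i ≤ 1 := by nlinarith
      omega
  have heq : ∀ i ∈ R, c i * c i = b i * b i := fun i hi =>
    ((Finset.sum_eq_sum_iff_of_le hge).mp (hb.trans hc.symm) i hi).symm
  refine ⟨fun i hi => ?_, heq⟩
  obtain ⟨hpos, hle, hdvd, hvb, hvc, hcb, hcu, hpar, hfour⟩ := hl i hi
  obtain ⟨h1, h2⟩ := abs_le_one hl hb hc hs hbc hi
  obtain ⟨k0, k1, k4⟩ := kind_key (a i) (Finset.mem_range.mpr (by omega)) hdvd
  by_cases h5 : a i % 5 = 0
  · have hb0 := hvb h5
    have hu5 : u i % 5 = 0 := by rw [hvc h5] at hcu; omega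
    have hmem : a i ∈ ({5, 10, 15, 20} : Finset ℕ) := (k0 h5).resolve_right (by omega)
    simp only [Finset.mem_insert, Finset.mem_singleton] at hmem
    rcases hmem with e | e | e | e <;> rw [e] at hfour ⊢ <;> refine ⟨by decide, hb0, ?_⟩
    · show (25 : ℤ) ≤ _
      by_contra h
      have : -5 < u i ∧ u i < 5 := ⟨by nlinarith, by nlinarith⟩
      omega
    · show (100 : ℤ) ≤ _
      by_contra h
      have : -10 < u i ∧ u i < 10 := ⟨by nlinarith, by nlinarith⟩
      omega
    · show (25 : ℤ) ≤ _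
      by_contra h
      have : -5 < u i ∧ u i < 5 := ⟨by nlinarith, by nlinarith⟩
      omega
    · exact mul_self_nonneg _
  · have hb1 : b i = 1 ∨ b i = -1 := by omega
    have hc1 : c i = 1 ∨ c i = -1 := by
      have := heq i hi
      rcases hb1 with e | e <;> rw [e] at this <;> exact mul_self_eq_one_iff.mp (by linarith)
    rcases hb1 with eb | eb <;> rw [eb] at hcb ⊢
    · rcases k1 (by omega) with e | e | e <;> rw [e] at hfour ⊢ <;> refine ⟨by decide, rfl, ?_⟩
      · show (1 : ℤ) ≤ _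
        by_contra h
        have : u i * u i = 0 := le_antisymm (by omega) (mul_self_nonneg _)
        rw [mul_self_eq_zero.mp this] at hfour
        omega
      · show (36 : ℤ) ≤ _
        by_contra h
        have : -6 < u i ∧ u i < 6 := ⟨by nlinarith, by nlinarith⟩
        omega
      · show (16 : ℤ) ≤ _
        by_contra h
        have : -4 < u i ∧ u i < 4 := ⟨by nlinarith, by nlinarith⟩
        omega
    · rcases k4 (by omega) with e | e <;> rw [e] at hfour ⊢ <;> refine ⟨by decide, rfl, ?_⟩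
      · show (16 : ℤ) ≤ _
        by_contra h
        have : -4 < u i ∧ u i < 4 := ⟨by nlinarith, by nlinarith⟩
        omega
      · show (1 : ℤ) ≤ _
        by_contra h
        have : u i * u i = 0 := le_antisymm (by omega) (mul_self_nonneg _)
        rw [mul_self_eq_zero.mp this] at hfour
        omega

set_option maxHeartbeats 1600000 in
/-- The degrees are 11, 11, 66, 99, 176, 55, 55, 55, and every square at the involution is the least possible. -/
theorem kinds_eq (hl : ∀ i ∈ R, Local a b c u i) (ha : ∑ i ∈ R, (a i : ℤ) * a i = 450)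
    (hab : ∑ i ∈ R, (a i : ℤ) * b i = 15) (hb : ∑ i ∈ R, b i * b i = 5) (hc : ∑ i ∈ R, c i * c i = 5)
    {s : ℤ} (hs : s = 1 ∨ s = -1) (hbc : ∑ i ∈ R, b i * c i = s) {C : ℕ} (hC : C = 120 ∨ C = 240)
    (hu : ∑ i ∈ R, u i * u i + 110 = C) (hsum : 48 ≤ ∑ i ∈ R, (a i : ℤ)) :
    ∃ p p' q r m f1 f2 f3 : ι, p ≠ p' ∧ f1 ≠ f2 ∧ f1 ≠ f3 ∧ f2 ≠ f3 ∧ R = {p, p', q, r, m, f1, f2, f3} ∧
      a p = 1 ∧ a p' = 1 ∧ a q = 6 ∧ a r = 9 ∧ a m = 16 ∧ a f1 = 5 ∧ a f2 = 5 ∧ a f3 = 5 ∧
      C = 240 ∧ (∀ i ∈ R, u i * u i = mu (a i)) ∧ ∑ i ∈ R, (a i : ℤ) = 48 := by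
  obtain ⟨hsh, -⟩ := shape hl hb hc hs hbc
  set n : ℕ → ℕ := fun k => (R.filter fun i => a i = k).card with hn
  have key : ∀ f : ℕ → ℤ, ∑ i ∈ R, f (a i) = n 1 * f 1 + (n 4 * f 4 + (n 6 * f 6 + (n 9 * f 9 + (n 16 * f 16 +
      (n 5 * f 5 + (n 10 * f 10 + (n 15 * f 15 + n 20 * f 20))))))) := fun f => by
    rw [← Finset.sum_fiberwise_of_maps_to (t := kinds) (g := a) (fun i hi => (hsh i hi).1) fun i => f (a i),
      Finset.sum_congr rfl (g := fun k => (n k : ℤ) * f k) fun k _ => by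
        rw [Finset.sum_congr rfl (g := fun _ => f k) fun i hi => by rw [(Finset.mem_filter.mp hi).2],
          Finset.sum_const, nsmul_eq_mul]]
    simp [kinds]
  have hbeta : ∀ i ∈ R, b i = beta (a i) := fun i hi => (hsh i hi).2.1
  have e1 := ha
  rw [key fun k => (k : ℤ) * k] at e1
  have e2 := hab
  rw [Finset.sum_congr rfl (g := fun i => (fun k : ℕ => (k : ℤ) * beta k) (a i)) fun i hi => by rw [hbeta i hi],
    key fun k => (k : ℤ) * beta k] at e2
  have e3 := hb
  rw [Finset.sum_congr rfl (g := fun i => (fun k : ℕ => beta k * beta k) (a i)) fun i hi => by rw [hbeta i hi],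
    key fun k => beta k * beta k] at e3
  have e4 := hsum
  rw [key fun k => (k : ℤ)] at e4
  have hmu : ∑ i ∈ R, mu (a i) ≤ ∑ i ∈ R, u i * u i := Finset.sum_le_sum fun i hi => (hsh i hi).2.2
  have e5 := hmu
  rw [key mu] at e5
  simp only [beta, mu] at e1 e2 e3 e4 e5
  norm_num at e1 e2 e3 e4 e5
  obtain ⟨hC', n1, n6, n9, n16, n5, n4, n10, n15, n20⟩ : C = 240 ∧ n 1 = 2 ∧ n 6 = 1 ∧ n 9 = 1 ∧ n 16 = 1 ∧
      n 5 = 3 ∧ n 4 = 0 ∧ n 10 = 0 ∧ n 15 = 0 ∧ n 20 = 0 := by omega
  obtain ⟨p, p', hpp, hp⟩ := Finset.card_eq_two.mp n1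
  obtain ⟨q, hq⟩ := Finset.card_eq_one.mp n6
  obtain ⟨r, hr⟩ := Finset.card_eq_one.mp n9
  obtain ⟨m, hm⟩ := Finset.card_eq_one.mp n16
  obtain ⟨f1, f2, f3, f12, f13, f23, hf⟩ := Finset.card_eq_three.mp n5
  have ext : ∀ {k : ℕ} {S : Finset ι}, R.filter (fun i => a i = k) = S → ∀ i, i ∈ S ↔ i ∈ R ∧ a i = k :=
    fun h i => by rw [← h, Finset.mem_filter]
  have gp := (ext hp p).mp (by simp)
  have gp' := (ext hp p').mp (by simp)
  have gq := (ext hq q).mp (by simp)
  have gr := (ext hr r).mp (by simp)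
  have gm := (ext hm m).mp (by simp)
  have g1 := (ext hf f1).mp (by simp)
  have g2 := (ext hf f2).mp (by simp)
  have g3 := (ext hf f3).mp (by simp)
  refine ⟨p, p', q, r, m, f1, f2, f3, hpp, f12, f13, f23, ?_, gp.2, gp'.2, gq.2, gr.2, gm.2, g1.2, g2.2, g3.2, hC',
    ?_, ?_⟩
  · ext i
    simp only [Finset.mem_insert, Finset.mem_singleton]
    constructor
    · intro hi
      have hk := (hsh i hi).1
      have h0 : ∀ k, n k = 0 → a i ≠ k := fun k hk0 e => by
        have : i ∈ R.filter fun j => a j = k := Finset.mem_filter.mpr ⟨hi, e⟩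
        rw [Finset.card_eq_zero.mp hk0] at this
        exact Finset.notMem_empty i this
      simp only [kinds, Finset.mem_insert, Finset.mem_singleton] at hk
      rcases hk with e | e | e | e | e | e | e | e | e
      · have := (ext hp i).mpr ⟨hi, e⟩; simp only [Finset.mem_insert, Finset.mem_singleton] at this; clear * - this
        rcases this with h | h <;> simp [h]
      · exact absurd e (h0 4 n4)
      · have := (ext hq i).mpr ⟨hi, e⟩; simp only [Finset.mem_singleton] at this; clear * - this; simp [this]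
      · have := (ext hr i).mpr ⟨hi, e⟩; simp only [Finset.mem_singleton] at this; clear * - this; simp [this]
      · have := (ext hm i).mpr ⟨hi, e⟩; simp only [Finset.mem_singleton] at this; clear * - this; simp [this]
      · have := (ext hf i).mpr ⟨hi, e⟩; simp only [Finset.mem_insert, Finset.mem_singleton] at this; clear * - this
        rcases this with h | h | h <;> simp [h]
      · exact absurd e (h0 10 n10)
      · exact absurd e (h0 15 n15)
      · exact absurd e (h0 20 n20)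
    · rintro (rfl | rfl | rfl | rfl | rfl | rfl | rfl | rfl) <;>
        first | exact gp.1 | exact gp'.1 | exact gq.1 | exact gr.1 | exact gm.1 | exact g1.1 | exact g2.1 | exact g3.1
  · refine fun i hi => (((Finset.sum_eq_sum_iff_of_le fun j hj => (hsh j hj).2.2).mp ?_) i hi).symm
    rw [key mu]
    simp only [mu, n1, n6, n9, n16, n5, n4, n10, n15, n20]
    norm_num
    omega
  · rw [key fun k => (k : ℤ)]
    simp only [n1, n6, n9, n16, n5, n4, n10, n15, n20]
    norm_num

end CfsgLib.KGroups.M12Shape
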