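import Cfsg.Agent.Lib.KGroups.M12Five
import Cfsg.Agent.Lib.KGroups.M12Shape

/-!
# Elements of orders 5 and 10 in a simple group of order 95040, and the outer columns of the table
-/

set_option autoImplicit false

namespace CfsgLib.KGroups.M12Classes

open Cfsg CfsgLib.Blocks CfsgLib.KGroups.M11Tools CfsgLib.KGroups.M12Tools CfsgLib.KGroups.M12Local
  CfsgLib.KGroups.M12Check CfsgLib.KGroups.M12Involution CfsgLib.KGroups.M12Reps CfsgLib.KGroups.M12Block
  CfsgLib.KGroups.M12Five Subgroup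
open CfsgLib.SmallGroups
open scoped Classical

variable {G : Type*} [Group G] [Fintype G]

/-- Two columns of integers are orthogonal. -/
theorem orth_zero {g h : G} (hgh : ¬ IsConj g h) {f f' : IrrCharacter G → ℤ}
    (hf : ∀ χ : IrrCharacter G, (χ : G → ℂ) g = f χ) (hf' : ∀ χ : IrrCharacter G, (χ : G → ℂ) h = f' χ) :
    ∑ χ : IrrCharacter G, f χ * f' χ = 0 := by
  have h1 := CfsgLib.Char.sum_irr_mul_conj g h
  rw [if_neg hgh, Finset.sum_congr rfl (g := fun χ : IrrCharacter G => ((f χ * f' χ : ℤ) : ℂ)) fun χ _ => by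
    rw [hf, hf', map_intCast]; push_cast; rfl, ← Int.cast_sum] at h1
  exact_mod_cast h1

/-- The sum of the squares of a column of integers. -/
theorem col_sq {g : G} {f : IrrCharacter G → ℤ} (hf : ∀ χ : IrrCharacter G, (χ : G → ℂ) g = f χ) :
    ∑ χ : IrrCharacter G, f χ * f χ = (Nat.card (centralizer ({g} : Set G)) : ℤ) := by
  have h := sum_norm_sq_column g
  rw [Finset.sum_congr rfl (g := fun χ : IrrCharacter G => ((f χ * f χ : ℤ) : ℝ)) fun χ _ => by
    rw [hf, Complex.norm_intCast, sq_abs, sq]; push_cast; rfl, ← Int.cast_sum] at h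
  exact_mod_cast h

theorem value_conj (χ : IrrCharacter G) {g h : G} (hgh : IsConj g h) : (χ : G → ℂ) g = (χ : G → ℂ) h := by
  obtain ⟨c, rfl⟩ := isConj_iff.mp hgh
  exact (irr_conj_apply χ g c).symm

theorem card_centralizer_eq {g h : G} (hgh : IsConj g h) :
    Nat.card (centralizer ({g} : Set G)) = Nat.card (centralizer ({h} : Set G)) := by
  have e1 := (centralizer ({g} : Set G)).index_mul_card
  have e2 := (centralizer ({h} : Set G)).index_mul_card
  rw [← CfsgLib.Char.card_isConj_eq_index g] at e1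
  rw [← CfsgLib.Char.card_isConj_eq_index h] at e2
  have : Nat.card {x : G // IsConj x g} = Nat.card {x : G // IsConj x h} :=
    Nat.card_congr (Equiv.subtypeEquivRight fun x => ⟨fun e => e.trans hgh, fun e => e.trans hgh.symm⟩)
  rw [this, ← e2] at e1
  haveI : Nonempty {x : G // IsConj x h} := ⟨⟨h, IsConj.refl h⟩⟩
  exact Nat.eq_of_mul_eq_mul_left Nat.card_pos e1

theorem not_conj_order {g h : G} (hgh : orderOf g ≠ orderOf h) : ¬ IsConj g h := fun e => hgh (by
  obtain ⟨c, rfl⟩ := isConj_iff.mp e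
  exact (MulEquiv.orderOf_eq (MulAut.conj c) g).symm)

variable (hG : Nat.card G = 95040)

/-- An element of order 5 with centraliser of order 10 and normaliser of order 40. -/
structure Five (G : Type*) [Group G] where
  x : G
  z : G
  hx : orderOf x = 5
  hz : orderOf z = 2
  hxz : Commute x z
  hC : Nat.card (centralizer ({x} : Set G)) = 10
  hN : Nat.card (normalizer ((zpowers x : Subgroup G) : Set G)) = 40

namespace Five

variable (T : Five G)

theorem orderOf_mul : orderOf (T.x * T.z) = 10 := by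
  rw [T.hxz.orderOf_mul_eq_mul_orderOf_of_coprime (by rw [T.hx, T.hz]; norm_num), T.hx, T.hz]

theorem centralizer_eq : centralizer ({T.x} : Set G) = zpowers (T.x * T.z) := by
  refine (Subgroup.eq_of_le_of_card_ge ?_ (by rw [T.hC, Nat.card_zpowers, T.orderOf_mul])).symm
  rw [zpowers_le]
  exact mem_centralizer_singleton_iff.mpr ((Commute.refl T.x).mul_right T.hxz).eq.symm

/-- The involution is central in the normaliser. -/
theorem z_unique {n : G} (hn : n ∈ normalizer ((zpowers T.x : Subgroup G) : Set G)) : n * T.z * n⁻¹ = T.z := by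
  set w := n * T.z * n⁻¹ with hw
  have hwo : orderOf w = 2 := by rw [← T.hz]; exact MulEquiv.orderOf_eq (MulAut.conj n) T.z
  have hwx : Commute w T.x := by
    have h1 : n⁻¹ * T.x * n ∈ zpowers T.x := (mem_normalizer_iff''.mp hn T.x).mp (mem_zpowers _)
    obtain ⟨i, hi⟩ := mem_zpowers_iff.mp h1
    have h2 : Commute T.z (n⁻¹ * T.x * n) := hi ▸ (T.hxz.symm.zpow_right i)
    have h3 := congrArg (fun g => n * g * n⁻¹) h2.eq
    rw [hw]
    show n * T.z * n⁻¹ * T.x = T.x * (n * T.z * n⁻¹)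
    calc n * T.z * n⁻¹ * T.x = n * (T.z * (n⁻¹ * T.x * n)) * n⁻¹ := by group
      _ = n * ((n⁻¹ * T.x * n) * T.z) * n⁻¹ := h3
      _ = T.x * (n * T.z * n⁻¹) := by group
  have hmem : w ∈ zpowers (T.x * T.z) := T.centralizer_eq ▸ mem_centralizer_singleton_iff.mpr hwx.eq
  rw [mem_zpowers_iff_mem_range_orderOf, T.orderOf_mul, Finset.mem_image] at hmem
  obtain ⟨i, hi, he⟩ := hmem
  rw [Finset.mem_range] at hi
  have : orderOf ((T.x * T.z) ^ i) = 2 := he ▸ hwo
  rw [orderOf_pow, T.orderOf_mul] at this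
  obtain rfl : i = 5 := by interval_cases i <;> simp_all
  rw [← he, T.hxz.mul_pow, show T.x ^ 5 = 1 from T.hx ▸ pow_orderOf_eq_one T.x, one_mul,
    show T.z ^ 5 = T.z by rw [← pow_mod_orderOf, T.hz, pow_one]]

/-- Every nontrivial power is conjugate to the element, by an element fixing the involution. -/
theorem exists_conj {j : ℕ} (hj : j ∈ Finset.Ico 1 5) :
    ∃ n : G, n * T.x * n⁻¹ = T.x ^ j ∧ n * T.z * n⁻¹ = T.z := by
  set N := normalizer ((zpowers T.x : Subgroup G) : Set G)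
  set C := (centralizer ({T.x} : Set G)).subgroupOf N
  have hle : centralizer ({T.x} : Set G) ≤ N := by
    rw [← centralizer_closure, ← zpowers_eq_closure]
    exact Subgroup.centralizer_le_normalizer _
  have hidx : Nat.card (↥N ⧸ C) = 4 := by
    have h := C.card_eq_card_quotient_mul_card_subgroup
    rw [T.hN, Nat.card_congr (Subgroup.subgroupOfEquivOfLe hle).toEquiv, T.hC] at h
    omega
  have hex : ∀ n : N, ∃ i ∈ Finset.Ico 1 5, (n : G) * T.x * (n : G)⁻¹ = T.x ^ i := fun n => by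
    have h1 : (n : G) * T.x * (n : G)⁻¹ ∈ zpowers T.x := (mem_normalizer_iff.mp n.2 T.x).mp (mem_zpowers _)
    rw [mem_zpowers_iff_mem_range_orderOf, T.hx, Finset.mem_image] at h1
    obtain ⟨i, hi, he⟩ := h1
    refine ⟨i, Finset.mem_Ico.mpr ⟨?_, Finset.mem_range.mp hi⟩, he.symm⟩
    rcases Nat.eq_zero_or_pos i with rfl | h
    · rw [pow_zero] at he
      have hx1 : T.x = 1 := by
        have := congrArg (fun g => (n : G)⁻¹ * g * (n : G)) he
        simpa [mul_assoc] using this.symm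
      have := T.hx
      rw [hx1, orderOf_one] at this
      omega
    · exact h
  choose f hf hf' using hex
  let φ : ↥N ⧸ C → ↥(Finset.Ico 1 5) := fun q => ⟨f q.out, hf q.out⟩
  have hinj : Function.Injective φ := fun q q' e => by
    have e' : f q.out = f q'.out := congrArg Subtype.val e
    rw [← q.out_eq, ← q'.out_eq, QuotientGroup.eq]
    refine mem_subgroupOf.mpr (mem_centralizer_singleton_iff.mpr ?_)
    have h1 : (q.out : G) * T.x * (q.out : G)⁻¹ = (q'.out : G) * T.x * (q'.out : G)⁻¹ := by rw [hf', hf', e']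
    have h2 := congrArg (fun g => (q.out : G)⁻¹ * g * (q'.out : G)) h1
    simp only [mul_assoc, inv_mul_cancel_left] at h2
    push_cast
    simp only [mul_assoc]
    simpa using h2.symm
  have hsurj : Function.Surjective φ := (hinj.bijective_of_nat_card_le (by
    rw [hidx, Nat.card_eq_fintype_card, Fintype.card_coe, Nat.card_Ico])).2
  obtain ⟨q, hq⟩ := hsurj ⟨j, hj⟩
  have hq' : f q.out = j := congrArg Subtype.val hq
  exact ⟨q.out, hq' ▸ hf' q.out, T.z_unique q.out.2⟩

/-- Every character is integral at the element of order 5. -/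
theorem exists_int_x (χ : IrrCharacter G) : ∃ n : ℤ, (χ : G → ℂ) T.x = n := by
  obtain ⟨n, hn, -⟩ := exists_int_prime χ (p := 5) (by norm_num) T.hx fun i hi => by
    obtain ⟨w, hw, -⟩ := T.exists_conj hi
    rw [← hw, irr_conj_apply]
  exact ⟨n, hn⟩

/-- Every character is integral at the element of order 10. -/
theorem exists_int_xz (χ : IrrCharacter G) : ∃ n : ℤ, (χ : G → ℂ) (T.x * T.z) = n := by
  obtain ⟨b, hb⟩ := T.exists_int_x χ
  obtain ⟨u, hu⟩ := exists_int_two χ T.hz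
  obtain ⟨m, hm⟩ := sum_powers χ (T.x * T.z)
  have hodd : ∀ i ∈ ({1, 3, 7, 9} : Finset ℕ), (χ : G → ℂ) ((T.x * T.z) ^ i) = (χ : G → ℂ) (T.x * T.z) := by
    intro i hi
    have hj : i % 5 ∈ Finset.Ico 1 5 := by fin_cases hi <;> decide
    obtain ⟨w, hw, hw'⟩ := T.exists_conj hj
    rw [T.hxz.mul_pow, ← pow_mod_orderOf T.x i, ← pow_mod_orderOf T.z i, T.hx, T.hz,
      show i % 2 = 1 by fin_cases hi <;> rfl, pow_one, ← hw]
    conv_lhs => arg 2; arg 2; rw [← hw']
    rw [show w * T.x * w⁻¹ * (w * T.z * w⁻¹) = w * (T.x * T.z) * w⁻¹ by group, irr_conj_apply]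
  have hev : ∀ i ∈ ({2, 4, 6, 8} : Finset ℕ), (χ : G → ℂ) ((T.x * T.z) ^ i) = b := by
    intro i hi
    rw [T.hxz.mul_pow, ← pow_mod_orderOf T.z i, T.hz, show i % 2 = 0 by fin_cases hi <;> rfl, pow_zero, mul_one]
    exact pow_value χ T.x (by rw [T.hx]; fin_cases hi <;> decide) hb
  rw [T.orderOf_mul] at hm
  simp only [Finset.sum_range_succ, Finset.sum_range_zero] at hm
  rw [pow_zero, irr_one_eq, hodd 1 (by simp), hodd 3 (by simp), hodd 7 (by simp), hodd 9 (by simp),
    hev 2 (by simp), hev 4 (by simp), hev 6 (by simp), hev 8 (by simp),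
    show (T.x * T.z) ^ 5 = T.z by
      rw [T.hxz.mul_pow, show T.x ^ 5 = 1 from T.hx ▸ pow_orderOf_eq_one T.x, one_mul,
        show T.z ^ 5 = T.z by rw [← pow_mod_orderOf, T.hz, pow_one]], hu] at hm
  refine exists_int_value χ _ (q := (10 * (m : ℚ) - charDegree (χ : G → ℂ) - 4 * b - u) / 4) ?_
  push_cast at hm ⊢
  linear_combination hm / 4

end Five

variable [IsSimpleGroup G] [Fact (Nat.Prime 11)] (D : Data G)

include hG in
/-- The exceptional characters are not real. -/
theorem nu_theta {θ : IrrCharacter G} (hθ : θ ∈ D.F.Y) : nu θ = 0 := by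
  rw [nu_eq_zero_iff]
  by_contra hreal
  push Not at hreal
  obtain ⟨η, hη, hne⟩ := Finset.exists_mem_ne (show 1 < D.F.Y.card by rw [D.F.hY]; norm_num) θ
  have hY : D.F.Y = {θ, η} := (Finset.eq_of_subset_of_card_le (by simp [Finset.insert_subset_iff, hθ, hη])
    (by rw [D.F.hY, Finset.card_pair hne.symm])).symm
  have h11 : 11 ∣ orderOf D.F.x := by rw [D.F.hx]
  have hcol := D.F.hcol D.F.x h11
  have hX : ∀ χ ∈ D.F.X, (χ : G → ℂ) D.F.x = (D.F.sgn χ : ℂ) := fun χ hχ => by
    have h1 := D.F.hval χ hχ 1 (by norm_num) 1 (Commute.one_right _) (by rw [orderOf_one]; norm_num)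
    rwa [mul_one, pow_one] at h1
  have htX := triv_memX hG D.F
  have hd := D.d45
  have hd2 := D.d54
  have hd3 := D.d120
  have hd4 := D.d144
  rw [Finset.sum_union D.F.hdisj,
    Finset.sum_congr rfl (g := fun χ : IrrCharacter G => ((D.F.sgn χ * (charDegree (χ : G → ℂ) : ℤ) : ℤ) : ℂ))
      fun χ hχ => by rw [hX χ hχ]; push_cast; ring, ← Int.cast_sum,
    ← Finset.add_sum_erase _ _ htX, D.F.sgn_triv htX, show D.F.X.erase (trivChar G) = _ from D.hset,
    Finset.sum_insert (by simp only [Finset.mem_insert, Finset.mem_singleton, not_or]; refine ⟨?_, ?_, ?_⟩ <;>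
      (intro e; rw [e] at hd; omega)),
    Finset.sum_insert (by simp only [Finset.mem_insert, Finset.mem_singleton, not_or]; refine ⟨?_, ?_⟩ <;>
      (intro e; rw [e] at hd2; omega)),
    Finset.sum_pair (by intro e; rw [e] at hd3; omega), D.s45, D.s54, D.s120, D.s144, D.d45, D.d54, D.d120, D.d144,
    hY, Finset.sum_pair hne.symm, D.dθ θ hθ, D.dθ η hη] at hcol
  simp [charDegree] at hcol
  have hre : ∀ χ : IrrCharacter G, ((χ : G → ℂ) D.F.x).im = 0 := fun χ => by
    by_cases h : χ ∈ D.F.X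
    · rw [hX χ h]; simp
    by_cases hy : χ ∈ D.F.Y
    · rw [hY, Finset.mem_insert, Finset.mem_singleton] at hy
      rcases hy with rfl | rfl
      · exact hreal _
      · have h1 := congrArg Complex.im hcol
        simp [charDegree, hreal D.F.x] at h1
        linarith
    · rw [vanish χ (show Nat.Prime 11 by norm_num) (n := 1) (by rw [hG]; norm_num) (by rw [hG]; norm_num)
        (by rw [pow_one]; exact rest_dvd hG D.F h hy) h11]
      simp
  have hnc : ¬ IsConj D.F.x D.F.x⁻¹ := fun e => by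
    obtain ⟨c, hc⟩ := isConj_iff.mp e
    have hmem : c ∈ normalizer ((D.P : Subgroup G) : Set G) := by
      rw [← D.F.hzp]
      refine mem_normalizer_iff_map_conj_eq.mpr ?_
      rw [MonoidHom.map_zpowers]
      show zpowers (c * D.F.x * c⁻¹) = _
      rw [hc, zpowers_inv]
    have h55 : orderOf c ∣ 55 := by
      rw [← (normalizer_eleven hG D.P).1]
      exact Subgroup.orderOf_dvd_natCard _ hmem
    have hsq : Commute (c ^ 2) D.F.x := by
      show c ^ 2 * D.F.x = D.F.x * c ^ 2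
      have h2 : c * (c * D.F.x * c⁻¹) * c⁻¹ = D.F.x := by rw [hc, ← conj_inv, hc, inv_inv]
      calc c ^ 2 * D.F.x = c * (c * D.F.x * c⁻¹) * c⁻¹ * c ^ 2 := by rw [pow_two]; group
        _ = D.F.x * c ^ 2 := by rw [h2]
    obtain ⟨k, hk⟩ : ∃ k, orderOf c = 2 * k + 1 := by
      obtain ⟨l, hl⟩ := h55
      refine ⟨orderOf c / 2, ?_⟩
      have : orderOf c % 2 = 1 := by
        rcases Nat.mod_two_eq_zero_or_one (orderOf c) with h | h
        · have : 2 ∣ 55 := hl ▸ (Nat.dvd_of_mod_eq_zero h).mul_right l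
          norm_num at this
        · exact h
      omega
    have hcx : Commute c D.F.x := by
      have h1 : Commute ((c ^ 2) ^ (k + 1)) D.F.x := hsq.pow_left _
      rwa [← pow_mul, show 2 * (k + 1) = orderOf c + 1 by omega, pow_succ, pow_orderOf_eq_one, one_mul] at h1
    rw [hcx.eq, mul_inv_cancel_right] at hc
    have h2 : D.F.x ^ 2 = 1 := by rw [pow_two]; nth_rw 2 [hc]; exact mul_inv_cancel _
    have := orderOf_dvd_of_pow_eq_one h2
    rw [D.F.hx] at this
    norm_num at this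
  have h0 := CfsgLib.Char.sum_irr_mul_conj D.F.x D.F.x⁻¹
  rw [if_neg hnc, Finset.sum_congr rfl (g := fun χ : IrrCharacter G => (χ : G → ℂ) D.F.x * (χ : G → ℂ) D.F.x)
    fun χ _ => by rw [conj_irr, inv_inv]] at h0
  have h1 := congrArg Complex.re h0
  simp only [Complex.re_sum, Complex.mul_re, hre, mul_zero, sub_zero, Complex.zero_re] at h1
  have h2 := Finset.single_le_sum (f := fun χ : IrrCharacter G =>
    ((χ : G → ℂ) D.F.x).re * ((χ : G → ℂ) D.F.x).re) (fun _ _ => mul_self_nonneg _) (Finset.mem_univ (trivChar G))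
  rw [h1] at h2
  simp at h2
  linarith

include hG in
/-- The values of the principal block on the elements of orders 5 and 10. -/
theorem block_columns (T : Five G) {s : ℤ} (hs : s = 1 ∨ s = -1) (z54 : (D.c54 : G → ℂ) T.z = 6)
    (z144 : (D.c144 : G → ℂ) T.z = (4 * s : ℤ)) :
    ((D.c45 : G → ℂ) T.x = 0 ∧ (D.c54 : G → ℂ) T.x = -1 ∧ (D.c120 : G → ℂ) T.x = 0 ∧ (D.c144 : G → ℂ) T.x = -1 ∧
        ∀ θ ∈ D.F.Y, (θ : G → ℂ) T.x = 1) ∧
      ((D.c45 : G → ℂ) (T.x * T.z) = 0 ∧ (D.c54 : G → ℂ) (T.x * T.z) = 1 ∧ (D.c120 : G → ℂ) (T.x * T.z) = 0 ∧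
        (D.c144 : G → ℂ) (T.x * T.z) = (-s : ℤ) ∧ ∀ θ ∈ D.F.Y, (θ : G → ℂ) (T.x * T.z) = (-s : ℤ)) := by
  have o10 := T.orderOf_mul
  have h5x : 5 ∣ orderOf T.x := by rw [T.hx]
  have h5g : 5 ∣ orderOf (T.x * T.z) := by rw [o10]; norm_num
  obtain ⟨a, ha⟩ := T.exists_int_x D.c54
  obtain ⟨b, hb⟩ := T.exists_int_x D.c144
  obtain ⟨a', ha'⟩ := T.exists_int_xz D.c54
  obtain ⟨b', hb'⟩ := T.exists_int_xz D.c144
  have k54 := ten_congr D.c54 T.hx T.hz T.hxz (u := 6) ha ha' (by rw [z54]; norm_num)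
  have k144 := ten_congr D.c144 T.hx T.hz T.hxz hb hb' z144
  rw [D.d54] at k54
  rw [D.d144] at k144
  have x45 := vanish_five hG D.c45 (by rw [D.d45]; norm_num) T.x h5x
  have x120 := vanish_five hG D.c120 (by rw [D.d120]; norm_num) T.x h5x
  have g45 := vanish_five hG D.c45 (by rw [D.d45]; norm_num) _ h5g
  have g120 := vanish_five hG D.c120 (by rw [D.d120]; norm_num) _ h5g
  have bound : ∀ (g : G) (p q r : ℤ), (D.c54 : G → ℂ) g = p → (D.c144 : G → ℂ) g = q →
      (∀ θ ∈ D.F.Y, (θ : G → ℂ) g = r) → (D.c45 : G → ℂ) g = 0 → (D.c120 : G → ℂ) g = 0 →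
      1 + p * p + q * q + 2 * (r * r) ≤ (Nat.card (centralizer ({g} : Set G)) : ℤ) := by
    intro g p q r hp hq hr h45 h120
    have hcol := sum_norm_sq_column g
    rw [split hG D fun χ => ‖(χ : G → ℂ) g‖ ^ 2, trivChar_apply, h45, h120, hp, hq,
      Finset.sum_congr rfl (g := fun _ => ‖((r : ℤ) : ℂ)‖ ^ 2) fun θ hθ => by rw [hr θ hθ],
      Finset.sum_const, D.F.hY] at hcol
    simp only [Complex.norm_intCast, sq_abs, norm_one, norm_zero, one_pow, nsmul_eq_mul] at hcol
    have h0 : 0 ≤ ∑ χ ∈ rest D.F, ‖(χ : G → ℂ) g‖ ^ 2 := Finset.sum_nonneg fun _ _ => sq_nonneg _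
    have h' : ((1 + p * p + q * q + 2 * (r * r) : ℤ) : ℝ) ≤
        (((Nat.card (centralizer ({g} : Set G)) : ℕ) : ℤ) : ℝ) := by
      push_cast at hcol ⊢
      nlinarith
    exact_mod_cast h'
  have hθx : ∀ θ ∈ D.F.Y, (θ : G → ℂ) T.x = ((1 - a + b : ℤ) : ℂ) := fun θ hθ => by
    rw [theta_rel hG D hθ T.x (by rw [T.hx]; norm_num), x45, x120, ha, hb]; push_cast; ring
  have hθg : ∀ θ ∈ D.F.Y, (θ : G → ℂ) (T.x * T.z) = ((1 - a' + b' : ℤ) : ℂ) := fun θ hθ => by
    rw [theta_rel hG D hθ _ (by rw [o10]; norm_num), g45, g120, ha', hb']; push_cast; ring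
  have hCg : Nat.card (centralizer ({T.x * T.z} : Set G)) ≤ 10 := by
    rw [← T.hC]
    refine Subgroup.card_le_of_le fun g hg => mem_centralizer_singleton_iff.mpr ?_
    have h1 : Commute g (T.x * T.z) := mem_centralizer_singleton_iff.mp hg
    have h2 : (T.x * T.z) ^ 6 = T.x := by
      rw [T.hxz.mul_pow, ← pow_mod_orderOf T.x 6, ← pow_mod_orderOf T.z 6, T.hx, T.hz]
      norm_num
    have h3 := h1.pow_right 6
    rw [h2] at h3
    exact h3.eq
  have bx := bound T.x a b _ ha hb hθx x45 x120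
  have bg := bound (T.x * T.z) a' b' _ ha' hb' hθg g45 g120
  rw [T.hC] at bx
  have bg' : 1 + a' * a' + b' * b' + 2 * ((1 - a' + b') * (1 - a' + b')) ≤ 10 := bg.trans (by exact_mod_cast hCg)
  have small : ∀ v w r : ℤ, 1 + v * v + w * w + 2 * (r * r) ≤ 10 → -4 < v ∧ v < 4 ∧ -4 < w ∧ w < 4 :=
    fun v w r h => by
      have := mul_self_nonneg r
      have := mul_self_nonneg v
      have := mul_self_nonneg w
      refine ⟨?_, ?_, ?_, ?_⟩ <;> nlinarith
  have r12 := small a b (1 - a + b) (by exact_mod_cast bx)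
  have r34 := small a' b' (1 - a' + b') bg'
  obtain ⟨rfl, rfl, rfl, rfl⟩ : a = -1 ∧ b = -1 ∧ a' = 1 ∧ b' = -s := by
    refine ⟨?_, ?_, ?_, ?_⟩ <;> omega
  refine ⟨⟨x45, by rw [ha]; norm_num, x120, by rw [hb]; norm_num, fun θ hθ => by rw [hθx θ hθ]; norm_num⟩,
    g45, by rw [ha']; norm_num, g120, hb', fun θ hθ => by rw [hθg θ hθ]; norm_num⟩

end CfsgLib.KGroups.M12Classes
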