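import Cfsg.Agent.Lib.KGroups.M12Setup

/-!
# The real character of degree 11 of a simple group of order 95040

The Frobenius-Schur counts fix the characters outside the principal 11-block, and two class
multiplication counts fix their values at the central involution.
-/

set_option autoImplicit false

namespace CfsgLib.KGroups.M12Columns

open Cfsg CfsgLib.Blocks CfsgLib.KGroups.M11Tools CfsgLib.KGroups.M12Tools CfsgLib.KGroups.M12Local
  CfsgLib.KGroups.M12Check CfsgLib.KGroups.M12Involution CfsgLib.KGroups.M12Reps CfsgLib.KGroups.M12Block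
  CfsgLib.KGroups.M12Five CfsgLib.KGroups.M12Classes CfsgLib.KGroups.M12Shape CfsgLib.KGroups.M12Setup Subgroup
open CfsgLib.SmallGroups
open scoped Classical

theorem sum_eight {ι M : Type*} [DecidableEq ι] [AddCommMonoid M] {p p' q r m f1 f2 f3 : ι}
    (h : [p, p', q, r, m, f1, f2, f3].Nodup) (f : ι → M) :
    ∑ i ∈ ({p, p', q, r, m, f1, f2, f3} : Finset ι), f i =
      f p + (f p' + (f q + (f r + (f m + (f f1 + (f f2 + f f3)))))) := by
  rw [show ({p, p', q, r, m, f1, f2, f3} : Finset ι) = [p, p', q, r, m, f1, f2, f3].toFinset by simp,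
    List.sum_toFinset f h]
  simp

theorem signs {s cq cm uq um : ℤ} (hs : s = 1 ∨ s = -1) (c1 : cq = 1 ∨ cq = -1) (c2 : cm = 1 ∨ cm = -1)
    (u1 : uq = 6 ∨ uq = -6) (u2 : um = 4 ∨ um = -4) (hq : (cq - uq) % 5 = 0) (hm : (cm - um) % 5 = 0)
    (e1 : -1 + cq + cm = s) (e2 : -11 + 6 * cq + 16 * cm = 16 * s - 5) :
    cq = 1 ∧ cm = s ∧ uq = 6 ∧ um = -(4 * s) := by
  omega

theorem pair_fifty {v w : ℤ} (hv : (v + 1) % 4 = 0) (hne : v ≠ 3) (hsum : v + w = 6) (h : v * v + w * w ≤ 69) :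
    v * v + w * w = 50 := by
  obtain rfl : w = 6 - v := by omega
  have h1 : -4 < v ∧ v < 9 := ⟨by nlinarith, by nlinarith⟩
  obtain ⟨h1, h2⟩ := h1
  interval_cases v <;> omega

theorem sixteen {v : ℤ} (h : (176 : ℤ) ∣ 495 * v) (h1 : -10 < v) (h2 : v < 10) : v = 0 := by omega

variable {G : Type*} [Group G] [Fintype G]

theorem sq_of {h w : G} (ho : orderOf h = 2) (e : IsConj w h) : w * w = 1 := by
  obtain ⟨c, rfl⟩ := isConj_iff.mp e.symm
  rw [show c * h * c⁻¹ * (c * h * c⁻¹) = c * (h * h) * c⁻¹ by group, ← pow_two h, ← ho, pow_orderOf_eq_one]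
  group

variable [IsSimpleGroup G] (hG : Nat.card G = 95040) [Fact (Nat.Prime 11)] (S : Setup G)

include hG in
theorem local_spec {χ : IrrCharacter G} (hχ : χ ∈ S.R) : M12Shape.Local a11 S.fx S.fg S.fz χ := by
  have hna := M12Local.not_comm hG
  have hd := S.deg_eq hG hχ
  have hpos := charDegree_pos χ
  have hsq := Finset.single_le_sum (f := fun η : IrrCharacter G => (a11 η : ℤ) * a11 η)
    (fun _ _ => mul_self_nonneg _) hχ
  rw [S.sum_aa hG] at hsq
  obtain ⟨k5, k5', k2⟩ := ten_congr χ S.T.hx S.T.hz S.T.hxz (S.hfx χ) (S.hfg χ) (S.hfz χ)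
  have k4 := ValueTools.mod_four hna χ S.T.hz (S.hfz χ)
  rw [hd] at k5 k4 hpos
  push_cast at k5 k4
  have ev : ∀ {h : G} {f : IrrCharacter G → ℤ}, (∀ η : IrrCharacter G, (η : G → ℂ) h = f η) →
      (χ : G → ℂ) h = 0 → f χ = 0 := fun hf hk => by exact_mod_cast (hf χ).symm.trans hk
  refine ⟨by omega, ?_, ?_, fun h5 => ?_, fun h5 => ?_, by omega, k5', k2, by omega⟩
  · by_contra hlt
    have : (22 : ℤ) ≤ a11 χ := by omega
    nlinarith
  · have h := hG ▸ charDegree_dvd χ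
    rw [hd] at h
    exact Nat.dvd_of_mul_dvd_mul_left (by norm_num : 0 < 11) (by simpa using h)
  · exact ev S.hfx (vanish_five hG χ (by omega) _ (by rw [S.T.hx]))
  · exact ev S.hfg (vanish_five hG χ (by omega) _ (by rw [S.T.orderOf_mul]; norm_num))

omit [IsSimpleGroup G] in
theorem exists_nu : ∃ n : IrrCharacter G → ℤ, ∀ χ, nu χ = n χ ∧ n χ ≤ 1 := by
  have hn' : ∀ χ : IrrCharacter G, ∃ k : ℤ, nu χ = k ∧ k ≤ 1 := fun χ => by
    rcases nu_cases χ with h | h | h
    · exact ⟨0, by simpa using h, by norm_num⟩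
    · exact ⟨1, by simpa using h, le_rfl⟩
    · exact ⟨-1, by simpa using h, by norm_num⟩
  choose n hn using hn'
  exact ⟨n, hn⟩

omit [IsSimpleGroup G] in
theorem card_roots {n : IrrCharacter G → ℤ} (hn : ∀ χ, nu χ = n χ) {h : G} {f : IrrCharacter G → ℤ}
    (hf : ∀ χ : IrrCharacter G, (χ : G → ℂ) h = f χ) :
    ((Finset.univ.filter fun w : G => w * w = h).card : ℤ) = ∑ χ : IrrCharacter G, n χ * f χ := by
  have e := card_sqrt_eq h
  rw [Nat.card_eq_fintype_card, Fintype.card_subtype,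
    Finset.sum_congr rfl (g := fun χ : IrrCharacter G => ((n χ * f χ : ℤ) : ℂ)) fun χ _ => by
      rw [hn, hf]; push_cast; rfl, ← Int.cast_sum] at e
  exact_mod_cast e

include hG in
/-- The count of the involutions: the rest is large, and if it is no larger every character outside `Y` is real
and there are no further involutions. -/
theorem involution_count : 48 ≤ ∑ χ ∈ S.R, (a11 χ : ℤ) ∧
    (∑ χ ∈ S.R, (a11 χ : ℤ) = 48 → Nat.card (centralizer ({S.T.z} : Set G)) = 240 →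
      ∃ n : IrrCharacter G → ℤ, (∀ χ, nu χ = n χ) ∧ (∀ θ ∈ S.D.F.Y, n θ = 0) ∧ (∀ χ, χ ∉ S.D.F.Y → n χ = 1) ∧
        ∀ u : G, orderOf u = 2 → IsConj u S.t ∨ IsConj u S.T.z) := by
  obtain ⟨n, hn⟩ := exists_nu (G := G)
  have nY : ∀ θ ∈ S.D.F.Y, n θ = 0 := fun θ h => by
    have h1 := (hn θ).1
    rw [nu_theta hG S.D h] at h1
    exact_mod_cast h1.symm
  have hI := card_roots (fun χ => (hn χ).1) (h := (1 : G)) fd_spec
  have hidx : ∀ h : G, (centralizer ({h} : Set G)).index * Nat.card (centralizer ({h} : Set G)) = 95040 :=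
    fun h => (centralizer ({h} : Set G)).index_mul_card.trans hG
  have hit := hidx S.t
  rw [S.hCt] at hit
  have hiz := hidx S.T.z
  have hclass : ∀ h : G, (Finset.univ.filter fun w : G => IsConj w h).card = (centralizer ({h} : Set G)).index :=
    fun h => by rw [← CfsgLib.Char.card_isConj_eq_index h, Nat.card_eq_fintype_card, Fintype.card_subtype]
  have htz : ¬ IsConj S.t S.T.z := fun e => by
    have := card_centralizer_eq e
    rw [S.hCt] at this
    rcases S.hCz with e' | e' <;> omega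
  set U : Finset G := insert 1 ((Finset.univ.filter fun w : G => IsConj w S.t) ∪
    (Finset.univ.filter fun w : G => IsConj w S.T.z)) with hUdef
  have hU : U.card = 1 + ((centralizer ({S.t} : Set G)).index + (centralizer ({S.T.z} : Set G)).index) := by
    rw [hUdef, Finset.card_insert_of_notMem, Finset.card_union_of_disjoint, hclass, hclass, add_comm]
    · rw [Finset.disjoint_filter]
      exact fun w _ h1 h2 => htz (h1.symm.trans h2)
    · simp only [Finset.mem_union, Finset.mem_filter, Finset.mem_univ, true_and, not_or]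
      refine ⟨fun e => ?_, fun e => ?_⟩
      · have := S.ht
        rw [isConj_one_right.mp e, orderOf_one] at this; omega
      · have := S.T.hz
        rw [isConj_one_right.mp e, orderOf_one] at this; omega
  have hsub : U ⊆ Finset.univ.filter fun w : G => w * w = 1 := fun w hw => by
    simp only [hUdef, Finset.mem_insert, Finset.mem_union, Finset.mem_filter, Finset.mem_univ, true_and] at hw
    refine Finset.mem_filter.mpr ⟨Finset.mem_univ _, ?_⟩
    rcases hw with rfl | h | h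
    · exact mul_one 1
    · exact sq_of S.ht h
    · exact sq_of S.T.hz h
  set w' : IrrCharacter G → ℤ := fun χ => if χ ∈ S.D.F.Y then 0 else (1 - n χ) * fd χ with hw'
  have hw0 : ∀ χ : IrrCharacter G, 0 ≤ w' χ := fun χ => by
    simp only [hw']
    split_ifs
    · exact le_rfl
    · exact mul_nonneg (by linarith [(hn χ).2]) (by simp [fd])
  have hnd : ∑ χ : IrrCharacter G, n χ * fd χ + ∑ χ : IrrCharacter G, w' χ =
      364 + 11 * ∑ χ ∈ S.R, (a11 χ : ℤ) := by
    rw [← Finset.sum_add_distrib, Finset.sum_congr rfl (g := fun χ => (if χ ∈ S.D.F.Y then 0 else 1) * fd χ)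
      fun χ _ => by
        simp only [hw']
        split_ifs with h
        · rw [nY χ h]; ring
        · ring,
      S.dot hG _ _ (fun θ h => if_pos h) S.dY, S.d0, S.dA, S.dB, S.dC, S.dE,
      Finset.sum_congr (s₂ := S.R) rfl (g := fun χ => 11 * (a11 χ : ℤ)) fun χ hχ => by
        rw [if_neg (S.not_mem_Y hχ), one_mul, S.fd_eq hG hχ], ← Finset.mul_sum]
    have hne : ∀ χ ∈ S.D.F.X, χ ∉ S.D.F.Y := fun χ h h' => Finset.disjoint_left.mp S.D.F.hdisj h h'
    rw [if_neg (hne _ (triv_memX hG S.D.F)), if_neg (hne _ (S.D.F.mem_X (mem45 S.D)).1),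
      if_neg (hne _ (S.D.F.mem_X (mem54 S.D)).1), if_neg (hne _ (S.D.F.mem_X (mem120 S.D)).1),
      if_neg (hne _ (S.D.F.mem_X (mem144 S.D)).1)]
    norm_num
  have hw'sum := Finset.sum_nonneg fun χ (_ : χ ∈ (Finset.univ : Finset (IrrCharacter G))) => hw0 χ
  have hle := Finset.card_le_card hsub
  refine ⟨by rcases S.hCz with e | e <;> rw [e] at hiz <;> omega, fun h48 h240 => ?_⟩
  rw [h240] at hiz
  have hwz : ∀ χ : IrrCharacter G, w' χ = 0 := fun χ =>
    (Finset.sum_eq_zero_iff_of_nonneg fun η _ => hw0 η).mp (by omega) χ (Finset.mem_univ χ)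
  have hall : U = Finset.univ.filter fun w : G => w * w = 1 := Finset.eq_of_subset_of_card_le hsub (by omega)
  refine ⟨n, fun χ => (hn χ).1, nY, fun χ h => ?_, fun u hu => ?_⟩
  · have h1 := hwz χ
    simp only [hw', if_neg h] at h1
    rcases mul_eq_zero.mp h1 with e | e
    · linarith
    · have := charDegree_pos χ
      simp only [fd] at e
      omega
  · have hmem : u ∈ U := by
      rw [hall, Finset.mem_filter]
      exact ⟨Finset.mem_univ _, by rw [← pow_two, ← hu, pow_orderOf_eq_one]⟩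
    simp only [hUdef, Finset.mem_insert, Finset.mem_union, Finset.mem_filter, Finset.mem_univ, true_and] at hmem
    rcases hmem with rfl | h | h
    · rw [orderOf_one] at hu; omega
    · exact Or.inl h
    · exact Or.inr h

/-- The eight characters outside the block. -/
structure Eight {G : Type*} [Group G] [Fintype G] [Fact (Nat.Prime 11)] (S : Setup G) where
  p : IrrCharacter G
  p' : IrrCharacter G
  q : IrrCharacter G
  r : IrrCharacter G
  m : IrrCharacter G
  f1 : IrrCharacter G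
  f2 : IrrCharacter G
  f3 : IrrCharacter G
  hset : S.R = {p, p', q, r, m, f1, f2, f3}
  hnd : [p, p', q, r, m, f1, f2, f3].Nodup
  vp : fd p = 11
  vp' : fd p' = 11
  vq : fd q = 66
  vr : fd r = 99
  vm : fd m = 176
  v1 : fd f1 = 55
  v2 : fd f2 = 55
  v3 : fd f3 = 55
  xp : S.fx p = 1
  xp' : S.fx p' = 1
  xq : S.fx q = 1
  xr : S.fx r = -1
  xm : S.fx m = 1
  x1 : S.fx f1 = 0
  x2 : S.fx f2 = 0
  x3 : S.fx f3 = 0
  gp : S.fg p = -1
  gp' : S.fg p' = -1
  gq : S.fg q = 1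
  gr : S.fg r = -1
  gm : S.fg m = S.s
  g1 : S.fg f1 = 0
  g2 : S.fg f2 = 0
  g3 : S.fg f3 = 0
  zp : S.fz p = -1
  zp' : S.fz p' = -1
  zq : S.fz q = 6
  zr : S.fz r = -1
  zm : S.fz m = -(4 * S.s)
  z1 : S.fz f1 = -5
  z2 : S.fz f2 = -5
  z3 : S.fz f3 = -5
  hCz240 : Nat.card (centralizer ({S.T.z} : Set G)) = 240
  h48 : ∑ χ ∈ S.R, (a11 χ : ℤ) = 48

include hG in
theorem exists_eight : Nonempty (Eight S) := by
  have hl : ∀ χ ∈ S.R, M12Shape.Local a11 S.fx S.fg S.fz χ := fun χ hχ => local_spec hG S hχ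
  obtain ⟨p, p', q, r, m, f1, f2, f3, hpp, f12, f13, f23, hset, ap, ap', aq, ar, am, a1, a2, a3, hC240, humu,
    hsum48⟩ := kinds_eq hl (S.sum_aa hG) (S.sum_ab hG) (S.sum_bb hG) (S.sum_cc hG) S.hs (S.sum_bc hG) S.hCz
      (S.sum_uu hG) (involution_count hG S).1
  obtain ⟨hsh, hcc⟩ := shape hl (S.sum_bb hG) (S.sum_cc hG) S.hs (S.sum_bc hG)
  have hnd8 : [p, p', q, r, m, f1, f2, f3].Nodup := by
    simp only [List.nodup_cons, List.mem_cons, List.not_mem_nil, or_false, not_or, not_false_eq_true,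
      List.nodup_nil, and_true]
    refine ⟨⟨hpp, ?_, ?_, ?_, ?_, ?_, ?_⟩, ⟨?_, ?_, ?_, ?_, ?_, ?_⟩, ⟨?_, ?_, ?_, ?_, ?_⟩, ⟨?_, ?_, ?_, ?_⟩,
      ⟨?_, ?_, ?_⟩, ⟨f12, f13⟩, f23⟩ <;>
      (intro e; have e' := congrArg a11 e; simp [ap, ap', aq, ar, am, a1, a2, a3] at e')
  have mp : p ∈ S.R := by simp [hset]
  have mp' : p' ∈ S.R := by simp [hset]
  have mq : q ∈ S.R := by simp [hset]
  have mr : r ∈ S.R := by simp [hset]
  have mm : m ∈ S.R := by simp [hset]
  have m1 : f1 ∈ S.R := by simp [hset]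
  have m2 : f2 ∈ S.R := by simp [hset]
  have m3 : f3 ∈ S.R := by simp [hset]
  have xv : ∀ χ ∈ S.R, ∀ k : ℕ, a11 χ = k → S.fx χ = beta k := fun χ h k e => e ▸ (hsh χ h).2.1
  have dv : ∀ χ ∈ S.R, ∀ k : ℕ, a11 χ = k → fd χ = 11 * (k : ℤ) := fun χ h k e => e ▸ S.fd_eq hG h
  have sq1 : ∀ χ ∈ S.R, S.fx χ * S.fx χ = 1 → S.fg χ = 1 ∨ S.fg χ = -1 := fun χ hχ h =>
    mul_self_eq_one_iff.mp ((hcc χ hχ).trans h)
  have root : ∀ {v k : ℤ}, v * v = k * k → v = k ∨ v = -k := fun h => mul_self_eq_mul_self_iff.mp h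
  have small : ∀ χ ∈ S.R, ∀ k : ℕ, a11 χ = k → k = 1 ∨ k = 9 → S.fz χ = -1 ∧ S.fg χ = -1 :=
    fun χ hχ k hk hk' => by
      have l4 := (hl χ hχ).four
      have l5 := (hl χ hχ).cu
      rw [hk] at l4
      have h1 := root (v := S.fz χ) (k := 1) ((humu χ hχ).trans (by rw [hk]; rcases hk' with rfl | rfl <;> rfl))
      have h2 := sq1 χ hχ (by rw [xv χ hχ k hk]; rcases hk' with rfl | rfl <;> rfl)
      clear * - h1 h2 l4 l5 hk'
      omega
  obtain ⟨zp, gp⟩ := small p mp 1 ap (Or.inl rfl)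
  obtain ⟨zp', gp'⟩ := small p' mp' 1 ap' (Or.inl rfl)
  obtain ⟨zr, gr⟩ := small r mr 9 ar (Or.inr rfl)
  have five : ∀ χ ∈ S.R, a11 χ = 5 → S.fz χ = -5 ∧ S.fg χ = 0 := fun χ hχ h => by
    have l4 := (hl χ hχ).four
    have l5 := (hl χ hχ).vc (by omega)
    have h1 := root (v := S.fz χ) (k := 5) ((humu χ hχ).trans (by rw [h]; rfl))
    rw [h] at l4
    clear * - h1 l4 l5
    omega
  obtain ⟨z1, g1⟩ := five f1 m1 a1
  obtain ⟨z2, g2⟩ := five f2 m2 a2
  obtain ⟨z3, g3⟩ := five f3 m3 a3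
  have e1 := S.sum_bc hG
  have e2 := S.sum_ac hG
  rw [hset, sum_eight hnd8, xv p mp 1 ap, xv p' mp' 1 ap', xv q mq 6 aq, xv r mr 9 ar, xv m mm 16 am,
    xv f1 m1 5 a1, xv f2 m2 5 a2, xv f3 m3 5 a3, gp, gp', gr] at e1
  rw [hset, sum_eight hnd8, ap, ap', aq, ar, am, a1, a2, a3, gp, gp', gr, g1, g2, g3] at e2
  simp only [M12Shape.beta] at e1
  push_cast at e2
  obtain ⟨gq, gm, zq, zm⟩ := signs S.hs (sq1 q mq (by rw [xv q mq 6 aq]; rfl))
    (sq1 m mm (by rw [xv m mm 16 am]; rfl)) (root ((humu q mq).trans (by rw [aq]; rfl)))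
    (root ((humu m mm).trans (by rw [am]; rfl))) (hl q mq).cu (hl m mm).cu (by linarith) (by linarith)
  exact ⟨{
    p := p, p' := p', q := q, r := r, m := m, f1 := f1, f2 := f2, f3 := f3
    hset := hset, hnd := hnd8
    vp := dv p mp 1 ap, vp' := dv p' mp' 1 ap', vq := dv q mq 6 aq, vr := dv r mr 9 ar, vm := dv m mm 16 am
    v1 := dv f1 m1 5 a1, v2 := dv f2 m2 5 a2, v3 := dv f3 m3 5 a3
    xp := xv p mp 1 ap, xp' := xv p' mp' 1 ap', xq := xv q mq 6 aq, xr := xv r mr 9 ar, xm := xv m mm 16 am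
    x1 := xv f1 m1 5 a1, x2 := xv f2 m2 5 a2, x3 := xv f3 m3 5 a3
    gp := gp, gp' := gp', gq := gq, gr := gr, gm := gm, g1 := g1, g2 := g2, g3 := g3
    zp := zp, zp' := zp', zq := zq, zr := zr, zm := zm, z1 := z1, z2 := z2, z3 := z3
    hCz240 := hC240, h48 := hsum48 }⟩

variable {S}

theorem sum_R {M : Type*} [AddCommMonoid M] (E : Eight S) (f : IrrCharacter G → M) :
    ∑ χ ∈ S.R, f χ =
      f E.p + (f E.p' + (f E.q + (f E.r + (f E.m + (f E.f1 + (f E.f2 + f E.f3)))))) := by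
  rw [E.hset]; exact sum_eight E.hnd f

include hG in
theorem t_values (E : Eight S) : S.ft E.p + S.ft E.p' = 6 ∧ S.ft E.q = 2 ∧ S.ft E.r = 3 ∧ S.ft E.m = 0 := by
  have hna := M12Local.not_comm hG
  have h82 := S.sum_tt hG
  have hm : S.ft E.m = 0 := by
    have hle := Finset.single_le_sum (f := fun η => S.ft η * S.ft η) (fun η _ => mul_self_nonneg (S.ft η))
      (show E.m ∈ S.R by simp [E.hset])
    rw [h82] at hle
    have h := degree_dvd_index_mul E.m S.t (S.hft E.m)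
    have hi : (centralizer ({S.t} : Set G)).index = 495 := by
      have := (centralizer ({S.t} : Set G)).index_mul_card
      rw [hG, S.hCt] at this
      omega
    rw [hi, show (charDegree ((E.m : IrrCharacter G) : G → ℂ) : ℤ) = 176 from E.vm] at h
    exact sixteen h (by nlinarith) (by nlinarith)
  have hq : (S.ft E.q - 66) % 4 = 0 := by
    have h := ValueTools.mod_four hna E.q S.ht (S.hft E.q)
    rwa [show (charDegree ((E.q : IrrCharacter G) : G → ℂ) : ℤ) = 66 from E.vq] at h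
  have htz : ¬ IsConj S.T.z S.t := fun e => by
    have := card_centralizer_eq e
    rw [S.hCt, E.hCz240] at this
    omega
  have o1 := orth_zero (Setup.one_order (g := S.t) (by rw [S.ht]; norm_num)) fd_spec S.hft
  have o2 := orth_zero (not_conj_order (g := S.T.x) (h := S.t) (by rw [S.T.hx, S.ht]; norm_num)) S.hfx S.hft
  have o3 := orth_zero (not_conj_order (g := S.T.x * S.T.z) (h := S.t)
    (by rw [S.T.orderOf_mul, S.ht]; norm_num)) S.hfg S.hft
  have o4 := orth_zero htz S.hfz S.hft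
  rw [S.dot hG _ _ S.dY S.tY, sum_R E, S.d0, S.dA, S.dB, S.dC, S.dE, S.t0, S.tA, S.tB, S.tC, S.tE, hm, E.vp, E.vp',
    E.vq, E.vr, E.v1, E.v2, E.v3] at o1
  rw [S.dot hG _ _ S.xY S.tY, sum_R E, S.x0, S.xA, S.xB, S.xC, S.xE, S.t0, S.tA, S.tB, S.tC, S.tE, hm, E.xp, E.xp',
    E.xq, E.xr, E.x1, E.x2, E.x3] at o2
  rw [S.dot hG _ _ S.gY S.tY, sum_R E, S.g0, S.gA, S.gB, S.gC, S.gE, S.t0, S.tA, S.tB, S.tC, S.tE, hm, E.gp, E.gp',
    E.gq, E.gr, E.g1, E.g2, E.g3] at o3
  rw [S.dot hG _ _ S.zY S.tY, sum_R E, S.z0, S.zA, S.zB, S.zC, S.zE, S.t0, S.tA, S.tB, S.tC, S.tE, hm, E.zp, E.zp',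
    E.zq, E.zr, E.z1, E.z2, E.z3] at o4

  simp only [mul_zero, add_zero, zero_add, mul_one, one_mul] at o1 o2 o3 o4
  clear * - o1 o2 o3 o4 hq hm
  refine ⟨?_, ?_, ?_, hm⟩ <;> omega

include hG in
/-- The first character of degree 11 is 3 at the central involution. -/
theorem t_three (E : Eight S) : S.ft E.p = 3 := by
  have hna := M12Local.not_comm hG
  obtain ⟨hP, tq, trv, tm⟩ := t_values hG E
  by_contra hne
  have h82 := S.sum_tt hG
  rw [sum_R E, tq, trv, tm] at h82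
  have := mul_self_nonneg (S.ft E.f1)
  have := mul_self_nonneg (S.ft E.f2)
  have := mul_self_nonneg (S.ft E.f3)
  have hp4 := ValueTools.mod_four hna E.p S.ht (S.hft E.p)
  rw [show (charDegree ((E.p : IrrCharacter G) : G → ℂ) : ℤ) = 11 from E.vp] at hp4
  have h50 : S.ft E.p * S.ft E.p + S.ft E.p' * S.ft E.p' = 50 :=
    pair_fifty (by omega) hne hP (by linarith)
  have hxinv : ∀ χ : IrrCharacter G, (χ : G → ℂ) S.T.x⁻¹ = S.fx χ := fun χ => by
    rw [inv_eq_of_mul_eq_one_right (a := S.T.x) (b := S.T.x ^ 4) (by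
      rw [← pow_succ', show 4 + 1 = orderOf S.T.x from S.T.hx.symm, pow_orderOf_eq_one])]
    exact pow_value χ S.T.x (by rw [S.T.hx]; norm_num) (S.hfx χ)
  have hi : (centralizer ({S.t} : Set G)).index = 495 := by
    have := (centralizer ({S.t} : Set G)).index_mul_card
    rw [hG, S.hCt] at this
    omega
  have hcount := card_pairs_eq S.t S.t S.T.x
  rw [hi, hG,
    Finset.sum_congr rfl (g := fun χ : IrrCharacter G => ((S.ft χ * S.ft χ * S.fx χ : ℤ) : ℂ) / (fd χ : ℂ))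
      fun χ _ => by rw [S.hft, hxinv, fd_spec]; push_cast; ring,
    split hG S.D, show rest S.D.F = S.R from rfl, sum_R E,
    Finset.sum_congr rfl (g := fun _ => (0 : ℂ)) fun θ h => by rw [S.tY θ h]; simp,
    Finset.sum_const_zero, S.d0, S.dA, S.dB, S.dC, S.dE, S.t0, S.tA, S.tB, S.tC, S.tE, S.x0, S.xA, S.xB, S.xC, S.xE,
    E.vp, E.vp', E.vq, E.vr, E.vm, E.v1, E.v2, E.v3, E.xp, E.xp', E.xq, E.xr, E.xm, E.x1, E.x2, E.x3, tm, tq,
    trv] at hcount
  set N := Nat.card {e : G // IsConj S.t e ∧ IsConj S.t (e⁻¹ * S.T.x)}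
  have h50' : (S.ft E.p : ℂ) * S.ft E.p + (S.ft E.p' : ℂ) * S.ft E.p' = 50 := by exact_mod_cast h50
  have hN : ((2 * N : ℕ) : ℂ) = ((25 : ℕ) : ℂ) := by
    push_cast at hcount ⊢
    linear_combination (-(1 : ℂ) / 47520) * hcount + ((495 : ℂ) * 495 / (11 * 47520)) * h50'
  have : 2 * N = 25 := by exact_mod_cast hN
  omega

include hG in
/-- Two conjugates of the involution commute and multiply to it. -/
theorem exists_pair (E : Eight S) :
    ∃ a : G, IsConj S.T.z a ∧ IsConj S.T.z (a * S.T.z) ∧ Commute a S.T.z := by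
  have hzinv : S.T.z⁻¹ = S.T.z := inv_eq_of_mul_eq_one_right (by rw [← pow_two, ← S.T.hz, pow_orderOf_eq_one])
  have hi : (centralizer ({S.T.z} : Set G)).index = 396 := by
    have := (centralizer ({S.T.z} : Set G)).index_mul_card
    rw [hG, E.hCz240] at this
    omega
  have hcount := card_pairs_eq S.T.z S.T.z S.T.z
  rw [hi, hG, hzinv,
    Finset.sum_congr rfl (g := fun χ : IrrCharacter G => ((S.fz χ * S.fz χ * S.fz χ : ℤ) : ℂ) / (fd χ : ℂ))
      fun χ _ => by rw [S.hfz, fd_spec]; push_cast; ring,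
    split hG S.D, show rest S.D.F = S.R from rfl, sum_R E,
    Finset.sum_congr rfl (g := fun _ => (((4 * S.s) * (4 * S.s) * (4 * S.s) : ℤ) : ℂ) / ((16 : ℤ) : ℂ))
      fun θ h => by rw [S.zY θ h, S.dY θ h],
    Finset.sum_const, S.D.F.hY, S.d0, S.dA, S.dB, S.dC, S.dE, S.z0, S.zA, S.zB, S.zC, S.zE, E.vp, E.vp', E.vq, E.vr,
    E.vm, E.v1, E.v2, E.v3, E.zp, E.zp', E.zq, E.zr, E.zm, E.z1, E.z2, E.z3] at hcount
  set N := Nat.card {e : G // IsConj S.T.z e ∧ IsConj S.T.z (e⁻¹ * S.T.z)}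
  have hN0 : N ≠ 0 := by
    intro h0
    rcases S.hs with e | e <;> rw [h0, e] at hcount <;> norm_num at hcount
  obtain ⟨⟨e, he1, he2⟩⟩ := (Nat.card_ne_zero.mp hN0).1
  have he : e⁻¹ = e := inv_eq_of_mul_eq_one_right (sq_of S.T.hz he1.symm)
  rw [he] at he2
  refine ⟨e, he1, he2, ?_⟩
  have h1 := sq_of S.T.hz he2.symm
  show e * S.T.z = S.T.z * e
  rw [← inv_eq_of_mul_eq_one_right h1, mul_inv_rev, he, hzinv]

omit [Fact (Nat.Prime 11)] in
include hG in
/-- A real character of degree 11, with what is needed to find a point stabiliser. -/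
theorem exists_point_data : ∃ (x z : G) (χ : IrrCharacter G),
    orderOf x = 5 ∧ orderOf z = 2 ∧ Commute x z ∧ Nat.card (centralizer ({x} : Set G)) = 10 ∧
      Nat.card (normalizer ((zpowers x : Subgroup G) : Set G)) = 40 ∧ (∀ s : G, s * s ≠ z) ∧
      charDegree (χ : G → ℂ) = 11 ∧ (∀ g, ((χ : G → ℂ) g).im = 0) ∧ (χ : G → ℂ) x = 1 ∧
      (χ : G → ℂ) (x * z) = -1 ∧ (χ : G → ℂ) z = -1 ∧
      (∀ t : G, orderOf t = 2 → IsConj z t ∨ (χ : G → ℂ) t = 3) ∧
      ∃ a : G, IsConj z a ∧ IsConj z (a * z) ∧ Commute a z := by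
  haveI : Fact (Nat.Prime 11) := ⟨by norm_num⟩
  obtain ⟨S⟩ := exists_setup hG
  obtain ⟨E⟩ := exists_eight hG S
  obtain ⟨n, hn, nY, n1, hinv⟩ := (involution_count hG S).2 E.h48 E.hCz240
  have hnX : ∀ χ ∈ S.D.F.X, n χ = 1 := fun χ h => n1 χ (Finset.disjoint_left.mp S.D.F.hdisj h)
  have hnR : ∀ χ ∈ S.R, n χ = 1 := fun χ h => n1 χ (S.not_mem_Y h)
  have hz0 : ((Finset.univ.filter fun w : G => w * w = S.T.z).card : ℤ) = 0 := by
    rw [card_roots hn S.hfz, S.dot hG _ _ nY S.zY,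
      Finset.sum_congr (s₂ := S.R) rfl (g := S.fz) fun χ h => by rw [hnR χ h, one_mul],
      sum_R E, hnX _ (triv_memX hG S.D.F), hnX _ (S.D.F.mem_X (mem45 S.D)).1,
      hnX _ (S.D.F.mem_X (mem54 S.D)).1, hnX _ (S.D.F.mem_X (mem120 S.D)).1, hnX _ (S.D.F.mem_X (mem144 S.D)).1,
      S.z0, S.zA, S.zB, S.zC, S.zE, E.zp, E.zp', E.zq, E.zr, E.zm, E.z1, E.z2, E.z3]
    ring
  refine ⟨S.T.x, S.T.z, E.p, S.T.hx, S.T.hz, S.T.hxz, S.T.hC, S.T.hN, fun w e => ?_, ?_, im_eq_zero E.p ?_,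
    ?_, ?_, ?_, fun u hu => ?_, exists_pair hG E⟩
  · have h0 : (Finset.univ.filter fun v : G => v * v = S.T.z).card = 0 := by exact_mod_cast hz0
    rw [Finset.card_eq_zero] at h0
    exact Finset.notMem_empty w (h0 ▸ Finset.mem_filter.mpr ⟨Finset.mem_univ _, e⟩)
  · have h := E.vp
    simp only [fd] at h
    exact_mod_cast h
  · rw [hn, hnR E.p (by simp [E.hset])]; norm_num
  · rw [S.hfx, E.xp]; norm_num
  · rw [S.hfg, E.gp]; norm_num
  · rw [S.hfz, E.zp]; norm_num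
  · rcases hinv u hu with h | h
    · exact Or.inr (by rw [value_conj E.p h, S.hft, t_three hG E]; norm_num)
    · exact Or.inl h.symm

end CfsgLib.KGroups.M12Columns
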