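import Cfsg.Agent.Lib.KGroups.M12Tools
import Cfsg.Agent.Lib.Involution.ZStar.PrincipalBlock

/-!
# The Sylow 11-normaliser of a simple group of order 95040
-/

set_option autoImplicit false

namespace CfsgLib.KGroups.M12Local

open Cfsg CfsgLib.Blocks CfsgLib.KGroups.M11Tools CfsgLib.KGroups.M11Local CfsgLib.KGroups.M12Tools Subgroup
open CfsgLib.SmallGroups
open scoped Classical

variable {G : Type*} [Group G] [Fintype G]

/-- The principal block at a Sylow subgroup of prime order. -/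
structure Frame (p e : ℕ) [Fact p.Prime] (P : Sylow p G) where
  X : Finset (IrrCharacter G)
  Y : Finset (IrrCharacter G)
  sgn : IrrCharacter G → ℤ
  εy : ℤ
  x : G
  hxP : x ∈ (P : Subgroup G)
  hx : orderOf x = p
  hzp : zpowers x = (P : Subgroup G)
  hdisj : Disjoint X Y
  hX : X.card = e
  hY : Y.card = (p - 1) / e
  htriv : trivChar G ∈ X ∨ trivChar G ∈ Y
  hsgn : ∀ χ ∈ X, sgn χ = 1 ∨ sgn χ = -1
  hmod : ∀ χ ∈ X, (charDegree (χ : G → ℂ) : ℤ) ≡ sgn χ [ZMOD p]
  hval : ∀ χ ∈ X, ∀ i, ¬ p ∣ i → ∀ u : G, Commute x u → ¬ p ∣ orderOf u →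
    (χ : G → ℂ) (x ^ i * u) = (sgn χ : ℂ)
  hεy : εy = 1 ∨ εy = -1
  hYd : ∀ θ ∈ Y, (charDegree (θ : G → ℂ) : ℤ) ≡ εy * (e : ℤ) [ZMOD p]
  hagree : ∀ θ ∈ Y, ∀ θ' ∈ Y, ∀ g : G, ¬ p ∣ orderOf g → (θ : G → ℂ) g = (θ' : G → ℂ) g
  hrel : ∀ θ ∈ Y, ∀ g : G, ¬ p ∣ orderOf g →
    (εy : ℂ) * (θ : G → ℂ) g = ∑ χ ∈ X, (sgn χ : ℂ) * (χ : G → ℂ) g
  hcol : ∀ g : G, p ∣ orderOf g →
    ∑ χ ∈ X ∪ Y, (charDegree (χ : G → ℂ) : ℂ) * (χ : G → ℂ) g = 0

theorem exists_frame [IsSimpleGroup G] {p e : ℕ} [Fact p.Prime] (hodd : p ≠ 2) (P : Sylow p G)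
    (hP : Nat.card (P : Subgroup G) = p)
    (hN : Nat.card (normalizer ((P : Subgroup G) : Set G)) =
      e * Nat.card (centralizer ((P : Subgroup G) : Set G))) :
    Nonempty (Frame p e P) := by
  have hp : p.Prime := Fact.out
  obtain ⟨M, hM⟩ := DegreeTools.TISum.exists_pmodular hp
  obtain ⟨X, Y, εX, ε, hB, hdisj, hX, hY, hXp, hε, hYd, hYeq, hrel⟩ :=
    PrimeOrder.principal_block hM hodd P hP
  rw [autCard_of P hN] at hX hY hYd
  obtain ⟨x, hxP, hx, hzp⟩ := PrimeOrder.exists_generator P hP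
  refine ⟨⟨X, Y, εX, ε, x, hxP, hx, hzp, hdisj, hX, hY, (hB _).1 (trivChar_mem_principalBlock hM),
    fun χ hχ => (hXp χ hχ).1, fun χ hχ => (hXp χ hχ).2.1, fun χ hχ i hi u hc hu => ?_, hε, hYd, hYeq, hrel,
    fun g hg => ?_⟩⟩
  · exact (hXp χ hχ).2.2 _ _ (isPPart_mul_of (k := 1) (by rw [orderOf_pow_prime hp hx hi, pow_one])
      (hc.pow_left i) hu) (pow_mem hxP i) (pow_ne_one_of_not_dvd hx hi)
  · have h := CfsgLib.Involution.ZStar.sum_degree_mul_eq_zero hM
      (isPBlock_principalBlock (M := M) (G := G)) (g := g) hg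
    rw [← h]
    refine Finset.sum_congr ?_ fun χ _ => by rw [irr_one_eq]
    ext χ
    rw [Finset.mem_union, Set.mem_toFinset]
    exact (hB χ).symm

namespace Frame

variable {p e : ℕ} [hp : Fact p.Prime] {P : Sylow p G} (F : Frame p e P)

/-- The non-trivial members of `X`. -/
noncomputable def X' : Finset (IrrCharacter G) := F.X.erase (trivChar G)

theorem mem_X {χ : IrrCharacter G} (h : χ ∈ F.X') : χ ∈ F.X ∧ χ ≠ trivChar G :=
  ⟨(Finset.mem_erase.mp h).2, (Finset.mem_erase.mp h).1⟩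

theorem triv_mem (he0 : e ≠ 1) (he : e + 1 < p) (he' : 0 < e) : trivChar G ∈ F.X := by
  refine F.htriv.resolve_right fun h => ?_
  have h1 := F.hYd _ h
  rw [show charDegree ((trivChar G : IrrCharacter G) : G → ℂ) = 1 by simp [charDegree],
    Nat.cast_one, Int.modEq_iff_dvd] at h1
  rcases F.hεy with e1 | e1 <;> rw [e1] at h1
  · have := Int.eq_zero_of_dvd_of_natAbs_lt_natAbs h1 (by omega)
    omega
  · have := Int.eq_zero_of_dvd_of_natAbs_lt_natAbs h1 (by omega)
    omega

theorem sgn_triv (h : trivChar G ∈ F.X) : F.sgn (trivChar G) = 1 := by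
  have h1 := F.hval _ h 1 hp.out.not_dvd_one 1 (Commute.one_right _) (by rw [orderOf_one]; exact hp.out.not_dvd_one)
  rw [trivChar_apply] at h1
  exact_mod_cast h1.symm

theorem card_X' (h : trivChar G ∈ F.X) : F.X'.card + 1 = e := by
  rw [Frame.X', Finset.card_erase_add_one h, F.hX]

theorem rel_split (h : trivChar G ∈ F.X) {θ : IrrCharacter G} (hθ : θ ∈ F.Y) (g : G) (hg : ¬ p ∣ orderOf g) :
    (F.εy : ℂ) * (θ : G → ℂ) g = 1 + ∑ χ ∈ F.X', (F.sgn χ : ℂ) * (χ : G → ℂ) g := by
  rw [F.hrel θ hθ g hg, ← Finset.add_sum_erase _ _ h, F.sgn_triv h, trivChar_apply]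
  simp [Frame.X']

theorem rel_one (h : trivChar G ∈ F.X) {θ : IrrCharacter G} (hθ : θ ∈ F.Y) :
    F.εy * (charDegree (θ : G → ℂ) : ℤ) = 1 + ∑ χ ∈ F.X', F.sgn χ * (charDegree (χ : G → ℂ) : ℤ) := by
  have h1 := F.rel_split h hθ 1 (by rw [orderOf_one]; exact hp.out.not_dvd_one)
  simp only [irr_one_eq] at h1
  exact_mod_cast h1

theorem deg_agree {θ θ' : IrrCharacter G} (h : θ ∈ F.Y) (h' : θ' ∈ F.Y) :
    charDegree (θ : G → ℂ) = charDegree (θ' : G → ℂ) := by
  have := F.hagree θ h θ' h' 1 (by rw [orderOf_one]; exact hp.out.not_dvd_one)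
  rw [irr_one_eq, irr_one_eq] at this
  exact_mod_cast this

end Frame

variable [IsSimpleGroup G] (hG : Nat.card G = 95040)

include hG in
theorem not_comm : ¬ IsMulCommutative G :=
  SimpleTools.not_comm_of_card (by rw [hG]; norm_num)

include hG in
theorem card_sylow_eleven (P : Sylow 11 G) [Fact (Nat.Prime 11)] : Nat.card (P : Subgroup G) = 11 :=
  (SimpleTools.card_sylow_subgroup (k := 1) (m := 8640) (by rw [hG]; norm_num) (by norm_num) P).trans (pow_one _)

omit [IsSimpleGroup G] in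
include hG in
theorem deg_le (χ : IrrCharacter G) : charDegree (χ : G → ℂ) ≤ 308 := by
  have h : charDegree (χ : G → ℂ) ^ 2 ≤ 95040 := by
    calc charDegree (χ : G → ℂ) ^ 2 ≤ ∑ η : IrrCharacter G, charDegree (η : G → ℂ) ^ 2 :=
          Finset.single_le_sum (f := fun η : IrrCharacter G => charDegree (η : G → ℂ) ^ 2)
            (fun _ _ => Nat.zero_le _) (Finset.mem_univ χ)
      _ = 95040 := by rw [sum_deg_sq, hG]
  nlinarith

theorem mem_block_list : ∀ a ∈ Finset.range 309, a ∣ 95040 → 2 ≤ a →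
    (a % 11 = 1 → a = 12 ∨ a = 45 ∨ a = 144) ∧ (a % 11 = 10 → a = 10 ∨ a = 32 ∨ a = 54 ∨ a = 120) := by
  decide +kernel

include hG in
/-- The degrees and signs in the principal 11-block. -/
theorem deg_cases [Fact (Nat.Prime 11)] {e : ℕ} {P : Sylow 11 G} (F : Frame 11 e P) {χ : IrrCharacter G}
    (h : χ ∈ F.X') :
    (F.sgn χ = 1 ∧ (charDegree (χ : G → ℂ) = 12 ∨ charDegree (χ : G → ℂ) = 45 ∨ charDegree (χ : G → ℂ) = 144)) ∨
      (F.sgn χ = -1 ∧ (charDegree (χ : G → ℂ) = 10 ∨ charDegree (χ : G → ℂ) = 32 ∨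
        charDegree (χ : G → ℂ) = 54 ∨ charDegree (χ : G → ℂ) = 120)) := by
  obtain ⟨hX, hne⟩ := F.mem_X h
  have hna := not_comm hG
  have h2 : 2 ≤ charDegree (χ : G → ℂ) := by
    have := charDegree_pos χ
    have : charDegree (χ : G → ℂ) ≠ 1 := fun h => hne (BlockDegrees.eq_trivChar hna χ h)
    omega
  obtain ⟨h1, h10⟩ := mem_block_list _ (Finset.mem_range.mpr (by have := deg_le hG χ; omega))
    (hG ▸ charDegree_dvd χ) h2
  have hm := F.hmod χ hX
  rcases F.hsgn χ hX with e1 | e1 <;> rw [e1, Int.ModEq] at hm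
  · exact Or.inl ⟨e1, h1 (by omega)⟩
  · exact Or.inr ⟨e1, h10 (by omega)⟩

include hG in
/-- The value at an involution centralising `P`. -/
theorem value_central [Fact (Nat.Prime 11)] {x z : G} (hx : orderOf x = 11) (hz : orderOf z = 2)
    (hxz : Commute x z) {χ : IrrCharacter G} (hne : χ ≠ trivChar G) {s : ℤ}
    (hval : ∀ i, ¬ 11 ∣ i → ∀ u : G, Commute x u → ¬ 11 ∣ orderOf u → (χ : G → ℂ) (x ^ i * u) = (s : ℂ)) :
    ∃ v : ℤ, (χ : G → ℂ) z = v ∧ (v - (charDegree (χ : G → ℂ) : ℤ)) % 4 = 0 ∧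
      -(charDegree (χ : G → ℂ) : ℤ) < v ∧ v < charDegree (χ : G → ℂ) ∧
      ∃ m : ℕ, (charDegree (χ : G → ℂ) : ℤ) + v + 20 * s = 22 * m := by
  have hna := not_comm hG
  obtain ⟨v, hv⟩ := exists_int_two χ hz
  have hlt := ValueTools.lt_degree hna hne
    (show z ≠ 1 from fun h => by rw [h, orderOf_one] at hz; omega) hv
  refine ⟨v, hv, ValueTools.mod_four hna χ hz hv, by omega, by omega, ?_⟩
  have hord : orderOf (x * z) = 22 := by
    rw [hxz.orderOf_mul_eq_mul_orderOf_of_coprime (by rw [hx, hz]; norm_num), hx, hz]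
  obtain ⟨m, hm⟩ := sum_powers χ (x * z)
  rw [hord] at hm
  have hterm : ∀ i ∈ Finset.range 22, (χ : G → ℂ) ((x * z) ^ i) =
      if i = 11 then (χ : G → ℂ) z else if i = 0 then (charDegree (χ : G → ℂ) : ℂ) else (s : ℂ) := by
    intro i hi
    rw [Finset.mem_range] at hi
    have hx11 : x ^ 11 = 1 := hx ▸ pow_orderOf_eq_one x
    have hz2 : z ^ 2 = 1 := hz ▸ pow_orderOf_eq_one z
    split_ifs with h1 h0
    · subst h1
      rw [hxz.mul_pow, hx11, one_mul, show (11 : ℕ) = 2 * 5 + 1 from rfl, pow_succ, pow_mul, hz2, one_pow, one_mul]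
    · subst h0
      rw [pow_zero, irr_one_eq]
    · rw [hxz.mul_pow]
      refine hval i (by omega) _ (hxz.pow_right i) fun hd => ?_
      have h2 : orderOf (z ^ i) ∣ 2 := hz ▸ orderOf_pow_dvd i
      exact absurd (Nat.le_of_dvd (by norm_num) (hd.trans h2)) (by norm_num)
  rw [Finset.sum_congr rfl hterm, hv] at hm
  simp only [Finset.sum_range_succ, Finset.sum_range_zero] at hm
  norm_num at hm
  refine ⟨m, ?_⟩
  have hm' : ((charDegree (χ : G → ℂ) : ℤ) + v + 20 * s : ℂ) = ((22 * m : ℕ) : ℂ) := by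
    push_cast; linear_combination hm
  exact_mod_cast hm'

theorem index_dvd_aux : ∀ C ∈ Finset.range 2113, C ∣ 2112 → C ∣ 11880 → C ≤ 264 := by decide +kernel

theorem five_key : ∀ a ∈ ([32, 45, 120, 144] : List ℤ), ∀ b ∈ ([32, 45, 120, 144] : List ℤ),
    ∀ c ∈ ([32, 45, 120, 144] : List ℤ), ∀ d ∈ ([32, 45, 120, 144] : List ℤ),
    (1 + ([a, b, c, d].map fun v => if v = 32 ∨ v = 120 then -v else v).sum).natAbs ∣ 95040 →
    ((1 + ([a, b, c, d].map fun v => if v = 32 ∨ v = 120 then -v else v).sum) % 11 = 5) →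
    (2 ≤ [a, b, c, d].count 32 ∧ 1 ≤ [a, b, c, d].count 45) ∨
      ([a, b, c, d].count 45 = 3 ∧ [a, b, c, d].count 120 = 1) ∨
      95040 < 1 + ([a, b, c, d].map fun v => v * v).sum +
        2 * (1 + ([a, b, c, d].map fun v => if v = 32 ∨ v = 120 then -v else v).sum) ^ 2 := by
  decide +kernel

include hG in
/-- The Sylow 11-normaliser. -/
theorem normalizer_eleven [Fact (Nat.Prime 11)] (P : Sylow 11 G) :
    Nat.card (normalizer ((P : Subgroup G) : Set G)) = 55 ∧
      Nat.card (centralizer ((P : Subgroup G) : Set G)) = 11 := by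
  have hna := not_comm hG
  have hP := card_sylow_eleven hG P
  obtain ⟨e, k, he1, he, hN, hC⟩ := LocalTools.exists_e hna P hP
  have hn := SimpleTools.card_sylow_mem (G := G) (p := 11) (k := 1) (m := 8640)
    (by rw [hG]; norm_num) (by norm_num)
  have hne1 := SimpleTools.card_sylow_ne_one (p := 11) hna (by rw [hG]; norm_num)
  have hmul : Nat.card (Sylow 11 G) * Nat.card (normalizer ((P : Subgroup G) : Set G)) = Nat.card G :=
    SimpleTools.card_normalizer_mul P
  rw [hG, hN] at hmul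
  have hcases : Nat.card (Sylow 11 G) ∈ ({12, 45, 144, 320, 540, 1728} : Finset ℕ) := by
    have key : ∀ n ∈ (Nat.divisors 8640).filter (fun n => n % 11 = 1), n ≠ 1 →
        n ∈ ({12, 45, 144, 320, 540, 1728} : Finset ℕ) := by decide +kernel
    exact key _ hn hne1
  obtain ⟨F⟩ := exists_frame (e := e) (by norm_num) P hP (by rw [hN, hC])
  have hek : (e = 5 ∧ k = 1) ∨ (e = 2 ∧ 2 ∣ k) ∨ (e = 5 ∧ k = 12) ∨ (e = 10 ∧ k = 6) := by
    have he10 : e ∈ Nat.divisors 10 := Nat.mem_divisors.mpr ⟨he, by norm_num⟩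
    simp only [Finset.mem_insert, Finset.mem_singleton] at hcases
    rcases hcases with h | h | h | h | h | h <;> rw [h] at hmul
    · exfalso
      have h2 := SimpleTools.card_normalizer_of_succ hna (by norm_num) P hP (by omega)
      rw [hN] at h2
      have := Nat.le_of_dvd (by norm_num) h2
      omega
    all_goals
      fin_cases he10 <;> omega
  rcases hek with ⟨rfl, rfl⟩ | ⟨rfl, hk⟩ | ⟨rfl, rfl⟩ | ⟨rfl, rfl⟩
  · exact ⟨by rw [hN], by rw [hC]⟩
  all_goals exfalso
  all_goals have hx := F.hx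
  · -- automiser of order two
    obtain ⟨⟨z, hzC⟩, hz⟩ := exists_prime_orderOf_dvd_card' (G := ↥(centralizer ((P : Subgroup G) : Set G))) 2
      (by rw [hC]; exact hk.mul_left 11)
    rw [Subgroup.orderOf_mk] at hz
    have hxz : Commute F.x z := mem_centralizer_iff.mp hzC F.x F.hxP
    have ht := F.triv_mem (by norm_num) (by norm_num) (by norm_num)
    obtain ⟨χ, hχ⟩ := Finset.card_eq_one.mp (show F.X'.card = 1 by have := F.card_X' ht; omega)
    obtain ⟨θ, hθ⟩ : F.Y.Nonempty := Finset.card_pos.1 (by rw [F.hY]; norm_num)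
    have hr := F.rel_one ht hθ
    rw [hχ, Finset.sum_singleton] at hr
    have hmem : χ ∈ F.X' := by rw [hχ]; exact Finset.mem_singleton_self χ
    have hθd : charDegree (θ : G → ℂ) ∣ 95040 := hG ▸ charDegree_dvd θ
    have key : ∀ v ∈ ([12, 13, 31, 45, 46, 53, 119, 145] : List ℕ), v ∣ 95040 → v = 12 ∨ v = 45 := by decide +kernel
    obtain ⟨v, hv, hv4, hvl, hvu, m, hm⟩ := value_central hG hx hz hxz (F.mem_X hmem).2
      (F.hval χ (F.mem_X hmem).1)
    rcases deg_cases hG F hmem with ⟨e1, d1 | d1 | d1⟩ | ⟨e1, d1 | d1 | d1 | d1⟩ <;>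
      rw [e1, d1] at hr hm <;> rw [d1] at hv4 hvl hvu <;>
      first
        | omega
        | (have hθe : charDegree (θ : G → ℂ) ∈ ([12, 13, 31, 45, 46, 53, 119, 145] : List ℕ) := by
             simp only [List.mem_cons, List.not_mem_nil, or_false]
             rcases F.hεy with e2 | e2 <;> rw [e2] at hr <;> omega
           rcases key _ hθe hθd with e3 | e3 <;> rcases F.hεy with e2 | e2 <;> rw [e2, e3] at hr <;> omega)
  all_goals
    obtain ⟨⟨z, hzC⟩, hz⟩ := exists_prime_orderOf_dvd_card' (G := ↥(centralizer ((P : Subgroup G) : Set G))) 2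
      (by rw [hC]; norm_num)
    rw [Subgroup.orderOf_mk] at hz
    have hxz : Commute F.x z := mem_centralizer_iff.mp hzC F.x F.hxP
    haveI : Fact (Nat.Prime 3) := ⟨by norm_num⟩
    obtain ⟨⟨w, hwC⟩, hw⟩ := exists_prime_orderOf_dvd_card' (G := ↥(centralizer ((P : Subgroup G) : Set G))) 3
      (by rw [hC]; norm_num)
    rw [Subgroup.orderOf_mk] at hw
    have hxw : Commute F.x w := mem_centralizer_iff.mp hwC F.x F.hxP
    -- facts about a member with constant values
    have member : ∀ (χ : IrrCharacter G) (s : ℤ), χ ≠ trivChar G → (s = 1 ∨ s = -1) →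
        (charDegree (χ : G → ℂ) : ℤ) ≡ s [ZMOD (11 : ℕ)] →
        (∀ i, ¬ 11 ∣ i → ∀ u : G, Commute F.x u → ¬ 11 ∣ orderOf u → (χ : G → ℂ) (F.x ^ i * u) = (s : ℂ)) →
        ∃ v : ℤ, (χ : G → ℂ) z = v ∧
          ((charDegree (χ : G → ℂ) = 32 ∧ s = -1 ∧ v = -12 ∧ Nat.card (centralizer ({z} : Set G)) ∣ 11880) ∨
            (charDegree (χ : G → ℂ) = 45 ∧ s = 1 ∧ (v = 1 ∨ v = -43) ∧
              Nat.card (centralizer ({z} : Set G)) ∣ 2112) ∨
            (charDegree (χ : G → ℂ) = 120 ∧ s = -1 ∧ v % 44 = 32 ∧ (-120 < v ∧ v < 120)) ∨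
            (charDegree (χ : G → ℂ) = 144 ∧ s = 1 ∧ v % 44 = 12)) := by
      intro χ s hne hs hmd hvl
      obtain ⟨v, hv, hv4, hl, hu, m, hm⟩ := value_central hG hx hz hxz hne hvl
      refine ⟨v, hv, ?_⟩
      have h2 : 2 ≤ charDegree (χ : G → ℂ) := by
        have := charDegree_pos χ
        have : charDegree (χ : G → ℂ) ≠ 1 := fun h => hne (BlockDegrees.eq_trivChar hna χ h)
        omega
      obtain ⟨k1, k10⟩ := mem_block_list _ (Finset.mem_range.mpr (by have := deg_le hG χ; omega))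
        (hG ▸ charDegree_dvd χ) h2
      have hidx := (centralizer ({z} : Set G)).index_mul_card
      rw [hG] at hidx
      have hdvd := degree_dvd_index_mul χ z hv
      rw [Int.ModEq] at hmd
      rcases hs with rfl | rfl
      · rcases k1 (by omega) with e1 | e1 | e1 <;> rw [e1] at hv4 hl hu hm hdvd ⊢
        · exfalso; omega
        · have hv' : v = 1 ∨ v = -43 := by omega
          refine Or.inr (Or.inl ⟨rfl, rfl, hv', ?_⟩)
          have h45 : 45 ∣ (centralizer ({z} : Set G)).index := by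
            rcases hv' with rfl | rfl
            · rw [mul_one] at hdvd
              exact_mod_cast hdvd
            · rw [mul_neg, Int.dvd_neg] at hdvd
              exact (show Nat.Coprime 45 43 by norm_num).dvd_of_dvd_mul_right (by exact_mod_cast hdvd)
          obtain ⟨c, hc⟩ := h45
          rw [hc, mul_assoc] at hidx
          exact ⟨c, by rw [mul_comm]; omega⟩
        · exact Or.inr (Or.inr (Or.inr ⟨rfl, rfl, by omega⟩))
      · rcases k10 (by omega) with e1 | e1 | e1 | e1 <;> rw [e1] at hv4 hl hu hm hdvd ⊢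
        · exfalso; omega
        · obtain rfl : v = -12 := by omega
          refine Or.inl ⟨rfl, rfl, rfl, ?_⟩
          have h8 : 8 ∣ (centralizer ({z} : Set G)).index := by
            rw [mul_neg, Int.dvd_neg] at hdvd
            have h : (32 : ℕ) ∣ (centralizer ({z} : Set G)).index * 12 := by exact_mod_cast hdvd
            omega
          obtain ⟨c, hc⟩ := h8
          rw [hc, mul_assoc] at hidx
          exact ⟨c, by rw [mul_comm]; omega⟩
        · exfalso
          have h0 : (χ : G → ℂ) (F.x ^ 1 * w) = 0 :=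
            vanish χ (show Nat.Prime 3 by norm_num) (n := 3) (by rw [hG]; norm_num) (by rw [hG]; norm_num)
              (by rw [e1]; norm_num) (by
                rw [pow_one, hxw.orderOf_mul_eq_mul_orderOf_of_coprime (by rw [hx, hw]; norm_num), hx, hw]
                norm_num)
          rw [hvl 1 (by norm_num) w hxw (by rw [hw]; norm_num)] at h0
          norm_num at h0
        · exact Or.inr (Or.inr (Or.inl ⟨rfl, rfl, by omega, hl, hu⟩))
  · -- automiser of order five
    have ht := F.triv_mem (by norm_num) (by norm_num) (by norm_num)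
    obtain ⟨θ, hθ⟩ : F.Y.Nonempty := Finset.card_pos.1 (by rw [F.hY]; norm_num)
    obtain ⟨a, b, c, d, nab, nac, nad, nbc, nbd, ncd, hset⟩ :=
      Finset.card_eq_four.mp (show F.X'.card = 4 by have := F.card_X' ht; omega)
    have hm : ∀ χ ∈ F.X', ∃ v : ℤ, (χ : G → ℂ) z = v ∧ _ := fun χ h =>
      member χ (F.sgn χ) (F.mem_X h).2 (F.hsgn χ (F.mem_X h).1) (F.hmod χ (F.mem_X h).1) (F.hval χ (F.mem_X h).1)
    have hlist : ∀ χ ∈ F.X', (charDegree (χ : G → ℂ) : ℤ) ∈ ([32, 45, 120, 144] : List ℤ) ∧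
        F.sgn χ * (charDegree (χ : G → ℂ) : ℤ) =
          (if (charDegree (χ : G → ℂ) : ℤ) = 32 ∨ (charDegree (χ : G → ℂ) : ℤ) = 120 then
            -(charDegree (χ : G → ℂ) : ℤ) else (charDegree (χ : G → ℂ) : ℤ)) := fun χ h => by
      obtain ⟨v, -, ⟨e1, e2, -⟩ | ⟨e1, e2, -⟩ | ⟨e1, e2, -⟩ | ⟨e1, e2, -⟩⟩ := hm χ h <;> simp [e1, e2]
    have hma : a ∈ F.X' := by simp [hset]
    have hmb : b ∈ F.X' := by simp [hset]
    have hmc : c ∈ F.X' := by simp [hset]
    have hmd : d ∈ F.X' := by simp [hset]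
    have hr := F.rel_one ht hθ
    rw [hset, Finset.sum_insert (by simp [nab, nac, nad]), Finset.sum_insert (by simp [nbc, nbd]),
      Finset.sum_pair ncd, (hlist a hma).2, (hlist b hmb).2, (hlist c hmc).2, (hlist d hmd).2] at hr
    set fa : ℤ := (charDegree (a : G → ℂ) : ℤ) with hfa
    set fb : ℤ := (charDegree (b : G → ℂ) : ℤ) with hfb
    set fc : ℤ := (charDegree (c : G → ℂ) : ℤ) with hfc
    set fd : ℤ := (charDegree (d : G → ℂ) : ℤ) with hfd
    have hsum : 1 + ([fa, fb, fc, fd].map fun v => if v = 32 ∨ v = 120 then -v else v).sum =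
        F.εy * (charDegree (θ : G → ℂ) : ℤ) := by
      rw [hr]; simp only [List.map_cons, List.map_nil, List.sum_cons, List.sum_nil]; ring
    have hk := five_key fa (hlist a hma).1 fb (hlist b hmb).1 fc (hlist c hmc).1 fd (hlist d hmd).1
      (by
        rw [hsum, Int.natAbs_mul, Int.natAbs_natCast]
        rcases F.hεy with e1 | e1 <;> rw [e1] <;> simpa using hG ▸ charDegree_dvd θ)
      (by
        rw [hsum]
        have h1 := F.hYd θ hθ
        rw [Int.ModEq] at h1
        rcases F.hεy with e1 | e1 <;> rw [e1] at h1 ⊢ <;> omega)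
    -- column bound at `z`
    have hcolz : ∀ S : Finset (IrrCharacter G), ∑ χ ∈ S, ‖(χ : G → ℂ) z‖ ^ 2 ≤
        (Nat.card (centralizer ({z} : Set G)) : ℝ) := fun S =>
      (sum_norm_sq_column z).symm ▸ Finset.sum_le_sum_of_subset_of_nonneg (Finset.subset_univ _)
        fun _ _ _ => sq_nonneg _
    rcases hk with ⟨h32, h45⟩ | ⟨h45, h120⟩ | hbig
    · -- two of degree 32 and one of degree 45
      have h2 : 2 ≤ (F.X'.filter fun χ : IrrCharacter G => charDegree (χ : G → ℂ) = 32).card := by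
        simp only [List.count_cons, List.count_nil, beq_iff_eq, hfa, hfb, hfc, hfd] at h32
        rw [hset]
        simp only [Finset.filter_insert, Finset.filter_singleton]
        norm_cast at h32
        split_ifs at h32 ⊢ <;>
          simp only [Finset.card_insert_of_notMem, Finset.card_singleton, Finset.card_empty,
            Finset.mem_insert, Finset.mem_singleton, Finset.notMem_empty, nab, nac, nad, nbc, nbd, ncd,
            not_false_iff, or_self] <;> omega
      obtain ⟨u, hu, u', hu', huu⟩ := Finset.one_lt_card.mp (show 1 < _ from h2)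
      rw [Finset.mem_filter] at hu hu'
      obtain ⟨q, hq, hq45⟩ : ∃ q ∈ F.X', charDegree (q : G → ℂ) = 45 := by
        by_contra hcon
        simp only [not_exists, not_and] at hcon
        have n1 := hcon a hma
        have n2 := hcon b hmb
        have n3 := hcon c hmc
        have n4 := hcon d hmd
        simp only [List.count_cons, List.count_nil, beq_iff_eq, hfa, hfb, hfc, hfd] at h45
        norm_cast at h45
        simp [n1, n2, n3, n4] at h45
      obtain ⟨v, hv, ⟨-, -, rfl, hd1⟩ | ⟨e1, -⟩ | ⟨e1, -⟩ | ⟨e1, -⟩⟩ := hm u hu.1 <;> try omega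
      obtain ⟨v', hv', ⟨-, -, rfl, -⟩ | ⟨e1, -⟩ | ⟨e1, -⟩ | ⟨e1, -⟩⟩ := hm u' hu'.1 <;> try omega
      obtain ⟨w', hw', ⟨e1, -⟩ | ⟨-, -, -, hd2⟩ | ⟨e1, -⟩ | ⟨e1, -⟩⟩ := hm q hq <;> try omega
      have hle := index_dvd_aux _ (Finset.mem_range.mpr
        (Nat.lt_succ_of_le (Nat.le_of_dvd (by norm_num) hd2))) hd2 hd1
      have h3 := hcolz {u, u'}
      rw [Finset.sum_pair huu, hv, hv', Complex.norm_intCast] at h3
      have : ((Nat.card (centralizer ({z} : Set G)) : ℝ)) ≤ 264 := by exact_mod_cast hle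
      push_cast at h3
      norm_num at h3
      rw [← Nat.card_eq_fintype_card] at h3
      omega
    · -- three of degree 45, one of degree 120
      obtain ⟨va, hva, pa⟩ := hm a hma
      obtain ⟨vb, hvb, pb⟩ := hm b hmb
      obtain ⟨vc, hvc, pc⟩ := hm c hmc
      obtain ⟨vd, hvd, pd⟩ := hm d hmd
      have h11 : ¬ 11 ∣ orderOf z := by rw [hz]; norm_num
      have hrz := F.rel_split ht hθ z h11
      rw [hset, Finset.sum_insert (by simp [nab, nac, nad]), Finset.sum_insert (by simp [nbc, nbd]),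
        Finset.sum_pair ncd, hva, hvb, hvc, hvd] at hrz
      obtain ⟨vt, hvt⟩ := exists_int_two θ hz
      rw [hvt] at hrz
      have hrz' : F.εy * vt = 1 + (F.sgn a * va + (F.sgn b * vb + (F.sgn c * vc + F.sgn d * vd))) := by
        exact_mod_cast hrz
      have hlt := ValueTools.lt_degree hna (χ := θ) (fun h => by
        exact Finset.disjoint_left.mp F.hdisj ht (h ▸ hθ))
        (show z ≠ 1 from fun h => by rw [h, orderOf_one] at hz; omega) hvt
      have h4 := ValueTools.mod_four hna θ hz hvt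
      have hcong : ∀ (f g : ℤ) (v : ℤ) (n : ℕ) {A : Prop},
          ((n = 32 ∧ g = -1 ∧ v = -12 ∧ A) ∨ (n = 45 ∧ g = 1 ∧ (v = 1 ∨ v = -43) ∧
            Nat.card (centralizer ({z} : Set G)) ∣ 2112) ∨
            (n = 120 ∧ g = -1 ∧ v % 44 = 32 ∧ (-120 < v ∧ v < 120)) ∨ (n = 144 ∧ g = 1 ∧ v % 44 = 12)) →
          f = (n : ℤ) → (g * v - if f = 45 then 1 else 12) % 44 = 0 := by
        rintro f g v n A (⟨e1, e2, e3, -⟩ | ⟨e1, e2, e3, -⟩ | ⟨e1, e2, e3, -⟩ | ⟨e1, e2, e3⟩) hf <;>
          subst e1 e2 hf <;> norm_num <;> omega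
      have ca := hcong fa _ va _ pa hfa
      have cb := hcong fb _ vb _ pb hfb
      have cc := hcong fc _ vc _ pc hfc
      have cd := hcong fd _ vd _ pd hfd
      have hθ16 : F.εy * (charDegree (θ : G → ℂ) : ℤ) = 16 := by
        have key : ∀ a ∈ ([32, 45, 120, 144] : List ℤ), ∀ b ∈ ([32, 45, 120, 144] : List ℤ),
            ∀ c ∈ ([32, 45, 120, 144] : List ℤ), ∀ d ∈ ([32, 45, 120, 144] : List ℤ),
            [a, b, c, d].count 45 = 3 → [a, b, c, d].count 120 = 1 →
            1 + ([a, b, c, d].map fun v => if v = 32 ∨ v = 120 then -v else v).sum = 16 := by decide +kernel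
        rw [← hsum]
        exact key fa (hlist a hma).1 fb (hlist b hmb).1 fc (hlist c hmc).1 fd (hlist d hmd).1 h45 h120
      have hif : ((if fa = 45 then (1 : ℤ) else 12) + (if fb = 45 then 1 else 12) + (if fc = 45 then 1 else 12) +
          (if fd = 45 then 1 else 12)) = 15 := by
        simp only [List.count_cons, List.count_nil, beq_iff_eq] at h45
        split_ifs at h45 ⊢ <;> omega
      generalize (if fa = 45 then (1 : ℤ) else 12) = ia at *
      generalize (if fb = 45 then (1 : ℤ) else 12) = ib at *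
      generalize (if fc = 45 then (1 : ℤ) else 12) = ic at *
      generalize (if fd = 45 then (1 : ℤ) else 12) = id' at *
      generalize F.sgn a * va = ya at *
      generalize F.sgn b * vb = yb at *
      generalize F.sgn c * vc = yc at *
      generalize F.sgn d * vd = yd at *
      rcases F.hεy with e1 | e1 <;> rw [e1] at hθ16 hrz' <;> omega
    · -- the squares of the degrees are too many
      have hY2 : F.Y.card = 2 := by rw [F.hY]
      have h1 : ∑ η ∈ F.X ∪ F.Y, (charDegree (η : G → ℂ) : ℤ) ^ 2 ≤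
          ∑ η : IrrCharacter G, (charDegree (η : G → ℂ) : ℤ) ^ 2 :=
        Finset.sum_le_sum_of_subset_of_nonneg (Finset.subset_univ _) fun _ _ _ => sq_nonneg _
      rw [Finset.sum_union F.hdisj, ← Finset.add_sum_erase _ _ ht,
        show F.X.erase (trivChar G) = {a, b, c, d} from hset,
        Finset.sum_insert (by simp [nab, nac, nad]), Finset.sum_insert (by simp [nbc, nbd]), Finset.sum_pair ncd,
        Finset.sum_congr rfl (g := fun _ => (charDegree (θ : G → ℂ) : ℤ) ^ 2) fun η hη => by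
          rw [F.deg_agree hη hθ],
        Finset.sum_const, hY2, show ∑ η : IrrCharacter G, (charDegree (η : G → ℂ) : ℤ) ^ 2 = 95040 by
          exact_mod_cast (sum_deg_sq (G := G)).trans hG,
        show charDegree ((trivChar G : IrrCharacter G) : G → ℂ) = 1 by simp [charDegree]] at h1
      rw [hsum] at hbig
      simp only [List.map_cons, List.map_nil, List.sum_cons, List.sum_nil] at hbig
      have hsq : (F.εy * (charDegree (θ : G → ℂ) : ℤ)) ^ 2 = (charDegree (θ : G → ℂ) : ℤ) ^ 2 := by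
        rcases F.hεy with e1 | e1 <;> rw [e1] <;> ring
      rw [hsq] at hbig
      simp only [nsmul_eq_mul] at h1
      push_cast at h1
      nlinarith
  · -- automiser of order ten: every member of the block has constant values
    have hY1 : F.Y.card = 1 := by rw [F.hY]
    obtain ⟨θ, hθ⟩ := Finset.card_eq_one.mp hY1
    have hθY : θ ∈ F.Y := by rw [hθ]; exact Finset.mem_singleton_self θ
    set s : IrrCharacter G → ℤ := fun χ => if χ = θ then -F.εy else F.sgn χ with hs
    have hθX : θ ∉ F.X := fun h => Finset.disjoint_left.mp F.hdisj h hθY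
    have hsX : ∀ χ ∈ F.X, s χ = F.sgn χ := fun χ h => by
      simp only [hs]
      exact if_neg fun h' : χ = θ => hθX (h' ▸ h)
    have hrel1 : F.εy * (charDegree (θ : G → ℂ) : ℤ) = ∑ χ ∈ F.X, F.sgn χ * (charDegree (χ : G → ℂ) : ℤ) := by
      have h1 := F.hrel θ hθY 1 (by rw [orderOf_one]; norm_num)
      simp only [irr_one_eq] at h1
      exact_mod_cast h1
    have hall : ∀ χ ∈ F.X ∪ F.Y, (s χ = 1 ∨ s χ = -1) ∧ (charDegree (χ : G → ℂ) : ℤ) ≡ s χ [ZMOD (11 : ℕ)] ∧
        ∀ i, ¬ 11 ∣ i → ∀ u : G, Commute F.x u → ¬ 11 ∣ orderOf u → (χ : G → ℂ) (F.x ^ i * u) = (s χ : ℂ) := by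
      intro χ h
      rcases Finset.mem_union.mp h with h | h
      · rw [hsX χ h]
        exact ⟨F.hsgn χ h, F.hmod χ h, F.hval χ h⟩
      · rw [hθ, Finset.mem_singleton] at h
        rw [h]
        have hsθ : s θ = -F.εy := by simp [hs]
        rw [hsθ]
        refine ⟨by rcases F.hεy with e1 | e1 <;> simp [e1], ?_, fun i hi u hc hu => ?_⟩
        · have h1 := F.hYd θ hθY
          rw [Int.ModEq] at h1 ⊢
          rcases F.hεy with e1 | e1 <;> rw [e1] at h1 ⊢ <;> omega
        · have hsing : 11 ∣ orderOf (F.x ^ i * u) := by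
            rw [(hc.pow_left i).orderOf_mul_eq_mul_orderOf_of_coprime (by
              rw [orderOf_pow_prime (by norm_num) hx hi]
              exact (Nat.Prime.coprime_iff_not_dvd (by norm_num)).mpr hu), orderOf_pow_prime (by norm_num) hx hi]
            exact dvd_mul_right _ _
          have h1 := F.hcol _ hsing
          rw [Finset.sum_union F.hdisj, hθ, Finset.sum_singleton,
            Finset.sum_congr rfl (g := fun χ : IrrCharacter G => ((F.sgn χ * (charDegree (χ : G → ℂ) : ℤ) : ℤ) : ℂ))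
              fun χ h => by rw [F.hval χ h i hi u hc hu]; push_cast; ring, ← Int.cast_sum, ← hrel1] at h1
          have hd : (charDegree (θ : G → ℂ) : ℂ) ≠ 0 := Nat.cast_ne_zero.mpr (charDegree_pos θ).ne'
          push_cast at h1 ⊢
          refine mul_left_cancel₀ hd ?_
          linear_combination h1
    have hsum0 : ∑ χ ∈ F.X ∪ F.Y, s χ * (charDegree (χ : G → ℂ) : ℤ) = 0 := by
      rw [Finset.sum_union F.hdisj, hθ, Finset.sum_singleton, Finset.sum_congr rfl fun χ h => by rw [hsX χ h],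
        ← hrel1, show s θ = -F.εy by simp [hs]]
      ring
    have htB : trivChar G ∈ F.X ∪ F.Y := Finset.mem_union.mpr F.htriv
    have hst : s (trivChar G) = 1 := by
      have h1 := (hall _ htB).2.2 1 (by norm_num) 1 (Commute.one_right _) (by rw [orderOf_one]; norm_num)
      rw [trivChar_apply] at h1
      exact_mod_cast h1.symm
    set B := (F.X ∪ F.Y).erase (trivChar G) with hB
    rw [← Finset.add_sum_erase _ _ htB, hst, ← hB,
      show charDegree ((trivChar G : IrrCharacter G) : G → ℂ) = 1 by simp [charDegree]] at hsum0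
    have hmB : ∀ χ ∈ B, ∃ v : ℤ, (χ : G → ℂ) z = v ∧ _ := fun χ h =>
      have hh := hall χ (Finset.mem_erase.mp h).2
      member χ (s χ) (Finset.mem_erase.mp h).1 hh.1 hh.2.1 hh.2.2
    obtain ⟨q, hq, hq45⟩ : ∃ q ∈ B, charDegree (q : G → ℂ) = 45 := by
      by_contra hcon
      simp only [not_exists, not_and] at hcon
      have h2 : (2 : ℤ) ∣ ∑ χ ∈ B, s χ * (charDegree (χ : G → ℂ) : ℤ) := Finset.dvd_sum fun χ h => by
        obtain ⟨v, -, ⟨e1, -⟩ | ⟨e1, -⟩ | ⟨e1, -⟩ | ⟨e1, -⟩⟩ := hmB χ h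
        · rw [e1]; exact dvd_mul_of_dvd_right (by norm_num) _
        · exact absurd e1 (hcon χ h)
        all_goals rw [e1]; exact dvd_mul_of_dvd_right (by norm_num) _
      omega
    have h32 : 2 ≤ (B.filter fun χ : IrrCharacter G => charDegree (χ : G → ℂ) = 32).card := by
      have h3 : (3 : ℤ) ∣ (∑ χ ∈ B, s χ * (charDegree (χ : G → ℂ) : ℤ)) +
          32 * ((B.filter fun χ : IrrCharacter G => charDegree (χ : G → ℂ) = 32).card : ℤ) := by
        rw [Finset.card_filter, Nat.cast_sum, Finset.mul_sum, ← Finset.sum_add_distrib]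
        refine Finset.dvd_sum fun χ h => ?_
        obtain ⟨v, -, ⟨e1, e2, -⟩ | ⟨e1, e2, -⟩ | ⟨e1, e2, -⟩ | ⟨e1, e2, -⟩⟩ := hmB χ h <;>
          rw [e1, e2] <;> norm_num
      omega
    obtain ⟨u, hu, u', hu', huu⟩ := Finset.one_lt_card.mp (show 1 < _ from h32)
    rw [Finset.mem_filter] at hu hu'
    obtain ⟨v, hv, ⟨-, -, rfl, hd1⟩ | ⟨e1, -⟩ | ⟨e1, -⟩ | ⟨e1, -⟩⟩ := hmB u hu.1 <;> try omega
    obtain ⟨v', hv', ⟨-, -, rfl, -⟩ | ⟨e1, -⟩ | ⟨e1, -⟩ | ⟨e1, -⟩⟩ := hmB u' hu'.1 <;> try omega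
    obtain ⟨w', hw', ⟨e1, -⟩ | ⟨-, -, -, hd2⟩ | ⟨e1, -⟩ | ⟨e1, -⟩⟩ := hmB q hq <;> try omega
    have hle := index_dvd_aux _ (Finset.mem_range.mpr
      (Nat.lt_succ_of_le (Nat.le_of_dvd (by norm_num) hd2))) hd2 hd1
    have h3 : ∑ χ ∈ ({u, u'} : Finset (IrrCharacter G)), ‖(χ : G → ℂ) z‖ ^ 2 ≤
        (Nat.card (centralizer ({z} : Set G)) : ℝ) :=
      (sum_norm_sq_column z).symm ▸ Finset.sum_le_sum_of_subset_of_nonneg (Finset.subset_univ _)
        fun _ _ _ => sq_nonneg _
    rw [Finset.sum_pair huu, hv, hv', Complex.norm_intCast] at h3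
    have : ((Nat.card (centralizer ({z} : Set G)) : ℝ)) ≤ 264 := by exact_mod_cast hle
    push_cast at h3
    norm_num at h3
    rw [← Nat.card_eq_fintype_card] at h3
    omega

end CfsgLib.KGroups.M12Local
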