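import Cfsg.Agent.Lib.Recognition.CountSimple
import Cfsg.Agent.Lib.KGroups.M12Local
import Cfsg.Agent.Lib.SmallGroups.MathieuSimple
import Cfsg.Prelude.Def_Spor_Mathieu

/-!
# A group with the order and the element order counts of `M12` is simple
-/

set_option autoImplicit false

namespace CfsgLib.KGroups.M12Count

open Cfsg Subgroup CfsgLib.SmallGroups.Golay CfsgLib.SmallGroups.GolayOctads CfsgLib.SmallGroups.M24Group

theorem square_mem : Cfsg.Spor.squareDodecad ∈ dodecads :=
  ⟨⟨qrWord 0, Submodule.subset_span (Or.inl ⟨0, rfl⟩), rfl⟩, by decide +kernel⟩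

open scoped Pointwise in
/-- The two descriptions of the group. -/
def equivStab : MulAction.stabilizer M24 Cfsg.Spor.squareDodecad ≃* Cfsg.Spor.M12 where
  toFun g := ⟨g.1.1, g.1.2, g.2⟩
  invFun g := ⟨⟨g.1, g.2.1⟩, g.2.2⟩
  left_inv _ := rfl
  right_inv _ := rfl
  map_mul' _ _ := rfl

theorem simple_card : IsSimpleGroup Cfsg.Spor.M12 ∧ Nat.card Cfsg.Spor.M12 = 95040 := by
  have := CfsgLib.SmallGroups.MathieuSimple.isSimple_M12 square_mem
  exact ⟨CfsgLib.SmallGroups.MathieuSimple.isSimpleGroup_congr' equivStab,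
    (Nat.card_congr equivStab.toEquiv).symm.trans (CfsgLib.SmallGroups.Mathieu.card_stab_dodecad square_mem)⟩

/-- In a simple group of order 95040 the elements of order 11 are self-centralising. -/
theorem centralizer_eleven {M : Type*} [Group M] [Fintype M] [IsSimpleGroup M] (hM : Nat.card M = 95040)
    {y : M} (hy : orderOf y = 11) : Nat.card ↥(centralizer ({y} : Set M)) = 11 := by
  have : Fact (Nat.Prime 11) := ⟨by norm_num⟩
  obtain ⟨P, hP⟩ := (IsPGroup.of_card (n := 1) (by rw [Nat.card_zpowers, hy, pow_one]) :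
    IsPGroup 11 ↥(zpowers y)).exists_le_sylow
  have he : zpowers y = (P : Subgroup M) := Subgroup.eq_of_le_of_card_ge hP
    (by rw [M12Local.card_sylow_eleven hM P, Nat.card_zpowers, hy])
  rw [← CfsgLib.Recognition.CountSimple.centralizer_coe_zpowers, he]
  exact (M12Local.normalizer_eleven hM P).2

/-- The counts of `M12` force simplicity. -/
theorem isSimple_of_nse {G : Type*} [Group G] [Finite G] (hcard : Nat.card G = Nat.card ↥Cfsg.Spor.M12)
    (hnse : {c : ℕ | 0 < c ∧ ∃ n : ℕ, c = Nat.card {g : G // orderOf g = n}} =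
      {c : ℕ | 0 < c ∧ ∃ n : ℕ, c = Nat.card {g : ↥Cfsg.Spor.M12 // orderOf g = n}}) :
    IsSimpleGroup G ∧ Nat.card G = 95040 := by
  obtain ⟨hs, hM⟩ := simple_card
  have : Fact (Nat.Prime 11) := ⟨by norm_num⟩
  cases nonempty_fintype ↥Cfsg.Spor.M12
  refine ⟨?_, hcard.trans hM⟩
  refine CfsgLib.Recognition.CountSimple.isSimple (p := 11) (m := 8640) (by rw [hcard, hM]) (by rw [hM])
    (by norm_num) (by norm_num) (by norm_num) (fun y hy => centralizer_eleven hM hy) hnse ?_ ?_
  · have h := card_sylow_modEq_one 11 ↥Cfsg.Spor.M12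
    obtain ⟨P⟩ := (inferInstance : Nonempty (Sylow 11 ↥Cfsg.Spor.M12))
    have h2 : Nat.card (Sylow 11 ↥Cfsg.Spor.M12) =
        (normalizer ((P : Subgroup ↥Cfsg.Spor.M12) : Set ↥Cfsg.Spor.M12)).index := P.card_eq_index_normalizer
    have h3 := (normalizer ((P : Subgroup ↥Cfsg.Spor.M12) : Set ↥Cfsg.Spor.M12)).index_mul_card
    rw [← h2, (M12Local.normalizer_eleven hM P).1, hM] at h3
    omega
  · intro q j hq hj hdvd
    have hmem : q ^ j ∈ Nat.divisors 8640 := Nat.mem_divisors.mpr ⟨hdvd, by norm_num⟩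
    have key : ∀ d ∈ Nat.divisors 8640, d % 11 = 1 → d = 1 ∨ d = 12 ∨ d = 45 ∨ d = 144 ∨ d = 320 ∨ d = 540 ∨ d = 1728 := by
      decide +kernel
    intro h1
    have hne : q ^ j ≠ 1 := (Nat.one_lt_pow (by omega) hq.one_lt).ne'
    have hpf : (q ^ j).primeFactors = {q} := Nat.primeFactors_prime_pow (by omega) hq
    rcases key _ hmem h1 with e | e | e | e | e | e | e
    · exact hne e
    all_goals
      have hc := congrArg Finset.card hpf
      rw [e, Finset.card_singleton] at hc
      revert hc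
      decide +kernel

end CfsgLib.KGroups.M12Count
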