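import Cfsg.Agent.Lib.KGroups.M12Block
import Cfsg.Agent.Lib.Solvable.FrattiniFitting

/-!
# The Sylow 5-normaliser of a simple group of order 95040
-/

set_option autoImplicit false

namespace CfsgLib.KGroups.M12Five

open Cfsg CfsgLib.Blocks CfsgLib.KGroups.M11Tools CfsgLib.KGroups.M12Tools CfsgLib.KGroups.M12Local
  CfsgLib.KGroups.M12Check CfsgLib.KGroups.M12Involution CfsgLib.KGroups.M12Reps CfsgLib.KGroups.M12Block Subgroup
open CfsgLib.SmallGroups
open scoped Classical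

/-- The possible values at an involution commuting with an element of order 5. -/
theorem z_sols : ∀ C ∈ fiveOrders, ∀ p ∈ tSols C 45 (-54) (-120) 144,
    ((C = 120 ∨ C = 240) ∧ (p = (5, 6, 0, 4) ∨ p = (5, 6, 0, -4))) ∨ (C = 1440 ∧ p = (-15, 18, 0, 24)) := by
  decide +kernel

/-- The degrees outside the list that may neighbour each other in a principal 5-block with two cusps. -/
def okDeg (d : ℕ) : Bool :=
  decide (d ∣ 95040) && (decide (d = 1 ∨ d = 16 ∨ d = 45 ∨ d = 54 ∨ d = 120 ∨ d = 144) || decide (11 ∣ d))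

theorem neighbours : ∀ d ∈ Finset.range 309, 2 ≤ d → okDeg d = true →
    (d % 5 = 1 → okDeg (d + 1) = false) ∧ (d % 5 = 4 → okDeg (d - 1) = false) := by
  decide +kernel

variable {G : Type*} [Group G] [Fintype G]

/-- The three congruences at an element of order 10. -/
theorem ten_congr (χ : IrrCharacter G) {x z : G} (hx : orderOf x = 5) (hz : orderOf z = 2) (hxz : Commute x z)
    {b c u : ℤ} (hb : (χ : G → ℂ) x = b) (hc : (χ : G → ℂ) (x * z) = c) (hu : (χ : G → ℂ) z = u) :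
    (b - (charDegree (χ : G → ℂ) : ℤ)) % 5 = 0 ∧ (c - u) % 5 = 0 ∧ (b - c) % 2 = 0 := by
  set g := x * z with hgdef
  have hg : orderOf g = 10 := by
    rw [hgdef, hxz.orderOf_mul_eq_mul_orderOf_of_coprime (by rw [hx, hz]; norm_num), hx, hz]
  have hx5 : x ^ 5 = 1 := hx ▸ pow_orderOf_eq_one x
  have hz2 : z ^ 2 = 1 := hz ▸ pow_orderOf_eq_one z
  have he : ∀ i, (χ : G → ℂ) (g ^ i) = (χ : G → ℂ) (x ^ (i % 5) * z ^ (i % 2)) := fun i => by
    rw [hgdef, hxz.mul_pow, ← pow_mod_orderOf x i, ← pow_mod_orderOf z i, hx, hz]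
  have hev : ∀ i ∈ ({2, 4, 6, 8} : Finset ℕ), (χ : G → ℂ) (g ^ i) = b := fun i hi => by
    rw [he]
    fin_cases hi <;> norm_num <;> first | exact hb | exact pow_value χ x (by rw [hx]; norm_num) hb
  have hod : ∀ i ∈ ({1, 3, 7, 9} : Finset ℕ), (χ : G → ℂ) (g ^ i) = c := fun i hi => by
    fin_cases hi <;> exact pow_value χ g (by rw [hg]; decide) hc
  have h5 : (χ : G → ℂ) (g ^ 5) = u := by rw [he]; norm_num; exact hu
  have h0 : (χ : G → ℂ) (g ^ 0) = (charDegree (χ : G → ℂ) : ℂ) := by rw [pow_zero, irr_one_eq]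
  have hsplit : ∀ μ : ℂ, ∃ m : ℕ, (charDegree (χ : G → ℂ) : ℂ) + u * μ ^ 5 + b * (μ ^ 2 + μ ^ 4 + μ ^ 6 + μ ^ 8) +
      c * (μ + μ ^ 3 + μ ^ 7 + μ ^ 9) = (10 : ℂ) * m ∨ μ ^ 10 ≠ 1 := fun μ => by
    by_cases hμ : μ ^ 10 = 1
    · obtain ⟨m, hm⟩ := twist_nat χ hg hμ
      refine ⟨m, Or.inl ?_⟩
      simp only [Finset.sum_range_succ, Finset.sum_range_zero, pow_one] at hm
      rw [h0, h5, hev 2 (by simp), hev 4 (by simp), hev 6 (by simp), hev 8 (by simp),
        hod 3 (by simp), hod 7 (by simp), hod 9 (by simp), hc] at hm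
      push_cast at hm
      linear_combination hm
    · exact ⟨0, Or.inr hμ⟩
  obtain ⟨m0, h1⟩ := hsplit 1
  obtain ⟨m1, h2⟩ := hsplit (-1)
  set ω : ℂ := Complex.exp (2 * Real.pi * Complex.I / (5 : ℕ))
  have hω : IsPrimitiveRoot ω 5 := Complex.isPrimitiveRoot_exp 5 (by norm_num)
  have hsum : 1 + ω + ω ^ 2 + ω ^ 3 + ω ^ 4 = 0 := by
    have := hω.geom_sum_eq_zero (by norm_num)
    simpa [Finset.sum_range_succ] using this
  obtain ⟨m2, h3⟩ := hsplit ω
  have e1 : (charDegree (χ : G → ℂ) : ℤ) + u + 4 * b + 4 * c = 10 * m0 := by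
    have := h1.resolve_right (by norm_num)
    have h' : (((charDegree (χ : G → ℂ) : ℤ) + u + 4 * b + 4 * c : ℤ) : ℂ) = ((10 * m0 : ℕ) : ℂ) := by
      push_cast; linear_combination this
    exact_mod_cast h'
  have e2 : (charDegree (χ : G → ℂ) : ℤ) - u + 4 * b - 4 * c = 10 * m1 := by
    have := h2.resolve_right (by norm_num)
    have h' : (((charDegree (χ : G → ℂ) : ℤ) - u + 4 * b - 4 * c : ℤ) : ℂ) = ((10 * m1 : ℕ) : ℂ) := by
      norm_num at this
      push_cast; linear_combination this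
    exact_mod_cast h'
  have e3 : (charDegree (χ : G → ℂ) : ℤ) + u - b - c = 10 * m2 := by
    have := h3.resolve_right fun h => h (by rw [show (10 : ℕ) = 5 * 2 from rfl, pow_mul, hω.pow_eq_one, one_pow])
    have h' : (((charDegree (χ : G → ℂ) : ℤ) + u - b - c : ℤ) : ℂ) = ((10 * m2 : ℕ) : ℂ) := by
      have w5 : ω ^ 5 = 1 := hω.pow_eq_one
      push_cast
      linear_combination this - (b : ℂ) * hsum - (c : ℂ) * hsum -
        ((u : ℂ) + (b : ℂ) * (ω + ω ^ 3) + (c : ℂ) * (ω ^ 2 + ω ^ 4)) * w5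
    exact_mod_cast h'
  omega

/-- The characters outside the principal 11-block. -/
noncomputable def rest [Fact (Nat.Prime 11)] {e : ℕ} {P : Sylow 11 G} (F : Frame 11 e P) : Finset (IrrCharacter G) :=
  Finset.univ \ (F.X ∪ F.Y)

theorem mem_rest [Fact (Nat.Prime 11)] {e : ℕ} {P : Sylow 11 G} (F : Frame 11 e P) {χ : IrrCharacter G}
    (h : χ ∈ rest F) : χ ∉ F.X ∧ χ ∉ F.Y := by
  simpa [rest] using h

variable [IsSimpleGroup G] (hG : Nat.card G = 95040) [Fact (Nat.Prime 11)] (D : Data G)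

include hG in
/-- The trivial character, the four of the block, the two exceptional ones, and the rest. -/
theorem split {M : Type*} [AddCommMonoid M] (f : IrrCharacter G → M) :
    ∑ χ : IrrCharacter G, f χ = f (trivChar G) + (f D.c45 + (f D.c54 + (f D.c120 + f D.c144))) +
      ∑ θ ∈ D.F.Y, f θ + ∑ χ ∈ rest D.F, f χ := by
  have hd := D.d45
  have hd2 := D.d54
  have hd3 := D.d120
  have hd4 := D.d144
  rw [← Finset.sum_sdiff (Finset.subset_univ (D.F.X ∪ D.F.Y)), add_comm]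
  congr 1
  rw [Finset.sum_union D.F.hdisj, ← Finset.add_sum_erase _ _ (triv_memX hG D.F),
    show D.F.X.erase (trivChar G) = _ from D.hset,
    Finset.sum_insert (by simp only [Finset.mem_insert, Finset.mem_singleton, not_or]; refine ⟨?_, ?_, ?_⟩ <;>
      (intro e; rw [e] at hd; omega)),
    Finset.sum_insert (by simp only [Finset.mem_insert, Finset.mem_singleton, not_or]; refine ⟨?_, ?_⟩ <;>
      (intro e; rw [e] at hd2; omega)),
    Finset.sum_pair (by intro e; rw [e] at hd3; omega)]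

include hG in
theorem mem_cases (χ : IrrCharacter G) :
    χ = trivChar G ∨ χ = D.c45 ∨ χ = D.c54 ∨ χ = D.c120 ∨ χ = D.c144 ∨ χ ∈ D.F.Y ∨ χ ∈ rest D.F := by
  by_cases h1 : χ = trivChar G
  · exact Or.inl h1
  by_cases hX : χ ∈ D.F.X
  · have : χ ∈ D.F.X' := Finset.mem_erase.mpr ⟨h1, hX⟩
    rw [D.hset] at this
    simp only [Finset.mem_insert, Finset.mem_singleton] at this
    tauto
  by_cases hY : χ ∈ D.F.Y
  · tauto
  · right; right; right; right; right; right; simp [rest, hX, hY]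

include hG in
/-- The four block characters take integral values everywhere. -/
theorem exists_int_block {χ : IrrCharacter G} (h : χ ∈ D.F.X') (g : G) : ∃ n : ℤ, (χ : G → ℂ) g = n := by
  refine exists_int_unique hG D.F h (fun ψ hψ e => ?_) g
  have hd := D.d45
  have hd2 := D.d54
  have hd3 := D.d120
  have hd4 := D.d144
  rw [D.hset] at h hψ
  simp only [Finset.mem_insert, Finset.mem_singleton] at h hψ
  rcases h with rfl | rfl | rfl | rfl <;> rcases hψ with rfl | rfl | rfl | rfl <;> first | rfl | omega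

theorem mem45 : D.c45 ∈ D.F.X' := by simp [D.hset]
theorem mem54 : D.c54 ∈ D.F.X' := by simp [D.hset]
theorem mem120 : D.c120 ∈ D.F.X' := by simp [D.hset]
theorem mem144 : D.c144 ∈ D.F.X' := by simp [D.hset]

include hG in
/-- The relation of the principal block at an 11-regular element. -/
theorem theta_rel {θ : IrrCharacter G} (hθ : θ ∈ D.F.Y) (g : G) (hg : ¬ 11 ∣ orderOf g) :
    (θ : G → ℂ) g = 1 + (D.c45 : G → ℂ) g - (D.c54 : G → ℂ) g - (D.c120 : G → ℂ) g + (D.c144 : G → ℂ) g := by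
  have hd := D.d45
  have hd2 := D.d54
  have hd3 := D.d120
  have hd4 := D.d144
  have h1 := D.F.rel_split (triv_memX hG D.F) hθ g hg
  rw [D.hεy, D.hset,
    Finset.sum_insert (by simp only [Finset.mem_insert, Finset.mem_singleton, not_or]; refine ⟨?_, ?_, ?_⟩ <;>
      (intro e; rw [e] at hd; omega)),
    Finset.sum_insert (by simp only [Finset.mem_insert, Finset.mem_singleton, not_or]; refine ⟨?_, ?_⟩ <;>
      (intro e; rw [e] at hd2; omega)),
    Finset.sum_pair (by intro e; rw [e] at hd3; omega), D.s45, D.s54, D.s120, D.s144] at h1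
  push_cast at h1
  linear_combination h1

include hG in
/-- The values of the block at an involution, with the degrees put in. -/
theorem inv_values {t : G} (ht : orderOf t = 2) :
    ∃ u v w r : ℤ, (D.c45 : G → ℂ) t = u ∧ (D.c54 : G → ℂ) t = v ∧ (D.c120 : G → ℂ) t = w ∧
      (D.c144 : G → ℂ) t = r ∧
      (u, v, w, r) ∈ tSols (Nat.card (centralizer ({t} : Set G))) 45 (-54) (-120) 144 ∧
      ∀ θ ∈ D.F.Y, (θ : G → ℂ) t = ((1 + u - v - w + r : ℤ) : ℂ) := by
  have hd := D.d45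
  have hd2 := D.d54
  have hd3 := D.d120
  have hd4 := D.d144
  have n1 : D.c45 ≠ D.c54 := fun e => by rw [e] at hd; omega
  have n2 : D.c45 ≠ D.c120 := fun e => by rw [e] at hd; omega
  have n3 : D.c45 ≠ D.c144 := fun e => by rw [e] at hd; omega
  have n4 : D.c54 ≠ D.c120 := fun e => by rw [e] at hd2; omega
  have n5 : D.c54 ≠ D.c144 := fun e => by rw [e] at hd2; omega
  have n6 : D.c120 ≠ D.c144 := fun e => by rw [e] at hd3; omega
  obtain ⟨u, v, w, r, hu, hv, hw, hr, au, av, aw, ar, hcond, -⟩ := inv_column hG D.F n1 n2 n3 n4 n5 n6 D.hset ht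
  have sA : sd D.F D.c45 = 45 := by simp [sd, D.s45, D.d45]
  have sB : sd D.F D.c54 = -54 := by simp [sd, D.s54, D.d54]
  have sC : sd D.F D.c120 = -120 := by simp [sd, D.s120, D.d120]
  have sD : sd D.F D.c144 = 144 := by simp [sd, D.s144, D.d144]
  rw [sA, sB, sC, sD] at hcond
  rw [sA] at au; rw [sB] at av; rw [sC] at aw; rw [sD] at ar
  refine ⟨u, v, w, r, hu, hv, hw, hr, mem_tSols au av aw ar hcond, fun θ hθ => ?_⟩
  rw [theta_rel hG D hθ t (by rw [ht]; norm_num), hu, hv, hw, hr]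
  push_cast
  ring

include hG in
/-- A central involution. -/
theorem exists_central : ∃ t : G, orderOf t = 2 ∧ Nat.card (centralizer ({t} : Set G)) = 192 ∧
    (D.c45 : G → ℂ) t = -3 ∧ (D.c54 : G → ℂ) t = 6 ∧ (D.c120 : G → ℂ) t = -8 ∧ (D.c144 : G → ℂ) t = 0 ∧
    ∀ θ ∈ D.F.Y, (θ : G → ℂ) t = 0 := by
  haveI : Fact (Nat.Prime 2) := ⟨Nat.prime_two⟩
  obtain ⟨S⟩ : Nonempty (Sylow 2 G) := inferInstance
  have hS : Nat.card (S : Subgroup G) = 64 :=
    (SimpleTools.card_sylow_subgroup (k := 6) (m := 1485) (by rw [hG]; norm_num) (by norm_num) S).trans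
      (by norm_num)
  obtain ⟨t, ht, ht64⟩ : ∃ t : G, orderOf t = 2 ∧ 64 ∣ Nat.card (centralizer ({t} : Set G)) := by
    have : Nontrivial ↥(S : Subgroup G) := Finite.one_lt_card_iff_nontrivial.mp (by rw [hS]; norm_num)
    have hZ := S.isPGroup'.center_nontrivial
    have h2 : 2 ∣ Nat.card (center ↥(S : Subgroup G)) := by
      obtain ⟨j, hj⟩ := IsPGroup.iff_card.mp (S.isPGroup'.to_subgroup (center ↥(S : Subgroup G)))
      rw [hj]
      refine dvd_pow_self 2 fun h0 => ?_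
      have := Finite.one_lt_card_iff_nontrivial.mpr hZ
      rw [hj, h0] at this
      norm_num at this
    obtain ⟨⟨⟨t, htS⟩, htc⟩, ht⟩ := exists_prime_orderOf_dvd_card' 2 h2
    rw [Subgroup.orderOf_mk, Subgroup.orderOf_mk] at ht
    refine ⟨t, ht, hS ▸ Subgroup.card_dvd_of_le fun s hs => mem_centralizer_singleton_iff.mpr ?_⟩
    exact congrArg Subtype.val (mem_center_iff.mp htc ⟨s, hs⟩)
  obtain ⟨u, v, w, r, hu, hv, hw, hr, hmem, hθ⟩ := inv_values hG D ht
  have h8640 := card_centralizer_dvd hG D.F ht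
  have hCo : Nat.card (centralizer ({t} : Set G)) ∈ centralOrders := by
    have key : ∀ k ∈ Finset.range 136, k ∣ 135 → 64 * k ∈ centralOrders := by decide +kernel
    obtain ⟨k, hk⟩ := ht64
    rw [hk] at h8640 ⊢
    have hk' : k ∣ 135 := Nat.dvd_of_mul_dvd_mul_left (by norm_num : 0 < 64) (by simpa using h8640)
    exact key k (Finset.mem_range.mpr (Nat.lt_succ_of_le (Nat.le_of_dvd (by norm_num) hk'))) hk'
  obtain ⟨hsub, hC⟩ := t_unique _ hCo
  have heq := hsub hmem
  simp only [List.mem_singleton, Prod.mk.injEq] at heq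
  obtain ⟨rfl, rfl, rfl, rfl⟩ := heq
  refine ⟨t, ht, hC (List.ne_nil_of_mem hmem), by simpa using hu, by simpa using hv, by simpa using hw,
    by simpa using hr, fun θ h => ?_⟩
  rw [hθ θ h]; norm_num

include hG in
/-- The squares of the remaining degrees. -/
theorem rest_deg_sq : ∑ χ ∈ rest D.F, (charDegree (χ : G → ℂ) : ℤ) ^ 2 = 54450 := by
  have h := split hG D fun χ => (charDegree (χ : G → ℂ) : ℤ) ^ 2
  have h95 : ∑ χ : IrrCharacter G, (charDegree (χ : G → ℂ) : ℤ) ^ 2 = 95040 := by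
    exact_mod_cast (sum_deg_sq (G := G)).trans hG
  rw [h95, D.d45, D.d54, D.d120, D.d144, show charDegree ((trivChar G : IrrCharacter G) : G → ℂ) = 1 by simp [charDegree], Finset.sum_congr rfl (g := fun _ => ((16 : ℕ) : ℤ) ^ 2)
    fun θ hθ => by rw [D.dθ θ hθ], Finset.sum_const, D.F.hY] at h
  simp at h
  omega

include hG in
theorem centralizer_z_cases {x z : G} (hx : orderOf x = 5) (hz : orderOf z = 2) (hxz : Commute x z) :
    (Nat.card (centralizer ({z} : Set G)) = 120 ∨ Nat.card (centralizer ({z} : Set G)) = 240) ∧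
      ∃ s : ℤ, (s = 1 ∨ s = -1) ∧ (D.c45 : G → ℂ) z = 5 ∧ (D.c54 : G → ℂ) z = 6 ∧ (D.c120 : G → ℂ) z = 0 ∧
        (D.c144 : G → ℂ) z = (4 * s : ℤ) ∧ ∀ θ ∈ D.F.Y, (θ : G → ℂ) z = (4 * s : ℤ) := by
  obtain ⟨u, v, w, r, hu, hv, hw, hr, hmem, hθ⟩ := inv_values hG D hz
  have h8640 := card_centralizer_dvd hG D.F hz
  have h10 : 10 ∣ Nat.card (centralizer ({z} : Set G)) := by
    have h2 : orderOf z ∣ Nat.card (centralizer ({z} : Set G)) :=
      Subgroup.orderOf_dvd_natCard _ (mem_centralizer_singleton_iff.mpr rfl)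
    have h5 : orderOf x ∣ Nat.card (centralizer ({z} : Set G)) :=
      Subgroup.orderOf_dvd_natCard _ (mem_centralizer_singleton_iff.mpr hxz.eq)
    rw [hz] at h2; rw [hx] at h5
    exact Nat.Coprime.mul_dvd_of_dvd_of_dvd (by norm_num : Nat.Coprime 2 5) h2 h5
  rcases z_sols _ (mem_fiveOrders _ (Finset.mem_range.mpr (Nat.lt_succ_of_le (Nat.le_of_dvd (by norm_num) h8640)))
    h8640 h10) _ hmem with ⟨hC, hp | hp⟩ | ⟨hC, hp⟩ <;> simp only [Prod.mk.injEq] at hp <;>
    obtain ⟨rfl, rfl, rfl, rfl⟩ := hp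
  · exact ⟨hC, 1, Or.inl rfl, by simpa using hu, by simpa using hv, by simpa using hw, by simpa using hr,
      fun θ h => by rw [hθ θ h]; norm_num⟩
  · exact ⟨hC, -1, Or.inr rfl, by simpa using hu, by simpa using hv, by simpa using hw, by simpa using hr,
      fun θ h => by rw [hθ θ h]; norm_num⟩
  exfalso
  choose f hf using fun χ : IrrCharacter G => exists_int_two χ hz
  have hval : ∀ (χ : IrrCharacter G) (k : ℤ), (χ : G → ℂ) z = k → f χ = k := fun χ k h => by
    exact_mod_cast (hf χ).symm.trans h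
  have h1 : f (trivChar G) = 1 := hval _ _ (by rw [trivChar_apply]; norm_num)
  have hθf : ∀ θ ∈ D.F.Y, f θ = -8 := fun θ h => hval _ _ (by rw [hθ θ h]; norm_num)
  have hdot := split hG D fun χ => (charDegree (χ : G → ℂ) : ℤ) * f χ
  have hzero : ∑ χ : IrrCharacter G, (charDegree (χ : G → ℂ) : ℤ) * f χ = 0 := by
    have h := sum_deg_mul (G := G) (g := z) (fun e => by rw [e, orderOf_one] at hz; omega)
    rw [Finset.sum_congr rfl (g := fun χ : IrrCharacter G => (((charDegree (χ : G → ℂ) : ℤ) * f χ : ℤ) : ℂ))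
      fun χ _ => by rw [hf χ]; push_cast; ring, ← Int.cast_sum] at h
    exact_mod_cast h
  have hsq := split hG D fun χ => f χ ^ 2
  have hcol : ∑ χ : IrrCharacter G, f χ ^ 2 = 1440 := by
    have h := sum_norm_sq_column z
    rw [hC, Finset.sum_congr rfl (g := fun χ : IrrCharacter G => ((f χ ^ 2 : ℤ) : ℝ)) fun χ _ => by
      rw [hf χ, Complex.norm_intCast, sq_abs]; push_cast; rfl, ← Int.cast_sum] at h
    exact_mod_cast h
  rw [hzero, hval _ _ hu, hval _ _ hv, hval _ _ hw, hval _ _ hr, h1,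
    show charDegree ((trivChar G : IrrCharacter G) : G → ℂ) = 1 by simp [charDegree], D.d45, D.d54, D.d120, D.d144,
    Finset.sum_congr rfl (g := fun _ => ((16 : ℕ) : ℤ) * -8) fun θ h => by rw [D.dθ θ h, hθf θ h],
    Finset.sum_const, D.F.hY] at hdot
  rw [hcol, hval _ _ hu, hval _ _ hv, hval _ _ hw, hval _ _ hr, h1,
    Finset.sum_congr rfl (g := fun _ => (-8 : ℤ) ^ 2) fun θ h => by rw [hθf θ h],
    Finset.sum_const, D.F.hY] at hsq
  simp at hdot hsq
  have hcs := Finset.sum_mul_sq_le_sq_mul_sq (rest D.F) (fun χ => (charDegree (χ : G → ℂ) : ℤ)) f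
  rw [rest_deg_sq hG D, show ∑ χ ∈ rest D.F, f χ ^ 2 = 186 by omega,
    show ∑ χ ∈ rest D.F, (charDegree (χ : G → ℂ) : ℤ) * f χ = -3498 by
      omega] at hcs
  norm_num at hcs

include hG D in
/-- The index of the centraliser in the normaliser of a Sylow 5-subgroup is not 2. -/
theorem not_index_two [Fact (Nat.Prime 5)] (P : Sylow 5 G) {k : ℕ}
    (hN : Nat.card (normalizer ((P : Subgroup G) : Set G)) = 2 * (5 * k))
    (hC : Nat.card (centralizer ((P : Subgroup G) : Set G)) = 5 * k) : False := by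
  have hna := M12Local.not_comm hG
  obtain ⟨F⟩ := exists_frame (e := 2) (by norm_num) P (card_sylow_five hG P) (by rw [hN, hC])
  have htX := F.triv_mem (by norm_num) (by norm_num) (by norm_num)
  obtain ⟨d, hd⟩ := Finset.card_eq_one.mp (show F.X'.card = 1 by have := F.card_X' htX; omega)
  obtain ⟨θ, hθ⟩ : F.Y.Nonempty := Finset.card_pos.1 (by rw [F.hY]; norm_num)
  have hdX : d ∈ F.X' := by simp [hd]
  obtain ⟨hdX', hdne⟩ := F.mem_X hdX
  have hm := F.hmod d hdX'
  have hrel := F.rel_one htX hθ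
  rw [hd, Finset.sum_singleton] at hrel
  have hθm := F.hYd θ hθ
  rw [Int.ModEq] at hm hθm
  have hok : ∀ χ : IrrCharacter G, okDeg (charDegree (χ : G → ℂ)) = true := fun χ => by
    simp only [okDeg, Bool.and_eq_true, Bool.or_eq_true, decide_eq_true_eq]
    refine ⟨hG ▸ charDegree_dvd χ, ?_⟩
    rcases mem_cases hG D χ with rfl | rfl | rfl | rfl | rfl | h | h
    · simp [charDegree]
    · simp [D.d45]
    · simp [D.d54]
    · simp [D.d120]
    · simp [D.d144]
    · simp [D.dθ χ h]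
    · exact Or.inr (rest_dvd hG D.F (mem_rest _ h).1 (mem_rest _ h).2)
  have h2 : 2 ≤ charDegree (d : G → ℂ) := by
    have := charDegree_pos d
    have : charDegree (d : G → ℂ) ≠ 1 := fun h => hdne (BlockDegrees.eq_trivChar hna d h)
    omega
  obtain ⟨hp, hm'⟩ := neighbours _ (Finset.mem_range.mpr (by have := deg_le hG d; omega)) h2 (hok d)
  have hpos := charDegree_pos θ
  have hokθ := hok θ
  rcases F.hsgn d hdX' with e | e <;> rw [e] at hm hrel
  · rw [show charDegree (θ : G → ℂ) = charDegree (d : G → ℂ) + 1 by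
      rcases F.hεy with e' | e' <;> rw [e'] at hrel <;> omega, hp (by omega)] at hokθ
    exact Bool.false_ne_true hokθ
  · rw [show charDegree (θ : G → ℂ) = charDegree (d : G → ℂ) - 1 by
      rcases F.hεy with e' | e' <;> rw [e'] at hrel <;> omega, hm' (by omega)] at hokθ
    exact Bool.false_ne_true hokθ

include hG D in
/-- The centraliser of an element of order 5 does not have order 60. -/
theorem not_sixty {x : G} (hx : orderOf x = 5) (hC : Nat.card (centralizer ({x} : Set G)) = 60) : False := by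
  obtain ⟨⟨w, hwC⟩, hw⟩ := exists_prime_orderOf_dvd_card' (G := ↥(centralizer ({x} : Set G))) 3
    (by rw [hC]; norm_num)
  rw [Subgroup.orderOf_mk] at hw
  have hxw : Commute x w := (mem_centralizer_singleton_iff.mp hwC).symm
  obtain ⟨a, ha⟩ := exists_int_block hG D (mem54 D) x
  obtain ⟨b, hb⟩ := exists_int_block hG D (mem144 D) x
  have hval : ∀ (χ : IrrCharacter G) (k : ℤ), (χ : G → ℂ) x = k → ∀ i ∈ Finset.Ico 1 5,
      (χ : G → ℂ) (x ^ i) = k := fun χ k hk i hi => pow_value χ x (by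
    rw [hx]
    have := Finset.mem_Ico.mp hi
    exact ((Nat.prime_five.coprime_iff_not_dvd).mpr fun h => by have := Nat.le_of_dvd (by omega) h; omega).symm) hk
  have hs : orderOf (x * w) = 15 := by
    rw [hxw.orderOf_mul_eq_mul_orderOf_of_coprime (by rw [hx, hw]; norm_num), hx, hw]
  obtain ⟨m, hm⟩ := sum_powers D.c54 (x * w)
  rw [hs, ← Finset.sum_subset (s₁ := ({0, 3, 6, 9, 12} : Finset ℕ)) (by decide) fun i hi hni => ?_] at hm
  swap
  · refine vanish_three hG _ (by rw [D.d54]; norm_num) _ ?_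
    rw [orderOf_pow, hs]
    revert hni
    rw [Finset.mem_range] at hi
    interval_cases i <;> decide
  have hp : ∀ j ∈ Finset.Ico 1 5, (D.c54 : G → ℂ) ((x * w) ^ (3 * j)) = a := fun j hj => by
    rw [hxw.mul_pow, pow_mul w, show w ^ 3 = 1 from hw ▸ pow_orderOf_eq_one w, one_pow, mul_one, ← pow_mod_orderOf,
      hx]
    obtain ⟨hj1, hj2⟩ := Finset.mem_Ico.mp hj
    refine hval _ a ha _ (Finset.mem_Ico.mpr ?_)
    interval_cases j <;> norm_num
  simp only [Finset.sum_insert (show (0 : ℕ) ∉ ({3, 6, 9, 12} : Finset ℕ) by decide),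
    Finset.sum_insert (show (3 : ℕ) ∉ ({6, 9, 12} : Finset ℕ) by decide),
    Finset.sum_insert (show (6 : ℕ) ∉ ({9, 12} : Finset ℕ) by decide),
    Finset.sum_pair (show (9 : ℕ) ≠ 12 by decide)] at hm
  rw [pow_zero, irr_one_eq, D.d54, hp 1 (by simp), hp 2 (by simp), hp 3 (by simp), hp 4 (by simp)] at hm
  have ha' : (54 : ℤ) + 4 * a = 15 * m := by
    have h' : ((54 + 4 * a : ℤ) : ℂ) = ((15 * m : ℕ) : ℂ) := by push_cast at hm ⊢; linear_combination hm
    exact_mod_cast h'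
  obtain ⟨m', -, hm'⟩ := exists_int_prime D.c144 (p := 5) (by norm_num) hx
    (fun i hi => (hval _ b hb i hi).trans hb.symm)
  obtain ⟨-, hmb⟩ := exists_int_prime D.c144 (p := 5) (by norm_num) hx (fun i hi => (hval _ b hb i hi).trans hb.symm)
  have hbm : (144 + 4 * b) % 5 = 0 := by
    obtain ⟨n, hn, m1, h1⟩ := exists_int_prime D.c144 (p := 5) (by norm_num) hx
      (fun i hi => (hval _ b hb i hi).trans hb.symm)
    have : n = b := by exact_mod_cast hn.symm.trans hb
    rw [D.d144, this] at h1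
    push_cast at h1
    omega
  obtain ⟨θ, hθ⟩ : D.F.Y.Nonempty := Finset.card_pos.1 (by rw [D.F.hY]; norm_num)
  have h5 : 5 ∣ orderOf x := by rw [hx]
  have hθx : ∀ η ∈ D.F.Y, (η : G → ℂ) x = ((1 - a + b : ℤ) : ℂ) := fun η hη => by
    rw [theta_rel hG D hη x (by rw [hx]; norm_num), ha, hb, vanish_five hG _ (by rw [D.d45]; norm_num) x h5,
      vanish_five hG _ (by rw [D.d120]; norm_num) x h5]
    push_cast; ring
  have hcol := sum_norm_sq_column x
  rw [hC, split hG D fun χ => ‖(χ : G → ℂ) x‖ ^ 2, trivChar_apply, ha, hb,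
    vanish_five hG _ (by rw [D.d45]; norm_num) x h5, vanish_five hG _ (by rw [D.d120]; norm_num) x h5,
    Finset.sum_congr rfl (g := fun _ => ‖((1 - a + b : ℤ) : ℂ)‖ ^ 2) fun η hη => by rw [hθx η hη],
    Finset.sum_const, D.F.hY] at hcol
  simp only [Complex.norm_intCast, sq_abs, norm_one, norm_zero, one_pow, nsmul_eq_mul] at hcol
  have hle : 1 + a * a + b * b + 2 * ((1 - a + b) * (1 - a + b)) ≤ 60 := by
    have h0 : 0 ≤ ∑ χ ∈ rest D.F, ‖(χ : G → ℂ) x‖ ^ 2 := Finset.sum_nonneg fun _ _ => sq_nonneg _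
    have h' : ((1 + a * a + b * b + 2 * ((1 - a + b) * (1 - a + b)) : ℤ) : ℝ) ≤ ((60 : ℤ) : ℝ) := by
      push_cast at hcol ⊢
      nlinarith
    exact_mod_cast h'
  obtain ⟨ha1, ha2⟩ : -7 ≤ a ∧ a ≤ 7 := ⟨by nlinarith [sq_nonneg b, sq_nonneg (1 - a + b)],
    by nlinarith [sq_nonneg b, sq_nonneg (1 - a + b)]⟩
  obtain ⟨hb1, hb2⟩ : -7 ≤ b ∧ b ≤ 7 := ⟨by nlinarith [sq_nonneg a, sq_nonneg (1 - a + b)],
    by nlinarith [sq_nonneg a, sq_nonneg (1 - a + b)]⟩
  interval_cases a <;> interval_cases b <;> omega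

include hG D in
/-- No involution commuting with an element of order 5 centralises a 2-group of order 32. -/
theorem not_big [Fact (Nat.Prime 5)] (P : Sylow 5 G) {k : ℕ} (hk : 2 ∣ k) (h32 : 32 ∣ 4 * (5 * k))
    (hN : Nat.card (normalizer ((P : Subgroup G) : Set G)) = 4 * (5 * k))
    (hC : Nat.card (centralizer ((P : Subgroup G) : Set G)) = 5 * k) : False := by
  haveI : Fact (Nat.Prime 2) := ⟨Nat.prime_two⟩
  set N := normalizer ((P : Subgroup G) : Set G)
  set C := centralizer ((P : Subgroup G) : Set G)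
  have hCN : C ≤ N := centralizer_le_normalizer ((P : Subgroup G) : Set G)
  obtain ⟨⟨c, hcC⟩, hc⟩ := exists_prime_orderOf_dvd_card' (G := ↥C) 2 (hC ▸ hk.mul_left 5)
  rw [Subgroup.orderOf_mk] at hc
  have hcN : c ∈ N := hCN hcC
  have hco : orderOf (⟨c, hcN⟩ : N) = 2 := by rw [Subgroup.orderOf_mk]; exact hc
  obtain ⟨S, hS⟩ := (IsPGroup.of_card (n := 1) (by rw [Nat.card_zpowers, hco, pow_one]) :
    IsPGroup 2 ↥(zpowers (⟨c, hcN⟩ : N))).exists_le_sylow
  have h32S : 32 ∣ Nat.card (S : Subgroup N) := by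
    have := S.pow_dvd_card_of_pow_dvd_card (n := 5) (by rw [hN]; exact h32)
    norm_num at this
    simpa [Nat.card_eq_fintype_card] using this
  haveI : Group.IsNilpotent ↥(S : Subgroup N) := S.isPGroup'.isNilpotent
  set K : Subgroup ↥(S : Subgroup N) :=
    C.comap (N.subtype.comp (S : Subgroup N).subtype)
  haveI : K.Normal := ⟨fun n hn s => by
    have hn' : ((n : N) : G) ∈ C := hn
    show ((((s * n * s⁻¹ : ↥(S : Subgroup N)) : N)) : G) ∈ C
    push_cast
    rw [mem_centralizer_iff] at hn' ⊢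
    intro q hq
    have hq' := (mem_normalizer_iff''.mp (s : N).2 q).mp hq
    have h1 := hn' _ hq'
    calc q * (((s : N) : G) * ((n : N) : G) * ((s : N) : G)⁻¹)
        = ((s : N) : G) * ((((s : N) : G)⁻¹ * q * ((s : N) : G)) * ((n : N) : G)) * ((s : N) : G)⁻¹ := by group
      _ = ((s : N) : G) * (((n : N) : G) * (((s : N) : G)⁻¹ * q * ((s : N) : G))) * ((s : N) : G)⁻¹ := by rw [h1]
      _ = ((s : N) : G) * ((n : N) : G) * ((s : N) : G)⁻¹ * q := by group⟩
  have hK : K ≠ ⊥ := fun h => by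
    have hmem : (⟨⟨c, hcN⟩, hS (mem_zpowers _)⟩ : ↥(S : Subgroup N)) ∈ K := hcC
    rw [h, mem_bot] at hmem
    have : c = 1 := congrArg (fun s : ↥(S : Subgroup N) => ((s : N) : G)) hmem
    rw [this, orderOf_one] at hc
    omega
  have hZ := CfsgLib.Solvable.FrattiniFitting.inf_center_ne_bot K hK
  have h2 : 2 ∣ Nat.card ↥(K ⊓ center ↥(S : Subgroup N)) := by
    obtain ⟨j, hj⟩ := IsPGroup.iff_card.mp (S.isPGroup'.to_subgroup (K ⊓ center ↥(S : Subgroup N)))
    rw [hj]
    refine dvd_pow_self 2 fun h0 => hZ ?_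
    rw [h0, pow_zero] at hj
    exact Subgroup.card_eq_one.mp hj
  obtain ⟨⟨s, hs'⟩, hs⟩ := exists_prime_orderOf_dvd_card' 2 h2
  obtain ⟨hsK, hsZ⟩ := Subgroup.mem_inf.mp hs'
  rw [Subgroup.orderOf_mk, ← Subgroup.orderOf_coe, ← Subgroup.orderOf_coe] at hs
  set z : G := ((s : N) : G)
  obtain ⟨x, hxP, hx, hzp⟩ := PrimeOrder.exists_generator P (card_sylow_five hG P)
  have hxz : Commute x z := mem_centralizer_iff.mp (show z ∈ C from hsK) x hxP
  have hle : 32 ∣ Nat.card (centralizer ({z} : Set G)) := by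
    refine h32S.trans ?_
    rw [← Subgroup.card_map_of_injective (f := N.subtype) N.subtype_injective]
    refine Subgroup.card_dvd_of_le ?_
    rintro _ ⟨q, hq, rfl⟩
    refine mem_centralizer_singleton_iff.mpr ?_
    exact congrArg (fun r : ↥(S : Subgroup N) => ((r : N) : G)) (mem_center_iff.mp hsZ ⟨q, hq⟩)
  rcases (centralizer_z_cases hG D hx hs hxz).1 with h | h <;> rw [h] at hle <;> norm_num at hle

include hG D in
/-- The Sylow 5-normaliser. -/
theorem exists_five_element : ∃ x z : G, orderOf x = 5 ∧ orderOf z = 2 ∧ Commute x z ∧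
    Nat.card (centralizer ({x} : Set G)) = 10 ∧
    Nat.card (normalizer ((zpowers x : Subgroup G) : Set G)) = 40 := by
  haveI : Fact (Nat.Prime 5) := ⟨by norm_num⟩
  obtain ⟨x₀, z₀, hx₀, hz₀, hxz₀⟩ := exists_commuting_involution hG D.c54 D.d54 (exists_int_block hG D (mem54 D))
  obtain ⟨P, hP⟩ := (IsPGroup.of_card (n := 1) (by rw [Nat.card_zpowers, hx₀, pow_one]) :
    IsPGroup 5 ↥(zpowers x₀)).exists_le_sylow
  have hzp : zpowers x₀ = (P : Subgroup G) :=
    Subgroup.eq_of_le_of_card_ge hP (by rw [card_sylow_five hG P, Nat.card_zpowers, hx₀])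
  obtain ⟨e, k, hN, hC, hcase⟩ := five_cases hG P
  have hk2 : 2 ∣ k := by
    have h2 : orderOf z₀ ∣ Nat.card (centralizer ({x₀} : Set G)) :=
      Subgroup.orderOf_dvd_natCard _ (mem_centralizer_singleton_iff.mpr hxz₀.eq.symm)
    rw [hz₀, card_centralizer_gen hG P hzp, hC] at h2
    omega
  rcases hcase with ⟨rfl, rfl⟩ | ⟨rfl, rfl⟩ | ⟨rfl, rfl⟩ | ⟨rfl, rfl⟩ | ⟨rfl, rfl⟩ | ⟨rfl, rfl⟩ | ⟨rfl, hk⟩
  · exact ⟨x₀, z₀, hx₀, hz₀, hxz₀, (card_centralizer_gen hG P hzp).trans hC, by rw [hzp]; exact hN⟩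
  · exact (not_sixty hG D hx₀ ((card_centralizer_gen hG P hzp).trans hC)).elim
  · exact (not_big hG D P hk2 (by norm_num) hN hC).elim
  · exact (not_big hG D P hk2 (by norm_num) hN hC).elim
  · omega
  · omega
  · exact (not_index_two hG D P hN hC).elim

end CfsgLib.KGroups.M12Five
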