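import Cfsg.Agent.Lib.KGroups.ElevenOrders.Main
import Cfsg.Agent.Lib.KGroups.M12Columns
import Cfsg.Agent.Lib.KGroups.M11Chars
import Cfsg.Agent.Lib.KGroups.M11Unique
import Cfsg.Agent.Lib.KnownA.M11Multiplier
import Cfsg.Agent.Lib.Sporadic.M11Out
import Cfsg.Agent.Lib.DegreeTools.PDegree
import Cfsg.Agent.Lib.DegreeTools.CentralSupport
import Cfsg.Agent.Lib.PGroup.TISeparable

/-!
# Groups of order 95040 with degrees divisible by 55 and by 33

Such a group is simple or the product of the alternating group of degree 4 with a group isomorphic to M11.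
-/

set_option autoImplicit false

namespace CfsgLib.KGroups.M12Graph

open Cfsg Subgroup
open scoped Classical ComplexConjugate commutatorElement

universe u

section General

variable {H : Type*} [Group H] [Fintype H]

/-- A constituent on a normal subgroup keeps the divisors prime to the index. -/
theorem exists_constituent_dvd (N : Subgroup H) [N.Normal] (χ : IrrCharacter H) {r : ℕ}
    (hr : r.Coprime N.index) (h : r ∣ charDegree (χ : H → ℂ)) :
    ∃ θ : IrrCharacter N, r ∣ charDegree (θ : N → ℂ) := by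
  have hres := Char.IsCharacter.restrict (Char.isCharacter_irr χ) N
  obtain ⟨θ, hθ, -⟩ := CharDeep.Clifford.exists_constituent (Char.IsCharacter.isClassFunction hres)
    (ψ := fun n : N => (χ : H → ℂ) n) (by
      rw [ne_eq, Char.classInner_self_eq_zero]
      intro e
      exact Char.IsIrrCharacter.apply_one_ne_zero χ.2 (by simpa using congrFun e 1))
  obtain ⟨⟨c, hc⟩, h2⟩ := Cfsg.Agent.S0887.result N (χ : H → ℂ) χ.2 (θ : N → ℂ) θ.2 hθ
    (charDegree (χ : H → ℂ)) (charDegree (θ : N → ℂ)) (CfsgLib.DegreeTools.deg_cast χ).symm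
    (CfsgLib.DegreeTools.deg_cast θ).symm
  refine ⟨θ, ?_⟩
  rw [hc, Nat.mul_div_cancel_left _ (CfsgLib.DegreeTools.deg_pos θ)] at h2
  exact (hr.coprime_dvd_right h2).dvd_of_dvd_mul_right (hc ▸ h)

/-- An irreducible character stays irreducible on a subgroup covering the group modulo the centre. -/
theorem exists_restrict_irr (T : Subgroup H) (hT : T ⊔ center H = ⊤) (χ : IrrCharacter H) :
    ∃ θ : IrrCharacter T, charDegree (θ : T → ℂ) = charDegree (χ : H → ℂ) := by
  have hTc : T.Normal := by
    refine ⟨fun t ht h => ?_⟩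
    obtain ⟨a, ha, z, hz, rfl⟩ := mem_sup_of_normal_right.mp (hT.symm ▸ mem_top h : h ∈ T ⊔ center H)
    have : a * z * t * (a * z)⁻¹ = a * t * a⁻¹ := by
      calc a * z * t * (a * z)⁻¹ = a * (z * t * z⁻¹) * a⁻¹ := by group
        _ = a * t * a⁻¹ := by rw [← mem_center_iff.mp hz t, mul_inv_cancel_right]
    rw [this]
    exact T.mul_mem (T.mul_mem ha ht) (T.inv_mem ha)
  -- the squared norm is constant on the cosets of the central subgroup
  have hnorm : ∀ (t : H) (z : H), z ∈ center H → ‖(χ : H → ℂ) (t * z)‖ = ‖(χ : H → ℂ) t‖ := fun t z hz => by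
    rw [CfsgLib.DegreeTools.apply_mul_center χ hz t, norm_mul, norm_div,
      CfsgLib.DegreeTools.norm_apply_center χ hz, CfsgLib.DegreeTools.norm_apply_one,
      div_self (Nat.cast_ne_zero.mpr (CfsgLib.DegreeTools.deg_pos χ).ne'), one_mul]
  have hsum : (T.index : ℝ) * ∑ t : T, ‖(χ : H → ℂ) t‖ ^ 2 = Nat.card H := by
    rw [← CfsgLib.DegreeTools.sum_norm_sq χ]
    have hfib : ∀ q : H ⧸ T, ∃ z ∈ center H, (QuotientGroup.mk z : H ⧸ T) = q := fun q => by
      obtain ⟨h, rfl⟩ := QuotientGroup.mk_surjective q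
      obtain ⟨a, ha, z, hz, rfl⟩ := mem_sup_of_normal_right.mp (hT.symm ▸ mem_top h : h ∈ T ⊔ center H)
      refine ⟨z, hz, QuotientGroup.eq.mpr ?_⟩
      rw [show z⁻¹ * (a * z) = a by rw [mem_center_iff.mp hz a, inv_mul_cancel_left]]
      exact ha
    choose z hz hzq using hfib
    let e : (H ⧸ T) × T → H := fun p => (p.2 : H) * z p.1
    have he : Function.Bijective e := by
      have hinj : Function.Injective e := by
        rintro ⟨q, t⟩ ⟨q', t'⟩ h
        have h' : (t : H) * z q = (t' : H) * z q' := h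
        have hq : q = q' := by
          rw [← hzq q, ← hzq q', QuotientGroup.eq]
          have : (z q)⁻¹ * z q' = (t' : H)⁻¹ * t := by
            have h1 : z q = (t : H)⁻¹ * (t' * z q') := by rw [← h', inv_mul_cancel_left]
            rw [h1]
            calc ((t : H)⁻¹ * (t' * z q'))⁻¹ * z q' = (z q')⁻¹ * ((t' : H)⁻¹ * t * z q') := by group
              _ = (z q')⁻¹ * (z q' * ((t' : H)⁻¹ * t)) := by rw [mem_center_iff.mp (hz q') ((t' : H)⁻¹ * t)]
              _ = _ := by group
          rw [this]
          exact T.mul_mem (T.inv_mem t'.2) t.2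
        subst hq
        rw [Subtype.ext (mul_right_cancel h')]
      refine ⟨hinj, ?_⟩
      have hc : Fintype.card ((H ⧸ T) × T) = Fintype.card H := by
        rw [← Nat.card_eq_fintype_card, ← Nat.card_eq_fintype_card, Nat.card_prod, ← index_eq_card, index_mul_card]
      exact ((Fintype.bijective_iff_injective_and_card e).mpr ⟨hinj, hc⟩).2
    rw [← he.sum_comp, Fintype.sum_prod_type]
    simp only [e, fun q t => hnorm t _ (hz q)]
    rw [Finset.sum_const, Finset.card_univ, nsmul_eq_mul, ← Nat.card_eq_fintype_card, index_eq_card]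
  have hirr : IsIrrCharacter T fun t : T => (χ : H → ℂ) t := by
    refine Char.IsCharacter.isIrrCharacter_of_norm_one (Char.IsCharacter.restrict (Char.isCharacter_irr χ) T) ?_
    have hidx : (0 : ℝ) < T.index := Nat.cast_pos.mpr (Nat.pos_of_ne_zero index_ne_zero_of_finite)
    have h1 : ∑ t : T, ‖(χ : H → ℂ) t‖ ^ 2 = (Nat.card T : ℝ) := by
      rw [← index_mul_card T, Nat.cast_mul] at hsum
      exact mul_left_cancel₀ hidx.ne' hsum
    rw [classInner, Finset.sum_congr rfl (g := fun t : T => ((‖(χ : H → ℂ) t‖ ^ 2 : ℝ) : ℂ)) fun t _ => by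
      rw [Complex.mul_conj, Complex.normSq_eq_norm_sq], ← Complex.ofReal_sum, h1, Complex.ofReal_natCast,
      inv_mul_cancel₀ (Nat.cast_ne_zero.mpr Nat.card_pos.ne')]
  exact ⟨⟨_, hirr⟩, by simp [charDegree]⟩

end General

/-- The degrees of M11 include no multiple of 33. -/
theorem not_dvd_degree {T : Type*} [Group T] [Fintype T] [IsSimpleGroup T] (hT : Nat.card T = 7920)
    (χ : IrrCharacter T) : ¬ 33 ∣ charDegree (χ : T → ℂ) := by
  obtain ⟨K⟩ := M11Chars.exists_chars hT
  have h := K.total fun η => if η = χ then 1 else 0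
  rw [Finset.sum_ite_eq' Finset.univ χ, if_pos (Finset.mem_univ _)] at h
  intro hd
  have hne : ∀ η : IrrCharacter T, ¬ 33 ∣ charDegree (η : T → ℂ) → η ≠ χ := fun η h e => h (e ▸ hd)
  rw [if_neg (hne _ (by simp [charDegree])), if_neg (hne _ (by rw [K.d45]; norm_num)),
    if_neg (hne _ (by rw [K.dθ]; norm_num)), if_neg (hne _ (by rw [K.dθ']; norm_num)),
    if_neg (hne _ (by rw [K.d11]; norm_num)), if_neg (hne _ (by rw [K.d44]; norm_num)),
    if_neg (hne _ (by rw [K.d55]; norm_num)),
    Finset.sum_eq_zero fun η hη => if_neg (hne _ (by rw [K.dT η hη]; norm_num))] at h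
  norm_num at h

/-- M12 has degrees divisible by 55 and by 33. -/
theorem exists_degrees {M : Type*} [Group M] [Fintype M] [IsSimpleGroup M] (hM : Nat.card M = 95040) :
    (∃ χ : IrrCharacter M, charDegree (χ : M → ℂ) = 55) ∧ ∃ χ : IrrCharacter M, charDegree (χ : M → ℂ) = 66 := by
  haveI : Fact (Nat.Prime 11) := ⟨by norm_num⟩
  obtain ⟨S⟩ := M12Setup.exists_setup hM
  obtain ⟨E⟩ := M12Columns.exists_eight hM S
  exact ⟨⟨E.f1, by have := E.v1; simp only [M12Setup.fd] at this; exact_mod_cast this⟩,
    ⟨E.q, by have := E.vq; simp only [M12Setup.fd] at this; exact_mod_cast this⟩⟩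

variable {G : Type u} [Group G] [Finite G]

/-- The subgroup generated by the elements whose eleventh power is trivial. -/
def elevenGen (G : Type u) [Group G] : Subgroup G := closure {g : G | g ^ 11 = 1}

instance : (elevenGen G).Normal :=
  normal_closure_of_conj fun g hg h => by
    show (h * g * h⁻¹) ^ 11 = 1
    rw [conj_pow, show g ^ 11 = 1 from hg]; group
where
  normal_closure_of_conj {S : Set G} (h : ∀ g ∈ S, ∀ x : G, x * g * x⁻¹ ∈ S) : (closure S).Normal := by
    refine ⟨fun n hn x => ?_⟩
    have hmap : (closure S).map (MulAut.conj x).toMonoidHom ≤ closure S := by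
      rw [MonoidHom.map_closure]
      refine closure_mono ?_
      rintro _ ⟨g, hg, rfl⟩
      exact h g hg x
    exact hmap ⟨n, hn, rfl⟩

/-- A normal subgroup of order dividing 8640 commutes with the elements of order eleven. -/
theorem commute_of_pow_eleven (hcard : Nat.card G = 95040) (K : Subgroup G) [K.Normal]
    (hK : Nat.card K ∣ 8640) {g : G} (hg : g ^ 11 = 1) : ∀ k ∈ K, Commute k g := by
  haveI : Fact (Nat.Prime 11) := ⟨by norm_num⟩
  by_cases hg1 : g = 1
  · intro k _; rw [hg1]; exact Commute.one_right k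
  have hgo : orderOf g = 11 := orderOf_eq_prime hg hg1
  set D := centralizer ({g} : Set G) ⊓ K with hD
  suffices h : Nat.card K ∣ Nat.card D by
    have he : D = K := Subgroup.eq_of_le_of_card_ge inf_le_right (Nat.le_of_dvd Nat.card_pos h)
    intro k hk
    exact mem_centralizer_singleton_iff.mp (he.symm ▸ hk : k ∈ D).1
  refine (Nat.dvd_iff_prime_pow_dvd_dvd _ _).mpr fun r a hr hra => ?_
  rcases Nat.eq_zero_or_pos a with rfl | ha
  · simp
  haveI : Fact r.Prime := ⟨hr⟩
  obtain ⟨R⟩ : Nonempty (Sylow r K) := inferInstance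
  have hN : (11 : ℕ) ∣ Nat.card (normalizer (((R : Subgroup K).map K.subtype : Subgroup G) : Set G)) := by
    by_contra h11
    have htop := Sylow.normalizer_sup_eq_top R
    have h1 := CfsgLib.PGroup.TISeparable.card_sup_dvd
      (normalizer (((R : Subgroup K).map K.subtype : Subgroup G) : Set G)) K
    rw [htop, card_top, hcard] at h1
    rcases (by norm_num : Nat.Prime 11).dvd_mul.mp ((by norm_num : (11 : ℕ) ∣ 95040).trans h1) with h | h
    · exact absurd (h.trans hK) (by norm_num)
    · exact h11 h
  obtain ⟨⟨h, hhN⟩, hho⟩ := exists_prime_orderOf_dvd_card' 11 hN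
  rw [Subgroup.orderOf_mk] at hho
  -- move the normalising element onto `g`
  have hsyl : ∀ y : G, orderOf y = 11 → ∃ P : Sylow 11 G, zpowers y = (P : Subgroup G) := fun y hy => by
    obtain ⟨P, hP⟩ := (IsPGroup.of_card (n := 1) (G := ↥(zpowers y))
      (by rw [Nat.card_zpowers, hy, pow_one])).exists_le_sylow
    refine ⟨P, Subgroup.eq_of_le_of_card_ge hP ?_⟩
    rw [Nat.card_zpowers, hy, CfsgLib.SmallGroups.SimpleTools.card_sylow_subgroup (k := 1) (m := 8640)
      (by rw [hcard]; norm_num) (by norm_num) P, pow_one]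
  obtain ⟨P, hP⟩ := hsyl g hgo
  obtain ⟨Q, hQ⟩ := hsyl h hho
  obtain ⟨x, hx⟩ := MulAction.exists_smul_eq G Q P
  have hgQ : g ∈ (zpowers h).map (MulAut.conj x).toMonoidHom := by
    rw [hQ]
    have : g ∈ (P : Subgroup G) := hP ▸ mem_zpowers g
    rw [← hx] at this
    exact this
  set R' := ((R : Subgroup K).map K.subtype).map (MulAut.conj x).toMonoidHom with hR'
  have hgR : g ∈ normalizer (R' : Set G) := by
    have hle : (zpowers h).map (MulAut.conj x).toMonoidHom ≤
        (normalizer (((R : Subgroup K).map K.subtype : Subgroup G) : Set G)).map (MulAut.conj x).toMonoidHom :=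
      map_mono (zpowers_le.mpr hhN)
    refine le_normalizer_map _ (hle hgQ)
  have hR'K : R' ≤ K := by
    rintro _ ⟨y, ⟨w, -, rfl⟩, rfl⟩
    exact ‹K.Normal›.conj_mem _ w.2 x
  have hR'c : Nat.card R' = Nat.card (R : Subgroup K) := by
    rw [hR', card_map_of_injective (f := (MulAut.conj x).toMonoidHom) (MulAut.conj x).injective,
      card_map_of_injective K.subtype_injective]
  have hra' : r ^ a ∣ Nat.card R' := by rw [hR'c]; exact R.pow_dvd_card_of_pow_dvd_card hra
  obtain ⟨b, hb⟩ := IsPGroup.iff_card.mp R.isPGroup'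
  -- the small group generated by the two
  set X := R' ⊔ zpowers g with hX
  set RX := R'.subgroupOf X
  haveI : RX.Normal := normal_subgroupOf_iff_le_normalizer le_sup_left |>.mpr
    (sup_le le_normalizer (zpowers_le.mpr hgR))
  have hgX : g ∈ X := le_sup_right (a := R') (mem_zpowers g)
  have hXcard : Nat.card X ∣ 11 * Nat.card R' := by
    have htop : RX ⊔ zpowers (⟨g, hgX⟩ : X) = ⊤ := by
      apply Subgroup.map_injective X.subtype_injective
      rw [Subgroup.map_sup, subgroupOf_map_subtype, inf_eq_left.mpr le_sup_left, MonoidHom.map_zpowers,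
        ← MonoidHom.range_eq_map, range_subtype]
      rfl
    have h1 := CfsgLib.PGroup.TISeparable.card_sup_dvd (zpowers (⟨g, hgX⟩ : X)) RX
    rw [sup_comm, htop, card_top, Nat.card_zpowers, Subgroup.orderOf_mk, hgo,
      Nat.card_congr (subgroupOfEquivOfLe (le_sup_left : R' ≤ X)).toEquiv, mul_comm] at h1
    exact h1
  obtain ⟨S⟩ : Nonempty (Sylow 11 X) := inferInstance
  have hSone : Nat.card (Sylow 11 X) = 1 := by
    have hmod : Nat.card (Sylow 11 X) % 11 = 1 := card_sylow_modEq_one 11 X
    have hd : Nat.card (Sylow 11 X) ∣ 11 * Nat.card R' :=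
      (S.card_dvd_index.trans (index_dvd_card _)).trans hXcard
    have hd' : Nat.card (Sylow 11 X) ∣ r ^ b := by
      rw [← hb, ← hR'c]
      refine Nat.Coprime.dvd_of_dvd_mul_left ?_ hd
      exact ((by norm_num : Nat.Prime 11).coprime_iff_not_dvd.mpr fun h => by omega).symm
    have hrb : r ^ b ∣ 8640 := (hb ▸ card_subgroup_dvd_card (R : Subgroup K)).trans hK
    have h27 : r ^ b ∣ 64 ∨ r ^ b ∣ 27 ∨ r ^ b ∣ 5 := by
      have hr' : r ∣ 2 ^ 6 * (3 ^ 3 * 5) := (dvd_pow_self r (by omega)).trans (hra.trans hK)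
      rcases hr.dvd_mul.mp hr' with h | h
      · have e := (Nat.prime_dvd_prime_iff_eq hr Nat.prime_two).mp (hr.dvd_of_dvd_pow h)
        subst e
        left
        refine Nat.Coprime.dvd_of_dvd_mul_right (k := 2 ^ b) (m := 64) (n := 135) ?_ hrb
        exact Nat.Coprime.pow_left b (by norm_num)
      rcases hr.dvd_mul.mp h with h | h
      · have e := (Nat.prime_dvd_prime_iff_eq hr Nat.prime_three).mp (hr.dvd_of_dvd_pow h)
        subst e
        right; left
        refine Nat.Coprime.dvd_of_dvd_mul_right (k := 3 ^ b) (m := 27) (n := 320) ?_ hrb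
        exact Nat.Coprime.pow_left b (by norm_num)
      · have e := (Nat.prime_dvd_prime_iff_eq hr Nat.prime_five).mp h
        subst e
        right; right
        refine Nat.Coprime.dvd_of_dvd_mul_right (k := 5 ^ b) (m := 5) (n := 1728) ?_ hrb
        exact Nat.Coprime.pow_left b (by norm_num)
    have key : ∀ n ∈ List.range 65, n % 11 = 1 → n ∣ 64 ∨ n ∣ 27 ∨ n ∣ 5 → n = 1 := by decide +kernel
    refine key _ (List.mem_range.mpr ?_) hmod (h27.imp (hd'.trans) (Or.imp (hd'.trans) (hd'.trans)))
    rcases h27 with h | h | h <;> have := Nat.le_of_dvd (by norm_num) (hd'.trans h) <;> omega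
  have hSn : (zpowers (⟨g, hgX⟩ : X)).Normal := by
    have hsub := (Nat.card_eq_one_iff_unique.mp hSone).1
    obtain ⟨P', hP'⟩ := (IsPGroup.of_card (n := 1) (G := ↥(zpowers (⟨g, hgX⟩ : X)))
      (by rw [Nat.card_zpowers, Subgroup.orderOf_mk, hgo, pow_one])).exists_le_sylow
    have : zpowers (⟨g, hgX⟩ : X) = (P' : Subgroup X) := by
      refine Subgroup.eq_of_le_of_card_ge hP' ?_
      rw [Nat.card_zpowers, Subgroup.orderOf_mk, hgo]
      obtain ⟨i, hi⟩ := IsPGroup.iff_card.mp P'.isPGroup'
      rw [hi]
      have hd : 11 ^ i ∣ 95040 := hcard ▸ ((hi ▸ card_subgroup_dvd_card (P' : Subgroup X)).trans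
        (card_subgroup_dvd_card X))
      rcases i with _ | _ | i
      · norm_num
      · norm_num
      · exact absurd ((pow_dvd_pow 11 (by omega : 2 ≤ i + 2)).trans hd) (by norm_num)
    rw [this]
    exact Sylow.normal_of_subsingleton P'
  have hdis : Disjoint RX (zpowers (⟨g, hgX⟩ : X)) := by
    refine disjoint_of_coprime_natCard ?_
    rw [Nat.card_congr (subgroupOfEquivOfLe (le_sup_left : R' ≤ X)).toEquiv, Nat.card_zpowers,
      Subgroup.orderOf_mk, hgo]
    exact ((by norm_num : Nat.Prime 11).coprime_iff_not_dvd.mpr fun h =>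
      absurd ((h.trans (card_dvd_of_le hR'K)).trans hK) (by norm_num)).symm
  refine hra'.trans (Subgroup.card_dvd_of_le (le_inf (fun y hy => ?_) hR'K))
  have := Subgroup.commute_of_normal_of_disjoint RX _ inferInstance hSn hdis
    (⟨y, le_sup_left (b := zpowers g) hy⟩ : X) ⟨g, hgX⟩ hy (mem_zpowers _)
  exact mem_centralizer_singleton_iff.mpr (congrArg Subtype.val this.eq)

variable (hcard : Nat.card G = 95040) (h55 : ∃ χ : IrrCharacter G, 55 ∣ charDegree (χ : G → ℂ))

include hcard h55 in
/-- The eleven-generated subgroup is a perfect central cover of a simple group of order 7920 or 95040, and its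
centraliser is a complement up to the centre. -/
theorem exists_cover : ∃ K : Subgroup G, K.Normal ∧ ¬ 11 ∣ Nat.card K ∧ commutator (elevenGen G) = ⊤ ∧
    K.subgroupOf (elevenGen G) = center (elevenGen G) ∧ centralizer ((elevenGen G : Subgroup G) : Set G) = K ∧
    IsSimpleGroup (elevenGen G ⧸ center (elevenGen G)) ∧
    (Nat.card (elevenGen G ⧸ center (elevenGen G)) = 7920 ∨
      Nat.card (elevenGen G ⧸ center (elevenGen G)) = 95040) := by
  haveI : Fact (Nat.Prime 11) := ⟨by norm_num⟩
  cases nonempty_fintype G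
  obtain ⟨hKn, hKc, hKmax⟩ := CfsgLib.PGroup.TISeparable.greatest_coprime (G := G) 11
  set K := sSup {K : Subgroup G | K.Normal ∧ (Nat.card K).Coprime 11}
  haveI := hKn
  have h11K : ¬ 11 ∣ Nat.card K := (by norm_num : Nat.Prime 11).coprime_iff_not_dvd.mp hKc.symm
  have hK8640 : Nat.card K ∣ 8640 := by
    have h : Nat.card K ∣ 11 * 8640 := by
      have := card_subgroup_dvd_card K; rw [hcard] at this; simpa using this
    exact hKc.dvd_of_dvd_mul_left h
  set T := elevenGen G with hT
  have hgen : ∀ g : G, g ^ 11 = 1 → g ∈ T := fun g hg => subset_closure hg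
  have hTK : T ≤ centralizer (K : Set G) := (closure_le _).mpr fun g hg =>
    mem_centralizer_iff.mpr fun k hk => (commute_of_pow_eleven hcard K hK8640 hg k hk).eq
  -- Sylow 11-subgroups
  obtain ⟨P⟩ : Nonempty (Sylow 11 G) := inferInstance
  have hPc : Nat.card (P : Subgroup G) = 11 :=
    (CfsgLib.SmallGroups.SimpleTools.card_sylow_subgroup (k := 1) (m := 8640) (by rw [hcard]; norm_num)
      (by norm_num) P).trans (pow_one _)
  have hPT : (P : Subgroup G) ≤ T := fun y hy => hgen y (by
    rw [← hPc]; exact orderOf_dvd_iff_pow_eq_one.mp (Subgroup.orderOf_dvd_natCard _ hy))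
  have h11T : 11 ∣ Nat.card T := hPc ▸ card_dvd_of_le hPT
  have hTidx : ¬ 11 ∣ T.index := fun h => P.not_dvd_index (h.trans (index_dvd_of_le hPT))
  -- normal subgroups of `T`
  have hTn : ∀ N : Subgroup T, N.Normal → N ≤ K.subgroupOf T ∨ N = ⊤ := by
    intro N hN
    by_cases h11 : 11 ∣ Nat.card N
    · right
      have hcop : ¬ 11 ∣ N.index := fun h => by
        have h1 := Nat.mul_dvd_mul h h11
        rw [index_mul_card] at h1
        have h2 := h1.trans (card_subgroup_dvd_card T)
        rw [hcard] at h2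
        norm_num at h2
      have hall : ∀ (g : G) (hg : g ^ 11 = 1), (⟨g, hgen g hg⟩ : T) ∈ N := fun g hg => by
        rw [← QuotientGroup.eq_one_iff (N := N), ← orderOf_eq_one_iff]
        have d1 : orderOf ((⟨g, hgen g hg⟩ : T) : T ⧸ N) ∣ 11 := by
          refine orderOf_dvd_of_pow_eq_one ?_
          rw [← QuotientGroup.mk_pow, QuotientGroup.eq_one_iff]
          have : (⟨g, hgen g hg⟩ : T) ^ 11 = 1 := Subtype.ext hg
          rw [this]; exact one_mem N
        have d2 : orderOf ((⟨g, hgen g hg⟩ : T) : T ⧸ N) ∣ N.index := orderOf_dvd_natCard _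
        rcases (Nat.dvd_prime (by norm_num : Nat.Prime 11)).mp d1 with e | e
        · exact e
        · exact absurd (e ▸ d2) hcop
      have hle : T ≤ N.map T.subtype := (closure_le _).mpr fun g hg => ⟨⟨g, hgen g hg⟩, hall g hg, rfl⟩
      refine eq_top_iff.mpr fun y _ => ?_
      obtain ⟨w, hw, e⟩ := hle y.2
      rwa [← T.subtype_injective e]
    · left
      obtain ⟨hOn, hOc, hO⟩ := CfsgLib.PGroup.TISeparable.greatest_coprime (G := ↥T) 11
      set O := sSup {K : Subgroup ↥T | K.Normal ∧ (Nat.card K).Coprime 11}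
      have hO' : (O.map T.subtype).Normal := by
        refine ⟨fun x hx g => ?_⟩
        obtain ⟨w, hw, rfl⟩ := mem_map.mp hx
        have hle := hO (O.map (MulAut.conjNormal (H := T) g).toMonoidHom)
          (hOn.map _ (MulEquiv.surjective _))
          (by rw [card_map_of_injective (f := (MulAut.conjNormal (H := T) g).toMonoidHom) (MulEquiv.injective _)]
              exact hOc)
        exact mem_map.mpr ⟨MulAut.conjNormal g w, hle (mem_map.mpr ⟨w, hw, rfl⟩), MulAut.conjNormal_apply g w⟩
      have hOK : O.map T.subtype ≤ K := hKmax _ hO' (by rwa [card_map_of_injective T.subtype_injective])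
      exact fun n hn => hOK ⟨n, hO N hN ((by norm_num : Nat.Prime 11).coprime_iff_not_dvd.mpr h11).symm hn, rfl⟩
  set Z := K.subgroupOf T with hZ
  have h11Z : ¬ 11 ∣ Nat.card Z := fun h => h11K (h.trans (by
    rw [← card_map_of_injective (K := Z) T.subtype_injective, subgroupOf_map_subtype]
    exact card_dvd_of_le inf_le_left))
  have hZc : Z ≤ center T := fun z hz => mem_center_iff.mpr fun y =>
    Subtype.ext (mem_centralizer_iff.mp (hTK y.2) _ hz).symm
  have hZtop : Z ≠ ⊤ := fun h => h11Z (by rw [h, card_top]; exact h11T)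
  -- `T` is not commutative
  have hnab : ¬ ∀ a b : T, a * b = b * a := fun hab => by
    obtain ⟨χ, hχ⟩ := h55
    exact hTidx ((dvd_trans (by norm_num) hχ).trans (CfsgLib.DegreeTools.deg_dvd_index T hab χ))
  have hcentre : center T = Z := by
    refine le_antisymm ((hTn _ inferInstance).resolve_right fun h => hnab fun a b => ?_) hZc
    exact (mem_center_iff.mp (h.symm ▸ mem_top b : b ∈ center T) a)
  have hperf : commutator T = ⊤ := (hTn _ inferInstance).resolve_left fun h => by
    have hcy : IsSimpleGroup (T ⧸ Z) := by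
      have : Nontrivial (T ⧸ Z) := QuotientGroup.nontrivial_iff.mpr hZtop
      refine ⟨fun L hL => ?_⟩
      rcases hTn _ (hL.comap (QuotientGroup.mk' Z)) with h' | h'
      · left
        refine eq_bot_iff.mpr fun q hq => ?_
        obtain ⟨y, rfl⟩ := QuotientGroup.mk'_surjective Z q
        exact mem_bot.mpr ((QuotientGroup.eq_one_iff y).mpr (h' hq))
      · right
        rw [← Subgroup.map_comap_eq_self_of_surjective (QuotientGroup.mk'_surjective Z) L, h',
          ← MonoidHom.range_eq_map, MonoidHom.range_eq_top.mpr (QuotientGroup.mk'_surjective Z)]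
    have hcomm : ∀ a b : T ⧸ Z, a * b = b * a := by
      rintro ⟨a⟩ ⟨b⟩
      show ((a * b : T) : T ⧸ Z) = ((b * a : T) : T ⧸ Z)
      rw [QuotientGroup.eq]
      have : (a * b)⁻¹ * (b * a) = ⁅b⁻¹, a⁻¹⁆ := by simp [commutatorElement_def, mul_assoc]
      rw [this]
      exact h (commutator_mem_commutator (mem_top _) (mem_top _))
    haveI : IsMulCommutative (T ⧸ Z) := ⟨⟨hcomm⟩⟩
    have hcyc : IsCyclic (T ⧸ Z) := by
      have := Group.is_simple_iff_prime_card.mp hcy
      exact isCyclic_of_prime_card rfl (hp := ⟨this⟩)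
    exact hnab fun a b => commutative_of_cyclic_center_quotient (QuotientGroup.mk' Z)
      (by rw [QuotientGroup.ker_mk']; exact hZc) a b
  have hsimple : IsSimpleGroup (T ⧸ center T) := by
    have : Nontrivial (T ⧸ center T) := QuotientGroup.nontrivial_iff.mpr (hcentre ▸ hZtop)
    refine ⟨fun L hL => ?_⟩
    rcases hTn _ (hL.comap (QuotientGroup.mk' (center T))) with h' | h'
    · left
      refine eq_bot_iff.mpr fun q hq => ?_
      obtain ⟨y, rfl⟩ := QuotientGroup.mk'_surjective (center T) q
      exact mem_bot.mpr ((QuotientGroup.eq_one_iff y).mpr (hcentre.symm ▸ h' hq))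
    · right
      rw [← Subgroup.map_comap_eq_self_of_surjective (QuotientGroup.mk'_surjective (center T)) L, h',
        ← MonoidHom.range_eq_map, MonoidHom.range_eq_top.mpr (QuotientGroup.mk'_surjective (center T))]
  have hCK : centralizer ((T : Subgroup G) : Set G) = K := by
    refine le_antisymm (hKmax _ inferInstance ((by norm_num : Nat.Prime 11).coprime_iff_not_dvd.mpr
      fun h => ?_).symm) fun k hk => mem_centralizer_iff.mpr fun t ht => (mem_centralizer_iff.mp (hTK ht) k hk).symm
    obtain ⟨⟨y, hy⟩, hyo⟩ := exists_prime_orderOf_dvd_card' 11 h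
    rw [Subgroup.orderOf_mk] at hyo
    have hyT : y ∈ T := hgen y (orderOf_dvd_iff_pow_eq_one.mp (dvd_of_eq hyo))
    have hyc : (⟨y, hyT⟩ : T) ∈ Z := hcentre ▸ mem_center_iff.mpr fun w =>
      Subtype.ext (mem_centralizer_iff.mp hy w w.2)
    have := orderOf_dvd_natCard K (mem_subgroupOf.mp hyc)
    rw [hyo] at this
    exact h11K this
  refine ⟨K, hKn, h11K, hperf, hcentre.symm, hCK, hsimple, ?_⟩
  -- the order of the simple group
  haveI := hsimple
  set n := Nat.card (T ⧸ center T) with hn
  have hmul : n * Nat.card (center T) = Nat.card T := by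
    rw [hn, ← index_eq_card, index_mul_card]
  have hnd : n ∣ 95040 := hcard ▸ (Dvd.intro _ hmul).trans (card_subgroup_dvd_card T)
  have hn11 : 11 ∣ n := by
    rcases (by norm_num : Nat.Prime 11).dvd_mul.mp (hmul ▸ h11T : 11 ∣ n * Nat.card (center T)) with h | h
    · exact h
    · exact absurd (hcentre ▸ h) h11Z
  have hne : n ≠ 11 := fun h => hnab fun a b => by
    haveI : IsCyclic (T ⧸ center T) := isCyclic_of_prime_card (p := 11) h
    exact commutative_of_cyclic_center_quotient (QuotientGroup.mk' (center T))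
      (by rw [QuotientGroup.ker_mk']) a b
  rcases ElevenOrders.card_of_dvd hnd hn11 hne with h | h
  · -- 660 is too small
    exfalso
    obtain ⟨χ, hχ⟩ := h55
    have hG : Nat.card T * T.index = 95040 := hcard ▸ T.card_mul_index
    have hcop : Nat.Coprime 55 T.index := by
      refine Nat.Coprime.mul_left (k := T.index) (m := 5) (n := 11) ?_
        ((by norm_num : Nat.Prime 11).coprime_iff_not_dvd.mpr hTidx)
      refine Nat.prime_five.coprime_iff_not_dvd.mpr fun h5 => ?_
      have hd : 660 * 5 ∣ Nat.card T * T.index := Nat.mul_dvd_mul (h ▸ Dvd.intro _ hmul) h5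
      rw [hG] at hd
      norm_num at hd
    obtain ⟨θ, hθ⟩ := exists_constituent_dvd T χ hcop hχ
    have hb := CfsgLib.DegreeTools.deg_sq_mul_card_center_le θ
    rw [← hmul, show n = 660 from h] at hb
    have h55' := Nat.le_of_dvd (CfsgLib.DegreeTools.deg_pos θ) hθ
    have hZpos : 0 < Nat.card (center T) := Nat.card_pos
    nlinarith [Nat.le_of_mul_le_mul_right hb hZpos]
  · exact h

/-- A group of order twelve without normal subgroup of order three is alternating. -/
theorem equiv_four {C : Type*} [Group C] [Finite C] (hC : Nat.card C = 12)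
    (h : ∀ A : Subgroup C, Nat.card A = 3 → ¬ A.Normal) : Nonempty (C ≃* alternatingGroup (Fin 4)) := by
  haveI : Fact (Nat.Prime 3) := ⟨Nat.prime_three⟩
  obtain ⟨w, hw⟩ := exists_prime_orderOf_dvd_card' (G := C) 3 (by rw [hC]; norm_num)
  set U := zpowers w
  have hUc : Nat.card U = 3 := by rw [Nat.card_zpowers, hw]
  have hidx : U.index = 4 := by
    have := U.card_mul_index; rw [hUc, hC] at this; omega
  let e : C ⧸ U ≃ Fin 4 := Finite.equivFinOfCardEq (by rw [← index_eq_card, hidx])
  let φ : C →* Equiv.Perm (Fin 4) := e.permCongrHom.toMonoidHom.comp (MulAction.toPermHom C (C ⧸ U))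
  have hinj : Function.Injective φ := by
    refine e.permCongrHom.injective.comp ((MonoidHom.ker_eq_bot_iff _).1 ?_)
    rw [← normalCore_eq_ker, ← Subgroup.card_eq_one]
    have hd : Nat.card U.normalCore ∣ 3 := hUc ▸ card_dvd_of_le (normalCore_le U)
    rcases (Nat.dvd_prime Nat.prime_three).1 hd with e' | e'
    · exact e'
    · exact absurd (normalCore_normal U) (h _ e')
  have hr : φ.range = alternatingGroup (Fin 4) := by
    apply Equiv.Perm.eq_alternatingGroup_of_index_eq_two
    have h1 := φ.range.card_mul_index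
    rw [← Nat.card_congr (MonoidHom.ofInjective hinj).toEquiv, hC, Nat.card_perm, Nat.card_fin] at h1
    norm_num [Nat.factorial] at h1
    omega
  exact ⟨(MonoidHom.ofInjective hinj).trans (MulEquiv.subgroupCongr hr)⟩

include hcard h55 in
/-- The two groups. -/
theorem classify [IsSimpleGroup Cfsg.Spor.M11] (hM11 : Nat.card Cfsg.Spor.M11 = 7920)
    (h33 : ∃ χ : IrrCharacter G, 33 ∣ charDegree (χ : G → ℂ)) :
    IsSimpleGroup G ∨ Nonempty (G ≃* alternatingGroup (Fin 4) × ↥Cfsg.Spor.M11) := by
  cases nonempty_fintype G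
  obtain ⟨K, hKn, -, hperf, hKZ, hCK, hsimple, hn⟩ := exists_cover hcard h55
  haveI := hKn
  haveI := hsimple
  set T := elevenGen G with hT
  have hmul : Nat.card (T ⧸ center T) * Nat.card (center T) = Nat.card T := by
    rw [← index_eq_card, index_mul_card]
  rcases hn with hn | hn
  · right
    obtain ⟨m⟩ := M11Unique.nonempty_mulEquiv hn hM11
    -- the multiplier is trivial
    have hbot : center T = ⊥ := by
      let φ : Shrink.{0} T ≃* T := Shrink.mulEquiv
      let σ : Shrink.{0} T →* Cfsg.Spor.M11 :=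
        (m.toMonoidHom.comp (QuotientGroup.mk' (center T))).comp φ.toMonoidHom
      have hker : σ.ker = (center T).comap φ.toMonoidHom := by
        ext y
        simp only [σ, MonoidHom.mem_ker, mem_comap, MonoidHom.comp_apply, MulEquiv.coe_toMonoidHom,
          MulEquiv.map_eq_one_iff, QuotientGroup.mk'_apply, QuotientGroup.eq_one_iff]
      have hst : IsStemExtension σ := by
        refine ⟨(m.surjective.comp (QuotientGroup.mk'_surjective _)).comp φ.surjective, ?_, ?_⟩
        · rw [hker]
          intro y hy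
          refine mem_center_iff.mpr fun w => φ.injective ?_
          rw [map_mul, map_mul]
          exact mem_center_iff.mp hy (φ w)
        · have htop : commutator (Shrink.{0} T) = ⊤ := by
            apply Subgroup.map_injective (f := φ.toMonoidHom) φ.injective
            rw [commutator_def, Subgroup.map_commutator, ← MonoidHom.range_eq_map,
              MonoidHom.range_eq_top.mpr φ.surjective, ← commutator_def, hperf]
          rw [htop]; exact le_top
      obtain ⟨π, hπ⟩ := CfsgLib.KnownA.M11Multiplier.multiplier_trivial.2 (Shrink.{0} T) σ hst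
      refine eq_bot_iff.mpr fun y hy => mem_bot.mpr ?_
      have hy' : φ.symm y ∈ σ.ker := by rw [hker, mem_comap]; simpa using hy
      obtain ⟨a, ha⟩ := hπ ⟨_, hy'⟩
      rw [Subsingleton.elim a 1, map_one] at ha
      have := congrArg φ (congrArg Subtype.val ha).symm
      simpa using this
    let ψ : T ≃* Cfsg.Spor.M11 :=
      (MulEquiv.ofBijective (QuotientGroup.mk' (center T))
        ⟨(MonoidHom.ker_eq_bot_iff _).mp (by rw [QuotientGroup.ker_mk', hbot]),
          QuotientGroup.mk'_surjective _⟩).trans m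
    have hTcard : Nat.card T = 7920 := by rw [Nat.card_congr ψ.toEquiv, hM11]
    haveI : Nontrivial T := ψ.toEquiv.nontrivial
    haveI : IsSimpleGroup T :=
      IsSimpleGroup.isSimpleGroup_of_surjective ψ.symm.toMonoidHom ψ.symm.surjective
    -- the centraliser is a complement
    have hcompl : ∀ g : G, ∃ t ∈ T, g * t⁻¹ ∈ K := fun g => by
      obtain ⟨a, ha⟩ := CfsgLib.Sporadic.M11Out.inner
        ((ψ.symm.trans (MulAut.conjNormal (H := T) g)).trans ψ)
      refine ⟨(ψ.symm a : T), (ψ.symm a).2, ?_⟩
      rw [← hCK]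
      refine mem_centralizer_iff.mpr fun t ht => ?_
      have h1 := DFunLike.congr_fun ha (ψ ((ψ.symm a)⁻¹ * ⟨t, ht⟩ * ψ.symm a))
      simp only [MulEquiv.trans_apply, MulEquiv.symm_apply_apply, MulAut.conj_apply] at h1
      rw [map_mul, map_mul, map_inv, MulEquiv.apply_symm_apply,
        show a * (a⁻¹ * ψ ⟨t, ht⟩ * a) * a⁻¹ = ψ ⟨t, ht⟩ by group] at h1
      have h2 := congrArg Subtype.val (ψ.injective h1)
      rw [MulAut.conjNormal_apply] at h2
      push_cast at h2
      set s : G := ((ψ.symm a : T) : G)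
      calc t * (g * s⁻¹) = g * (s⁻¹ * t * s) * g⁻¹ * (g * s⁻¹) := by rw [← h2]
        _ = g * s⁻¹ * t := by group
    have hdisj : K ⊓ T = ⊥ := by
      rw [← subgroupOf_map_subtype, hKZ, hbot, Subgroup.map_bot]
    have hKT : ∀ k ∈ K, ∀ t ∈ T, Commute k t := fun k hk t ht =>
      ((mem_centralizer_iff.mp (hCK.symm ▸ hk : k ∈ centralizer ((T : Subgroup G) : Set G)) t ht).symm)
    let f : K × T →* G :=
      { toFun := fun p => (p.1 : G) * p.2
        map_one' := by simp
        map_mul' := fun p q => by
          show (p.1 : G) * q.1 * (p.2 * q.2) = p.1 * p.2 * (q.1 * q.2)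
          have h := (hKT q.1 q.1.2 p.2 p.2.2).eq
          calc (p.1 : G) * q.1 * (p.2 * q.2) = p.1 * (q.1 * p.2) * q.2 := by group
            _ = _ := by rw [h]; group }
    have hf : Function.Bijective f := by
      refine ⟨(MonoidHom.ker_eq_bot_iff f).mp (eq_bot_iff.mpr ?_), fun g => ?_⟩
      · rintro ⟨k, t⟩ (h : (k : G) * t = 1)
        have hk : (k : G) ∈ K ⊓ T := ⟨k.2, by rw [eq_inv_of_mul_eq_one_left h]; exact T.inv_mem t.2⟩
        rw [hdisj, mem_bot] at hk
        rw [hk, one_mul] at h
        exact mem_bot.mpr (Prod.ext (Subtype.ext hk) (Subtype.ext h))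
      · obtain ⟨t, ht, hk⟩ := hcompl g
        exact ⟨(⟨_, hk⟩, ⟨t, ht⟩), by simp [f]⟩
    have hKcard : Nat.card K = 12 := by
      have h1 := Nat.card_eq_of_bijective f hf
      rw [Nat.card_prod, hTcard, hcard] at h1
      omega
    obtain ⟨e4⟩ := equiv_four hKcard fun A hA hAn => by
      -- a normal subgroup of order three kills the degrees divisible by 33
      set A' := A.map K.subtype
      have hA' : Nat.card A' = 3 := by rw [card_map_of_injective K.subtype_injective, hA]
      set N := A' ⊔ T
      have hAT : ∀ a ∈ A', ∀ t ∈ T, Commute a t := fun a ha t ht => hKT a (map_subtype_le A ha) t ht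
      have hA'n : A'.Normal := by
        refine ⟨fun y hy g => ?_⟩
        obtain ⟨t, ht, hk⟩ := hcompl g
        obtain ⟨w, hw, rfl⟩ := mem_map.mp hy
        have e : g * (w : G) * g⁻¹ = (g * t⁻¹) * w * (g * t⁻¹)⁻¹ := by
          have := (hKT w w.2 t⁻¹ (T.inv_mem ht)).eq
          calc g * (w : G) * g⁻¹ = g * ((w : G) * t⁻¹ * t) * g⁻¹ := by group
            _ = g * (t⁻¹ * w * t) * g⁻¹ := by rw [this]
            _ = _ := by group
        show g * (w : G) * g⁻¹ ∈ A'
        rw [e]
        exact mem_map.mpr ⟨⟨g * t⁻¹, hk⟩ * w * ⟨g * t⁻¹, hk⟩⁻¹, hAn.conj_mem w hw _, rfl⟩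
      haveI := hA'n
      have hTN : T ≤ N := le_sup_right
      have hNcard : 23760 ∣ Nat.card N := by
        have h1 : 3 ∣ Nat.card N := hA' ▸ card_dvd_of_le le_sup_left
        have hle : (A'.map (QuotientGroup.mk' T)) ≤ N.map (QuotientGroup.mk' T) := map_mono le_sup_left
        have h3 : Nat.card (A'.map (QuotientGroup.mk' T)) = 3 := by
          rw [← hA']
          have hinj : Function.Injective ((QuotientGroup.mk' T).comp A'.subtype) := by
            refine (MonoidHom.ker_eq_bot_iff _).mp (eq_bot_iff.mpr fun a ha => ?_)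
            have ha' : (a : G) ∈ K ⊓ T := ⟨map_subtype_le A a.2, (QuotientGroup.eq_one_iff _).mp ha⟩
            rw [hdisj, mem_bot] at ha'
            exact mem_bot.mpr (Subtype.ext ha')
          rw [Nat.card_congr (MonoidHom.ofInjective hinj).toEquiv, MonoidHom.range_comp, range_subtype]
        have h4 := Subgroup.card_dvd_of_le hle
        rw [h3] at h4
        have h5 := (T.subgroupOf N).index_mul_card
        rw [Nat.card_congr (subgroupOfEquivOfLe hTN).toEquiv, hTcard] at h5
        have h6 : Nat.card (N.map (QuotientGroup.mk' T)) = (T.subgroupOf N).index := by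
          rw [show (T.subgroupOf N) = ((QuotientGroup.mk' T).comp N.subtype).ker from ?_, index_ker,
            MonoidHom.range_comp, range_subtype]
          ext y
          simp [mem_subgroupOf]
        rw [h6] at h4
        rw [← h5]
        exact Nat.mul_dvd_mul_right h4 7920
      obtain ⟨χ, hχ⟩ := h33
      have hcop : Nat.Coprime 33 N.index := by
        have h1 := N.index_mul_card
        rw [hcard] at h1
        obtain ⟨c, hc⟩ := hNcard
        have : N.index ∣ 4 := ⟨c, by rw [hc] at h1; linarith⟩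
        exact Nat.Coprime.coprime_dvd_right this (by norm_num)
      obtain ⟨θ, hθ⟩ := exists_constituent_dvd N χ hcop hχ
      have hsup : T.subgroupOf N ⊔ center N = ⊤ := by
        refine eq_top_iff.mpr fun y _ => ?_
        obtain ⟨a, ha, t, ht, hat⟩ := mem_sup_of_normal_left.mp (y.2 : (y : G) ∈ A' ⊔ T)
        have haN : a ∈ N := le_sup_left (b := T) ha
        have hac : (⟨a, haN⟩ : N) ∈ center N := mem_center_iff.mpr fun w => by
          obtain ⟨b, hb, s, hs, hbs⟩ := mem_sup_of_normal_left.mp (w.2 : (w : G) ∈ A' ⊔ T)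
          apply Subtype.ext
          show (w : G) * a = a * w
          haveI : IsCyclic A' := isCyclic_of_prime_card hA'
          have hab : Commute a b := congrArg Subtype.val (IsCyclic.isMulCommutative (α := A') |>.is_comm.comm
            (⟨a, ha⟩ : A') ⟨b, hb⟩)
          rw [← hbs]
          exact ((hab.mul_right (hAT a ha s hs)).eq).symm
        have hty : y = ⟨t, hTN ht⟩ * ⟨a, haN⟩ := Subtype.ext (by
          show (y : G) = t * a
          rw [← hat, (hAT a ha t ht).eq])
        rw [hty]
        exact Subgroup.mul_mem_sup (mem_subgroupOf.mpr ht) hac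
      obtain ⟨θ', hθ'⟩ := exists_restrict_irr (T.subgroupOf N) hsup θ
      haveI : Nontrivial (T.subgroupOf N) := (subgroupOfEquivOfLe hTN).toEquiv.nontrivial
      haveI : IsSimpleGroup (T.subgroupOf N) :=
        IsSimpleGroup.isSimpleGroup_of_surjective (subgroupOfEquivOfLe hTN).symm.toMonoidHom
          (subgroupOfEquivOfLe hTN).symm.surjective
      exact not_dvd_degree ((Nat.card_congr (subgroupOfEquivOfLe hTN).toEquiv).trans hTcard) θ' (hθ'.symm ▸ hθ)
    exact ⟨(MulEquiv.ofBijective f hf).symm.trans (MulEquiv.prodCongr e4 ψ)⟩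
  · left
    have htop : T = ⊤ := Subgroup.eq_top_of_card_eq _ (by
      refine le_antisymm (Subgroup.card_le_card_group T) ?_
      rw [hcard, ← hn, ← hmul]
      exact Nat.le_mul_of_pos_right _ Nat.card_pos)
    have hone : center T = ⊥ := Subgroup.card_eq_one.mp (by
      have h1 := hmul
      rw [hn, htop] at h1
      rw [card_top, hcard] at h1
      rw [htop]
      omega)
    let q : T ≃* T ⧸ center T := MulEquiv.ofBijective (QuotientGroup.mk' (center T))
      ⟨(MonoidHom.ker_eq_bot_iff _).mp (by rw [QuotientGroup.ker_mk', hone]), QuotientGroup.mk'_surjective _⟩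
    haveI : Nontrivial T := q.toEquiv.nontrivial
    haveI : IsSimpleGroup T :=
      IsSimpleGroup.isSimpleGroup_of_surjective q.symm.toMonoidHom q.symm.surjective
    haveI : Nontrivial G := ((MulEquiv.subgroupCongr htop).trans Subgroup.topEquiv).symm.toEquiv.nontrivial
    exact IsSimpleGroup.isSimpleGroup_of_surjective
      ((MulEquiv.subgroupCongr htop).trans Subgroup.topEquiv).toMonoidHom (MulEquiv.surjective _)

end CfsgLib.KGroups.M12Graph
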