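import Cfsg.Agent.S0679
import Cfsg.Agent.Lib.PGroup.TwinPrime.Transitive
import Cfsg.Agent.Lib.KGroups.M11Unique
import Cfsg.Agent.Lib.Classical.SLOrders

/-!
# A simple group of order 95040 with a subgroup of index 12 is the dodecad stabiliser

The action on the cosets is sharply five-fold transitive; for a five-set `T` the even lifts of
`Perm T` fix exactly one further point, and this gives an invariant `S(5,6,12)`.
-/

set_option autoImplicit false
open scoped Pointwise

namespace CfsgLib.KGroups.M12Ident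

open Cfsg

section Build

variable {G : Type*} [Group G] {α : Type*} [MulAction G α] [Fintype α] [DecidableEq α]

/-- A sharply five-fold transitive action on twelve points. -/
structure Sharp5 (G : Type*) [Group G] (α : Type*) [MulAction G α] [Fintype α] : Prop where
  card : Fintype.card α = 12
  uniq : ∀ (g : G) (s : Finset α), 5 ≤ s.card → (∀ x ∈ s, g • x = x) → g = 1
  exist : ∀ (x y : Fin 5 ↪ α), ∃ g : G, ∀ i, g • x i = y i

/-- `e` is fixed by the even lifts of the permutations of `T`. -/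
def Ext (G : Type*) [Group G] [MulAction G α] (T : Finset α) (e : α) : Prop :=
  e ∉ T ∧ ∀ (g : G) (σ : Equiv.Perm ↥T), σ ∈ alternatingGroup ↥T →
    (∀ x : ↥T, g • (x : α) = (σ x : α)) → g • e = e

theorem eq_of_agree (S : Sharp5 G α) {T : Finset α} (hT : T.card = 5) {g h : G}
    (hgh : ∀ x ∈ T, g • x = h • x) : g = h := by
  have := S.uniq (h⁻¹ * g) T hT.ge fun x hx => by rw [mul_smul, hgh x hx, inv_smul_smul]
  exact (inv_mul_eq_one.mp this).symm

theorem exists_lift (S : Sharp5 G α) {T : Finset α} (hT : T.card = 5) (σ : Equiv.Perm ↥T) :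
    ∃ g : G, ∀ x : ↥T, g • (x : α) = (σ x : α) := by
  let e : Fin 5 ≃ ↥T := (Fintype.equivFinOfCardEq (by rw [Fintype.card_coe, hT])).symm
  obtain ⟨g, hg⟩ := S.exist (e.toEmbedding.trans (Function.Embedding.subtype _))
    ((e.trans σ).toEmbedding.trans (Function.Embedding.subtype _))
  refine ⟨g, fun x => ?_⟩
  have := hg (e.symm x)
  simpa using this

theorem fix_three (S : Sharp5 G α) {g : G} (hg1 : g ≠ 1) (hg3 : g ^ 3 = 1) {s : Finset α}
    (hs : ∀ x ∈ s, g • x = x) : s.card ≤ 3 := by
  have : Fact (Nat.Prime 3) := ⟨by norm_num⟩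
  set π : Equiv.Perm α := MulAction.toPerm g with hπ
  set F : Finset α := π.supportᶜ
  have hF : ∀ x, x ∈ F ↔ g • x = x := fun x => by simp [F, π]
  have hle : F.card ≤ 4 := by
    by_contra hc
    exact hg1 (S.uniq g F (by omega) fun x hx => (hF x).mp hx)
  have hπ3 : π ^ 3 ^ 1 = 1 := by
    rw [pow_one, hπ, ← MulAction.toPermHom_apply, ← map_pow, hg3, map_one]
  have hmod : F.card ≡ Fintype.card α [MOD 3] := Equiv.Perm.card_compl_support_modEq (p := 3) (n := 1) hπ3
  have hsF : s.card ≤ F.card := Finset.card_le_card fun x hx => (hF x).mpr (hs x hx)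
  rw [S.card, Nat.ModEq] at hmod
  omega

theorem exists_three (S : Sharp5 G α) {T : Finset α} (hT : T.card = 5) {a b : α} (ha : a ∈ T) (hb : b ∈ T)
    (hab : a ≠ b) : ∃ (g : G) (σ : Equiv.Perm ↥T), σ ∈ alternatingGroup ↥T ∧ σ.IsThreeCycle ∧
      (∀ x : ↥T, g • (x : α) = (σ x : α)) ∧ g ≠ 1 ∧ g ^ 3 = 1 ∧ g • a = a ∧ g • b = b := by
  classical
  set R : Finset ↥T := (Finset.univ.erase ⟨a, ha⟩).erase ⟨b, hb⟩
  have hR : R.card = 3 := by
    rw [Finset.card_erase_of_mem (Finset.mem_erase.mpr ⟨fun h => hab (congrArg Subtype.val h).symm,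
      Finset.mem_univ _⟩), Finset.card_erase_of_mem (Finset.mem_univ _), Finset.card_univ, Fintype.card_coe, hT]
  obtain ⟨x, y, z, hxy, hxz, hyz, hxyz⟩ := Finset.card_eq_three.mp hR
  set σ : Equiv.Perm ↥T := Equiv.swap x y * Equiv.swap x z
  have hσ : σ.IsThreeCycle := Equiv.Perm.isThreeCycle_swap_mul_swap_same hxy hxz hyz
  obtain ⟨g, hg⟩ := exists_lift S hT σ
  have hne : ∀ w ∈ R, w ≠ ⟨a, ha⟩ ∧ w ≠ ⟨b, hb⟩ := fun w hw =>
    ⟨(Finset.mem_erase.mp (Finset.mem_erase.mp hw).2).1, (Finset.mem_erase.mp hw).1⟩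
  obtain ⟨xa, xb⟩ := hne x (hxyz ▸ by simp)
  obtain ⟨ya, yb⟩ := hne y (hxyz ▸ by simp)
  obtain ⟨za, zb⟩ := hne z (hxyz ▸ by simp)
  have hfix : ∀ w : ↥T, w ≠ x → w ≠ y → w ≠ z → σ w = w := fun w h1 h2 h3 => by
    simp [σ, Equiv.swap_apply_of_ne_of_ne, h1, h2, h3]
  have hpow : ∀ (n : ℕ) (w : ↥T), g ^ n • (w : α) = ((σ ^ n) w : α) := by
    intro n
    induction n with
    | zero => simp
    | succ n ih => intro w; rw [pow_succ, mul_smul, hg, ih, pow_succ, Equiv.Perm.mul_apply]; rfl
  refine ⟨g, σ, hσ.mem_alternatingGroup, hσ, hg, fun h => ?_, ?_, ?_, ?_⟩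
  · apply hσ.isCycle.ne_one
    refine Equiv.ext fun w => Subtype.ext ?_
    simpa [h] using (hg w).symm
  · refine S.uniq _ T hT.ge fun w hw => ?_
    rw [hpow 3 ⟨w, hw⟩, show σ ^ 3 = 1 from hσ.orderOf ▸ pow_orderOf_eq_one σ]
    rfl
  · rw [hg ⟨a, ha⟩, hfix _ xa.symm ya.symm za.symm]
  · rw [hg ⟨b, hb⟩, hfix _ xb.symm yb.symm zb.symm]

theorem ext_unique (S : Sharp5 G α) {T : Finset α} (hT : T.card = 5) {e e' : α}
    (he : Ext G T e) (he' : Ext G T e') : e = e' := by
  by_contra hne
  obtain ⟨a, ha, b, hb, hab⟩ := Finset.one_lt_card.mp (show 1 < T.card by omega)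
  obtain ⟨g, σ, hσ, -, hg, hg1, hg3, hga, hgb⟩ := exists_three S hT ha hb hab
  have hae : a ≠ e := fun h => he.1 (h ▸ ha)
  have hbe : b ≠ e := fun h => he.1 (h ▸ hb)
  have hae' : a ≠ e' := fun h => he'.1 (h ▸ ha)
  have hbe' : b ≠ e' := fun h => he'.1 (h ▸ hb)
  have h4 : ({a, b, e, e'} : Finset α).card = 4 := by
    rw [Finset.card_eq_of_equiv_fin]
    exact (Finset.equivFinOfCardEq (by simp [hab, hae, hbe, hae', hbe', hne]))
  have hle := fix_three S hg1 hg3 (s := {a, b, e, e'}) (by
    intro w hw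
    simp only [Finset.mem_insert, Finset.mem_singleton] at hw
    rcases hw with rfl | rfl | rfl | rfl
    exacts [hga, hgb, he.2 g σ hσ hg, he'.2 g σ hσ hg])
  omega

theorem exists_ext (S : Sharp5 G α) {T : Finset α} (hT : T.card = 5) : ∃ e, Ext G T e := by
  classical
  choose ρ hρ using exists_lift (G := G) S hT
  let A := alternatingGroup ↥T
  have hTc : Fintype.card ↥T = 5 := by rw [Fintype.card_coe, hT]
  have hsimple : IsSimpleGroup A := alternatingGroup.isSimpleGroup (by rw [Nat.card_eq_fintype_card, hTc])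
  have : Nontrivial ↥T := Fintype.one_lt_card_iff_nontrivial.mp (by omega)
  let φ : A →* G :=
    { toFun := fun σ => ρ σ.1
      map_one' := eq_of_agree S hT fun x hx => by
        rw [one_smul]
        exact hρ 1 ⟨x, hx⟩
      map_mul' := fun σ τ => eq_of_agree S hT fun x hx => by
        rw [hρ _ ⟨x, hx⟩, mul_smul, hρ _ ⟨x, hx⟩, hρ]; rfl }
  have hstab : ∀ (σ : A) (x : α), x ∈ T → φ σ • x ∈ T := fun σ x hx => by
    show ρ σ.1 • x ∈ T
    rw [hρ _ ⟨x, hx⟩]; exact Subtype.coe_prop _
  let _ : MulAction A α := MulAction.compHom α φ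
  have hA : Nat.card A = 60 := by
    have h2 := two_mul_card_alternatingGroup (α := ↥T)
    rw [Fintype.card_perm, hTc, show Nat.factorial 5 = 120 from rfl] at h2
    rw [Nat.card_eq_fintype_card]
    exact Nat.eq_of_mul_eq_mul_left two_pos (h2.trans (by norm_num))
  have hout : ∀ e, e ∉ T → ∀ y ∈ MulAction.orbit A e, y ∉ T := by
    rintro e he _ ⟨σ, rfl⟩ hy
    have := hstab σ⁻¹ _ hy
    rw [show φ σ⁻¹ • (σ • e) = e from inv_smul_smul σ e] at this
    exact he this
  by_contra hcon
  simp only [not_exists] at hcon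
  have hbig : ∀ e, e ∉ T → 5 ≤ (MulAction.orbit A e).ncard := by
    intro e he
    by_contra hc
    let h : A →* Equiv.Perm (MulAction.orbit A e) := MulAction.toPermHom A _
    have hk : h.ker = ⊤ := by
      refine (Subgroup.Normal.eq_bot_or_eq_top (inferInstance : h.ker.Normal)).resolve_left fun hb => ?_
      have h1 := Nat.card_le_card_of_injective h ((MonoidHom.ker_eq_bot_iff h).mp hb)
      rw [hA, Nat.card_perm, Nat.card_coe_set_eq] at h1
      have h2 := Nat.factorial_le (show (MulAction.orbit A e).ncard ≤ 4 by omega)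
      norm_num [Nat.factorial] at h2
      omega
    refine hcon e ⟨he, fun g σ hσ hg => ?_⟩
    have hgσ : φ ⟨σ, hσ⟩ = g := eq_of_agree S hT fun x hx => by
      show ρ σ • x = g • x
      rw [hρ σ ⟨x, hx⟩, hg ⟨x, hx⟩]
    have h3 : h ⟨σ, hσ⟩ = 1 := MonoidHom.mem_ker.mp (hk ▸ Subgroup.mem_top _)
    rw [← hgσ]
    exact congrArg Subtype.val (Equiv.ext_iff.mp h3 ⟨e, MulAction.mem_orbit_self e⟩)
  have hU : {x : α | x ∉ T}.ncard = 7 := by
    rw [Set.ncard_eq_toFinset_card', Set.toFinset_setOf, Finset.filter_not, Finset.filter_mem_eq_inter,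
      Finset.univ_inter, Finset.card_sdiff_of_subset (Finset.subset_univ _), Finset.card_univ, S.card, hT]
  obtain ⟨e, he⟩ : ∃ e, e ∉ T := by
    by_contra h
    simp only [not_exists, not_not] at h
    simp [h] at hU
  have heq : MulAction.orbit A e = {x | x ∉ T} := by
    refine Set.Subset.antisymm (hout e he) fun y hy => ?_
    by_contra hye
    have hd : Disjoint (MulAction.orbit A e) (MulAction.orbit A y) := by
      refine Set.disjoint_left.mpr fun w hw hw' => hye ?_
      rw [← MulAction.orbit_eq_iff.mpr hw, MulAction.orbit_eq_iff.mpr hw']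
      exact MulAction.mem_orbit_self y
    have h1 := Set.ncard_union_eq hd
    have h2 : (MulAction.orbit A e ∪ MulAction.orbit A y).ncard ≤ 7 :=
      hU ▸ Set.ncard_le_ncard (Set.union_subset (hout e he) (hout y hy))
    have := hbig e he; have := hbig y hy
    omega
  have hdvd : (MulAction.orbit A e).ncard ∣ Nat.card A := by
    rw [← Nat.card_coe_set_eq, Nat.card_congr (MulAction.orbitEquivQuotientStabilizer A e)]
    exact Subgroup.card_quotient_dvd_card _
  rw [heq, hU, hA] at hdvd
  norm_num at hdvd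

theorem ext_exchange (S : Sharp5 G α) {T : Finset α} (hT : T.card = 5) {e b : α} (he : Ext G T e) (hb : b ∈ T) :
    Ext G (insert e (T.erase b)) b := by
  classical
  set T' := insert e (T.erase b) with hT'def
  have hT' : T'.card = 5 := by
    rw [Finset.card_insert_of_notMem (fun h => he.1 (Finset.mem_of_mem_erase h)),
      Finset.card_erase_of_mem hb, hT]
  obtain ⟨e', he'⟩ := exists_ext S hT'
  by_cases hcase : e' = b
  · exact hcase ▸ he'
  exfalso
  obtain ⟨d, hd⟩ := Finset.card_pos.mp (show 0 < (T.erase b).card by rw [Finset.card_erase_of_mem hb, hT]; omega)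
  obtain ⟨hdb, hdT⟩ := Finset.mem_erase.mp hd
  obtain ⟨g, σ, hσ, hσ3, hg, hg1, hg3, hgb, hgd⟩ := exists_three S hT hb hdT hdb.symm
  have hge : g • e = e := he.2 g σ hσ hg
  have hmem : ∀ x, x ∈ T' → g • x ∈ T' := by
    intro x hx
    rcases Finset.mem_insert.mp hx with rfl | hx
    · rw [hge]; exact Finset.mem_insert_self _ _
    · obtain ⟨hxb, hxT⟩ := Finset.mem_erase.mp hx
      refine Finset.mem_insert_of_mem (Finset.mem_erase.mpr ⟨fun h => hxb ?_, ?_⟩)
      · exact smul_left_cancel g (h.trans hgb.symm)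
      · rw [hg ⟨x, hxT⟩]; exact Subtype.coe_prop _
  let τ : Equiv.Perm ↥T' := (MulAction.toPerm g : Equiv.Perm α).subtypePerm fun x =>
    ⟨fun h => by
      have h1 := hmem _ (hmem _ h)
      rwa [MulAction.toPerm_apply, ← mul_smul, ← mul_smul, ← pow_two, ← pow_succ, hg3, one_smul] at h1, hmem x⟩
  have hτ3 : τ ^ 3 = 1 := Equiv.ext fun x => Subtype.ext (by
    show ((τ (τ (τ x)) : ↥T') : α) = x
    show g • g • g • (x : α) = x
    rw [← mul_smul, ← mul_smul, mul_assoc, ← pow_two, ← pow_succ', hg3, one_smul])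
  have hτA : τ ∈ alternatingGroup ↥T' := by
    rw [Equiv.Perm.mem_alternatingGroup]
    have h := congrArg Equiv.Perm.sign hτ3
    rw [map_pow, map_one] at h
    rcases Int.units_eq_one_or (Equiv.Perm.sign τ) with h1 | h1
    · exact h1
    · rw [h1] at h; norm_num at h
  have hge' : g • e' = e' := he'.2 g τ hτA fun x => rfl
  have n1 : b ≠ e := fun h => he.1 (h ▸ hb)
  have n2 : d ≠ e := fun h => he.1 (h ▸ hdT)
  have n3 : d ≠ e' := fun h => he'.1 (h ▸ Finset.mem_insert_of_mem hd)
  have n4 : e ≠ e' := fun h => he'.1 (h ▸ Finset.mem_insert_self _ _)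
  have hle := fix_three S hg1 hg3 (s := {b, d, e, e'}) (by
    intro w hw
    simp only [Finset.mem_insert, Finset.mem_singleton] at hw
    rcases hw with rfl | rfl | rfl | rfl
    exacts [hgb, hgd, hge, hge'])
  simp [hdb.symm, n1, n2, n3, n4, Ne.symm hcase] at hle

theorem ext_smul {T : Finset α} {e : α} (h : G) (he : Ext G T e) :
    Ext G (T.image (h • ·)) (h • e) := by
  refine ⟨fun hm => he.1 ?_, fun g σ hσ hg => ?_⟩
  · obtain ⟨x, hx, hxe⟩ := Finset.mem_image.mp hm
    exact smul_left_cancel h hxe ▸ hx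
  · let f : ↥T ≃ ↥(T.image (h • ·)) :=
      (MulAction.toPerm h : Equiv.Perm α).subtypeEquiv fun x => by
        simp [Finset.mem_image]
    have h1 : (h⁻¹ * g * h) • e = e := he.2 _ (f.symm.permCongr σ) (by
      rw [Equiv.Perm.mem_alternatingGroup, Equiv.Perm.sign_permCongr]
      exact Equiv.Perm.mem_alternatingGroup.mp hσ) fun x => by
        rw [mul_smul, mul_smul]
        exact congrArg (h⁻¹ • ·) (hg (f x))
    rw [mul_smul, mul_smul, inv_smul_eq_iff] at h1
    exact h1

/-- The blocks. -/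
def blocksOf (G : Type*) [Group G] (α : Type*) [MulAction G α] [DecidableEq α] : Set (Finset α) :=
  {B | ∃ T e, T.card = 5 ∧ Ext G T e ∧ B = insert e T}

theorem steiner (S : Sharp5 G α) : IsSteinerSystem 5 6 (blocksOf G α) := by
  refine ⟨?_, ?_⟩
  · rintro _ ⟨T, e, hT, he, rfl⟩
    rw [Finset.card_insert_of_notMem he.1, hT]
  · intro s hs
    obtain ⟨e₀, he₀⟩ := exists_ext S hs
    refine ⟨insert e₀ s, ⟨⟨s, e₀, hs, he₀, rfl⟩, Finset.subset_insert _ _⟩, ?_⟩
    rintro _ ⟨⟨T, e, hT, he, rfl⟩, hsub⟩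
    by_cases hes : e ∈ s
    · have hsT : s.erase e ⊆ T := fun x hx => by
        rw [Finset.mem_erase] at hx
        exact (Finset.mem_insert.mp (hsub hx.2)).resolve_left hx.1
      have hc : (T \ s.erase e).card = 1 := by
        rw [Finset.card_sdiff_of_subset hsT, hT, Finset.card_erase_of_mem hes, hs]
      obtain ⟨a, ha⟩ := Finset.card_eq_one.mp hc
      obtain ⟨haT, has⟩ := Finset.mem_sdiff.mp (ha ▸ Finset.mem_singleton_self a)
      have hTe : T.erase a = s.erase e := by
        refine (Finset.eq_of_subset_of_card_le (fun x hx => ?_) ?_).symm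
        · exact Finset.mem_erase.mpr ⟨fun h => has (h ▸ hx), hsT hx⟩
        · rw [Finset.card_erase_of_mem haT, Finset.card_erase_of_mem hes, hT, hs]
      have hsa : insert e (T.erase a) = s := by rw [hTe, Finset.insert_erase hes]
      have hEa : a = e₀ := ext_unique S hs (hsa ▸ ext_exchange S hT he haT) he₀
      rw [← hEa, ← hsa, Finset.insert_comm, Finset.insert_erase haT]
    · have hsT : s = T := Finset.eq_of_subset_of_card_le
        (fun x hx => (Finset.mem_insert.mp (hsub hx)).resolve_left (fun h => hes (h ▸ hx))) (by rw [hT, hs])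
      subst hsT
      rw [ext_unique S hs he he₀]

end Build

universe u

/-- The coset action is sharply five-fold transitive. -/
theorem sharp5 {G : Type u} [Group G] [Finite G] {α : Type u} [MulAction G α] [FaithfulSMul G α]
    [MulAction.IsPretransitive G α] [Fintype α] [DecidableEq α]
    (hα : Fintype.card α = 12) (hG : Nat.card G = 95040) : Sharp5 G α := by
  classical
  cases nonempty_fintype G
  have : Fact (Nat.Prime 11) := ⟨by norm_num⟩
  have four : ∀ (g : G) (a : α), g • a = a → ∀ x : Fin 4 ↪ α, (∀ i, x i ≠ a) → (∀ i, g • x i = x i) → g = 1 := by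
    intro g a hga x hxa hgx
    set H := MulAction.stabilizer G a
    have hH : Nat.card H = 7920 := by
      have h1 : H.index = 12 := by
        rw [MulAction.index_stabilizer_of_transitive, Nat.card_eq_fintype_card, hα]
      have h2 := H.card_mul_index
      rw [h1, hG] at h2
      omega
    let φ : H →* Equiv.Perm {y : α // y ≠ a} :=
      { toFun := fun h => (MulAction.toPerm (h : G) : Equiv.Perm α).subtypePerm fun y => by
          rw [MulAction.toPerm_apply, ne_eq, ne_eq]
          exact not_congr ⟨fun e => smul_left_cancel (h : G) (e.trans h.2.symm), fun e => by rw [e]; exact h.2⟩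
        map_one' := Equiv.ext fun y => Subtype.ext (one_smul G (y : α))
        map_mul' := fun h k => Equiv.ext fun y => Subtype.ext (mul_smul (h : G) (k : G) (y : α)) }
    have hφ : Function.Injective φ := by
      intro h k e
      refine Subtype.ext (eq_of_smul_eq_smul (α := α) fun y => ?_)
      by_cases hy : y = a
      · rw [hy, h.2, k.2]
      · exact congrArg Subtype.val (Equiv.ext_iff.mp e ⟨y, hy⟩)
    have h11 : Fintype.card {y : α // y ≠ a} = 11 := by
      rw [Fintype.card_subtype_compl, Fintype.card_subtype_eq, hα]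
    set K := φ.range
    have hK : Nat.card K = 7920 := by
      rw [← hH]; exact (Nat.card_congr (MonoidHom.ofInjective hφ).toEquiv).symm
    have : MulAction.IsPretransitive K {y : α // y ≠ a} := by
      obtain ⟨c, hc⟩ := exists_prime_orderOf_dvd_card' (G := K) 11 (by rw [hK]; norm_num)
      have hc' : orderOf (c : Equiv.Perm {y : α // y ≠ a}) = 11 := by rw [Subgroup.orderOf_coe, hc]
      have hcyc := Equiv.Perm.isCycle_of_prime_order'' (h11 ▸ (by norm_num : Nat.Prime 11)) (hc'.trans h11.symm)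
      have hsupp : (c : Equiv.Perm {y : α // y ≠ a}).support = Finset.univ := by
        refine Finset.eq_univ_of_card _ ?_
        rw [← hcyc.orderOf, hc', h11]
      refine ⟨fun y z => ?_⟩
      have hy : (c : Equiv.Perm {y : α // y ≠ a}) y ≠ y := Equiv.Perm.mem_support.mp (hsupp ▸ Finset.mem_univ y)
      have hz : (c : Equiv.Perm {y : α // y ≠ a}) z ≠ z := Equiv.Perm.mem_support.mp (hsupp ▸ Finset.mem_univ z)
      obtain ⟨i, hi⟩ := hcyc.exists_zpow_eq hy hz
      exact ⟨c ^ i, by rw [← hi]; rfl⟩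
    have hns : ¬ Group.IsSolvable K := fun hs => by
      obtain ⟨e, he, hce⟩ := CfsgLib.PGroup.TwinPrime.Transitive.card_of_isSolvable (q := 11) h11 K hs
      have := Nat.le_of_dvd (by norm_num) he
      rw [hK] at hce
      omega
    have hnA : ¬ alternatingGroup {y : α // y ≠ a} ≤ K := fun hle => by
      have h1 := Subgroup.card_le_of_le hle
      have : Nontrivial {y : α // y ≠ a} := Fintype.one_lt_card_iff_nontrivial.mp (by omega)
      have h2 := two_mul_card_alternatingGroup (α := {y : α // y ≠ a})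
      rw [Fintype.card_perm, h11, show Nat.factorial 11 = 39916800 from rfl, ← Nat.card_eq_fintype_card] at h2
      rw [hK] at h1
      omega
    rcases Cfsg.Agent.S0679.result h11 K hns hnA with ⟨-, hsh⟩ | ⟨⟨f⟩⟩
    · have hmem : (⟨φ ⟨g, hga⟩, ⟨_, rfl⟩⟩ : K) ∈
          MulAction.stabilizer K (⟨fun i => ⟨x i, hxa i⟩, fun i j e => x.injective (congrArg Subtype.val e)⟩ :
            Fin 4 ↪ {y : α // y ≠ a}) := by
        rw [MulAction.mem_stabilizer_iff]
        ext i
        exact hgx i
      rw [hsh, Subgroup.mem_bot] at hmem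
      exact congrArg Subtype.val (hφ ((congrArg Subtype.val hmem).trans (map_one φ).symm) :
        (⟨g, hga⟩ : H) = 1)
    · have h := Nat.card_congr f.toEquiv
      have h1 := CfsgLib.Classical.card_psl_mul (F := ZMod 11) (ZMod.card 11) 2 one_le_two
      have h2 := CfsgLib.Classical.card_sl_mul (F := ZMod 11) (ZMod.card 11) 2 one_le_two
      rw [← h1, ← h, hK, Fin.prod_univ_two] at h2
      norm_num at h2
  have uniq : ∀ (g : G) (s : Finset α), 5 ≤ s.card → (∀ x ∈ s, g • x = x) → g = 1 := by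
    intro g s hs hfix
    obtain ⟨t, hts, ht⟩ := Finset.exists_subset_card_eq hs
    obtain ⟨a, ha⟩ := Finset.card_pos.mp (show 0 < t.card by omega)
    have h4 : Fintype.card ↥(t.erase a) = 4 := by rw [Fintype.card_coe, Finset.card_erase_of_mem ha, ht]
    refine four g a (hfix a (hts ha))
      ((Fintype.equivFinOfCardEq h4).symm.toEmbedding.trans (Function.Embedding.subtype _)) (fun i => ?_) fun i => ?_
    · exact (Finset.mem_erase.mp ((Fintype.equivFinOfCardEq h4).symm i).2).1
    · exact hfix _ (hts (Finset.mem_of_mem_erase ((Fintype.equivFinOfCardEq h4).symm i).2))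
  refine ⟨hα, uniq, fun x y => ?_⟩
  have hinj : Function.Injective fun g : G => (x.trans (MulAction.toPerm g : Equiv.Perm α).toEmbedding) := by
    intro g h e
    refine (inv_mul_eq_one.mp (uniq (h⁻¹ * g) (Finset.univ.map x) (by simp) fun w hw => ?_)).symm
    obtain ⟨i, -, rfl⟩ := Finset.mem_map.mp hw
    have h1 : g • x i = h • x i := congrArg (fun f : Fin 5 ↪ α => f i) e
    rw [mul_smul, h1, inv_smul_smul]
  have hbij := (Fintype.bijective_iff_injective_and_card _).mpr ⟨hinj, by
    rw [Fintype.card_embedding_eq, Fintype.card_fin, hα, ← Nat.card_eq_fintype_card, hG]; rfl⟩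
  obtain ⟨g, hg⟩ := hbij.2 y
  exact ⟨g, fun i => congrArg (fun f : Fin 5 ↪ α => f i) hg⟩

/-- A simple group of order 95040 with a subgroup of index 12 is the group of an `S(5,6,12)`. -/
theorem exists_steiner {G : Type u} [Group G] [Finite G] [IsSimpleGroup G] (hG : Nat.card G = 95040)
    (H : Subgroup G) (hH : H.index = 12) :
    ∃ (α : Type u) (_ : Fintype α) (_ : DecidableEq α) (B : Set (Finset α)), Fintype.card α = 12 ∧
      IsSteinerSystem 5 6 B ∧ Nonempty (G ≃* setSystemAut B) := by
  classical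
  cases nonempty_fintype G
  let _ : Fintype (G ⧸ H) := Fintype.ofFinite _
  have hα : Fintype.card (G ⧸ H) = 12 := by rw [← Nat.card_eq_fintype_card, ← Subgroup.index_eq_card, hH]
  let φ : G →* Equiv.Perm (G ⧸ H) := MulAction.toPermHom G (G ⧸ H)
  have hφ : Function.Injective φ := by
    rw [← MonoidHom.ker_eq_bot_iff]
    refine (Subgroup.Normal.eq_bot_or_eq_top (inferInstance : φ.ker.Normal)).resolve_right fun htop => ?_
    have hle : φ.ker ≤ H := by
      rw [← Subgroup.normalCore_eq_ker]; exact Subgroup.normalCore_le _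
    rw [htop, top_le_iff] at hle
    rw [hle, Subgroup.index_top] at hH
    norm_num at hH
  have : FaithfulSMul G (G ⧸ H) := ⟨fun {g k} h => hφ (Equiv.ext h)⟩
  have S : Sharp5 G (G ⧸ H) := sharp5 hα hG
  refine ⟨G ⧸ H, inferInstance, inferInstance, blocksOf G (G ⧸ H), hα, steiner S, ?_⟩
  have hmem : ∀ g, φ g ∈ setSystemAut (blocksOf G (G ⧸ H)) := fun g => by
    refine CfsgLib.SmallGroups.Steiner12.mem_aut ?_
    rintro _ ⟨T, e, hT, he, rfl⟩
    refine ⟨T.image (g • ·), g • e, ?_, ext_smul g he, ?_⟩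
    · rw [Finset.card_image_of_injective _ (MulAction.injective g), hT]
    · rw [Finset.image_insert]; rfl
  let ψ : G →* setSystemAut (blocksOf G (G ⧸ H)) := φ.codRestrict _ hmem
  have hψi : Function.Injective ψ := fun a b h => hφ (congrArg Subtype.val h)
  have hc := CfsgLib.SmallGroups.Steiner12.card_aut_le hα (steiner S)
  have hψ : Function.Bijective ψ :=
    (Nat.bijective_iff_injective_and_card ψ).mpr
      ⟨hψi, le_antisymm (Nat.card_le_card_of_injective ψ hψi) (hG ▸ hc)⟩
  exact ⟨MulEquiv.ofBijective ψ hψ⟩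

/-- Two simple groups of order 95040 with subgroups of index 12 are isomorphic. -/
theorem nonempty_mulEquiv' {G M : Type*} [Group G] [Group M] [Finite G] [Finite M] [IsSimpleGroup G]
    [IsSimpleGroup M] (hG : Nat.card G = 95040) (hM : Nat.card M = 95040) (H : Subgroup G) (hH : H.index = 12)
    (K : Subgroup M) (hK : K.index = 12) : Nonempty (G ≃* M) := by
  obtain ⟨α, _, _, B, hα, hB, ⟨f⟩⟩ := exists_steiner hG H hH
  obtain ⟨β, _, _, B', hβ, hB', ⟨f'⟩⟩ := exists_steiner hM K hK
  obtain ⟨m⟩ := M11Unique.smul_setSystemIso (CfsgLib.SmallGroups.Steiner12.iso12 hα hβ hB hB')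
  exact ⟨(f.trans m).trans f'.symm⟩

/-- A simple group of order 95040 with a subgroup of index 12 is isomorphic to a dodecad stabiliser. -/
theorem nonempty_mulEquiv {G : Type*} [Group G] [Finite G] [IsSimpleGroup G] (hG : Nat.card G = 95040)
    (H : Subgroup G) (hH : H.index = 12) (d : Finset GolayPt) (hd : d ∈ dodecads) :
    Nonempty (G ≃* ↥(MulAction.stabilizer M24 d)) := by
  have := CfsgLib.SmallGroups.MathieuSimple.isSimple_M12 hd
  obtain ⟨p, hp⟩ := Finset.card_pos.mp (show 0 < d.card by rw [hd.2]; norm_num)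
  have hM := CfsgLib.SmallGroups.Mathieu.card_stab_dodecad hd
  have hP := CfsgLib.SmallGroups.MathieuSimple.card_stab_dodecad_point hd hp
  set K := (MulAction.stabilizer M24 d ⊓ MulAction.stabilizer M24 p).subgroupOf (MulAction.stabilizer M24 d)
  have hKc : Nat.card K = 7920 := by
    rw [Nat.card_congr (Subgroup.subgroupOfEquivOfLe inf_le_left).toEquiv, hP]
  refine nonempty_mulEquiv' hG hM H hH K ?_
  have h := K.card_mul_index
  rw [hKc, hM] at h
  omega

end CfsgLib.KGroups.M12Ident
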