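import Cfsg.Agent.Lib.KGroups.M12Local
import Cfsg.Agent.Lib.KGroups.M12Check

/-!
# Involutions against the principal 11-block of a simple group of order 95040
-/

set_option autoImplicit false

namespace CfsgLib.KGroups.M12Involution

open Cfsg CfsgLib.Blocks CfsgLib.KGroups.M11Tools CfsgLib.KGroups.M11Local CfsgLib.KGroups.M12Tools
  CfsgLib.KGroups.M12Local CfsgLib.KGroups.M12Check Subgroup
open CfsgLib.SmallGroups
open scoped Classical

variable {G : Type*} [Group G] [Fintype G] [IsSimpleGroup G] (hG : Nat.card G = 95040)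
variable [Fact (Nat.Prime 11)] {P : Sylow 11 G}

/-- The signed degree. -/
noncomputable def sd (F : Frame 11 5 P) (χ : IrrCharacter G) : ℤ := F.sgn χ * (charDegree (χ : G → ℂ) : ℤ)

include hG in
theorem card_centralizer_x (F : Frame 11 5 P) : Nat.card (centralizer ({F.x} : Set G)) = 11 := by
  rw [← centralizer_closure, ← zpowers_eq_closure, F.hzp]
  exact (normalizer_eleven hG P).2

include hG in
theorem triv_memX (F : Frame 11 5 P) : trivChar G ∈ F.X := F.triv_mem (by norm_num) (by norm_num) (by norm_num)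

include hG in
theorem natAbs_sd (F : Frame 11 5 P) {χ : IrrCharacter G} (h : χ ∈ F.X) :
    (sd F χ).natAbs = charDegree (χ : G → ℂ) := by
  rcases F.hsgn χ h with e | e <;> simp [sd, e]

include hG in
theorem sg_sd (F : Frame 11 5 P) {χ : IrrCharacter G} (h : χ ∈ F.X) : sg (sd F χ) = F.sgn χ := by
  have hp := charDegree_pos χ
  rcases F.hsgn χ h with e | e <;> simp only [sg, sd, e] <;> split_ifs <;> omega

include hG in
theorem sd_mem (F : Frame 11 5 P) {χ : IrrCharacter G} (h : χ ∈ F.X') : sd F χ ∈ sdegs := by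
  rcases deg_cases hG F h with ⟨e, d | d | d⟩ | ⟨e, d | d | d | d⟩ <;> simp [sd, sdegs, e, d]

include hG in
theorem th_eq (F : Frame 11 5 P) {a b c d : IrrCharacter G} (nab : a ≠ b) (nac : a ≠ c) (nad : a ≠ d)
    (nbc : b ≠ c) (nbd : b ≠ d) (ncd : c ≠ d) (hset : F.X' = {a, b, c, d}) {θ : IrrCharacter G} (hθ : θ ∈ F.Y) :
    th (sd F a) (sd F b) (sd F c) (sd F d) = F.εy * (charDegree (θ : G → ℂ) : ℤ) := by
  rw [F.rel_one (triv_memX hG F) hθ, hset, Finset.sum_insert (by simp [nab, nac, nad]),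
    Finset.sum_insert (by simp [nbc, nbd]), Finset.sum_pair ncd, th]
  simp only [sd]
  ring

include hG in
theorem theta_ne_triv (F : Frame 11 5 P) {θ : IrrCharacter G} (hθ : θ ∈ F.Y) : θ ≠ trivChar G :=
  fun h => Finset.disjoint_left.mp F.hdisj (triv_memX hG F) (h ▸ hθ)

include hG in
theorem two_le_theta (F : Frame 11 5 P) {θ : IrrCharacter G} (hθ : θ ∈ F.Y) : 2 ≤ charDegree (θ : G → ℂ) := by
  have := charDegree_pos θ
  have : charDegree (θ : G → ℂ) ≠ 1 := fun h =>
    theta_ne_triv hG F hθ (BlockDegrees.eq_trivChar (not_comm hG) θ h)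
  omega

include hG in
theorem valid_sd (F : Frame 11 5 P) {a b c d : IrrCharacter G} (nab : a ≠ b) (nac : a ≠ c) (nad : a ≠ d)
    (nbc : b ≠ c) (nbd : b ≠ d) (ncd : c ≠ d) (hset : F.X' = {a, b, c, d}) :
    valid (sd F a) (sd F b) (sd F c) (sd F d) = true := by
  obtain ⟨θ, hθ⟩ : F.Y.Nonempty := Finset.card_pos.1 (by rw [F.hY]; norm_num)
  have hth := th_eq hG F nab nac nad nbc nbd ncd hset hθ
  have ht := triv_memX hG F
  have hna : (th (sd F a) (sd F b) (sd F c) (sd F d)).natAbs = charDegree (θ : G → ℂ) := by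
    rw [hth]; rcases F.hεy with e | e <;> simp [e]
  simp only [valid, Bool.and_eq_true, decide_eq_true_eq, hna]
  refine ⟨⟨⟨two_le_theta hG F hθ, hG ▸ charDegree_dvd θ⟩, ?_⟩, ?_⟩
  · have h1 := F.hYd θ hθ
    rw [Int.ModEq] at h1
    rw [hth]
    rcases F.hεy with e | e <;> rw [e] at h1 ⊢ <;> omega
  · have hY2 : F.Y.card = 2 := by rw [F.hY]
    have h1 : ∑ η ∈ F.X ∪ F.Y, (charDegree (η : G → ℂ) : ℤ) ^ 2 ≤
        ∑ η : IrrCharacter G, (charDegree (η : G → ℂ) : ℤ) ^ 2 :=
      Finset.sum_le_sum_of_subset_of_nonneg (Finset.subset_univ _) fun _ _ _ => sq_nonneg _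
    rw [Finset.sum_union F.hdisj, ← Finset.add_sum_erase _ _ ht,
      show F.X.erase (trivChar G) = {a, b, c, d} from hset,
      Finset.sum_insert (by simp [nab, nac, nad]), Finset.sum_insert (by simp [nbc, nbd]), Finset.sum_pair ncd,
      Finset.sum_congr rfl (g := fun _ => (charDegree (θ : G → ℂ) : ℤ) ^ 2) fun η hη => by
        rw [F.deg_agree hη hθ],
      Finset.sum_const, hY2, show ∑ η : IrrCharacter G, (charDegree (η : G → ℂ) : ℤ) ^ 2 = 95040 by
        exact_mod_cast (sum_deg_sq (G := G)).trans hG,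
      show charDegree ((trivChar G : IrrCharacter G) : G → ℂ) = 1 by simp [charDegree]] at h1
    simp only [nsmul_eq_mul] at h1
    push_cast at h1
    have hsq : ∀ χ ∈ F.X', sd F χ * sd F χ = (charDegree (χ : G → ℂ) : ℤ) ^ 2 := fun χ hχ => by
      rcases F.hsgn χ (F.mem_X hχ).1 with e | e <;> simp only [sd, e] <;> ring
    rw [hth, hsq a (by simp [hset]), hsq b (by simp [hset]), hsq c (by simp [hset]), hsq d (by simp [hset]),
      show F.εy * (charDegree (θ : G → ℂ) : ℤ) * (F.εy * (charDegree (θ : G → ℂ) : ℤ)) =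
        (charDegree (θ : G → ℂ) : ℤ) ^ 2 by rcases F.hεy with e | e <;> rw [e] <;> ring]
    linarith

include hG in
/-- Outside the principal block the degree is divisible by 11. -/
theorem rest_dvd (F : Frame 11 5 P) {χ : IrrCharacter G} (hX : χ ∉ F.X) (hY : χ ∉ F.Y) :
    11 ∣ charDegree (χ : G → ℂ) := by
  set S : IrrCharacter G → ℝ := fun η => ∑ i ∈ Finset.Ico 1 11, ‖(η : G → ℂ) (F.x ^ i)‖ ^ 2 with hS
  have hnd : ∀ i ∈ Finset.Ico 1 11, ¬ 11 ∣ i := fun i hi h => by
    have := Finset.mem_Ico.mp hi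
    exact absurd (Nat.le_of_dvd (by omega) h) (by omega)
  have htot : ∑ η : IrrCharacter G, S η = 110 := by
    rw [hS, Finset.sum_comm, Finset.sum_congr rfl (g := fun _ => (11 : ℝ)) fun i hi => ?_]
    · simp; norm_num
    · rw [sum_norm_sq_column]
      have hz : zpowers (F.x ^ i) = (P : Subgroup G) := PrimeOrder.zpowers_eq P (card_sylow_eleven hG P)
        (pow_mem F.hxP i) (pow_ne_one_of_not_dvd F.hx (hnd i hi))
      rw [← centralizer_closure, ← zpowers_eq_closure, hz, (normalizer_eleven hG P).2]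
      norm_num
  have hXS : ∀ η ∈ F.X, S η = 10 := fun η hη => by
    simp only [hS]
    rw [Finset.sum_congr rfl (g := fun _ => (1 : ℝ)) fun i hi => ?_]
    · simp
    · have h1 := F.hval η hη i (hnd i hi) 1 (Commute.one_right _) (by rw [orderOf_one]; norm_num)
      rw [mul_one] at h1
      rw [h1]
      rcases F.hsgn η hη with e | e <;> rw [e] <;> norm_num
  have hYS : ∀ η ∈ F.Y, 30 ≤ S η := fun η hη => by
    refine le_trans (le_of_eq ?_) (norm_sum_lower η (by norm_num) F.hx)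
    have h1 := F.hYd η hη
    rw [Int.ModEq] at h1
    have h2 : charDegree (η : G → ℂ) % 11 = 5 ∨ charDegree (η : G → ℂ) % 11 = 6 := by
      rcases F.hεy with e | e <;> rw [e] at h1 <;> omega
    rcases h2 with e | e <;> rw [e] <;> norm_num
  have hle : ∑ η ∈ insert χ (F.X ∪ F.Y), S η ≤ 110 :=
    htot ▸ Finset.sum_le_sum_of_subset_of_nonneg (Finset.subset_univ _) fun η _ _ =>
      Finset.sum_nonneg fun i _ => sq_nonneg _
  rw [Finset.sum_insert (by simp [hX, hY]), Finset.sum_union F.hdisj, Finset.sum_congr rfl hXS,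
    Finset.sum_const, F.hX] at hle
  have h60 : (60 : ℝ) ≤ ∑ η ∈ F.Y, S η := by
    refine le_trans (le_of_eq ?_) (Finset.sum_le_sum hYS)
    rw [Finset.sum_const, F.hY]; norm_num
  have hχS : (((charDegree (χ : G → ℂ) % 11 * (11 - charDegree (χ : G → ℂ) % 11) : ℕ)) : ℝ) ≤ S χ :=
    norm_sum_lower χ (by norm_num) F.hx
  have h0 : charDegree (χ : G → ℂ) % 11 * (11 - charDegree (χ : G → ℂ) % 11) = 0 := by
    have h' : (((charDegree (χ : G → ℂ) % 11 * (11 - charDegree (χ : G → ℂ) % 11) : ℕ)) : ℝ) ≤ 0 := by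
      simp only [nsmul_eq_mul] at hle
      push_cast at hle
      push_cast at hχS ⊢
      linarith
    exact Nat.eq_zero_of_le_zero (by exact_mod_cast h')
  rcases Nat.mul_eq_zero.mp h0 with h | h
  · exact Nat.dvd_of_mod_eq_zero h
  · have := Nat.mod_lt (charDegree (χ : G → ℂ)) (show 11 > 0 by norm_num)
    omega

include hG in
/-- An automorphism of `ℂ` keeps `X'` and the degrees. -/
theorem galIrr_mem (F : Frame 11 5 P) (σ : ℂ ≃+* ℂ) {χ : IrrCharacter G} (h : χ ∈ F.X') :
    DegreeTools.Rationality.galIrr σ χ ∈ F.X' ∧ F.sgn (DegreeTools.Rationality.galIrr σ χ) = F.sgn χ := by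
  set ψ := DegreeTools.Rationality.galIrr σ χ
  have hd : charDegree (ψ : G → ℂ) = charDegree (χ : G → ℂ) := degree_galIrr σ χ
  have hm := F.hmod χ (F.mem_X h).1
  rw [Int.ModEq] at hm
  have hY : ψ ∉ F.Y := fun hψ => by
    have h1 := F.hYd ψ hψ
    rw [Int.ModEq, hd] at h1
    rcases F.hεy with e | e <;> rw [e] at h1 <;> rcases F.hsgn χ (F.mem_X h).1 with e' | e' <;>
      rw [e'] at hm <;> omega
  have hX : ψ ∈ F.X := by
    by_contra hX
    have h1 := rest_dvd hG F hX hY
    rw [hd] at h1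
    rcases F.hsgn χ (F.mem_X h).1 with e' | e' <;> rw [e'] at hm <;> omega
  refine ⟨Finset.mem_erase.mpr ⟨fun e => ?_, hX⟩, ?_⟩
  · have h1 : charDegree (χ : G → ℂ) = 1 := by rw [← hd, e]; simp [charDegree]
    exact (F.mem_X h).2 (BlockDegrees.eq_trivChar (not_comm hG) χ h1)
  · have hm' := F.hmod ψ hX
    rw [Int.ModEq, hd] at hm'
    rcases F.hsgn χ (F.mem_X h).1 with e | e <;> rcases F.hsgn ψ hX with e' | e' <;>
      rw [e] at hm <;> rw [e'] at hm' <;> omega

include hG in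
/-- A member of `X'` alone in its degree is rational. -/
theorem exists_int_unique (F : Frame 11 5 P) {χ : IrrCharacter G} (h : χ ∈ F.X')
    (huniq : ∀ ψ ∈ F.X', charDegree (ψ : G → ℂ) = charDegree (χ : G → ℂ) → ψ = χ) (g : G) :
    ∃ n : ℤ, (χ : G → ℂ) g = n := by
  obtain ⟨n, hn⟩ := exists_int_sum {χ} (fun σ η hη => by
    rw [Finset.mem_singleton] at hη ⊢
    subst hη
    exact huniq _ (galIrr_mem hG F σ h).1 (degree_galIrr σ _)) g
  exact ⟨n, by rw [← hn, Finset.sum_singleton]⟩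

include hG in
/-- The exceptional characters are rational at the 11-regular elements. -/
theorem exists_int_theta (F : Frame 11 5 P) {θ : IrrCharacter G} (hθ : θ ∈ F.Y) {g : G}
    (hg : ¬ 11 ∣ orderOf g) : ∃ n : ℤ, (θ : G → ℂ) g = n := by
  have h1 := F.rel_split (triv_memX hG F) hθ g hg
  obtain ⟨n, hn⟩ := exists_int_sum (F.X'.filter fun χ => F.sgn χ = 1) (fun σ χ hχ => by
    rw [Finset.mem_filter] at hχ ⊢
    obtain ⟨h2, h3⟩ := galIrr_mem hG F σ hχ.1
    exact ⟨h2, h3.trans hχ.2⟩) g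
  obtain ⟨m, hm⟩ := exists_int_sum (F.X'.filter fun χ => ¬ F.sgn χ = 1) (fun σ χ hχ => by
    rw [Finset.mem_filter] at hχ ⊢
    obtain ⟨h2, h3⟩ := galIrr_mem hG F σ hχ.1
    exact ⟨h2, h3 ▸ hχ.2⟩) g
  rw [← Finset.sum_filter_add_sum_filter_not F.X' (fun χ => F.sgn χ = 1),
    Finset.sum_congr rfl (g := fun χ : IrrCharacter G => (χ : G → ℂ) g)
      (fun χ hχ => by rw [(Finset.mem_filter.mp hχ).2]; simp),
    Finset.sum_congr (s₂ := F.X'.filter fun χ => ¬ F.sgn χ = 1) rfl
      (g := fun χ : IrrCharacter G => -(χ : G → ℂ) g) (fun χ hχ => by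
        rw [Finset.mem_filter] at hχ
        rw [(F.hsgn χ (F.mem_X hχ.1).1).resolve_left hχ.2]; simp),
    Finset.sum_neg_distrib, hn, hm] at h1
  refine ⟨F.εy * (1 + (n - m)), ?_⟩
  rcases F.hεy with e | e <;> rw [e] at h1 ⊢ <;> push_cast at h1 ⊢
  · linear_combination h1
  · linear_combination -h1

include hG in
/-- No element of order 11 is a product of two involutions. -/
theorem not_inverted (F : Frame 11 5 P) {t : G} (ht : orderOf t = 2) (a : G) (hat : IsConj t a) :
    ¬ IsConj t (a⁻¹ * F.x) := by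
  intro hb
  have ho : ∀ {b : G}, IsConj t b → b * b = 1 := fun {b} h => by
    obtain ⟨c, rfl⟩ := isConj_iff.mp h
    rw [show c * t * c⁻¹ * (c * t * c⁻¹) = c * (t * t) * c⁻¹ by group, ← pow_two t, ← ht, pow_orderOf_eq_one]
    group
  have ha2 := ho hat
  have ha : a⁻¹ = a := inv_eq_of_mul_eq_one_right ha2
  have hb2 := ho hb
  rw [ha] at hb2
  have hinv : a * F.x * a⁻¹ = F.x⁻¹ := by
    rw [ha]
    refine eq_inv_of_mul_eq_one_left ?_
    rw [mul_assoc (a * F.x) a F.x]
    exact hb2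
  have hmem : a ∈ normalizer ((P : Subgroup G) : Set G) := by
    rw [← F.hzp]
    refine mem_normalizer_iff_map_conj_eq.mpr ?_
    rw [MonoidHom.map_zpowers]
    show zpowers (a * F.x * a⁻¹) = _
    rw [hinv, zpowers_inv]
  have h1 : orderOf a ∣ 55 := by
    rw [← (normalizer_eleven hG P).1]
    exact Subgroup.orderOf_dvd_natCard _ hmem
  have h2 : orderOf a = 2 := by
    obtain ⟨c, rfl⟩ := isConj_iff.mp hat
    rw [← ht]
    exact MulEquiv.orderOf_eq (MulAut.conj c) t
  rw [h2] at h1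
  norm_num at h1

include hG in
theorem card_centralizer_dvd (F : Frame 11 5 P) {t : G} (ht : orderOf t = 2) :
    Nat.card (centralizer ({t} : Set G)) ∣ 8640 := by
  have h1 : Nat.card (centralizer ({t} : Set G)) ∣ 11 * 8640 := by
    rw [show 11 * 8640 = Nat.card G by rw [hG]]
    exact card_subgroup_dvd_card _
  refine (Nat.Coprime.dvd_of_dvd_mul_left ?_ h1)
  refine ((Nat.Prime.coprime_iff_not_dvd (by norm_num)).mpr fun h => ?_).symm
  obtain ⟨⟨y, hy⟩, hyo⟩ := exists_prime_orderOf_dvd_card' 11 h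
  rw [Subgroup.orderOf_mk] at hyo
  have hy' : Commute y t := mem_centralizer_singleton_iff.mp hy
  obtain ⟨Q, hQ⟩ := (IsPGroup.of_card (n := 1) (by rw [Nat.card_zpowers, hyo, pow_one]) :
    IsPGroup 11 ↥(zpowers y)).exists_le_sylow
  have hQc := card_sylow_eleven hG Q
  have heq : zpowers y = (Q : Subgroup G) :=
    Subgroup.eq_of_le_of_card_ge hQ (by rw [hQc, Nat.card_zpowers, hyo])
  have htC : t ∈ centralizer ((Q : Subgroup G) : Set G) := by
    rw [← heq, zpowers_eq_closure, centralizer_closure]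
    exact mem_centralizer_singleton_iff.mpr hy'.symm
  have := Subgroup.orderOf_dvd_natCard _ htC
  rw [ht, (normalizer_eleven hG Q).2] at this
  norm_num at this

include hG in
/-- The values of the block at an involution. -/
theorem inv_column (F : Frame 11 5 P) {a b c d : IrrCharacter G} (nab : a ≠ b) (nac : a ≠ c) (nad : a ≠ d)
    (nbc : b ≠ c) (nbd : b ≠ d) (ncd : c ≠ d) (hset : F.X' = {a, b, c, d}) {t : G} (ht : orderOf t = 2) :
    ∃ u v w x : ℤ, (a : G → ℂ) t = u ∧ (b : G → ℂ) t = v ∧ (c : G → ℂ) t = w ∧ (d : G → ℂ) t = x ∧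
      u ∈ adm (Nat.card (centralizer ({t} : Set G))) (sd F a).natAbs ∧
      v ∈ adm (Nat.card (centralizer ({t} : Set G))) (sd F b).natAbs ∧
      w ∈ adm (Nat.card (centralizer ({t} : Set G))) (sd F c).natAbs ∧
      x ∈ adm (Nat.card (centralizer ({t} : Set G))) (sd F d).natAbs ∧
      tCond (Nat.card (centralizer ({t} : Set G))) (sd F a) (sd F b) (sd F c) (sd F d) u v w x = true ∧
      ∀ θ ∈ F.Y, (θ : G → ℂ) t = ((sg (th (sd F a) (sd F b) (sd F c) (sd F d)) *
        (1 + F.sgn a * u + F.sgn b * v + F.sgn c * w + F.sgn d * x) : ℤ) : ℂ) := by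
  have hna := not_comm hG
  have ht1 : t ≠ 1 := fun h => by rw [h, orderOf_one] at ht; omega
  have htX := triv_memX hG F
  obtain ⟨θ, hθ⟩ : F.Y.Nonempty := Finset.card_pos.1 (by rw [F.hY]; norm_num)
  set C := Nat.card (centralizer ({t} : Set G))
  have hidx : (centralizer ({t} : Set G)).index = 95040 / C := by
    have h := (centralizer ({t} : Set G)).index_mul_card
    rw [hG] at h
    exact (Nat.div_eq_of_eq_mul_left Nat.card_pos h.symm).symm
  obtain ⟨u, hu⟩ := exists_int_two a ht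
  obtain ⟨v, hv⟩ := exists_int_two b ht
  obtain ⟨w, hw⟩ := exists_int_two c ht
  obtain ⟨x, hx⟩ := exists_int_two d ht
  obtain ⟨r, hr⟩ := exists_int_two θ ht
  have h11 : ¬ 11 ∣ orderOf t := by rw [ht]; norm_num
  have hall : ∀ η ∈ F.Y, (η : G → ℂ) t = (r : ℂ) := fun η hη => (F.hagree η hη θ hθ t h11).trans hr
  have hma : a ∈ F.X' := by simp [hset]
  have hmb : b ∈ F.X' := by simp [hset]
  have hmc : c ∈ F.X' := by simp [hset]
  have hmd : d ∈ F.X' := by simp [hset]
  have hrel := F.rel_split htX hθ t h11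
  rw [hset, Finset.sum_insert (by simp [nab, nac, nad]), Finset.sum_insert (by simp [nbc, nbd]),
    Finset.sum_pair ncd, hu, hv, hw, hx, hr] at hrel
  have hrel' : F.εy * r = 1 + F.sgn a * u + F.sgn b * v + F.sgn c * w + F.sgn d * x := by
    have : ((F.εy * r : ℤ) : ℂ) =
        ((1 + F.sgn a * u + F.sgn b * v + F.sgn c * w + F.sgn d * x : ℤ) : ℂ) := by
      push_cast; linear_combination hrel
    exact_mod_cast this
  have hth := th_eq hG F nab nac nad nbc nbd ncd hset hθ
  have hθ2 := two_le_theta hG F hθ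
  have hsgT : sg (th (sd F a) (sd F b) (sd F c) (sd F d)) = F.εy := by
    rw [hth]
    rcases F.hεy with e | e <;> simp only [sg, e] <;> split_ifs <;> omega
  have hr' : r = sg (th (sd F a) (sd F b) (sd F c) (sd F d)) *
      (1 + F.sgn a * u + F.sgn b * v + F.sgn c * w + F.sgn d * x) := by
    rw [hsgT, ← hrel', ← mul_assoc]
    rcases F.hεy with e | e <;> simp [e]
  -- the column at `t`
  have hY2 : F.Y.card = 2 := by rw [F.hY]
  have hcol : 1 + u * u + v * v + w * w + x * x + 2 * (r * r) ≤ (C : ℤ) := by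
    have h1 : ∑ η ∈ F.X ∪ F.Y, ‖(η : G → ℂ) t‖ ^ 2 ≤ (C : ℝ) := (sum_norm_sq_column t).symm ▸
      Finset.sum_le_sum_of_subset_of_nonneg (Finset.subset_univ _) fun _ _ _ => sq_nonneg _
    rw [Finset.sum_union F.hdisj, ← Finset.add_sum_erase _ _ htX,
      show F.X.erase (trivChar G) = {a, b, c, d} from hset,
      Finset.sum_insert (by simp [nab, nac, nad]), Finset.sum_insert (by simp [nbc, nbd]), Finset.sum_pair ncd,
      hu, hv, hw, hx, Finset.sum_congr rfl (g := fun _ => ‖((r : ℤ) : ℂ)‖ ^ 2) fun η hη => by rw [hall η hη],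
      Finset.sum_const, hY2, trivChar_apply] at h1
    simp only [Complex.norm_intCast, sq_abs, norm_one, one_pow, nsmul_eq_mul] at h1
    have h2 : ((1 + u * u + v * v + w * w + x * x + 2 * (r * r) : ℤ) : ℝ) ≤ ((C : ℤ) : ℝ) := by
      push_cast
      push_cast at h1
      nlinarith
    exact_mod_cast h2
  have hadm : ∀ (χ : IrrCharacter G) (k : ℤ), χ ∈ F.X' → (χ : G → ℂ) t = k →
      k * k ≤ (C : ℤ) → k ∈ adm C (sd F χ).natAbs := fun χ k hχ hk hsq => by
    rw [natAbs_sd hG F (F.mem_X hχ).1]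
    have hlt := ValueTools.lt_degree hna (F.mem_X hχ).2 ht1 hk
    simp only [adm, List.mem_filter, List.mem_map, List.mem_range, Bool.and_eq_true, decide_eq_true_eq]
    refine ⟨⟨(k + charDegree (χ : G → ℂ)).toNat, by omega, by omega⟩, ⟨⟨ValueTools.mod_four hna χ ht hk, by omega⟩,
      ?_⟩, hsq⟩
    have h := degree_dvd_index_mul χ t hk
    rw [hidx] at h
    exact h
  refine ⟨u, v, w, x, hu, hv, hw, hx, hadm a u hma hu (by nlinarith), hadm b v hmb hv (by nlinarith),
    hadm c w hmc hw (by nlinarith), hadm d x hmd hx (by nlinarith), ?_, fun η hη => by rw [hall η hη, hr']⟩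
  -- the conditions
  have hTn : (th (sd F a) (sd F b) (sd F c) (sd F d)).natAbs = charDegree (θ : G → ℂ) := by
    rw [hth]; rcases F.hεy with e | e <;> simp [e]
  simp only [tCond, sg_sd hG F (F.mem_X hma).1, sg_sd hG F (F.mem_X hmb).1, sg_sd hG F (F.mem_X hmc).1,
    sg_sd hG F (F.mem_X hmd).1, natAbs_sd hG F (F.mem_X hma).1, natAbs_sd hG F (F.mem_X hmb).1,
    natAbs_sd hG F (F.mem_X hmc).1, natAbs_sd hG F (F.mem_X hmd).1, hTn, ← hr', Bool.and_eq_true, decide_eq_true_eq]
  refine ⟨⟨⟨⟨ValueTools.mod_four hna θ ht hr,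
    ValueTools.lt_degree hna (theta_ne_triv hG F hθ) ht1 hr⟩, ?_⟩, hcol⟩, ?_⟩
  · have h := degree_dvd_index_mul θ t hr
    rw [hidx] at h
    exact h
  -- two involutions never multiply to an element of order 11
  rw [hsgT]
  have hcount := card_pairs_eq t t F.x
  have hempty : Nat.card {e : G // IsConj t e ∧ IsConj t (e⁻¹ * F.x)} = 0 :=
    @Nat.card_of_isEmpty _ ⟨fun e => not_inverted hG F ht e.1 e.2.1 e.2.2⟩
  rw [hempty, Nat.cast_zero, mul_zero, mul_eq_zero] at hcount
  have hi : ((centralizer ({t} : Set G)).index : ℂ) ≠ 0 := Nat.cast_ne_zero.mpr index_ne_zero_of_finite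
  have hs := hcount.resolve_left (mul_ne_zero hi hi)
  have hxinv : ∀ χ : IrrCharacter G, χ ∈ F.X → (χ : G → ℂ) F.x⁻¹ = (F.sgn χ : ℂ) := fun χ hχ => by
    have h1 := F.hval χ hχ 10 (by norm_num) 1 (Commute.one_right _) (by rw [orderOf_one]; norm_num)
    rw [mul_one] at h1
    rw [inv_eq_of_mul_eq_one_right (a := F.x) (b := F.x ^ 10)
      (by rw [← pow_succ', show 10 + 1 = orderOf F.x from F.hx.symm, pow_orderOf_eq_one])]
    exact h1
  have h11x : 11 ∣ orderOf F.x⁻¹ := by rw [orderOf_inv, F.hx]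
  rw [← Finset.sum_subset (Finset.subset_univ (F.X ∪ F.Y)) fun χ _ hχ => by
      rw [Finset.mem_union, not_or] at hχ
      rw [vanish χ (show Nat.Prime 11 by norm_num) (n := 1) (by rw [hG]; norm_num) (by rw [hG]; norm_num)
        (by rw [pow_one]; exact rest_dvd hG F hχ.1 hχ.2) h11x]
      ring] at hs
  -- the exceptional values at `x⁻¹` add up to `-εy`
  have hsumY : ∑ η ∈ F.Y, (η : G → ℂ) F.x⁻¹ = -(F.εy : ℂ) := by
    have h1 := F.hcol F.x⁻¹ h11x
    rw [Finset.sum_union F.hdisj, Finset.sum_congr rfl (g := fun χ : IrrCharacter G =>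
        ((F.sgn χ * (charDegree (χ : G → ℂ) : ℤ) : ℤ) : ℂ)) fun χ hχ => by rw [hxinv χ hχ]; push_cast; ring,
      ← Int.cast_sum, show ∑ χ ∈ F.X, F.sgn χ * (charDegree (χ : G → ℂ) : ℤ) =
        F.εy * (charDegree (θ : G → ℂ) : ℤ) by
          rw [← Finset.add_sum_erase _ _ htX, F.sgn_triv htX, F.rel_one htX hθ]
          simp [charDegree, Frame.X'],
      Finset.sum_congr rfl (g := fun η : IrrCharacter G => (charDegree (θ : G → ℂ) : ℂ) * (η : G → ℂ) F.x⁻¹)
        fun η hη => by rw [F.deg_agree hη hθ], ← Finset.mul_sum] at h1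
    refine mul_left_cancel₀ (Nat.cast_ne_zero.mpr (charDegree_pos θ).ne' : (charDegree (θ : G → ℂ) : ℂ) ≠ 0) ?_
    push_cast at h1
    linear_combination h1
  rw [Finset.sum_union F.hdisj, ← Finset.add_sum_erase _ _ htX,
    show F.X.erase (trivChar G) = {a, b, c, d} from hset,
    Finset.sum_insert (by simp [nab, nac, nad]), Finset.sum_insert (by simp [nbc, nbd]), Finset.sum_pair ncd,
    hu, hv, hw, hx, hxinv a (F.mem_X hma).1, hxinv b (F.mem_X hmb).1, hxinv c (F.mem_X hmc).1,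
    hxinv d (F.mem_X hmd).1, Finset.sum_congr rfl (g := fun η : IrrCharacter G =>
      ((r : ℂ) * r / (charDegree (θ : G → ℂ) : ℂ)) * (η : G → ℂ) F.x⁻¹) fun η hη => by
        rw [hall η hη, irr_one_eq, F.deg_agree hη hθ]; ring, ← Finset.mul_sum, hsumY] at hs
  simp only [trivChar_apply, irr_one_eq] at hs
  have hdiv : ∀ χ : IrrCharacter G, ((95040 / charDegree (χ : G → ℂ) : ℕ) : ℂ) =
      95040 / (charDegree (χ : G → ℂ) : ℂ) := fun χ => by
    rw [Nat.cast_div (hG ▸ charDegree_dvd χ) (Nat.cast_ne_zero.mpr (charDegree_pos χ).ne')]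
    norm_num
  apply Int.cast_injective (α := ℂ)
  simp only [Int.cast_add, Int.cast_mul, Int.cast_natCast, Int.cast_ofNat]
  rw [hdiv a, hdiv b, hdiv c, hdiv d, hdiv θ]
  linear_combination (95040 : ℂ) * hs

end CfsgLib.KGroups.M12Involution
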