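import Cfsg.Agent.Lib.KGroups.M12Reps
import Cfsg.Agent.Lib.KGroups.M12Local

/-!
# A subgroup of index twelve in a simple group of order 95040

The vectors of the character of degree eleven fixed by a suitable element of order four, by the element
`x` of order five and by a Sylow 11-subgroup normalised by `x` have a stabiliser of order 7920.
-/

set_option autoImplicit false

namespace CfsgLib.KGroups.M12Point

open Cfsg CfsgLib.Blocks CfsgLib.KGroups.M11Tools CfsgLib.KGroups.M12Tools CfsgLib.KGroups.M12Reps Subgroup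
open scoped Classical ComplexConjugate

variable {G : Type*} [Group G] [Fintype G]

section Avg

variable {V : Type*} [AddCommGroup V] [Module ℂ V] [FiniteDimensional ℂ V] (ρ : Representation ℂ G V)

/-- The elements of a subgroup. -/
noncomputable def els (A : Subgroup G) : Finset G := Finset.univ.filter fun g => g ∈ A

theorem mem_els {A : Subgroup G} {g : G} : g ∈ els A ↔ g ∈ A := by simp [els]

theorem card_els (A : Subgroup G) : (els A).card = Nat.card A := by
  rw [Nat.card_eq_fintype_card, Fintype.card_subtype, els]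

theorem card_els_ne (A : Subgroup G) : ((els A).card : ℂ) ≠ 0 :=
  Nat.cast_ne_zero.mpr (Finset.card_ne_zero.mpr ⟨1, mem_els.mpr A.one_mem⟩)

/-- The projection on the fixed vectors of a subgroup. -/
noncomputable def av (A : Subgroup G) : Module.End ℂ V := ((els A).card : ℂ)⁻¹ • ∑ b ∈ els A, ρ b

omit [FiniteDimensional ℂ V] in
theorem rho_mul_av {A : Subgroup G} {a : G} (ha : a ∈ A) : ρ a * av ρ A = av ρ A := by
  rw [av, mul_smul_comm, Finset.mul_sum]
  congr 1
  exact Finset.sum_bij' (fun b _ => a * b) (fun b _ => a⁻¹ * b)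
    (fun b hb => mem_els.mpr (mul_mem ha (mem_els.mp hb)))
    (fun b hb => mem_els.mpr (mul_mem (inv_mem ha) (mem_els.mp hb)))
    (fun b _ => by simp) (fun b _ => by simp) fun b _ => (map_mul ρ a b).symm

omit [FiniteDimensional ℂ V] in
theorem av_mul_av (A : Subgroup G) : av ρ A * av ρ A = av ρ A := by
  conv_lhs => arg 1; rw [av]
  rw [smul_mul_assoc, Finset.sum_mul, Finset.sum_congr rfl fun b hb => rho_mul_av ρ (mem_els.mp hb),
    Finset.sum_const, ← Nat.cast_smul_eq_nsmul ℂ, smul_smul, inv_mul_cancel₀ (card_els_ne A), one_smul]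

omit [FiniteDimensional ℂ V] in
theorem commute_av {A : Subgroup G} {h : G} (hh : ∀ b ∈ A, h * b * h⁻¹ ∈ A) : Commute (av ρ A) (ρ h) := by
  show av ρ A * ρ h = ρ h * av ρ A
  rw [av, mul_smul_comm, smul_mul_assoc, Finset.sum_mul, Finset.mul_sum]
  congr 1
  symm
  refine Finset.sum_bij (fun b _ => h * b * h⁻¹) (fun b hb => mem_els.mpr (hh b (mem_els.mp hb)))
    (fun b _ c _ e => mul_left_cancel (mul_right_cancel e)) ?_ fun b _ => ?_
  · intro c hc
    obtain ⟨b, hb, e⟩ := Finset.surj_on_of_inj_on_of_card_le (fun b (_ : b ∈ els A) => h * b * h⁻¹)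
      (fun b hb => mem_els.mpr (hh b (mem_els.mp hb)))
      (fun b c _ _ e => mul_left_cancel (mul_right_cancel e)) le_rfl c hc
    exact ⟨b, hb, e.symm⟩
  · rw [← map_mul, ← map_mul, inv_mul_cancel_right]

theorem trace_rho_mul_av (A : Subgroup G) (h : G) :
    LinearMap.trace ℂ V (ρ h * av ρ A) = ((els A).card : ℂ)⁻¹ * ∑ b ∈ els A, ρ.character (h * b) := by
  rw [av, mul_smul_comm, map_smul, Finset.mul_sum, map_sum, smul_eq_mul]
  congr 1
  exact Finset.sum_congr rfl fun b _ => by rw [← map_mul]; rfl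

theorem trace_av (A : Subgroup G) :
    LinearMap.trace ℂ V (av ρ A) = ((els A).card : ℂ)⁻¹ * ∑ b ∈ els A, ρ.character b := by
  have h := trace_rho_mul_av ρ A 1
  simpa using h

/-- `f` on the image of the idempotent `E` and the scalar `c` on its kernel. -/
noncomputable def mix (E f : Module.End ℂ V) (c : ℂ) : Module.End ℂ V := f * E + c • (1 - E)

omit [FiniteDimensional ℂ V] in
theorem mix_mul {E f f' : Module.End ℂ V} {c c' : ℂ} (hE : E * E = E) (hf' : Commute E f') :
    mix E f c * mix E f' c' = mix E (f * f') (c * c') := by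
  have h1 : f * E * (f' * E) = f * f' * E := by
    rw [mul_assoc f E, ← mul_assoc E f', hf'.eq, mul_assoc f' E, hE, mul_assoc]
  have h2 : f * E * (1 - E) = 0 := by rw [mul_assoc, mul_sub, mul_one, hE, sub_self, mul_zero]
  have h3 : (1 - E) * (f' * E) = 0 := by
    rw [← mul_assoc, sub_mul, one_mul, hf'.eq, sub_mul, mul_assoc f' E, hE, sub_self]
  have h4 : (1 - E) * (1 - E) = 1 - E := by
    rw [mul_sub, mul_one, sub_mul, one_mul, hE, sub_self, sub_zero]
  simp only [mix, add_mul, mul_add, smul_mul_assoc, mul_smul_comm, h1, h2, h3, h4, smul_zero, smul_smul,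
    zero_add, add_zero, mul_comm c' c]

omit [FiniteDimensional ℂ V] in
theorem mix_one (E : Module.End ℂ V) : mix E 1 1 = 1 := by
  simp [mix]

omit [FiniteDimensional ℂ V] in
theorem mix_pow {E f : Module.End ℂ V} {c : ℂ} (hE : E * E = E) (hf : Commute E f) :
    ∀ n : ℕ, mix E f c ^ n = mix E (f ^ n) (c ^ n)
  | 0 => by rw [pow_zero, pow_zero, pow_zero, mix_one]
  | n + 1 => by rw [pow_succ, mix_pow hE hf n, mix_mul hE hf, pow_succ, pow_succ]

theorem trace_mix (E f : Module.End ℂ V) (c : ℂ) :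
    LinearMap.trace ℂ V (mix E f c) =
      LinearMap.trace ℂ V (f * E) + c * ((Module.finrank ℂ V : ℂ) - LinearMap.trace ℂ V E) := by
  rw [mix, map_add, map_smul, map_sub, LinearMap.trace_one, smul_eq_mul]

theorem eq_one_of_trace (f : Module.End ℂ V) (hf : f ^ 4 = 1)
    (h : LinearMap.trace ℂ V f = (Module.finrank ℂ V : ℂ)) : f = 1 := by
  obtain ⟨b, μ, hb⟩ := CfsgLib.Char.exists_eigenbasis_of_pow_eq_one f (n := 4) (by norm_num) hf
  rw [CfsgLib.Char.trace_eq_sum_of_eigen f b μ fun i => (hb i).1] at h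
  have hn : ∀ i, ‖μ i‖ = 1 := fun i => by
    have h4 := congrArg norm (hb i).2
    rw [norm_pow, norm_one] at h4
    exact (pow_eq_one_iff_of_nonneg (norm_nonneg _) (by norm_num)).mp h4
  have hre : ∀ i ∈ Finset.univ, (μ i).re ≤ (fun _ => (1 : ℝ)) i := fun i _ => (Complex.re_le_norm _).trans (hn i).le
  have hsum : ∑ i, (μ i).re = ∑ _i : Fin (Module.finrank ℂ V), (1 : ℝ) := by
    rw [← Complex.re_sum, h, Complex.natCast_re, Finset.sum_const, Finset.card_univ, Fintype.card_fin, nsmul_eq_mul,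
      mul_one]
  refine b.ext fun i => ?_
  have h1 := (Finset.sum_eq_sum_iff_of_le hre).mp hsum i (Finset.mem_univ i)
  have h2 : μ i = 1 := by
    have h3 := Complex.normSq_eq_norm_sq (μ i)
    rw [hn i, Complex.normSq_apply, h1] at h3
    exact Complex.ext h1 (mul_self_eq_zero.mp (by nlinarith [h3]))
  rw [(hb i).1, h2, one_smul]
  rfl

end Avg

/-- An element normalising a subgroup of prime order without centralising it is conjugate to all the elements
of its coset. -/
theorem coset_conj {a h : G} {p : ℕ} [Fact p.Prime] (ha : orderOf a = p)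
    (hn : h * a * h⁻¹ ∈ zpowers a) (hc : ¬ Commute h a) {b : G} (hb : b ∈ zpowers a) : IsConj h (h * b) := by
  set A := zpowers a
  have hA : ∀ c ∈ A, h * c * h⁻¹ ∈ A := fun c hc' => by
    obtain ⟨k, rfl⟩ := hc'
    show h * a ^ k * h⁻¹ ∈ A
    rw [← conj_zpow]
    exact zpow_mem hn k
  have hfix : ∀ d ∈ A, h * d = d * h → d = 1 := fun d hd e => by
    by_contra hd1
    have hcard : Nat.card A = p := by rw [Nat.card_zpowers, ha]
    have htop : zpowers (⟨d, hd⟩ : A) = ⊤ := zpowers_eq_top_of_prime_card hcard fun h1 => hd1 (congrArg Subtype.val h1)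
    obtain ⟨k, hk⟩ := (htop ▸ mem_top (⟨a, mem_zpowers a⟩ : A) : (⟨a, mem_zpowers a⟩ : A) ∈ zpowers (⟨d, hd⟩ : A))
    exact hc ((show d ^ k = a from congrArg Subtype.val hk) ▸ Commute.zpow_right e k)
  let f : els A → els A := fun c => ⟨h⁻¹ * (c.1 * h * c.1⁻¹), mem_els.mpr (by
    have h1 : h⁻¹ * (c.1 * h * c.1⁻¹) = h⁻¹ * c.1 * h * c.1⁻¹ := by group
    rw [h1]
    refine mul_mem ?_ (inv_mem (mem_els.mp c.2))
    obtain ⟨d, hdA, hd⟩ := Finset.surj_on_of_inj_on_of_card_le (fun d (_ : d ∈ els A) => h * d * h⁻¹)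
      (fun d hd => mem_els.mpr (hA d (mem_els.mp hd)))
      (fun d d' _ _ e => mul_left_cancel (mul_right_cancel e)) le_rfl c.1 c.2
    rw [hd, show h⁻¹ * (h * d * h⁻¹) * h = d by group]
    exact mem_els.mp hdA)⟩
  have hf : Function.Injective f := fun c d e => by
    have e' : c.1 * h * c.1⁻¹ = d.1 * h * d.1⁻¹ := mul_left_cancel (congrArg Subtype.val e)
    have h1 : h * (d.1⁻¹ * c.1) = d.1⁻¹ * c.1 * h := by
      calc h * (d.1⁻¹ * c.1) = d.1⁻¹ * (d.1 * h * d.1⁻¹) * c.1 := by group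
        _ = d.1⁻¹ * (c.1 * h * c.1⁻¹) * c.1 := by rw [e']
        _ = d.1⁻¹ * c.1 * h := by group
    exact Subtype.ext (inv_mul_eq_one.mp (hfix _ (mul_mem (inv_mem (mem_els.mp d.2)) (mem_els.mp c.2)) h1)).symm
  obtain ⟨c, hc'⟩ := (Finite.injective_iff_surjective.mp hf) ⟨b, mem_els.mpr hb⟩
  refine isConj_iff.mpr ⟨c.1, ?_⟩
  have h2 : h⁻¹ * (c.1 * h * c.1⁻¹) = b := congrArg Subtype.val hc'
  rw [← h2]; group

variable [IsSimpleGroup G] (hG : Nat.card G = 95040)

set_option maxHeartbeats 4000000 in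
include hG in
theorem exists_index_twelve (x z : G) (hx : orderOf x = 5) (hz : orderOf z = 2) (hxz : Commute x z)
    (hC : Nat.card (centralizer ({x} : Set G)) = 10)
    (hN : Nat.card (normalizer ((zpowers x : Subgroup G) : Set G)) = 40)
    (hns : ∀ s : G, s * s ≠ z) (χ : IrrCharacter G) (hd : charDegree (χ : G → ℂ) = 11)
    (hreal : ∀ g, ((χ : G → ℂ) g).im = 0) (hχx : (χ : G → ℂ) x = 1) (hχxz : (χ : G → ℂ) (x * z) = -1)
    (hχz : (χ : G → ℂ) z = -1) (hinv : ∀ t : G, orderOf t = 2 → IsConj z t ∨ (χ : G → ℂ) t = 3)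
    (ha : ∃ a : G, IsConj z a ∧ IsConj z (a * z) ∧ Commute a z) : ∃ H : Subgroup G, H.index = 12 := by
  have : Fact (Nat.Prime 5) := ⟨by norm_num⟩
  have : Fact (Nat.Prime 11) := ⟨by norm_num⟩
  have hna : ¬ IsMulCommutative G := M12Local.not_comm hG
  obtain ⟨n, ρ, hρ, he⟩ := χ.2
  have hfin : Module.finrank ℂ (Fin n → ℂ) = 11 := by
    rw [← hd]
    apply Nat.cast_injective (R := ℂ)
    rw [← irr_one_eq, ← he, Representation.char_one]
  have hch : ∀ g, ρ.character g = (χ : G → ℂ) g := fun g => congrFun he g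
  have hcl : ∀ g h : G, IsConj g h → (χ : G → ℂ) g = (χ : G → ℂ) h := fun g h hgh => by
    obtain ⟨c, rfl⟩ := isConj_iff.mp hgh
    rw [← hch, ← hch, Representation.char_conj]
  have hchx : ∀ i : ℕ, ¬ 5 ∣ i → (χ : G → ℂ) (x ^ i) = 1 := fun i hi => by
    have h := pow_value χ x (j := i) (by rw [hx]; exact ((Nat.prime_five.coprime_iff_not_dvd).mpr hi).symm)
      (n := 1) (by rw [hχx]; norm_num)
    simpa using h
  have hx5 : x ^ 5 = 1 := hx ▸ pow_orderOf_eq_one x
  have hz2 : z * z = 1 := by rw [← pow_two, ← hz]; exact pow_orderOf_eq_one z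
  have hz1 : z ≠ 1 := fun h => by rw [h, orderOf_one] at hz; omega
  -- the centraliser of x
  set C := centralizer ({x} : Set G)
  have hxzo : orderOf (x * z) = 10 := by
    rw [hxz.orderOf_mul_eq_mul_orderOf_of_coprime (by rw [hx, hz]; norm_num), hx, hz]
  have hCeq : zpowers (x * z) = C := by
    refine Subgroup.eq_of_le_of_card_ge (zpowers_le.mpr (mem_centralizer_singleton_iff.mpr ?_))
      (by rw [hC, Nat.card_zpowers, hxzo])
    exact ((Commute.refl x).mul_left hxz.symm).eq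
  have hC5 : ∀ c ∈ C, ∃ i j : ℕ, c = x ^ i * z ^ j := fun c hc => by
    rw [← hCeq, ← mem_powers_iff_mem_zpowers] at hc
    obtain ⟨k, rfl⟩ := hc
    exact ⟨k, k, hxz.mul_pow k⟩
  have hCinv : ∀ c ∈ C, c * c = 1 → c = 1 ∨ c = z := fun c hc h2 => by
    obtain ⟨i, j, rfl⟩ := hC5 c hc
    have h1 : x ^ (2 * i) = 1 := by
      have h3 : (x ^ i * z ^ j) ^ 2 = 1 := by rw [pow_two, h2]
      rwa [(hxz.pow_pow i j).mul_pow, ← pow_mul, ← pow_mul, mul_comm j 2, pow_mul z, pow_two z, hz2, one_pow,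
        mul_one, mul_comm] at h3
    have h5 : x ^ i = 1 := by
      rw [← orderOf_dvd_iff_pow_eq_one, hx] at h1 ⊢
      omega
    rw [h5, one_mul, ← pow_mod_orderOf z, hz]
    rcases Nat.mod_two_eq_zero_or_one j with e | e <;> simp [e]
  set N := normalizer ((zpowers x : Subgroup G) : Set G)
  have hNz : ∀ g ∈ N, Commute g z := fun g hg => by
    have hgC : g * z * g⁻¹ ∈ C := by
      obtain ⟨k, hk⟩ := mem_zpowers_iff.mp ((mem_normalizer_iff''.mp hg x).mp (mem_zpowers x))
      rw [mem_centralizer_singleton_iff]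
      calc g * z * g⁻¹ * x = g * (z * (g⁻¹ * x * g)) * g⁻¹ := by group
        _ = g * ((g⁻¹ * x * g) * z) * g⁻¹ := by rw [← hk, (hxz.symm.zpow_right k).eq]
        _ = x * (g * z * g⁻¹) := by group
    rcases hCinv _ hgC (by rw [show g * z * g⁻¹ * (g * z * g⁻¹) = g * (z * z) * g⁻¹ by group, hz2]; group) with h | h
    · exact absurd (conj_eq_one_iff.mp h) hz1
    · exact mul_inv_eq_iff_eq_mul.mp h
  have hCN : ∀ g ∈ N, ∀ k : ℕ, g * x * g⁻¹ = x ^ k → ∀ m : ℕ, g ^ m * x * (g ^ m)⁻¹ = x ^ (k ^ m) := by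
    intro g _ k hk m
    induction m with
    | zero => simp
    | succ m ih =>
      rw [pow_succ', mul_inv_rev, show g * g ^ m * x * ((g ^ m)⁻¹ * g⁻¹) = g * (g ^ m * x * (g ^ m)⁻¹) * g⁻¹ by
        group, ih, ← conj_pow, hk, ← pow_mul, pow_succ, mul_comm]
  -- an element of order four
  have hNk : ∀ g ∈ N, ∃ k ∈ ({1, 2, 3, 4} : Finset ℕ), g * x * g⁻¹ = x ^ k := fun g hg => by
    have h1 : g * x * g⁻¹ ∈ zpowers x := (mem_normalizer_iff.mp hg x).mp (mem_zpowers x)
    rw [← mem_powers_iff_mem_zpowers] at h1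
    obtain ⟨k, hk⟩ := h1
    refine ⟨k % 5, ?_, by rw [← hx, pow_mod_orderOf]; exact hk.symm⟩
    have h0 : k % 5 ≠ 0 := fun e => by
      have h2 : x ^ k = 1 := by rw [← pow_mod_orderOf, hx, e, pow_zero]
      have : x = 1 := conj_eq_one_iff.mp ((show g * x * g⁻¹ = x ^ k from hk.symm).trans h2)
      rw [this, orderOf_one] at hx
      omega
    simp only [Finset.mem_insert, Finset.mem_singleton]
    omega
  choose! kf hkf hkx using hNk
  obtain ⟨g₀, hg₀N, hg₀⟩ : ∃ g ∈ N, g * x * g⁻¹ = x ^ 2 := by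
    by_contra hcon
    simp only [not_exists, not_and] at hcon
    have hsub : (els N).image kf ⊆ ({1, 3, 4} : Finset ℕ) := fun k hk => by
      obtain ⟨g, hg, rfl⟩ := Finset.mem_image.mp hk
      have h1 := hkf g (mem_els.mp hg)
      have h2 : kf g ≠ 2 := fun e => hcon g (mem_els.mp hg) (e ▸ hkx g (mem_els.mp hg))
      simp only [Finset.mem_insert, Finset.mem_singleton] at h1 ⊢
      omega
    have hfib : ∀ k ∈ (els N).image kf, ((els N).filter fun g => kf g = k).card ≤ 10 := fun k hk => by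
      obtain ⟨g₁, hg₁, rfl⟩ := Finset.mem_image.mp hk
      rw [← hC, ← card_els]
      refine Finset.card_le_card_of_injOn (fun g => g₁⁻¹ * g) (fun g hg => ?_) fun g _ g' _ e => mul_left_cancel e
      rw [Finset.mem_coe, Finset.mem_filter, mem_els] at hg
      refine mem_els.mpr (mem_centralizer_singleton_iff.mpr ?_)
      have e1 := hkx g hg.1
      rw [hg.2, ← hkx g₁ (mem_els.mp hg₁)] at e1
      calc g₁⁻¹ * g * x = g₁⁻¹ * (g * x * g⁻¹) * g := by group
        _ = g₁⁻¹ * (g₁ * x * g₁⁻¹) * g := by rw [e1]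
        _ = x * (g₁⁻¹ * g) := by group
    have h1 := Finset.card_le_mul_card_image (els N) 10 hfib
    have h2 := Finset.card_le_card hsub
    rw [card_els, hN] at h1
    simp at h2
    omega
  set g := g₀ ^ 5 with hgdef
  have hgN : g ∈ N := pow_mem hg₀N 5
  have hgx : g * x * g⁻¹ = x ^ 2 := by
    rw [hgdef, hCN g₀ hg₀N 2 hg₀ 5, show 2 ^ 5 = 2 + 5 * 6 by norm_num, pow_add, pow_mul, hx5, one_pow, mul_one]
  have hzc : ∀ h ∈ N, Commute h z := hNz
  have hg4 : g ^ 4 = 1 := by
    have h4 : g₀ ^ 4 ∈ C := by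
      rw [mem_centralizer_singleton_iff]
      have h := hCN g₀ hg₀N 2 hg₀ 4
      rw [show 2 ^ 4 = 1 + 5 * 3 by norm_num, pow_add, pow_mul, hx5, one_pow, mul_one, pow_one] at h
      exact mul_inv_eq_iff_eq_mul.mp h
    obtain ⟨i, j, hij⟩ := hC5 _ h4
    have h20 : g ^ 4 = z ^ (5 * j) := by
      rw [hgdef, ← pow_mul, show 5 * 4 = 4 * 5 by norm_num, pow_mul, hij, (hxz.pow_pow i j).mul_pow, ← pow_mul,
        mul_comm i 5, pow_mul, hx5, one_pow, one_mul, ← pow_mul, mul_comm j 5]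
    rcases Nat.mod_two_eq_zero_or_one (5 * j) with e | e
    · rw [h20, ← pow_mod_orderOf, hz, e, pow_zero]
    · refine absurd ?_ (hns (g ^ 2))
      rw [← pow_add, h20, ← pow_mod_orderOf z, hz, e, pow_one]
  set y := g ^ 2 with hydef
  have hyx : y * x * y⁻¹ = x ^ 4 := by
    rw [hydef, hCN g hgN 2 hgx 2]; norm_num
  have hy2 : y * y = 1 := by rw [hydef, ← pow_add]; exact hg4
  have hy1 : y ≠ 1 := fun h => by
    rw [h, one_mul, inv_one, mul_one] at hyx
    have h3 : x ^ 3 = 1 := by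
      have := congrArg (x⁻¹ * ·) hyx
      simp only [inv_mul_cancel] at this
      rw [this, pow_succ' x 3, inv_mul_cancel_left]
    have := orderOf_dvd_of_pow_eq_one h3
    rw [hx] at this; norm_num at this
  have hord2 : ∀ t : G, t * t = 1 → t ≠ 1 → orderOf t = 2 := fun t h h' =>
    orderOf_eq_prime (by rw [pow_two, h]) h'
  have hnsq : ∀ s : G, ¬ IsConj z (s * s) := fun s hconj => by
    obtain ⟨c, hc⟩ := isConj_iff.mp hconj.symm
    exact hns (c * s * c⁻¹) (by rw [← hc]; group)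
  have hχy : (χ : G → ℂ) y = 3 :=
    (hinv y (hord2 y hy2 hy1)).resolve_left fun h => hnsq g (by rwa [hydef, pow_two] at h)
  -- the plus space of z
  set E := av ρ (zpowers z) with hE
  have hEE : E * E = E := av_mul_av ρ _
  have hels : els (zpowers z) = {1, z} := by
    ext b
    rw [mem_els, ← mem_powers_iff_mem_zpowers, Finset.mem_insert, Finset.mem_singleton]
    constructor
    · rintro ⟨k, rfl⟩
      show z ^ k = 1 ∨ z ^ k = z
      rw [← pow_mod_orderOf, hz]
      rcases Nat.mod_two_eq_zero_or_one k with e | e <;> simp [e]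
    · rintro (rfl | rfl)
      exacts [one_mem _, ⟨1, pow_one _⟩]
  have hcz : ∀ h : G, Commute h z → Commute E (ρ h) := fun h hh => commute_av ρ fun b hb => by
    obtain ⟨k, rfl⟩ := hb
    show h * z ^ k * h⁻¹ ∈ _
    rw [(hh.zpow_right k).eq, mul_inv_cancel_right]
    exact ⟨k, rfl⟩
  have htrE : ∀ h : G, LinearMap.trace ℂ _ (ρ h * E) = ((χ : G → ℂ) h + (χ : G → ℂ) (h * z)) / 2 := fun h => by
    rw [hE, trace_rho_mul_av, hels, Finset.sum_pair hz1.symm, Finset.card_pair hz1.symm, mul_one, hch, hch]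
    push_cast; ring
  have htr : ∀ h : G, LinearMap.trace ℂ _ (mix E (ρ h) 1) =
      ((χ : G → ℂ) h + (χ : G → ℂ) (h * z)) / 2 + 6 := fun h => by
    rw [trace_mix, htrE, hfin]
    have h1 := htrE 1
    rw [map_one, one_mul, one_mul, irr_one_eq, hd, hχz] at h1
    rw [h1]; push_cast; ring
  let δ : centralizer ({z} : Set G) →* ℂ :=
    { toFun := fun h => LinearMap.det (mix E (ρ h.1) 1)
      map_one' := by rw [OneMemClass.coe_one, map_one, mix_one, map_one]
      map_mul' := fun h k => by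
        rw [← map_mul, mix_mul hEE (hcz _ (mem_centralizer_singleton_iff.mp k.2)), Subgroup.coe_mul, map_mul,
          one_mul] }
  have hσ : ∀ h : G, Commute h z → h ^ 4 = 1 → ∃ p q r : ℕ, p + q + 2 * r = 11 ∧
      ((χ : G → ℂ) h + (χ : G → ℂ) (h * z)) / 2 + 6 = (p : ℂ) - q ∧
      ((χ : G → ℂ) (h * h) + (χ : G → ℂ) (h * h * z)) / 2 + 6 = (p : ℂ) + q - 2 * r ∧
      ∀ hm : h ∈ centralizer ({z} : Set G), δ ⟨h, hm⟩ = (-1) ^ q := by
    intro h hh h4
    obtain ⟨p, q, r, s, h1, h2, h3, h4'⟩ := four_eigen (mix E (ρ h) 1)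
      (by rw [mix_pow hEE (hcz h hh), ← map_pow, h4, map_one, one_pow, mix_one])
    rw [htr] at h2
    rw [mix_pow hEE (hcz h hh), ← map_pow, one_pow, pow_two, htr] at h3
    rw [hfin] at h1
    have hrs : r = s := by
      have him := congrArg Complex.im h2
      simp [hreal] at him
      have : (r : ℝ) = s := by linarith
      exact_mod_cast this
    subst hrs
    refine ⟨p, q, r, by omega, by rw [h2]; ring, by rw [h3]; ring, fun hm => ?_⟩
    show LinearMap.det (mix E (ρ h) 1) = _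
    rw [h4', mul_assoc, ← mul_pow, show Complex.I * -Complex.I = 1 by rw [mul_neg, Complex.I_mul_I, neg_neg],
      one_pow, mul_one]
  -- y
  have hyz : Commute y z := (hzc g hgN).pow_left 2
  have hχyz : (χ : G → ℂ) (y * z) = -1 := by
    have hne : y * z ≠ 1 := fun h => hns g (by
      rw [← pow_two, ← hydef, mul_eq_one_iff_eq_inv.mp h]
      exact inv_eq_of_mul_eq_one_left hz2)
    rcases hinv _ (hord2 _ (by rw [mul_assoc, ← mul_assoc z, ← hyz.eq, mul_assoc y z, hz2, mul_one, hy2]) hne)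
      with h | h
    · rw [← hcl z _ h, hχz]
    · obtain ⟨p, q, r, h1, -, h3, -⟩ := hσ g (hzc g hgN) hg4
      rw [show g * g = y from (pow_two g).symm, hχy, h] at h3
      have h3' : (p : ℤ) + q - 2 * r = 9 := by
        have : ((p : ℂ) + q - 2 * r) = 9 := by rw [← h3]; norm_num
        exact_mod_cast this
      omega
  -- the sign at g
  have hzC : z ∈ centralizer ({z} : Set G) := mem_centralizer_singleton_iff.mpr rfl
  have hxC : x ∈ centralizer ({z} : Set G) := mem_centralizer_singleton_iff.mpr hxz.eq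
  have hgC : g ∈ centralizer ({z} : Set G) := mem_centralizer_singleton_iff.mpr (hzc g hgN).eq
  have hδz : δ ⟨z, hzC⟩ = 1 := by
    show LinearMap.det (mix E (ρ z) 1) = 1
    rw [mix, hE, rho_mul_av ρ (mem_zpowers z), ← hE]
    simp
  have hδx : δ ⟨x, hxC⟩ = 1 := by
    have hyC : y ∈ centralizer ({z} : Set G) := mem_centralizer_singleton_iff.mpr hyz.eq
    have h1 : (⟨y, hyC⟩ : centralizer ({z} : Set G)) * ⟨x, hxC⟩ = ⟨x, hxC⟩ ^ 4 * ⟨y, hyC⟩ :=
      Subtype.ext (mul_inv_eq_iff_eq_mul.mp hyx)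
    have h2 := congrArg δ h1
    have h5 : δ ⟨x, hxC⟩ ^ 5 = 1 := by
      rw [← map_pow, show (⟨x, hxC⟩ : centralizer ({z} : Set G)) ^ 5 = 1 from Subtype.ext hx5, map_one]
    have hy0 : δ ⟨y, hyC⟩ ≠ 0 := fun h => by
      have := congrArg δ (show (⟨y, hyC⟩ : centralizer ({z} : Set G)) * ⟨y, hyC⟩ = 1 from Subtype.ext hy2)
      rw [map_mul, h, map_one, mul_zero] at this
      exact zero_ne_one this
    rw [map_mul, map_mul, map_pow, mul_comm] at h2
    have h4 := mul_right_cancel₀ hy0 h2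
    calc δ ⟨x, hxC⟩ = δ ⟨x, hxC⟩ ^ 4 := h4
      _ = _ := by
        have h8 : δ ⟨x, hxC⟩ ^ 2 = (δ ⟨x, hxC⟩ ^ 4) ^ 2 := by rw [← h4]
        have h3 : δ ⟨x, hxC⟩ ^ 2 = δ ⟨x, hxC⟩ ^ 3 := by
          rw [h8, show (δ ⟨x, hxC⟩ ^ 4) ^ 2 = δ ⟨x, hxC⟩ ^ 5 * δ ⟨x, hxC⟩ ^ 3 by ring, h5, one_mul]
        have : δ ⟨x, hxC⟩ = 1 := by
          have hx0 : δ ⟨x, hxC⟩ ≠ 0 := fun h => by rw [h] at h5; norm_num at h5
          have e : δ ⟨x, hxC⟩ ^ 2 * 1 = δ ⟨x, hxC⟩ ^ 2 * δ ⟨x, hxC⟩ := by rw [mul_one, ← pow_succ, ← h3]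
          exact (mul_left_cancel₀ (pow_ne_zero 2 hx0) e).symm
        rw [this, one_pow]
  obtain ⟨a, hza, hzaz, haz⟩ := ha
  have haC : a ∈ centralizer ({z} : Set G) := mem_centralizer_singleton_iff.mpr haz.eq
  have hδa : δ ⟨a, haC⟩ = -1 := by
    obtain ⟨c, hc⟩ := isConj_iff.mp hza
    have ha2 : a * a = 1 := by rw [← hc, show c * z * c⁻¹ * (c * z * c⁻¹) = c * (z * z) * c⁻¹ by group, hz2]; group
    obtain ⟨p, q, r, h1, h2, h3, h4⟩ := hσ a haz (by rw [show a ^ 4 = (a * a) * (a * a) by simp only [pow_succ, pow_zero, one_mul, mul_assoc], ha2, one_mul])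
    rw [← hcl z a hza, ← hcl z _ hzaz, hχz] at h2
    rw [ha2, one_mul, irr_one_eq, hd, hχz] at h3
    have h2' : (p : ℤ) - q = 5 := by
      have : (p : ℂ) - q = 5 := by rw [← h2]; norm_num
      exact_mod_cast this
    have h3' : (p : ℤ) + q - 2 * r = 11 := by
      have : (p : ℂ) + q - 2 * r = 11 := by rw [← h3]; norm_num
      exact_mod_cast this
    rw [h4 haC, show q = 3 by omega]
    norm_num
  have hδg : δ ⟨g, hgC⟩ = -1 := by
    set K := δ.toHomUnits.ker
    have hxK : (⟨x, hxC⟩ : centralizer ({z} : Set G)) ∈ K := Units.ext hδx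
    set X := zpowers (⟨⟨x, hxC⟩, hxK⟩ : K) with hX
    have hXo : orderOf (⟨⟨x, hxC⟩, hxK⟩ : K) = 5 := by
      rw [← Subgroup.orderOf_coe, ← Subgroup.orderOf_coe]; exact hx
    have h5K : ¬ 5 ^ 2 ∣ Nat.card K := fun h => by
      have h1 := h.trans ((card_subgroup_dvd_card K).trans (card_subgroup_dvd_card (centralizer ({z} : Set G))))
      rw [hG] at h1
      norm_num at h1
    have hSyl : ∀ w : K, orderOf w = 5 → ∃ P : Sylow 5 K, (P : Subgroup K) = zpowers w := fun w hw => by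
      obtain ⟨P, hP⟩ := (IsPGroup.of_card (n := 1) (by rw [Nat.card_zpowers, hw, pow_one]) :
        IsPGroup 5 ↥(zpowers w)).exists_le_sylow
      refine ⟨P, (Subgroup.eq_of_le_of_card_ge hP ?_).symm⟩
      obtain ⟨m, hm⟩ := IsPGroup.iff_card.mp P.2
      rw [hm, Nat.card_zpowers, hw]
      rcases Nat.lt_or_ge m 2 with h | h
      · exact (Nat.pow_le_pow_right (by norm_num) (Nat.lt_succ_iff.mp h)).trans (by norm_num)
      · exact absurd ((pow_dvd_pow 5 h).trans (hm ▸ card_subgroup_dvd_card _)) h5K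
    set a' : centralizer ({z} : Set G) := ⟨a, haC⟩
    have hconjK : a' * ⟨x, hxC⟩ * a'⁻¹ ∈ K := (inferInstance : K.Normal).conj_mem _ hxK a'
    obtain ⟨P, hP⟩ := hSyl ⟨_, hconjK⟩ (by
      rw [← Subgroup.orderOf_coe, show ((⟨a' * ⟨x, hxC⟩ * a'⁻¹, hconjK⟩ : K) : centralizer ({z} : Set G)) =
        MulAut.conj a' ⟨x, hxC⟩ from rfl, MulEquiv.orderOf_eq, ← Subgroup.orderOf_coe]
      exact hx)
    obtain ⟨P', hP'⟩ := hSyl _ hXo
    obtain ⟨k, hk⟩ := MulAction.exists_smul_eq K P P'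
    have hmem : (k * ⟨_, hconjK⟩ * k⁻¹ : K) ∈ zpowers (⟨⟨x, hxC⟩, hxK⟩ : K) := by
      rw [← hP', ← hk]
      exact Subgroup.smul_mem_pointwise_smul _ (MulAut.conj k) _ (hP ▸ mem_zpowers _)
    set m : centralizer ({z} : Set G) := (k : centralizer ({z} : Set G)) * a' with hm
    have hmN : (m : G) ∈ N := by
      obtain ⟨i, hi⟩ := hmem
      have hi' : (m : G) * x * (m : G)⁻¹ = x ^ i := by
        have := congrArg (fun w : K => ((w : centralizer ({z} : Set G)) : G)) hi
        simp only [Subgroup.coe_mul, Subgroup.coe_inv, Subgroup.coe_zpow] at this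
        rw [this, hm]
        simp only [Subgroup.coe_mul, a']
        group
      refine mem_normalizer_fintype fun b hb => ?_
      obtain ⟨l, rfl⟩ := hb
      show (m : G) * x ^ l * (m : G)⁻¹ ∈ _
      rw [← conj_zpow, hi', ← zpow_mul]
      exact ⟨_, rfl⟩
    have hδk : δ (k : centralizer ({z} : Set G)) = 1 := congrArg Units.val k.2
    have hδm : δ m = -1 := by rw [hm, map_mul, hδk, one_mul, hδa]
    obtain ⟨i, hi⟩ : ∃ i : ℕ, (g ^ i)⁻¹ * m ∈ C := by
      obtain ⟨k, hk, hkm⟩ : ∃ k ∈ ({1, 2, 3, 4} : Finset ℕ), (m : G) * x * (m : G)⁻¹ = x ^ k :=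
        ⟨kf m, hkf m hmN, hkx m hmN⟩
      obtain ⟨i, hi⟩ : ∃ i : ℕ, x ^ (2 ^ i) = x ^ k := by
        simp only [Finset.mem_insert, Finset.mem_singleton] at hk
        rcases hk with rfl | rfl | rfl | rfl
        · exact ⟨0, by simp⟩
        · exact ⟨1, by simp⟩
        · exact ⟨3, by rw [← pow_mod_orderOf, hx]; rfl⟩
        · exact ⟨2, by norm_num⟩
      refine ⟨i, mem_centralizer_singleton_iff.mpr ?_⟩
      have e : (m : G) * x * (m : G)⁻¹ = g ^ i * x * (g ^ i)⁻¹ := by rw [hkm, hCN g hgN 2 hgx i, hi]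
      calc (g ^ i)⁻¹ * m * x = (g ^ i)⁻¹ * ((m : G) * x * (m : G)⁻¹) * m := by group
        _ = (g ^ i)⁻¹ * (g ^ i * x * (g ^ i)⁻¹) * m := by rw [e]
        _ = x * ((g ^ i)⁻¹ * m) := by group
    obtain ⟨u, v, huv⟩ := hC5 _ hi
    have hm' : m = ⟨g, hgC⟩ ^ i * (⟨x, hxC⟩ ^ u * ⟨z, hzC⟩ ^ v) := Subtype.ext (by
      push_cast; rw [← huv, mul_inv_cancel_left])
    rw [hm', map_mul, map_mul, map_pow, map_pow, map_pow, hδx, hδz, one_pow, one_pow, mul_one, mul_one] at hδm
    obtain ⟨p, q, r, -, -, -, h4⟩ := hσ g (hzc g hgN) hg4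
    rw [h4 hgC] at hδm ⊢
    rcases neg_one_pow_eq_or ℂ q with e | e
    · rw [e, one_pow] at hδm; norm_num at hδm
    · exact e
  -- the fixed space of x
  have hgz : Commute g z := hzc g hgN
  have hgzN : g * z ∈ N := mul_mem hgN (mem_normalizer_fintype fun b hb => by
    obtain ⟨l, rfl⟩ := hb
    show z * x ^ l * z⁻¹ ∈ _
    rw [(hxz.symm.zpow_right l).eq, mul_inv_cancel_right]
    exact ⟨l, rfl⟩)
  have hgz4 : (g * z) ^ 4 = 1 := by
    rw [hgz.mul_pow, hg4, show z ^ 4 = (z * z) * (z * z) by simp only [pow_succ, pow_zero, one_mul, mul_assoc], hz2, one_mul, one_mul]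
  have hgz2 : g * z * (g * z) = y := by
    rw [hgz.symm.mul_mul_mul_comm, hz2, mul_one, hydef, pow_two]
  have hgzx : g * z * x * (g * z)⁻¹ = x ^ 2 := by
    rw [show g * z * x * (g * z)⁻¹ = g * (z * x * z⁻¹) * g⁻¹ by group, hxz.symm.eq, mul_inv_cancel_right, hgx]
  set W := av ρ (zpowers x) with hW
  have hWW : W * W = W := av_mul_av ρ _
  have hnor : ∀ h : G, h ∈ N → ∀ b ∈ zpowers x, h * b * h⁻¹ ∈ zpowers x := fun h hh b hb =>
    (mem_normalizer_iff.mp hh b).mp hb
  have hcW : ((els (zpowers x)).card : ℂ) = 5 := by rw [card_els, Nat.card_zpowers, hx]; norm_num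
  have htW : LinearMap.trace ℂ _ W = 3 := by
    rw [hW, trace_av, hcW, ← Finset.add_sum_erase _ _ (mem_els.mpr (one_mem (zpowers x))),
      Finset.sum_congr rfl (g := fun _ => (1 : ℂ)) fun b hb => ?_, Finset.sum_const,
      Finset.card_erase_of_mem (mem_els.mpr (one_mem _)), card_els, Nat.card_zpowers, hx, hch, irr_one_eq, hd]
    · norm_num
    · obtain ⟨hb1, hb⟩ := Finset.mem_erase.mp hb
      rw [mem_els, ← mem_powers_iff_mem_zpowers] at hb
      obtain ⟨k, rfl⟩ := hb
      rw [hch]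
      exact hchx k fun h5 => hb1 (by
        obtain ⟨l, rfl⟩ := h5
        show x ^ (5 * l) = 1
        rw [pow_mul, hx5, one_pow])
  have htWh : ∀ (h : G) (k : ℕ), h * x * h⁻¹ = x ^ k → x ^ k ≠ x →
      LinearMap.trace ℂ _ (ρ h * W) = (χ : G → ℂ) h := fun h k hh hne => by
    rw [hW, trace_rho_mul_av, hcW, Finset.sum_congr rfl (g := fun _ => (χ : G → ℂ) h) fun b hb => ?_,
      Finset.sum_const, card_els, Nat.card_zpowers, hx]
    · rw [nsmul_eq_mul]; push_cast; ring
    · rw [hch]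
      refine (hcl _ _ (coset_conj hx (hh ▸ ⟨k, by simp⟩) (fun hc => hne ?_) (mem_els.mp hb))).symm
      rw [← hh, hc.eq, mul_inv_cancel_right]
  have hx2 : x ^ 2 ≠ x := fun h => by
    have : x = 1 := mul_eq_left.mp (show x * x = x by rw [← pow_two, h])
    rw [this, orderOf_one] at hx; omega
  have hx4 : x ^ 4 ≠ x := fun h => by
    have h3 : x ^ 3 = 1 := mul_eq_left.mp (show x * x ^ 3 = x by rw [← pow_succ']; exact h)
    have := orderOf_dvd_of_pow_eq_one h3
    rw [hx] at this; norm_num at this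
  have key : ∀ h ∈ N, h ^ 4 = 1 → h * h = y → h * x * h⁻¹ = x ^ 2 →
      ((χ : G → ℂ) h = 3 ∨ (χ : G → ℂ) h = -1) ∧ ((χ : G → ℂ) h = 3 → ρ h * W = W) := by
    intro h hh h4 hh2 hhx
    obtain ⟨p, q, r, s, h1, h2, h3, h5⟩ := four_eigen (ρ h) (by rw [← map_pow, h4, map_one])
    rw [det_eq_one hna] at h5
    rw [show LinearMap.trace ℂ _ (ρ h) = (χ : G → ℂ) h from hch h] at h2
    rw [← map_pow, pow_two, hh2, show LinearMap.trace ℂ _ (ρ y) = (χ : G → ℂ) y from hch y, hχy] at h3
    rw [hfin] at h1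
    have hrs : r = s := by
      have him := congrArg Complex.im h2
      simp [hreal] at him
      have : (r : ℝ) = s := by linarith
      exact_mod_cast this
    subst hrs
    have h3' : (p : ℤ) + q - r - r = 3 := by
      have : (p : ℂ) + q - r - r = 3 := h3.symm
      exact_mod_cast this
    have hq : Even q := by
      rw [mul_assoc, ← mul_pow, show Complex.I * -Complex.I = 1 by rw [mul_neg, Complex.I_mul_I, neg_neg],
        one_pow, mul_one] at h5
      rcases Nat.even_or_odd q with e | e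
      · exact e
      · rw [e.neg_one_pow] at h5; norm_num at h5
    have hv : (χ : G → ℂ) h = ((7 - 2 * q : ℤ) : ℂ) := by
      rw [h2, sub_self, zero_mul, add_zero]
      have : (p : ℤ) - q = 7 - 2 * q := by omega
      exact_mod_cast this
    have hcW' := commute_av ρ (hnor h hh)
    have hWy : LinearMap.trace ℂ _ (ρ (h * h) * W) = 3 := by rw [hh2, htWh y 4 hyx hx4, hχy]
    have hb : ∀ c : ℂ, c ^ 2 = 1 → ∃ p q : ℕ, p + q = 11 ∧ (χ : G → ℂ) h + c * 8 = (p : ℂ) - q ∧
        (mix W (ρ h) c) ^ 4 = 1 := by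
      intro c hc
      have hpow : mix W (ρ h) c ^ 4 = 1 := by
        rw [mix_pow hWW hcW', ← map_pow, h4, map_one, show c ^ 4 = (c ^ 2) ^ 2 by ring, hc, one_pow, mix_one]
      obtain ⟨p, q, r, s, e1, e2, e3, -⟩ := four_eigen _ hpow
      rw [mix_pow hWW hcW', ← map_pow, pow_two, trace_mix, hWy, htW, hfin, hc] at e3
      rw [trace_mix, htWh h 2 hhx hx2, htW, hfin] at e2
      rw [hfin] at e1
      have e3' : (p : ℤ) + q - r - s = 11 := by
        have : (p : ℂ) + q - r - s = 11 := by rw [← e3]; norm_num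
        exact_mod_cast this
      obtain ⟨rfl, rfl⟩ : r = 0 ∧ s = 0 := by omega
      refine ⟨p, q, by omega, ?_, hpow⟩
      norm_num at e2
      linear_combination e2
    obtain ⟨p₁, q₁, e1, e2, hpow⟩ := hb 1 (one_pow 2)
    obtain ⟨p₂, q₂, f1, f2, -⟩ := hb (-1) (by norm_num)
    rw [hv] at e2 f2
    have e2' : (7 : ℤ) - 2 * q + 8 = p₁ - q₁ := by
      have : ((7 - 2 * q : ℤ) : ℂ) + 8 = (p₁ : ℂ) - q₁ := by linear_combination e2
      exact_mod_cast this
    have f2' : (7 : ℤ) - 2 * q - 8 = p₂ - q₂ := by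
      have : ((7 - 2 * q : ℤ) : ℂ) - 8 = (p₂ : ℂ) - q₂ := by linear_combination f2
      exact_mod_cast this
    obtain ⟨l, hl⟩ := hq
    refine ⟨?_, fun h33 => ?_⟩
    · rcases (show (7 : ℤ) - 2 * q = 3 ∨ (7 : ℤ) - 2 * q = -1 by omega) with e | e <;>
        rw [hv, e] <;> norm_num
    · have hf := eq_one_of_trace (mix W (ρ h) 1) hpow (by
        rw [trace_mix, htWh h 2 hhx hx2, htW, hfin, h33]; norm_num)
      have h6 := congrArg (· * W) hf
      simp only [mix, one_smul, add_mul, sub_mul, one_mul, mul_assoc, hWW, sub_self, add_zero] at h6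
      exact h6
  obtain ⟨hc1, hf1⟩ := key g hgN hg4 (pow_two g).symm hgx
  obtain ⟨hc2, hf2⟩ := key (g * z) hgzN hgz4 hgz2 hgzx
  obtain ⟨g', hg'N, hg'4, hg'2, hg'x, hg'W⟩ :
      ∃ g' ∈ N, g' ^ 4 = 1 ∧ g' * g' = y ∧ g' * x * g'⁻¹ = x ^ 2 ∧ ρ g' * W = W := by
    obtain ⟨p, q, r, h1, h2, h3, h4⟩ := hσ g hgz hg4
    rw [h4 hgC] at hδg
    have hodd : Odd q := by
      rcases Nat.even_or_odd q with e | e
      · rw [e.neg_one_pow] at hδg; norm_num at hδg
      · exact e
    rw [show g * g = y from (pow_two g).symm, hχy, hχyz] at h3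
    have h3' : (p : ℤ) + q - 2 * r = 7 := by
      have : (p : ℂ) + q - 2 * r = 7 := by rw [← h3]; norm_num
      exact_mod_cast this
    rcases hc1 with e1 | e1
    · exact ⟨g, hgN, hg4, (pow_two g).symm, hgx, hf1 e1⟩
    rcases hc2 with e2 | e2
    · exact ⟨g * z, hgzN, hgz4, hgz2, hgzx, hf2 e2⟩
    exfalso
    rw [e1, e2] at h2
    have h2' : (p : ℤ) - q = 5 := by
      have : (p : ℂ) - q = 5 := by rw [← h2]; norm_num
      exact_mod_cast this
    obtain ⟨l, hl⟩ := hodd
    omega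
  -- the Sylow subgroup of order eleven
  obtain ⟨Q₀⟩ := (inferInstance : Nonempty (Sylow 11 G))
  have hQ₀ := M12Local.normalizer_eleven hG Q₀
  obtain ⟨c₀, hc₀⟩ := exists_prime_orderOf_dvd_card' (G := normalizer ((Q₀ : Subgroup G) : Set G)) 5
    (by rw [hQ₀.1]; norm_num)
  have hc₀' : orderOf (c₀ : G) = 5 := by rw [Subgroup.orderOf_coe]; exact hc₀
  have hsyl5 : ∀ w : G, orderOf w = 5 → ∃ P : Sylow 5 G, (P : Subgroup G) = zpowers w := fun w hw => by
    obtain ⟨P, hP⟩ := (IsPGroup.of_card (n := 1) (by rw [Nat.card_zpowers, hw, pow_one]) :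
      IsPGroup 5 ↥(zpowers w)).exists_le_sylow
    refine ⟨P, (Subgroup.eq_of_le_of_card_ge hP ?_).symm⟩
    rw [CfsgLib.SmallGroups.SimpleTools.card_sylow_subgroup (k := 1) (m := 19008) (by rw [hG]; norm_num)
      (by norm_num) P, Nat.card_zpowers, hw, pow_one]
  obtain ⟨P, hP⟩ := hsyl5 _ hc₀'
  obtain ⟨P', hP'⟩ := hsyl5 x hx
  obtain ⟨t, ht⟩ := MulAction.exists_smul_eq G P P'
  have hxc : t⁻¹ * x * t ∈ zpowers (c₀ : G) := by
    have hxP : x ∈ ((t • P : Sylow 5 G) : Subgroup G) := by rw [ht, hP']; exact mem_zpowers x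
    rw [Sylow.coe_subgroup_smul, Subgroup.mem_pointwise_smul_iff_inv_smul_mem, hP] at hxP
    simpa [MulAut.conj_inv_apply, MulAut.smul_def] using hxP
  set Q : Sylow 11 G := t • Q₀
  have hQc : Nat.card (Q : Subgroup G) = 11 := M12Local.card_sylow_eleven hG Q
  have hQN := M12Local.normalizer_eleven hG Q
  obtain ⟨q, hq⟩ := exists_prime_orderOf_dvd_card' (G := (Q : Subgroup G)) 11 (by rw [hQc])
  have hq' : orderOf (q : G) = 11 := by rw [Subgroup.orderOf_coe]; exact hq
  have hqQ : zpowers (q : G) = (Q : Subgroup G) :=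
    Subgroup.eq_of_le_of_card_ge (zpowers_le.mpr q.2) (by rw [hQc, Nat.card_zpowers, hq'])
  have hxQ : x ∈ normalizer ((Q : Subgroup G) : Set G) := by
    have h1 : t⁻¹ * x * t ∈ normalizer ((Q₀ : Subgroup G) : Set G) := zpowers_le.mpr c₀.2 hxc
    rw [mem_normalizer_iff] at h1 ⊢
    intro b
    simp only [Q, Sylow.coe_subgroup_smul, Subgroup.mem_pointwise_smul_iff_inv_smul_mem, MulAut.smul_def,
      MulAut.conj_inv_apply]
    rw [h1]
    group
  set U := av ρ (zpowers (q : G)) with hU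
  have hcU : ((els (zpowers (q : G))).card : ℂ) = 11 := by rw [card_els, Nat.card_zpowers, hq']; norm_num
  have hχ11 : ∀ b ∈ zpowers (q : G), b ≠ 1 → (χ : G → ℂ) b = 0 := fun b hb hb1 => by
    refine vanish χ (p := 11) (by norm_num) (n := 1) (by rw [hG]; norm_num) (by rw [hG]; norm_num)
      (by rw [hd, pow_one]) ?_
    have h := orderOf_dvd_natCard _ hb
    rw [Nat.card_zpowers, hq'] at h
    rcases (Nat.dvd_prime (by norm_num)).mp h with e | e
    · exact absurd (orderOf_eq_one_iff.mp e) hb1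
    · rw [e]
  have hqnx : ∀ i : ℕ, ¬ 5 ∣ i → ¬ Commute (x ^ i) (q : G) := fun i hi hc => by
    obtain ⟨j, hj⟩ : ∃ j : ℕ, (x ^ i) ^ j = x := by
      have h1 : x ∈ zpowers (x ^ i) := by
        have h2 : zpowers (x ^ i) = zpowers x := Subgroup.eq_of_le_of_card_ge
          (zpowers_le.mpr (pow_mem (mem_zpowers x) i))
          (by rw [Nat.card_zpowers, Nat.card_zpowers, hx, orderOf_pow_five hx hi])
        rw [h2]; exact mem_zpowers x
      rw [← mem_powers_iff_mem_zpowers] at h1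
      exact h1
    have h1 := orderOf_dvd_natCard C (mem_centralizer_singleton_iff.mpr (hj ▸ hc.pow_left j).eq.symm)
    rw [hC, hq'] at h1
    norm_num at h1
  have hnQ : ∀ b ∈ zpowers (q : G), x * b * x⁻¹ ∈ zpowers (q : G) := by
    rw [hqQ]; exact fun b hb => (mem_normalizer_iff.mp hxQ b).mp hb
  have hxiN : ∀ i : ℕ, x ^ i * (q : G) * (x ^ i)⁻¹ ∈ zpowers (q : G) := fun i => by
    induction i with
    | zero => simp
    | succ i ih =>
      rw [pow_succ', mul_inv_rev, show x * x ^ i * (q : G) * ((x ^ i)⁻¹ * x⁻¹) = x * (x ^ i * q * (x ^ i)⁻¹) * x⁻¹ by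
        group]
      exact hnQ _ ih
  have hUx : ∀ b ∈ zpowers x, LinearMap.trace ℂ _ (ρ b * U) = 1 := fun b hb => by
    rw [← mem_powers_iff_mem_zpowers] at hb
    obtain ⟨i, rfl⟩ := hb
    show LinearMap.trace ℂ _ (ρ (x ^ i) * U) = 1
    by_cases hi : 5 ∣ i
    · obtain ⟨l, rfl⟩ := hi
      rw [pow_mul, hx5, one_pow, map_one, one_mul, hU, trace_av, hcU,
        ← Finset.add_sum_erase _ _ (mem_els.mpr (one_mem (zpowers (q : G)))),
        Finset.sum_eq_zero fun b hb => by
          rw [hch]; exact hχ11 b (mem_els.mp (Finset.mem_of_mem_erase hb)) (Finset.ne_of_mem_erase hb),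
        hch, irr_one_eq, hd]
      norm_num
    · rw [hU, trace_rho_mul_av, hcU, Finset.sum_congr rfl (g := fun _ => (1 : ℂ)) fun b hb => ?_,
        Finset.sum_const, card_els, Nat.card_zpowers, hq']
      · norm_num
      · rw [hch, ← hcl _ _ (coset_conj hq' (hxiN i) (hqnx i hi) (mem_els.mp hb)), hchx i hi]
  have hUW : LinearMap.trace ℂ _ (W * U) = 1 := by
    rw [hW, av, smul_mul_assoc, map_smul, Finset.sum_mul, map_sum,
      Finset.sum_congr rfl fun b hb => hUx b (mem_els.mp hb), Finset.sum_const, smul_eq_mul, hcW, card_els,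
      Nat.card_zpowers, hx]
    norm_num
  have hne : W * U ≠ 0 := fun h => by rw [h, map_zero] at hUW; norm_num at hUW
  obtain ⟨w, hw⟩ : ∃ w, (W * U) w ≠ 0 := by
    by_contra h
    simp only [not_exists, not_not] at h
    exact hne (LinearMap.ext h)
  set v := (W * U) w with hv
  have hxv : ρ x v = v := by
    show (ρ x * (W * U)) w = _
    rw [← mul_assoc, hW, rho_mul_av ρ (mem_zpowers x)]
  have hgv : ρ g' v = v := by
    show (ρ g' * (W * U)) w = _
    rw [← mul_assoc, hg'W]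
  have hcWU : Commute U W := by
    rw [hW, av]
    refine Commute.smul_right (Commute.sum_right _ _ _ fun b hb => commute_av ρ fun c hc => ?_) _
    rw [mem_els, ← mem_powers_iff_mem_zpowers] at hb
    obtain ⟨i, rfl⟩ := hb
    obtain ⟨j, rfl⟩ := hc
    show x ^ i * (q : G) ^ j * (x ^ i)⁻¹ ∈ _
    rw [← conj_zpow]
    exact zpow_mem (hxiN i) j
  have hqv : ρ (q : G) v = v := by
    show (ρ (q : G) * (W * U)) w = _
    rw [← hcWU.eq, ← mul_assoc, hU, rho_mul_av ρ (mem_zpowers _), ← hU, hcWU.eq]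
  let H : Subgroup G :=
    { carrier := {h | ρ h v = v}
      one_mem' := by simp
      mul_mem' := fun {a b} (ha : ρ a v = v) (hb : ρ b v = v) => by
        show ρ (a * b) v = v
        rw [map_mul, Module.End.mul_apply, hb, ha]
      inv_mem' := fun {a} (ha : ρ a v = v) => by
        show ρ a⁻¹ v = v
        conv_lhs => rw [← ha]
        rw [← Module.End.mul_apply, ← map_mul, inv_mul_cancel, map_one]
        rfl }
  refine ⟨H, ?_⟩
  have hxH : x ∈ H := hxv
  have hqH : (q : G) ∈ H := hqv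
  have hgH : g' ∈ H := hgv
  have hHtop : H ≠ ⊤ := fun htop => by
    have hall : ∀ h : G, ρ h v = v := fun h => (htop ▸ mem_top h : h ∈ H)
    have hsum : ∑ h : G, (χ : G → ℂ) h = 0 := by
      have hne : χ ≠ trivChar G := fun e => by rw [e] at hd; simp [charDegree] at hd
      have h := CfsgLib.Char.classInner_irr_ne χ.2 (trivChar G).2 fun e => hne (Subtype.ext e)
      rw [Cfsg.classInner] at h
      simp only [trivChar_apply, map_one, mul_one, mul_eq_zero, inv_eq_zero] at h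
      exact h.resolve_left (Nat.cast_ne_zero.mpr Nat.card_pos.ne')
    have hT := trace_av ρ (⊤ : Subgroup G)
    rw [show els (⊤ : Subgroup G) = Finset.univ by ext; simp [mem_els], Finset.sum_congr rfl fun h _ => hch h,
      hsum, mul_zero] at hT
    have hav : av ρ (⊤ : Subgroup G) = 0 := by
      set A := av ρ (⊤ : Subgroup G) with hA
      have hAA : A * A = A := av_mul_av ρ _
      have hm := eq_one_of_trace (mix A ((-1 : ℂ) • 1) 1)
        (by rw [mix_pow hAA ((Commute.one_right _).smul_right _), smul_pow, one_pow, one_pow,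
          show (-1 : ℂ) ^ 4 = 1 by norm_num, one_smul, mix_one])
        (by rw [trace_mix, smul_mul_assoc, one_mul, map_smul, hT, hfin]; norm_num)
      have h7 : -A = A := by
        have h6 := congrArg (· * A) hm
        simp only [mix, one_mul, one_smul, add_mul, sub_mul, smul_mul_assoc, hAA, sub_self, add_zero] at h6
        rw [← neg_one_smul ℂ]
        exact h6
      have h2 : (2 : ℂ) • A = 0 := by
        rw [two_smul]
        conv_lhs => arg 1; rw [← h7]
        exact neg_add_cancel _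
      exact (smul_eq_zero.mp h2).resolve_left (by norm_num)
    have hv0 : av ρ (⊤ : Subgroup G) v = v := by
      rw [av, LinearMap.smul_apply, LinearMap.sum_apply, Finset.sum_congr rfl fun h _ => hall h, Finset.sum_const,
        ← Nat.cast_smul_eq_nsmul ℂ, smul_smul, inv_mul_cancel₀ (card_els_ne _), one_smul]
    rw [hav, LinearMap.zero_apply] at hv0
    exact hw hv0.symm
  have hQH : (Q : Subgroup G) ≤ H := hqQ ▸ zpowers_le.mpr hqH
  set QH : Sylow 11 H := Q.subtype hQH
  have hNH : (normalizer ((Q : Subgroup G) : Set G)) ≤ H := by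
    have hle : zpowers x ⊔ (Q : Subgroup G) ≤ normalizer ((Q : Subgroup G) : Set G) :=
      sup_le (zpowers_le.mpr hxQ) le_normalizer
    have h1 : zpowers x ⊔ (Q : Subgroup G) = normalizer ((Q : Subgroup G) : Set G) := by
      refine Subgroup.eq_of_le_of_card_ge hle ?_
      rw [hQN.1]
      have h5 := card_dvd_of_le (le_sup_left : zpowers x ≤ zpowers x ⊔ (Q : Subgroup G))
      have h11 := card_dvd_of_le (le_sup_right : (Q : Subgroup G) ≤ zpowers x ⊔ (Q : Subgroup G))
      rw [Nat.card_zpowers, hx] at h5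
      rw [hQc] at h11
      exact Nat.le_of_dvd Nat.card_pos (Nat.Coprime.mul_dvd_of_dvd_of_dvd (by norm_num : Nat.Coprime 5 11) h5 h11)
    rw [← h1]
    exact sup_le (zpowers_le.mpr hxH) hQH
  have hnum : Nat.card H = Nat.card (Sylow 11 H) * 55 := by
    have hi : Nat.card (Sylow 11 H) = (normalizer ((QH : Subgroup H) : Set H)).index :=
      QH.card_eq_index_normalizer
    have h := (normalizer ((QH : Subgroup H) : Set H)).index_mul_card
    have h55 : Nat.card (normalizer ((QH : Subgroup H) : Set H)) = 55 := by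
      have e : normalizer ((QH : Subgroup H) : Set H) = (normalizer ((Q : Subgroup G) : Set G)).subgroupOf H :=
        (Subgroup.subgroupOf_normalizer_eq hQH).symm
      rw [e, Nat.card_congr (Subgroup.subgroupOfEquivOfLe hNH).toEquiv, hQN.1]
    rw [← h, ← hi, h55]
  have hmod : Nat.card (Sylow 11 H) % 11 = 1 := by
    have := card_sylow_modEq_one 11 H
    rwa [Nat.ModEq, Nat.one_mod] at this
  have hHdvd := card_subgroup_dvd_card H
  rw [hG, hnum] at hHdvd
  have hg'4o : orderOf g' = 4 := by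
    have := orderOf_eq_prime_pow (p := 2) (n := 1) (x := g') (by
      rw [pow_one, pow_two, hg'2]; exact hy1) hg'4
    simpa using this
  have h4 : 4 ∣ Nat.card (Sylow 11 H) * 55 := hnum ▸ hg'4o ▸ orderOf_dvd_natCard H hgH
  have hlt : Nat.card H ≠ 95040 := fun h => hHtop (Subgroup.eq_top_of_card_eq H (h.trans hG.symm))
  have hn12 : Nat.card (Sylow 11 H) ≠ 12 := fun h12 => by
    rw [h12] at hnum
    have : Fact (Nat.Prime 5) := ⟨by norm_num⟩
    obtain ⟨X, hX⟩ := hsyl5 x hx
    have hXH : (X : Subgroup G) ≤ H := hX ▸ zpowers_le.mpr hxH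
    have hi : Nat.card (Sylow 5 H) = (normalizer (((X.subtype hXH : Sylow 5 H) : Subgroup H) : Set H)).index :=
      (X.subtype hXH).card_eq_index_normalizer
    have h := (normalizer (((X.subtype hXH : Sylow 5 H) : Subgroup H) : Set H)).index_mul_card
    have h5 := card_sylow_modEq_one 5 H
    rw [Nat.ModEq, Nat.one_mod, hi] at h5
    have e : normalizer (((X.subtype hXH : Sylow 5 H) : Subgroup H) : Set H) = N.subgroupOf H := by
      show normalizer (((X : Subgroup G).subgroupOf H : Subgroup H) : Set H) = _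
      rw [← Subgroup.subgroupOf_normalizer_eq hXH, hX]
    rw [e] at h h5
    have hd40 : Nat.card (N.subgroupOf H) ∣ 40 := by
      rw [← hN, ← Subgroup.card_map_of_injective H.subtype_injective, Subgroup.subgroupOf_map_subtype]
      exact card_dvd_of_le inf_le_left
    have hd5 : 5 ∣ Nat.card (N.subgroupOf H) := hx ▸ (Subgroup.orderOf_mk x hxH).symm ▸
      orderOf_dvd_natCard (N.subgroupOf H) (x := (⟨x, hxH⟩ : H))
        (mem_subgroupOf.mpr (le_normalizer (mem_zpowers x)))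
    have hd4 : 4 ∣ Nat.card (N.subgroupOf H) := hg'4o ▸ (Subgroup.orderOf_mk g' hgH).symm ▸
      orderOf_dvd_natCard (N.subgroupOf H) (x := (⟨g', hgH⟩ : H)) (mem_subgroupOf.mpr hg'N)
    have h20 := Nat.Coprime.mul_dvd_of_dvd_of_dvd (by norm_num : Nat.Coprime 4 5) hd4 hd5
    rw [hnum] at h
    obtain ⟨l, hl⟩ := h20
    have hle := Nat.le_of_dvd (by norm_num) hd40
    have hl2 : l ≤ 2 := by omega
    interval_cases l <;> rw [hl] at h <;> omega
  have hd1728 : Nat.card (Sylow 11 H) ∣ 1728 := Nat.dvd_of_mul_dvd_mul_right (k := 55) (by norm_num) hHdvd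
  have hcand : Nat.card (Sylow 11 H) = 144 := by
    have hle := Nat.le_of_dvd (by norm_num) hd1728
    have hne : Nat.card (Sylow 11 H) ≠ 1728 := fun e => hlt (by rw [hnum, e])
    have hmem : Nat.card (Sylow 11 H) ∈ Nat.divisors 1728 := Nat.mem_divisors.mpr ⟨hd1728, by norm_num⟩
    have key : ∀ n ∈ Nat.divisors 1728, n % 11 = 1 → 4 ∣ n * 55 → n = 12 ∨ n = 144 ∨ n = 1728 := by decide +kernel
    rcases key _ hmem hmod h4 with e | e | e
    exacts [absurd e hn12, e, absurd e hne]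
  have h := H.index_mul_card
  rw [hG, hnum, hcand] at h
  omega

end CfsgLib.KGroups.M12Point
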