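import Cfsg.Agent.Lib.KGroups.M12Classes

/-!
# Four integer columns of the character table of a simple group of order 95040

The columns at elements of orders 5 and 10, at the involution commuting with them and at a central
involution, with the sums over the characters outside the principal 11-block.
-/

set_option autoImplicit false

namespace CfsgLib.KGroups.M12Setup

open Cfsg CfsgLib.Blocks CfsgLib.KGroups.M11Tools CfsgLib.KGroups.M12Tools CfsgLib.KGroups.M12Local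
  CfsgLib.KGroups.M12Check CfsgLib.KGroups.M12Involution CfsgLib.KGroups.M12Reps CfsgLib.KGroups.M12Block
  CfsgLib.KGroups.M12Five CfsgLib.KGroups.M12Classes Subgroup
open CfsgLib.SmallGroups
open scoped Classical

variable {G : Type*} [Group G] [Fintype G]

theorem card_centralizer_mul (T : Five G) : Nat.card (centralizer ({T.x * T.z} : Set G)) = 10 := by
  rw [← T.hC]
  refine congrArg (fun H : Subgroup G => Nat.card H) (le_antisymm ?_ ?_)
  · intro g hg
    refine mem_centralizer_singleton_iff.mpr ?_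
    have h2 : (T.x * T.z) ^ 6 = T.x := by
      rw [T.hxz.mul_pow, ← pow_mod_orderOf T.x 6, ← pow_mod_orderOf T.z 6, T.hx, T.hz]
      norm_num
    have h3 := (show Commute g (T.x * T.z) from mem_centralizer_singleton_iff.mp hg).pow_right 6
    rw [h2] at h3
    exact h3.eq
  · intro g hg
    refine mem_centralizer_singleton_iff.mpr ?_
    rw [T.centralizer_eq] at hg
    obtain ⟨i, rfl⟩ := mem_zpowers_iff.mp hg
    exact ((Commute.refl (T.x * T.z)).zpow_left i).eq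

/-- The degree as an integer. -/
noncomputable def fd (χ : IrrCharacter G) : ℤ := (charDegree (χ : G → ℂ) : ℤ)

theorem fd_spec (χ : IrrCharacter G) : (χ : G → ℂ) 1 = (fd χ : ℂ) := by
  rw [irr_one_eq, fd, Int.cast_natCast]

/-- The degree divided by 11. -/
noncomputable def a11 (χ : IrrCharacter G) : ℕ := charDegree (χ : G → ℂ) / 11

/-- The four columns on the principal 11-block. -/
structure Setup (G : Type*) [Group G] [Fintype G] [Fact (Nat.Prime 11)] where
  D : Data G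
  T : Five G
  s : ℤ
  hs : s = 1 ∨ s = -1
  hCz : Nat.card (centralizer ({T.z} : Set G)) = 120 ∨ Nat.card (centralizer ({T.z} : Set G)) = 240
  t : G
  ht : orderOf t = 2
  hCt : Nat.card (centralizer ({t} : Set G)) = 192
  fx : IrrCharacter G → ℤ
  fg : IrrCharacter G → ℤ
  fz : IrrCharacter G → ℤ
  ft : IrrCharacter G → ℤ
  hfx : ∀ χ : IrrCharacter G, (χ : G → ℂ) T.x = fx χ
  hfg : ∀ χ : IrrCharacter G, (χ : G → ℂ) (T.x * T.z) = fg χ
  hfz : ∀ χ : IrrCharacter G, (χ : G → ℂ) T.z = fz χ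
  hft : ∀ χ : IrrCharacter G, (χ : G → ℂ) t = ft χ
  d0 : fd (trivChar G) = 1
  dA : fd D.c45 = 45
  dB : fd D.c54 = 54
  dC : fd D.c120 = 120
  dE : fd D.c144 = 144
  dY : ∀ θ ∈ D.F.Y, fd θ = 16
  x0 : fx (trivChar G) = 1
  xA : fx D.c45 = 0
  xB : fx D.c54 = -1
  xC : fx D.c120 = 0
  xE : fx D.c144 = -1
  xY : ∀ θ ∈ D.F.Y, fx θ = 1
  g0 : fg (trivChar G) = 1
  gA : fg D.c45 = 0
  gB : fg D.c54 = 1
  gC : fg D.c120 = 0
  gE : fg D.c144 = -s
  gY : ∀ θ ∈ D.F.Y, fg θ = -s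
  z0 : fz (trivChar G) = 1
  zA : fz D.c45 = 5
  zB : fz D.c54 = 6
  zC : fz D.c120 = 0
  zE : fz D.c144 = 4 * s
  zY : ∀ θ ∈ D.F.Y, fz θ = 4 * s
  t0 : ft (trivChar G) = 1
  tA : ft D.c45 = -3
  tB : ft D.c54 = 6
  tC : ft D.c120 = -8
  tE : ft D.c144 = 0
  tY : ∀ θ ∈ D.F.Y, ft θ = 0

variable [IsSimpleGroup G] (hG : Nat.card G = 95040) [Fact (Nat.Prime 11)]

include hG in
theorem exists_setup : Nonempty (Setup G) := by
  obtain ⟨D⟩ := exists_data hG
  obtain ⟨x, z, hx, hz, hxz, hC, hN⟩ := exists_five_element hG D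
  obtain ⟨hCz, s, hs, z45, z54, z120, z144, zθ⟩ := centralizer_z_cases hG D hx hz hxz
  obtain ⟨t, ht, hCt, t45, t54, t120, t144, tθ⟩ := exists_central hG D
  obtain ⟨⟨x45, x54, x120, x144, xθ⟩, g45, g54, g120, g144, gθ⟩ :=
    block_columns hG D ⟨x, z, hx, hz, hxz, hC, hN⟩ hs z54 z144
  choose fx hfx using fun χ : IrrCharacter G => (⟨x, z, hx, hz, hxz, hC, hN⟩ : Five G).exists_int_x χ
  choose fg hfg using fun χ : IrrCharacter G => (⟨x, z, hx, hz, hxz, hC, hN⟩ : Five G).exists_int_xz χ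
  choose fz hfz using fun χ : IrrCharacter G => exists_int_two χ hz
  choose ft hft using fun χ : IrrCharacter G => exists_int_two χ ht
  have tr : ∀ h : G, ((trivChar G : IrrCharacter G) : G → ℂ) h = ((1 : ℤ) : ℂ) := fun h => by
    rw [trivChar_apply]; norm_num
  have ev : ∀ {h : G} {f : IrrCharacter G → ℤ} (χ : IrrCharacter G) (k : ℤ),
      (∀ η : IrrCharacter G, (η : G → ℂ) h = f η) → (χ : G → ℂ) h = (k : ℂ) → f χ = k :=
    fun χ k hf hk => by exact_mod_cast (hf χ).symm.trans hk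
  exact ⟨{
    D := D
    T := ⟨x, z, hx, hz, hxz, hC, hN⟩
    s := s
    hs := hs
    hCz := hCz
    t := t
    ht := ht
    hCt := hCt
    fx := fx
    fg := fg
    fz := fz
    ft := ft
    hfx := hfx
    hfg := hfg
    hfz := hfz
    hft := hft
    d0 := ev _ 1 fd_spec (tr 1)
    dA := by simp [fd, D.d45]
    dB := by simp [fd, D.d54]
    dC := by simp [fd, D.d120]
    dE := by simp [fd, D.d144]
    dY := fun θ h => by simp [fd, D.dθ θ h]
    x0 := ev _ 1 hfx (tr _)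
    xA := ev _ 0 hfx (by rw [x45]; norm_num)
    xB := ev _ (-1) hfx (by rw [x54]; norm_num)
    xC := ev _ 0 hfx (by rw [x120]; norm_num)
    xE := ev _ (-1) hfx (by rw [x144]; norm_num)
    xY := fun θ h => ev _ 1 hfx (by rw [xθ θ h]; norm_num)
    g0 := ev _ 1 hfg (tr _)
    gA := ev _ 0 hfg (by rw [g45]; norm_num)
    gB := ev _ 1 hfg (by rw [g54]; norm_num)
    gC := ev _ 0 hfg (by rw [g120]; norm_num)
    gE := ev _ _ hfg g144
    gY := fun θ h => ev _ _ hfg (gθ θ h)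
    z0 := ev _ 1 hfz (tr _)
    zA := ev _ 5 hfz (by rw [z45]; norm_num)
    zB := ev _ 6 hfz (by rw [z54]; norm_num)
    zC := ev _ 0 hfz (by rw [z120]; norm_num)
    zE := ev _ _ hfz z144
    zY := fun θ h => ev _ _ hfz (zθ θ h)
    t0 := ev _ 1 hft (tr _)
    tA := ev _ (-3) hft (by rw [t45]; norm_num)
    tB := ev _ 6 hft (by rw [t54]; norm_num)
    tC := ev _ (-8) hft (by rw [t120]; norm_num)
    tE := ev _ 0 hft (by rw [t144]; norm_num)
    tY := fun θ h => ev _ 0 hft (by rw [tθ θ h]; norm_num) }⟩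

namespace Setup

variable (S : Setup G)

/-- The characters outside the block. -/
noncomputable def R : Finset (IrrCharacter G) := rest S.D.F

theorem deg_eq {χ : IrrCharacter G} (hG : Nat.card G = 95040) (hχ : χ ∈ S.R) :
    charDegree (χ : G → ℂ) = 11 * a11 χ :=
  (Nat.mul_div_cancel' (rest_dvd hG S.D.F (mem_rest _ hχ).1 (mem_rest _ hχ).2)).symm

include hG in
theorem fd_eq {χ : IrrCharacter G} (hχ : χ ∈ S.R) : fd χ = 11 * (a11 χ : ℤ) := by
  rw [fd, S.deg_eq hG hχ]; push_cast; ring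

theorem not_mem_Y {χ : IrrCharacter G} (hχ : χ ∈ S.R) : χ ∉ S.D.F.Y := (mem_rest _ hχ).2

include hG in
/-- A sum of products over all characters. -/
theorem dot (f f' : IrrCharacter G → ℤ) {k k' : ℤ} (hk : ∀ θ ∈ S.D.F.Y, f θ = k)
    (hk' : ∀ θ ∈ S.D.F.Y, f' θ = k') :
    ∑ χ : IrrCharacter G, f χ * f' χ = f (trivChar G) * f' (trivChar G) + (f S.D.c45 * f' S.D.c45 +
      (f S.D.c54 * f' S.D.c54 + (f S.D.c120 * f' S.D.c120 + f S.D.c144 * f' S.D.c144))) + 2 * (k * k') +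
        ∑ χ ∈ S.R, f χ * f' χ := by
  rw [split hG S.D, Finset.sum_congr rfl (g := fun _ => k * k') fun θ h => by rw [hk θ h, hk' θ h],
    Finset.sum_const, S.D.F.hY, Setup.R]
  simp

include hG in
theorem sum_fd (f : IrrCharacter G → ℤ) :
    ∑ χ ∈ S.R, fd χ * f χ = 11 * ∑ χ ∈ S.R, (a11 χ : ℤ) * f χ := by
  rw [Finset.mul_sum]
  exact Finset.sum_congr rfl fun χ hχ => by rw [S.fd_eq hG hχ, mul_assoc]

theorem one_order {g : G} (hg : orderOf g ≠ 1) : ¬ IsConj (1 : G) g :=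
  not_conj_order (by rw [orderOf_one]; exact Ne.symm hg)

include hG in
theorem sum_aa : ∑ χ ∈ S.R, (a11 χ : ℤ) * a11 χ = 450 := by
  have h := rest_deg_sq hG S.D
  rw [Finset.sum_congr rfl (g := fun χ => 121 * ((a11 χ : ℤ) * a11 χ)) fun χ hχ => by
    rw [S.deg_eq hG hχ]; push_cast; ring, ← Finset.mul_sum] at h
  rw [Setup.R]
  omega

include hG in
theorem sum_ab : ∑ χ ∈ S.R, (a11 χ : ℤ) * S.fx χ = 15 := by
  have h := orth_zero (one_order (g := S.T.x) (by rw [S.T.hx]; norm_num)) fd_spec S.hfx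
  rw [S.dot hG _ _ S.dY S.xY, S.sum_fd hG, S.d0, S.dA, S.dB, S.dC, S.dE, S.x0, S.xA, S.xB, S.xC, S.xE] at h
  omega

include hG in
theorem sum_ac : ∑ χ ∈ S.R, (a11 χ : ℤ) * S.fg χ = 16 * S.s - 5 := by
  have h := orth_zero (one_order (g := S.T.x * S.T.z) (by rw [S.T.orderOf_mul]; norm_num)) fd_spec S.hfg
  rw [S.dot hG _ _ S.dY S.gY, S.sum_fd hG, S.d0, S.dA, S.dB, S.dC, S.dE, S.g0, S.gA, S.gB, S.gC, S.gE] at h
  rcases S.hs with e | e <;> rw [e] at h ⊢ <;> omega

include hG in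
theorem sum_bb : ∑ χ ∈ S.R, S.fx χ * S.fx χ = 5 := by
  have h := col_sq S.hfx
  rw [S.dot hG _ _ S.xY S.xY, S.T.hC, S.x0, S.xA, S.xB, S.xC, S.xE] at h
  omega

include hG in
theorem sum_cc : ∑ χ ∈ S.R, S.fg χ * S.fg χ = 5 := by
  have h := col_sq S.hfg
  rw [S.dot hG _ _ S.gY S.gY, card_centralizer_mul, S.g0, S.gA, S.gB, S.gC, S.gE] at h
  rcases S.hs with e | e <;> rw [e] at h <;> omega

include hG in
theorem sum_bc : ∑ χ ∈ S.R, S.fx χ * S.fg χ = S.s := by
  have h := orth_zero (not_conj_order (g := S.T.x) (h := S.T.x * S.T.z)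
    (by rw [S.T.hx, S.T.orderOf_mul]; norm_num)) S.hfx S.hfg
  rw [S.dot hG _ _ S.xY S.gY, S.x0, S.xA, S.xB, S.xC, S.xE, S.g0, S.gA, S.gB, S.gC, S.gE] at h
  rcases S.hs with e | e <;> rw [e] at h ⊢ <;> omega

include hG in
theorem sum_uu : ∑ χ ∈ S.R, S.fz χ * S.fz χ + 110 = (Nat.card (centralizer ({S.T.z} : Set G)) : ℤ) := by
  have h := col_sq S.hfz
  rw [S.dot hG _ _ S.zY S.zY, S.z0, S.zA, S.zB, S.zC, S.zE] at h
  rcases S.hs with e | e <;> rw [e] at h <;> omega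

include hG in
theorem sum_tt : ∑ χ ∈ S.R, S.ft χ * S.ft χ = 82 := by
  have h := col_sq S.hft
  rw [S.dot hG _ _ S.tY S.tY, S.hCt, S.t0, S.tA, S.tB, S.tC, S.tE] at h
  omega

end Setup

end CfsgLib.KGroups.M12Setup
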