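import Cfsg.Agent.Lib.KGroups.M11Local
import Cfsg.Agent.Lib.SmallGroups.ValueTools
import Cfsg.Agent.Lib.DegreeTools.Rationality
import Cfsg.Agent.Lib.Char.ClassSum
import Cfsg.Agent.Lib.Char.FS
import Cfsg.Agent.Lib.Blocks.BrauerHom

/-!
# Character tools for the simple group of order 95040

Class multiplication counts, square root counts, rational values, and the eigenvalues of an element of order
dividing four.
-/

set_option autoImplicit false

namespace CfsgLib.KGroups.M12Tools

open Cfsg CfsgLib.Blocks CfsgLib.KGroups.M11Tools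
open scoped Classical ComplexConjugate

variable {G : Type*} [Group G] [Fintype G]

/-- The number of ways of writing `g` as a product from two classes. -/
theorem card_pairs_eq (t u g : G) :
    ((Subgroup.centralizer ({t} : Set G)).index : ℂ) * ((Subgroup.centralizer ({u} : Set G)).index : ℂ) *
        ∑ χ : IrrCharacter G, (χ : G → ℂ) t * (χ : G → ℂ) u * (χ : G → ℂ) g⁻¹ / (χ : G → ℂ) 1 =
      (Nat.card G : ℂ) * (Nat.card {a : G // IsConj t a ∧ IsConj u (a⁻¹ * g)} : ℂ) := by
  set f : G → ℂ := fun w => ∑ a, classInd t a * classInd u (a⁻¹ * w) with hf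
  have ht := classInd_isClassFunction (G := G) t
  have hu := classInd_isClassFunction (G := G) u
  have hcount : (Nat.card {a : G // IsConj t a ∧ IsConj u (a⁻¹ * g)} : ℂ) = f g := by
    rw [Nat.card_eq_fintype_card, Fintype.card_subtype, ← Finset.sum_boole, hf]
    refine Finset.sum_congr rfl fun a _ => ?_
    simp only [classInd]
    by_cases h1 : IsConj t a <;> by_cases h2 : IsConj u (a⁻¹ * g) <;>
      simp only [h1, h2, and_self, and_false, false_and, if_true, if_false, mul_one, mul_zero, zero_mul]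
  have h1 := congrFun (fourierInv_omega (conv_isClassFunction ht hu)) g
  change _ = f g at h1
  rw [hcount, ← h1, fourierInv, ← mul_assoc (Nat.card G : ℂ), mul_inv_cancel₀ CfsgLib.Char.card_ne_zero, one_mul,
    Finset.mul_sum]
  refine Finset.sum_congr rfl fun χ _ => ?_
  rw [omega_conv χ ht hu, omega_classInd, omega_classInd, centralChar, centralChar]
  field_simp [irr_one_ne_zero χ]

/-- The Frobenius-Schur indicator. -/
noncomputable def nu (χ : IrrCharacter G) : ℂ := (Nat.card G : ℂ)⁻¹ * ∑ s : G, (χ : G → ℂ) (s * s)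

theorem nu_cases (χ : IrrCharacter G) : nu χ = 0 ∨ nu χ = 1 ∨ nu χ = -1 := by
  obtain ⟨n, ρ, hρ, he⟩ := χ.2
  have := hρ
  have h := (CfsgLib.Char.frobeniusSchur ρ).1
  rwa [he] at h

theorem nu_eq_zero_iff (χ : IrrCharacter G) : nu χ = 0 ↔ ∃ s : G, ((χ : G → ℂ) s).im ≠ 0 := by
  obtain ⟨n, ρ, hρ, he⟩ := χ.2
  have := hρ
  have h := (CfsgLib.Char.frobeniusSchur ρ).2
  rwa [he] at h

/-- A character of nonzero indicator is real. -/
theorem im_eq_zero (χ : IrrCharacter G) (h : nu χ ≠ 0) (g : G) : ((χ : G → ℂ) g).im = 0 := by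
  by_contra hne
  exact h ((nu_eq_zero_iff χ).mpr ⟨g, hne⟩)

/-- The number of square roots of an element. -/
theorem card_sqrt_eq (g : G) :
    (Nat.card {s : G // s * s = g} : ℂ) = ∑ χ : IrrCharacter G, nu χ * (χ : G → ℂ) g := by
  set f : G → ℂ := fun w => (Nat.card {s : G // s * s = w} : ℂ) with hf
  have hcl : IsClassFunction G f := fun x y => by
    simp only [hf]
    norm_cast
    refine Nat.card_congr ((MulAut.conj y⁻¹).toEquiv.subtypeEquiv fun s => ?_)
    simp only [MulEquiv.toEquiv_eq_coe, MulEquiv.coe_toEquiv, MulAut.conj_apply, inv_inv]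
    constructor
    · intro h
      calc y⁻¹ * s * y * (y⁻¹ * s * y) = y⁻¹ * (s * s) * y := by group
        _ = x := by rw [h]; group
    · intro h
      have h' : y⁻¹ * (s * s) * y = x := by rw [← h]; group
      rw [← h']; group
  have key : ∀ χ : IrrCharacter G, classInner f (χ : G → ℂ) = conj (nu χ) := fun χ => by
    have hsum : ∑ w, f w * conj ((χ : G → ℂ) w) = ∑ s : G, conj ((χ : G → ℂ) (s * s)) := by
      rw [← Finset.sum_fiberwise Finset.univ (fun s : G => s * s) fun s => conj ((χ : G → ℂ) (s * s))]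
      refine Finset.sum_congr rfl fun w _ => ?_
      rw [Finset.sum_congr rfl (g := fun _ => conj ((χ : G → ℂ) w)) fun s hs => by rw [(Finset.mem_filter.mp hs).2],
        Finset.sum_const, nsmul_eq_mul]
      simp only [hf]
      rw [Nat.card_eq_fintype_card, Fintype.card_subtype]
    rw [Cfsg.classInner, hsum, nu, map_mul, map_inv₀, map_natCast, map_sum]
  have h1 := congrFun (CfsgLib.Char.IsClassFunction.eq_sum_irr hcl) g
  rw [Finset.sum_apply] at h1
  refine h1.trans (Finset.sum_congr rfl fun χ _ => ?_)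
  rw [Pi.smul_apply, smul_eq_mul, key]
  rcases nu_cases χ with h | h | h <;> simp [h]

/-- A rational value is a rational integer. -/
theorem exists_int_value (χ : IrrCharacter G) (g : G) {q : ℚ} (h : (χ : G → ℂ) g = q) :
    ∃ n : ℤ, (χ : G → ℂ) g = n :=
  CfsgLib.Char.exists_int_of_isIntegral_rat (irr_isIntegral χ g) h

/-- An involution has integer values. -/
theorem exists_int_two (χ : IrrCharacter G) {t : G} (ht : orderOf t = 2) :
    ∃ n : ℤ, (χ : G → ℂ) t = n := by
  obtain ⟨m, hm⟩ := sum_powers χ t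
  rw [ht, Finset.sum_range_succ, Finset.sum_range_one, pow_zero, pow_one, irr_one_eq] at hm
  refine ⟨2 * (m : ℤ) - charDegree (χ : G → ℂ), ?_⟩
  push_cast at hm ⊢
  linear_combination hm

/-- Constant values on the nontrivial powers are rational integers. -/
theorem exists_int_prime (χ : IrrCharacter G) {x : G} {p : ℕ} (hp : 1 < p) (hx : orderOf x = p)
    (h : ∀ i ∈ Finset.Ico 1 p, (χ : G → ℂ) (x ^ i) = (χ : G → ℂ) x) :
    ∃ n : ℤ, (χ : G → ℂ) x = n ∧ ∃ m : ℕ, (charDegree (χ : G → ℂ) : ℤ) + ((p : ℤ) - 1) * n = p * m := by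
  obtain ⟨m, hm⟩ := sum_powers χ x
  rw [hx, sum_range_split (by omega), pow_zero, irr_one_eq, Finset.sum_congr rfl h, Finset.sum_const, Nat.card_Ico,
    nsmul_eq_mul, Nat.cast_sub hp.le, Nat.cast_one] at hm
  have hp1 : ((p : ℂ) - 1) ≠ 0 := sub_ne_zero.mpr (by exact_mod_cast (show p ≠ 1 by omega))
  obtain ⟨n, hn⟩ := exists_int_value χ x
    (q := ((p : ℚ) * m - charDegree (χ : G → ℂ)) / ((p : ℚ) - 1)) (by
      push_cast
      field_simp
      linear_combination hm)
  refine ⟨n, hn, m, ?_⟩
  rw [hn] at hm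
  exact_mod_cast hm

/-- A family stable under every Galois automorphism has integral sums. -/
theorem exists_int_sum (S : Finset (IrrCharacter G))
    (hS : ∀ σ : ℂ ≃+* ℂ, ∀ χ ∈ S, DegreeTools.Rationality.galIrr σ χ ∈ S) (g : G) :
    ∃ n : ℤ, ∑ χ ∈ S, (χ : G → ℂ) g = n := by
  refine DegreeTools.Rationality.exists_int_of_fixed (IsIntegral.sum _ fun χ _ => irr_isIntegral χ g) fun σ => ?_
  rw [map_sum]
  have himg : S.image (DegreeTools.Rationality.galIrr σ) = S :=
    Finset.eq_of_subset_of_card_le (Finset.image_subset_iff.mpr (hS σ))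
      (by rw [Finset.card_image_of_injective _ (DegreeTools.Rationality.galIrr_injective σ)])
  conv_rhs => rw [← himg, Finset.sum_image fun a _ b _ h => DegreeTools.Rationality.galIrr_injective σ h]
  exact Finset.sum_congr rfl fun χ _ => rfl

theorem degree_galIrr (σ : ℂ ≃+* ℂ) (χ : IrrCharacter G) :
    charDegree (DegreeTools.Rationality.galIrr σ χ : G → ℂ) = charDegree (χ : G → ℂ) := by
  apply Nat.cast_injective (R := ℂ)
  rw [← irr_one_eq, DegreeTools.Rationality.galIrr_apply, irr_one_eq, map_natCast]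

/-- The eigenvalue count of an element whose fourth power is the identity. -/
theorem four_eigen {V : Type*} [AddCommGroup V] [Module ℂ V] [FiniteDimensional ℂ V] (f : Module.End ℂ V)
    (hf : f ^ 4 = 1) :
    ∃ p q r s : ℕ, Module.finrank ℂ V = p + q + r + s ∧
      LinearMap.trace ℂ V f = ((p : ℂ) - q) + ((r : ℂ) - s) * Complex.I ∧
      LinearMap.trace ℂ V (f ^ 2) = (p : ℂ) + q - r - s ∧
      LinearMap.det f = (-1) ^ q * Complex.I ^ r * (-Complex.I) ^ s := by
  obtain ⟨b, μ, h⟩ := CfsgLib.Char.exists_eigenbasis_of_pow_eq_one f (n := 4) (by norm_num) hf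
  have hμ : ∀ i, μ i = 1 ∨ μ i = -1 ∨ μ i = Complex.I ∨ μ i = -Complex.I := fun i => by
    have h4 : (μ i - 1) * (μ i + 1) * ((μ i - Complex.I) * (μ i + Complex.I)) = 0 := by
      linear_combination (h i).2 + (1 - μ i ^ 2) * Complex.I_sq
    simpa [mul_eq_zero, sub_eq_zero, add_eq_zero_iff_eq_neg, or_assoc] using h4
  have h2 : ∀ i, (f ^ 2) (b i) = μ i ^ 2 • b i := fun i => by
    rw [pow_two, Module.End.mul_apply, (h i).1, map_smul, (h i).1, smul_smul, pow_two]
  set A := fun c : ℂ => (Finset.univ.filter fun i => μ i = c).card with hA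
  have hI : Complex.I ≠ 1 ∧ Complex.I ≠ -1 ∧ -Complex.I ≠ 1 ∧ -Complex.I ≠ -1 ∧ Complex.I ≠ -Complex.I := by
    refine ⟨?_, ?_, ?_, ?_, ?_⟩ <;> intro e <;> have e' := congrArg Complex.im e <;> norm_num at e'
  have key : ∀ F : ℂ → ℂ, ∑ i, F (μ i) =
      (A 1 : ℂ) * F 1 + (A (-1) : ℂ) * F (-1) + (A Complex.I : ℂ) * F Complex.I +
        (A (-Complex.I) : ℂ) * F (-Complex.I) := fun F => by
    rw [Finset.sum_congr rfl (g := fun i => (if μ i = 1 then F 1 else 0) + (if μ i = -1 then F (-1) else 0) +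
      (if μ i = Complex.I then F Complex.I else 0) + (if μ i = -Complex.I then F (-Complex.I) else 0)) fun i _ => ?_]
    · simp only [hA, Finset.sum_add_distrib, ← Finset.sum_filter, Finset.sum_const, nsmul_eq_mul]
    · rcases hμ i with e | e | e | e <;> rw [e] <;>
        simp [hI.1, hI.2.1, hI.2.2.1, hI.2.2.2.1, hI.2.2.2.2, hI.1.symm, hI.2.1.symm, hI.2.2.1.symm,
          hI.2.2.2.1.symm, hI.2.2.2.2.symm, show (-1 : ℂ) ≠ 1 by norm_num, show (1 : ℂ) ≠ -1 by norm_num]
  refine ⟨A 1, A (-1), A Complex.I, A (-Complex.I), ?_, ?_, ?_, ?_⟩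
  · apply Nat.cast_injective (R := ℂ)
    have := key fun _ => 1
    simp only [Finset.sum_const, Finset.card_univ, Fintype.card_fin, nsmul_eq_mul, mul_one] at this
    push_cast
    exact this
  · rw [CfsgLib.Char.trace_eq_sum_of_eigen f b μ fun i => (h i).1]
    have := key id
    simp only [id] at this
    rw [this]; ring
  · rw [CfsgLib.Char.trace_eq_sum_of_eigen (f ^ 2) b (fun i => μ i ^ 2) h2, key fun c => c ^ 2]
    simp only [neg_pow_two, Complex.I_sq]; ring
  · rw [← LinearMap.det_toMatrix b, show LinearMap.toMatrix b b f = Matrix.diagonal μ by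
      ext i j
      by_cases hij : i = j
      · subst hij
        simp [LinearMap.toMatrix_apply, (h i).1]
      · simp [LinearMap.toMatrix_apply, (h j).1, hij],
      Matrix.det_diagonal]
    have hp : ∀ i, μ i = (if μ i = 1 then (1 : ℂ) else 1) * (if μ i = -1 then -1 else 1) *
        (if μ i = Complex.I then Complex.I else 1) * (if μ i = -Complex.I then -Complex.I else 1) := fun i => by
      rcases hμ i with e | e | e | e <;> rw [e] <;>
        simp [hI.1, hI.2.1, hI.2.2.1, hI.2.2.2.1, hI.2.2.2.2, hI.1.symm, hI.2.1.symm, hI.2.2.1.symm,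
          hI.2.2.2.1.symm, hI.2.2.2.2.symm, show (-1 : ℂ) ≠ 1 by norm_num, show (1 : ℂ) ≠ -1 by norm_num]
    rw [Finset.prod_congr rfl fun i _ => hp i]
    simp only [Finset.prod_mul_distrib, ← Finset.prod_filter, Finset.prod_const, hA, one_pow, one_mul]

omit [Fintype G] in
/-- The determinant character of a representation of a group with trivial abelianisation is trivial. -/
theorem det_eq_one [IsSimpleGroup G] (hG : ¬ IsMulCommutative G) {V : Type*} [AddCommGroup V] [Module ℂ V]
    [FiniteDimensional ℂ V] (ρ : Representation ℂ G V) (g : G) : LinearMap.det (ρ g) = 1 := by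
  have hperf : commutator G = ⊤ := by
    rcases (inferInstance : (commutator G).Normal).eq_bot_or_eq_top with hb | hb
    · exact absurd ⟨⟨fun a b => commutatorElement_eq_one_iff_mul_comm.mp (Subgroup.mem_bot.mp
        (hb ▸ Subgroup.commutator_mem_commutator (Subgroup.mem_top a) (Subgroup.mem_top b)))⟩⟩ hG
    · exact hb
  have hdet : CfsgLib.CharDeep.DetExt.detHom ρ g = 1 :=
    MonoidHom.mem_ker.mp (Abelianization.commutator_subset_ker (CfsgLib.CharDeep.DetExt.detHom ρ)
      (hperf ▸ Subgroup.mem_top g))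
  have := congrArg Units.val hdet
  rwa [CfsgLib.CharDeep.DetExt.coe_detHom] at this

end CfsgLib.KGroups.M12Tools
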