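import Cfsg.Agent.Lib.KGroups.M22Eleven

/-!
# The principal 11-block of a simple group of order 443520

The signed degrees, rationality, the class product sums at an element of order 11, and the column conditions at
an involution.
-/

set_option autoImplicit false

namespace CfsgLib.KGroups.M22Block

open Cfsg CfsgLib.Blocks CfsgLib.KGroups.M11Tools CfsgLib.KGroups.M12Tools CfsgLib.KGroups.M12Local
  CfsgLib.KGroups.M22Tools CfsgLib.KGroups.M22Frame CfsgLib.KGroups.M22Check CfsgLib.KGroups.M22Eleven Subgroup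
open CfsgLib.SmallGroups
open scoped Classical

/-- The principal 11-block with a self-centralising Sylow subgroup. -/
structure Data (G : Type*) [Group G] [Fintype G] [Fact (Nat.Prime 11)] where
  P : Sylow 11 G
  F : Frame 11 5 P
  hP : Nat.card (P : Subgroup G) = 11
  hC : Nat.card (centralizer ((P : Subgroup G) : Set G)) = 11
  hN : Nat.card (normalizer ((P : Subgroup G) : Set G)) = 55

variable {G : Type*} [Group G] [Fintype G] [IsSimpleGroup G] (hG : Nat.card G = 443520) [Fact (Nat.Prime 11)]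

include hG in
theorem exists_data : Nonempty (Data G) := by
  obtain ⟨P⟩ : Nonempty (Sylow 11 G) := inferInstance
  obtain ⟨hN, hC⟩ := normalizer_eleven hG P
  obtain ⟨F, -⟩ := exists_frame_section (e := 5) (by norm_num) P (card_sylow_eleven hG P) (by rw [hN, hC])
  exact ⟨⟨P, F, card_sylow_eleven hG P, hC, hN⟩⟩

theorem int_quo {χ : IrrCharacter G} (hG : Nat.card G = 443520) :
    (((443520 / charDegree (χ : G → ℂ) : ℕ) : ℕ) : ℂ) = 443520 / (charDegree (χ : G → ℂ) : ℂ) := by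
  rw [Nat.cast_div (hG ▸ charDegree_dvd χ) (Nat.cast_ne_zero.mpr (charDegree_pos χ).ne')]
  norm_num

include hG in
theorem index_eq (g : G) :
    (centralizer ({g} : Set G)).index = 443520 / Nat.card (centralizer ({g} : Set G)) := by
  have h := (centralizer ({g} : Set G)).index_mul_card
  rw [hG] at h
  exact (Nat.div_eq_of_eq_mul_left Nat.card_pos h.symm).symm

namespace Data

variable (D : Data G)

/-- The signed degree. -/
noncomputable def sd (χ : IrrCharacter G) : ℤ := D.F.sgn χ * (charDegree (χ : G → ℂ) : ℤ)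

theorem triv_memX : trivChar G ∈ D.F.X := D.F.triv_mem (by norm_num) (by norm_num) (by norm_num)

theorem card_centralizer_x : Nat.card (centralizer ({D.F.x} : Set G)) = 11 := by
  rw [← centralizer_closure, ← zpowers_eq_closure, D.F.hzp, D.hC]

theorem natAbs_sd {χ : IrrCharacter G} (h : χ ∈ D.F.X) : (D.sd χ).natAbs = charDegree (χ : G → ℂ) := by
  rcases D.F.hsgn χ h with e | e <;> simp [sd, e]

theorem sg_sd {χ : IrrCharacter G} (h : χ ∈ D.F.X) : sg (D.sd χ) = D.F.sgn χ := by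
  have hp := charDegree_pos χ
  rcases D.F.hsgn χ h with e | e <;> simp only [sg, sd, e] <;> split_ifs <;> omega

include hG in
theorem sd_mem {χ : IrrCharacter G} (h : χ ∈ D.F.X') : D.sd χ ∈ sdegs :=
  signed_degree_mem hG (D.F.mem_X h).2 (D.F.hsgn χ (D.F.mem_X h).1) (D.F.hmod χ (D.F.mem_X h).1)

include hG in
theorem theta_ne_triv {θ : IrrCharacter G} (hθ : θ ∈ D.F.Y) : θ ≠ trivChar G :=
  fun h => Finset.disjoint_left.mp D.F.hdisj D.triv_memX (h ▸ hθ)

include hG in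
theorem rest_dvd {χ : IrrCharacter G} (hX : χ ∉ D.F.X) (hY : χ ∉ D.F.Y) : 11 ∣ charDegree (χ : G → ℂ) :=
  M22Tools.rest_dvd D.F (by norm_num) (by norm_num) D.hP D.hC hX hY

include hG in
theorem vanish_rest {χ : IrrCharacter G} (hX : χ ∉ D.F.X) (hY : χ ∉ D.F.Y) {g : G} (hg : 11 ∣ orderOf g) :
    (χ : G → ℂ) g = 0 :=
  vanish χ (show Nat.Prime 11 by norm_num) (n := 1) (by rw [hG]; norm_num) (by rw [hG]; norm_num)
    (by rw [pow_one]; exact rest_dvd hG D hX hY) hg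

include hG in
/-- An element of the principal block has degree prime to 11, and conversely. -/
theorem mem_of_not_dvd {χ : IrrCharacter G} (h : ¬ 11 ∣ charDegree (χ : G → ℂ)) :
    χ = trivChar G ∨ χ ∈ D.F.X' ∨ χ ∈ D.F.Y := by
  by_cases hX : χ ∈ D.F.X
  · by_cases ht : χ = trivChar G
    · exact Or.inl ht
    · exact Or.inr (Or.inl (Finset.mem_erase.mpr ⟨ht, hX⟩))
  · exact Or.inr (Or.inr (by_contra fun hY => h (rest_dvd hG D hX hY)))

include hG in
/-- An automorphism of `ℂ` keeps `X'` and the signs. -/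
theorem galIrr_mem (σ : ℂ ≃+* ℂ) {χ : IrrCharacter G} (h : χ ∈ D.F.X') :
    DegreeTools.Rationality.galIrr σ χ ∈ D.F.X' ∧ D.F.sgn (DegreeTools.Rationality.galIrr σ χ) = D.F.sgn χ := by
  set ψ := DegreeTools.Rationality.galIrr σ χ
  have hd : charDegree (ψ : G → ℂ) = charDegree (χ : G → ℂ) := degree_galIrr σ χ
  have hm := D.F.hmod χ (D.F.mem_X h).1
  rw [Int.ModEq] at hm
  have hY : ψ ∉ D.F.Y := fun hψ => by
    have h1 := D.F.hYd ψ hψ
    rw [Int.ModEq, hd] at h1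
    rcases D.F.hεy with e | e <;> rw [e] at h1 <;> rcases D.F.hsgn χ (D.F.mem_X h).1 with e' | e' <;>
      rw [e'] at hm <;> omega
  have hX : ψ ∈ D.F.X := by
    by_contra hX
    have h1 := rest_dvd hG D hX hY
    rw [hd] at h1
    rcases D.F.hsgn χ (D.F.mem_X h).1 with e' | e' <;> rw [e'] at hm <;> omega
  refine ⟨Finset.mem_erase.mpr ⟨fun e => ?_, hX⟩, ?_⟩
  · have h1 : charDegree (χ : G → ℂ) = 1 := by rw [← hd, e]; simp [charDegree]
    exact (D.F.mem_X h).2 (BlockDegrees.eq_trivChar (not_comm hG) χ h1)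
  · have hm' := D.F.hmod ψ hX
    rw [Int.ModEq, hd] at hm'
    rcases D.F.hsgn χ (D.F.mem_X h).1 with e | e <;> rcases D.F.hsgn ψ hX with e' | e' <;>
      rw [e] at hm <;> rw [e'] at hm' <;> omega

include hG in
/-- A member of `X'` alone in its degree is rational. -/
theorem exists_int_unique {χ : IrrCharacter G} (h : χ ∈ D.F.X')
    (huniq : ∀ ψ ∈ D.F.X', charDegree (ψ : G → ℂ) = charDegree (χ : G → ℂ) → ψ = χ) (g : G) :
    ∃ n : ℤ, (χ : G → ℂ) g = n := by
  obtain ⟨n, hn⟩ := exists_int_sum {χ} (fun σ η hη => by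
    rw [Finset.mem_singleton] at hη ⊢
    subst hη
    exact huniq _ (galIrr_mem hG D σ h).1 (degree_galIrr σ _)) g
  exact ⟨n, by rw [← hn, Finset.sum_singleton]⟩

include hG in
/-- No element of order a multiple of 11 is inverted by an involution. -/
theorem not_inverted {t u : G} (ht : orderOf t = 2) (hu : orderOf u = 2) {a : G} (hat : IsConj t a) :
    ¬ IsConj u (a⁻¹ * D.F.x⁻¹) := by
  intro hb
  obtain ⟨hao, hinv⟩ := exists_inverting ht hu hat hb
  rw [inv_inv] at hinv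
  have hmem : a ∈ normalizer ((D.P : Subgroup G) : Set G) := by
    rw [← D.F.hzp]
    refine mem_normalizer_iff_map_conj_eq.mpr ?_
    rw [MonoidHom.map_zpowers]
    show zpowers (a * D.F.x * a⁻¹) = _
    rw [show a * D.F.x * a⁻¹ = (a * D.F.x⁻¹ * a⁻¹)⁻¹ by group, hinv, zpowers_inv]
  have h1 : orderOf a ∣ 55 := D.hN ▸ Subgroup.orderOf_dvd_natCard _ hmem
  rw [hao] at h1
  norm_num at h1

end Data

/-- Names for the four nontrivial members of `X`. -/
structure Quad (D : Data G) where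
  a : IrrCharacter G
  b : IrrCharacter G
  c : IrrCharacter G
  d : IrrCharacter G
  nab : a ≠ b
  nac : a ≠ c
  nad : a ≠ d
  nbc : b ≠ c
  nbd : b ≠ d
  ncd : c ≠ d
  hset : D.F.X' = {a, b, c, d}

namespace Quad

variable {D : Data G} (Q : Quad D)

theorem mem_a : Q.a ∈ D.F.X' := by simp [Q.hset]
theorem mem_b : Q.b ∈ D.F.X' := by simp [Q.hset]
theorem mem_c : Q.c ∈ D.F.X' := by simp [Q.hset]
theorem mem_d : Q.d ∈ D.F.X' := by simp [Q.hset]

/-- The signed degree of the exceptional characters. -/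
noncomputable def T : ℤ := th (D.sd Q.a) (D.sd Q.b) (D.sd Q.c) (D.sd Q.d)

theorem T_eq {θ : IrrCharacter G} (hθ : θ ∈ D.F.Y) : Q.T = D.F.εy * (charDegree (θ : G → ℂ) : ℤ) := by
  rw [D.F.rel_one D.triv_memX hθ, Q.hset, Finset.sum_insert (by simp [Q.nab, Q.nac, Q.nad]),
    Finset.sum_insert (by simp [Q.nbc, Q.nbd]), Finset.sum_pair Q.ncd, T, th]
  simp only [Data.sd]
  ring

theorem natAbs_T {θ : IrrCharacter G} (hθ : θ ∈ D.F.Y) : Q.T.natAbs = charDegree (θ : G → ℂ) := by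
  rw [Q.T_eq hθ]; rcases D.F.hεy with e | e <;> simp [e]

theorem sg_T {θ : IrrCharacter G} (hθ : θ ∈ D.F.Y) : sg Q.T = D.F.εy := by
  have := charDegree_pos θ
  rw [Q.T_eq hθ]
  rcases D.F.hεy with e | e <;> simp only [sg, e] <;> split_ifs <;> omega

include hG in
theorem valid_sd : valid (D.sd Q.a) (D.sd Q.b) (D.sd Q.c) (D.sd Q.d) = true := by
  obtain ⟨θ, hθ⟩ : D.F.Y.Nonempty := Finset.card_pos.1 (by rw [D.F.hY]; norm_num)
  have hth : th (D.sd Q.a) (D.sd Q.b) (D.sd Q.c) (D.sd Q.d) = D.F.εy * (charDegree (θ : G → ℂ) : ℤ) := Q.T_eq hθ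
  have hna : (th (D.sd Q.a) (D.sd Q.b) (D.sd Q.c) (D.sd Q.d)).natAbs = charDegree (θ : G → ℂ) := Q.natAbs_T hθ
  simp only [valid, Bool.and_eq_true, decide_eq_true_eq, hna]
  refine ⟨⟨⟨two_le_degree hG (D.theta_ne_triv hG hθ), hG ▸ charDegree_dvd θ⟩, ?_⟩, ?_⟩
  · have h1 := D.F.hYd θ hθ
    rw [Int.ModEq] at h1
    rw [hth]
    rcases D.F.hεy with e | e <;> rw [e] at h1 ⊢ <;> omega
  · have hY2 : D.F.Y.card = 2 := by rw [D.F.hY]
    have h1 : ∑ η ∈ D.F.X ∪ D.F.Y, (charDegree (η : G → ℂ) : ℤ) ^ 2 ≤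
        ∑ η : IrrCharacter G, (charDegree (η : G → ℂ) : ℤ) ^ 2 :=
      Finset.sum_le_sum_of_subset_of_nonneg (Finset.subset_univ _) fun _ _ _ => sq_nonneg _
    rw [Finset.sum_union D.F.hdisj, ← Finset.add_sum_erase _ _ D.triv_memX,
      show D.F.X.erase (trivChar G) = {Q.a, Q.b, Q.c, Q.d} from Q.hset,
      Finset.sum_insert (by simp [Q.nab, Q.nac, Q.nad]), Finset.sum_insert (by simp [Q.nbc, Q.nbd]),
      Finset.sum_pair Q.ncd,
      Finset.sum_congr rfl (g := fun _ => (charDegree (θ : G → ℂ) : ℤ) ^ 2) fun η hη => by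
        rw [D.F.deg_agree hη hθ],
      Finset.sum_const, hY2, show ∑ η : IrrCharacter G, (charDegree (η : G → ℂ) : ℤ) ^ 2 = 443520 by
        exact_mod_cast (sum_deg_sq (G := G)).trans hG,
      show charDegree ((trivChar G : IrrCharacter G) : G → ℂ) = 1 by simp [charDegree]] at h1
    simp only [nsmul_eq_mul] at h1
    push_cast at h1
    have hsq : ∀ χ ∈ D.F.X', D.sd χ * D.sd χ = (charDegree (χ : G → ℂ) : ℤ) ^ 2 := fun χ hχ => by
      rcases D.F.hsgn χ (D.F.mem_X hχ).1 with e | e <;> simp only [Data.sd, e] <;> ring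
    rw [hth, hsq _ Q.mem_a, hsq _ Q.mem_b, hsq _ Q.mem_c, hsq _ Q.mem_d,
      show D.F.εy * (charDegree (θ : G → ℂ) : ℤ) * (D.F.εy * (charDegree (θ : G → ℂ) : ℤ)) =
        (charDegree (θ : G → ℂ) : ℤ) ^ 2 by rcases D.F.hεy with e | e <;> rw [e] <;> ring]
    linarith

/-- The members take the values `u`, `v`, `w`, `x` at `g`. -/
def Vals (g : G) (u v w x : ℤ) : Prop :=
  (Q.a : G → ℂ) g = u ∧ (Q.b : G → ℂ) g = v ∧ (Q.c : G → ℂ) g = w ∧ (Q.d : G → ℂ) g = x

/-- The value of the exceptional characters. -/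
noncomputable def tv (u v w x : ℤ) : ℤ := tval (D.sd Q.a) (D.sd Q.b) (D.sd Q.c) (D.sd Q.d) u v w x

variable {g : G} {u v w x : ℤ}

theorem theta_val (h : Q.Vals g u v w x) (hg : ¬ 11 ∣ orderOf g) {θ : IrrCharacter G} (hθ : θ ∈ D.F.Y) :
    (θ : G → ℂ) g = (Q.tv u v w x : ℂ) := by
  obtain ⟨ha, hb, hc, hd⟩ := h
  have hrel := D.F.rel_split D.triv_memX hθ g hg
  rw [Q.hset, Finset.sum_insert (by simp [Q.nab, Q.nac, Q.nad]), Finset.sum_insert (by simp [Q.nbc, Q.nbd]),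
    Finset.sum_pair Q.ncd, ha, hb, hc, hd] at hrel
  rw [tv, tval, D.sg_sd (D.F.mem_X Q.mem_a).1, D.sg_sd (D.F.mem_X Q.mem_b).1, D.sg_sd (D.F.mem_X Q.mem_c).1,
    D.sg_sd (D.F.mem_X Q.mem_d).1, show sg (th (D.sd Q.a) (D.sd Q.b) (D.sd Q.c) (D.sd Q.d)) = D.F.εy from Q.sg_T hθ]
  rcases D.F.hεy with e | e <;> rw [e] at hrel ⊢ <;> push_cast at hrel ⊢
  · linear_combination hrel
  · linear_combination -hrel

/-- The column bound, with room for further characters. -/
theorem col_le (h : Q.Vals g u v w x) (hg : ¬ 11 ∣ orderOf g) (S : Finset (IrrCharacter G))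
    (hS : Disjoint S (D.F.X ∪ D.F.Y)) :
    ((1 + u * u + v * v + w * w + x * x + 2 * (Q.tv u v w x * Q.tv u v w x) : ℤ) : ℝ) +
      ∑ χ ∈ S, ‖(χ : G → ℂ) g‖ ^ 2 ≤ (Nat.card (centralizer ({g} : Set G)) : ℝ) := by
  rw [← sum_norm_sq_column g]
  refine le_trans (le_of_eq ?_)
    (Finset.sum_le_sum_of_subset_of_nonneg (Finset.subset_univ ((D.F.X ∪ D.F.Y) ∪ S)) fun _ _ _ => sq_nonneg _)
  rw [Finset.sum_union hS.symm, Finset.sum_union D.F.hdisj, ← Finset.add_sum_erase _ _ D.triv_memX,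
    show D.F.X.erase (trivChar G) = {Q.a, Q.b, Q.c, Q.d} from Q.hset,
    Finset.sum_insert (by simp [Q.nab, Q.nac, Q.nad]), Finset.sum_insert (by simp [Q.nbc, Q.nbd]),
    Finset.sum_pair Q.ncd, h.1, h.2.1, h.2.2.1, h.2.2.2,
    Finset.sum_congr (s₁ := D.F.Y) rfl (g := fun _ => ‖((Q.tv u v w x : ℤ) : ℂ)‖ ^ 2) fun η hη => by
      rw [Q.theta_val h hg hη],
    Finset.sum_const, D.F.hY, trivChar_apply]
  simp only [Complex.norm_intCast, sq_abs, norm_one, one_pow, nsmul_eq_mul]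
  push_cast
  ring

theorem col_le_int (h : Q.Vals g u v w x) (hg : ¬ 11 ∣ orderOf g) :
    1 + u * u + v * v + w * w + x * x + 2 * (Q.tv u v w x * Q.tv u v w x) ≤
      (Nat.card (centralizer ({g} : Set G)) : ℤ) := by
  have h1 := Q.col_le h hg ∅ (Finset.disjoint_empty_left _)
  rw [Finset.sum_empty, add_zero] at h1
  exact_mod_cast h1

/-- The class product sum at an element of order 11, times the group order. -/
noncomputable def pv (u v w x u' v' w' x' : ℤ) : ℤ :=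
  pairVal (D.sd Q.a) (D.sd Q.b) (D.sd Q.c) (D.sd Q.d) (u, v, w, x, Q.tv u v w x) (u', v', w', x', Q.tv u' v' w' x')

variable {g' : G} {u' v' w' x' : ℤ}

include hG in
theorem pairs (h : Q.Vals g u v w x) (h' : Q.Vals g' u' v' w' x') (hg : ¬ 11 ∣ orderOf g)
    (hg' : ¬ 11 ∣ orderOf g') :
    ((centralizer ({g} : Set G)).index : ℤ) * ((centralizer ({g'} : Set G)).index : ℤ) * Q.pv u v w x u' v' w' x' =
      443520 * 443520 * (Nat.card {a : G // IsConj g a ∧ IsConj g' (a⁻¹ * D.F.x⁻¹)} : ℤ) := by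
  obtain ⟨θ, hθ⟩ : D.F.Y.Nonempty := Finset.card_pos.1 (by rw [D.F.hY]; norm_num)
  have hcount := card_pairs_eq g g' D.F.x⁻¹
  rw [inv_inv, hG] at hcount
  have hsplit := sum_split D.F hg hg' hθ (i := 1) (by norm_num) (s := 1) (Commute.one_right _)
    (by rw [orderOf_one]; norm_num)
  rw [pow_one, mul_one] at hsplit
  rw [Finset.sum_eq_zero (s := Finset.univ \ (D.F.X ∪ D.F.Y)) fun χ hχ => by
    rw [Finset.mem_sdiff, Finset.mem_union, not_or] at hχ
    rw [D.vanish_rest hG hχ.2.1 hχ.2.2 (g := D.F.x) (by rw [D.F.hx]), mul_zero], add_zero] at hsplit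
  rw [hsplit, blockSum, ← Finset.add_sum_erase _ _ D.triv_memX,
    show D.F.X.erase (trivChar G) = {Q.a, Q.b, Q.c, Q.d} from Q.hset,
    Finset.sum_insert (by simp [Q.nab, Q.nac, Q.nad]), Finset.sum_insert (by simp [Q.nbc, Q.nbd]),
    Finset.sum_pair Q.ncd, D.F.sgn_triv D.triv_memX, h.1, h.2.1, h.2.2.1, h.2.2.2, h'.1, h'.2.1, h'.2.2.1,
    h'.2.2.2, Q.theta_val h hg hθ, Q.theta_val h' hg' hθ] at hcount
  simp only [trivChar_apply, irr_one_eq] at hcount
  apply Int.cast_injective (α := ℂ)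
  simp only [pv, pairVal, quo, D.sg_sd (D.F.mem_X Q.mem_a).1, D.sg_sd (D.F.mem_X Q.mem_b).1,
    D.sg_sd (D.F.mem_X Q.mem_c).1, D.sg_sd (D.F.mem_X Q.mem_d).1, D.natAbs_sd (D.F.mem_X Q.mem_a).1,
    D.natAbs_sd (D.F.mem_X Q.mem_b).1, D.natAbs_sd (D.F.mem_X Q.mem_c).1, D.natAbs_sd (D.F.mem_X Q.mem_d).1,
    show sg (th (D.sd Q.a) (D.sd Q.b) (D.sd Q.c) (D.sd Q.d)) = D.F.εy from Q.sg_T hθ,
    show (th (D.sd Q.a) (D.sd Q.b) (D.sd Q.c) (D.sd Q.d)).natAbs = charDegree (θ : G → ℂ) from Q.natAbs_T hθ,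
    Int.cast_add, Int.cast_sub, Int.cast_mul, Int.cast_natCast, Int.cast_ofNat, int_quo hG]
  push_cast at hcount
  linear_combination (443520 : ℂ) * hcount

include hG in
theorem pairs_nonneg (h : Q.Vals g u v w x) (h' : Q.Vals g' u' v' w' x') (hg : ¬ 11 ∣ orderOf g)
    (hg' : ¬ 11 ∣ orderOf g') :
    0 ≤ Q.pv u v w x u' v' w' x' ∧
      ((centralizer ({g} : Set G)).index : ℤ) * ((centralizer ({g'} : Set G)).index : ℤ) *
        Q.pv u v w x u' v' w' x' % (443520 * 443520) = 0 := by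
  have h1 := Q.pairs hG h h' hg hg'
  refine ⟨nonneg_of_mul_nonneg_right (a := ((centralizer ({g} : Set G)).index : ℤ) *
    ((centralizer ({g'} : Set G)).index : ℤ)) ?_ ?_, by rw [h1]; exact Int.mul_emod_right _ _⟩
  · rw [h1]; positivity
  · have : (centralizer ({g} : Set G)).index ≠ 0 := index_ne_zero_of_finite
    have : (centralizer ({g'} : Set G)).index ≠ 0 := index_ne_zero_of_finite
    positivity

include hG in
/-- Two involutions never multiply to an element of order 11. -/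
theorem pairs_invol (hg : orderOf g = 2) (hg' : orderOf g' = 2) (h : Q.Vals g u v w x)
    (h' : Q.Vals g' u' v' w' x') : Q.pv u v w x u' v' w' x' = 0 := by
  have h1 := Q.pairs hG h h' (by rw [hg]; norm_num) (by rw [hg']; norm_num)
  rw [@Nat.card_of_isEmpty _ ⟨fun a => D.not_inverted hG hg hg' a.2.1 a.2.2⟩, Nat.cast_zero, mul_zero,
    mul_eq_zero] at h1
  refine h1.resolve_left (mul_ne_zero ?_ ?_) <;> exact_mod_cast index_ne_zero_of_finite

include hG in
/-- The values at an involution. -/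
theorem exists_vals_two (hg : orderOf g = 2) : ∃ u v w x : ℤ, Q.Vals g u v w x := by
  obtain ⟨u, hu⟩ := exists_int_two Q.a hg
  obtain ⟨v, hv⟩ := exists_int_two Q.b hg
  obtain ⟨w, hw⟩ := exists_int_two Q.c hg
  obtain ⟨x, hx⟩ := exists_int_two Q.d hg
  exact ⟨u, v, w, x, hu, hv, hw, hx⟩

include hG in
theorem mem_adm (hg : orderOf g = 2) {χ : IrrCharacter G} (hχ : χ ∈ D.F.X') {k : ℤ}
    (hk : (χ : G → ℂ) g = k) {m : ℕ} (hm : Nat.card (centralizer ({g} : Set G)) < (m + 1) * (m + 1))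
    (hsq : k * k ≤ (Nat.card (centralizer ({g} : Set G)) : ℤ)) :
    k ∈ adm (Nat.card (centralizer ({g} : Set G))) m (D.sd χ).natAbs := by
  have hna := not_comm hG
  rw [D.natAbs_sd (D.F.mem_X hχ).1]
  have hlt := ValueTools.lt_degree hna (D.F.mem_X hχ).2
    (fun h => by rw [h, orderOf_one] at hg; omega) hk
  have h4 := ValueTools.mod_four hna χ hg hk
  have hkm : k.natAbs ≤ m := by
    by_contra hc
    have h1 : (m + 1) * (m + 1) ≤ k.natAbs * k.natAbs := Nat.mul_le_mul (by omega) (by omega)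
    have h2 : ((k.natAbs * k.natAbs : ℕ) : ℤ) = k * k := by
      push_cast; rw [← Int.natCast_natAbs, Int.natAbs_mul_self']
    omega
  simp only [adm, List.mem_filter, List.mem_map, List.mem_range, Bool.and_eq_true, decide_eq_true_eq]
  refine ⟨⟨((k - ((charDegree (χ : G → ℂ) % 4 : ℕ) : ℤ)) / 4 + ((m / 4 + 1 : ℕ) : ℤ)).toNat, by omega, by omega⟩,
    ⟨⟨by omega, by omega⟩, hsq⟩, ?_⟩
  have h := degree_dvd_index_mul χ g hk
  rw [index_eq hG] at h
  exact h

include hG in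
/-- The admissible values and the conditions at an involution. -/
theorem inv_column (hg : orderOf g = 2) (h : Q.Vals g u v w x) {m : ℕ}
    (hm : Nat.card (centralizer ({g} : Set G)) < (m + 1) * (m + 1)) :
    u ∈ adm (Nat.card (centralizer ({g} : Set G))) m (D.sd Q.a).natAbs ∧
      v ∈ adm (Nat.card (centralizer ({g} : Set G))) m (D.sd Q.b).natAbs ∧
      w ∈ adm (Nat.card (centralizer ({g} : Set G))) m (D.sd Q.c).natAbs ∧
      x ∈ adm (Nat.card (centralizer ({g} : Set G))) m (D.sd Q.d).natAbs ∧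
      tCond (Nat.card (centralizer ({g} : Set G))) (D.sd Q.a) (D.sd Q.b) (D.sd Q.c) (D.sd Q.d) u v w x = true := by
  obtain ⟨θ, hθ⟩ : D.F.Y.Nonempty := Finset.card_pos.1 (by rw [D.F.hY]; norm_num)
  have hg11 : ¬ 11 ∣ orderOf g := by rw [hg]; norm_num
  have hcol := Q.col_le_int h hg11
  have hθv := Q.theta_val h hg11 hθ
  have hna := not_comm hG
  have hg1 : g ≠ 1 := fun e => by rw [e, orderOf_one] at hg; omega
  refine ⟨mem_adm hG hg Q.mem_a h.1 hm (by nlinarith), mem_adm hG hg Q.mem_b h.2.1 hm (by nlinarith),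
    mem_adm hG hg Q.mem_c h.2.2.1 hm (by nlinarith), mem_adm hG hg Q.mem_d h.2.2.2 hm (by nlinarith), ?_⟩
  simp only [tCond, Bool.and_eq_true, decide_eq_true_eq]
  rw [show (th (D.sd Q.a) (D.sd Q.b) (D.sd Q.c) (D.sd Q.d)).natAbs = charDegree (θ : G → ℂ) from Q.natAbs_T hθ]
  refine ⟨⟨⟨⟨ValueTools.mod_four hna θ hg hθv, ValueTools.lt_degree hna (D.theta_ne_triv hG hθ) hg1 hθv⟩, hcol⟩,
    ?_⟩, Q.pairs_invol hG hg hg h h⟩
  have h1 := degree_dvd_index_mul θ g hθv
  rw [index_eq hG] at h1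
  exact h1

include hG in
theorem mem_tSols (hg : orderOf g = 2) (h : Q.Vals g u v w x) {m : ℕ}
    (hm : Nat.card (centralizer ({g} : Set G)) < (m + 1) * (m + 1)) :
    (u, v, w, x) ∈ tSols (Nat.card (centralizer ({g} : Set G))) m (D.sd Q.a) (D.sd Q.b) (D.sd Q.c) (D.sd Q.d) := by
  obtain ⟨ha, hb, hc, hd, ht⟩ := Q.inv_column hG hg h hm
  simp only [tSols, List.mem_flatMap, List.mem_map, List.mem_filter]
  exact ⟨u, ha, v, hb, w, hc, x, ⟨hd, ht⟩, rfl⟩

end Quad

variable (D : Data G)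

theorem exists_quad : ∃ Q : Quad D, D.sd Q.a ≤ D.sd Q.b ∧ D.sd Q.b ≤ D.sd Q.c ∧ D.sd Q.c ≤ D.sd Q.d := by
  obtain ⟨a, b, c, d, nab, nac, nad, nbc, nbd, ncd, hset, h⟩ :=
    exists_sorted (show D.F.X'.card = 4 by have := D.F.card_X' D.triv_memX; omega) D.sd
  exact ⟨⟨a, b, c, d, nab, nac, nad, nbc, nbd, ncd, hset⟩, h⟩

include hG in
theorem exists_block : ∃ Q : Quad D, (D.sd Q.a, D.sd Q.b, D.sd Q.c, D.sd Q.d) ∈ blocks := by
  obtain ⟨Q, hab, hbc, hcd⟩ := exists_quad D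
  exact ⟨Q, mem_blocks (D.sd_mem hG Q.mem_a) (D.sd_mem hG Q.mem_b) (D.sd_mem hG Q.mem_c) (D.sd_mem hG Q.mem_d)
    hab hbc hcd (Q.valid_sd hG)⟩

end CfsgLib.KGroups.M22Block
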