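import Mathlib

/-!
# Finite searches for the principal 11-block of a simple group of order 443520

A signed degree is the degree times the sign of the value on an element of order 11.
-/

set_option autoImplicit false

namespace CfsgLib.KGroups.M22Check

/-- The possible signed degrees. -/
def sdegs : List ℤ := [12, 45, 56, 144, 210, 320, -10, -21, -32, -120, -252, -384, -560]

/-- The sign of a signed degree. -/
def sg (a : ℤ) : ℤ := if a < 0 then -1 else 1

/-- The group order divided by a degree. -/
def quo (a : ℤ) : ℤ := ((443520 / a.natAbs : ℕ) : ℤ)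

/-- The signed degree of the exceptional characters. -/
def th (a b c d : ℤ) : ℤ := 1 + a + b + c + d

/-- The value of the exceptional characters given by the relation. -/
def tval (a b c d u v w x : ℤ) : ℤ :=
  sg (th a b c d) * (1 + sg a * u + sg b * v + sg c * w + sg d * x)

/-- The arithmetic conditions on the block. -/
def valid (a b c d : ℤ) : Bool :=
  decide (2 ≤ (th a b c d).natAbs) && decide ((th a b c d).natAbs ∣ 443520) && decide (th a b c d % 11 = 5) &&
    decide (1 + a * a + b * b + c * c + d * d + 2 * (th a b c d * th a b c d) ≤ 443520)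

/-- The sorted quadruples satisfying them. -/
def blocks : List (ℤ × ℤ × ℤ × ℤ) :=
  sdegs.flatMap fun a => (sdegs.filter fun b => decide (a ≤ b)).flatMap fun b =>
    (sdegs.filter fun c => decide (b ≤ c)).flatMap fun c =>
      ((sdegs.filter fun d => decide (c ≤ d)).filter fun d => valid a b c d).map fun d => (a, b, c, d)

theorem mem_blocks {a b c d : ℤ} (ha : a ∈ sdegs) (hb : b ∈ sdegs) (hc : c ∈ sdegs) (hd : d ∈ sdegs)
    (hab : a ≤ b) (hbc : b ≤ c) (hcd : c ≤ d) (h : valid a b c d = true) : (a, b, c, d) ∈ blocks := by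
  simp only [blocks, List.mem_flatMap, List.mem_map, List.mem_filter, decide_eq_true_eq]
  exact ⟨a, ha, b, ⟨hb, hab⟩, c, ⟨hc, hbc⟩, d, ⟨⟨hd, hcd⟩, h⟩, rfl⟩

/-- The class equation for two classes and an element of order 11, times the group order. -/
def pairVal (a b c d : ℤ) (p q : ℤ × ℤ × ℤ × ℤ × ℤ) : ℤ :=
  443520 + sg a * quo a * (p.1 * q.1) + sg b * quo b * (p.2.1 * q.2.1) + sg c * quo c * (p.2.2.1 * q.2.2.1) +
    sg d * quo d * (p.2.2.2.1 * q.2.2.2.1) -
      sg (th a b c d) * quo (th a b c d) * (p.2.2.2.2 * q.2.2.2.2)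

/-- The candidate values at an involution: `m` bounds the square root of the centraliser order `C`. -/
def adm (C m d : ℕ) : List ℤ :=
  ((List.range (m / 2 + 2)).map fun (i : ℕ) =>
      ((d % 4 : ℕ) : ℤ) + 4 * ((i : ℤ) - ((m / 4 + 1 : ℕ) : ℤ))).filter fun v =>
    decide (-(d : ℤ) < v) && decide (v < (d : ℤ)) && decide (v * v ≤ (C : ℤ)) &&
      decide ((d : ℤ) ∣ ((443520 / C : ℕ) : ℤ) * v)

/-- The conditions at an involution. -/
def tCond (C : ℕ) (a b c d u v w x : ℤ) : Bool :=
  let t := tval a b c d u v w x
  decide ((t - (th a b c d).natAbs) % 4 = 0) && decide (t.natAbs < (th a b c d).natAbs) &&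
    decide (1 + u * u + v * v + w * w + x * x + 2 * (t * t) ≤ (C : ℤ)) &&
      decide (((th a b c d).natAbs : ℤ) ∣ ((443520 / C : ℕ) : ℤ) * t) &&
        decide (pairVal a b c d (u, v, w, x, t) (u, v, w, x, t) = 0)

/-- The values at an involution with centraliser order `C`. -/
def tSols (C m : ℕ) (a b c d : ℤ) : List (ℤ × ℤ × ℤ × ℤ) :=
  (adm C m a.natAbs).flatMap fun u => (adm C m b.natAbs).flatMap fun v => (adm C m c.natAbs).flatMap fun w =>
    ((adm C m d.natAbs).filter fun x => tCond C a b c d u v w x).map fun x => (u, v, w, x)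

/-- The centraliser orders of a central involution, with square roots. -/
def centralCs : List (ℕ × ℕ) :=
  [(128, 11), (384, 19), (640, 25), (896, 29), (1152, 33), (1920, 43), (2688, 51), (4480, 66), (5760, 75),
    (8064, 89), (13440, 115), (40320, 200)]

/-- A central involution has some column. -/
def tLive (a b c d : ℤ) : Bool := centralCs.any fun C => !(tSols C.1 C.2 a b c d).isEmpty

/-! ## The normaliser of a subgroup of order 11 -/

/-- The values congruent to the degree modulo 44 strictly between minus the degree and the degree. -/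
def low (d : ℕ) : List ℤ :=
  ((List.range ((2 * d - 1) / 44)).map fun (i : ℕ) => (d : ℤ) - 44 * ((i : ℤ) + 1))

/-- No column at an involution commuting with an element of order 11. -/
def lowKill (q : ℤ × ℤ × ℤ × ℤ) : Bool :=
  let (a, b, c, d) := q
  decide (a.natAbs < 22 ∨ b.natAbs < 22 ∨ c.natAbs < 22 ∨ d.natAbs < 22) ||
    ((low a.natAbs).all fun u => (low b.natAbs).all fun v => (low c.natAbs).all fun w => (low d.natAbs).all fun x =>
      let t := tval a b c d u v w x
      !(decide (t.natAbs < (th a b c d).natAbs) && decide ((t - (th a b c d).natAbs) % 4 = 0) &&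
        decide (pairVal a b c d (u, v, w, x, t) (u, v, w, x, t) = 0)) ||
      ((List.range 1681).all fun k =>
        !(decide (k ∣ 20160) && decide ((a.natAbs : ℤ) ∣ ((20160 / k : ℕ) : ℤ) * u) &&
          decide ((b.natAbs : ℤ) ∣ ((20160 / k : ℕ) : ℤ) * v) && decide ((c.natAbs : ℤ) ∣ ((20160 / k : ℕ) : ℤ) * w) &&
          decide ((d.natAbs : ℤ) ∣ ((20160 / k : ℕ) : ℤ) * x) &&
          decide (((th a b c d).natAbs : ℤ) ∣ ((20160 / k : ℕ) : ℤ) * t) &&
          decide (1 + u * u + v * v + w * w + x * x + 2 * (t * t) ≤ ((22 * k : ℕ) : ℤ)))))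

theorem low_kill : blocks.all lowKill = true := by decide +kernel

/-- The signed degrees of at least 22. -/
def bigDegs : List ℤ := [45, 56, 144, 210, 320, -32, -120, -252, -384, -560]

/-- A nondecreasing list of `n` signed degrees from `lo` with sum `s` and squares adding up to at most `q`. -/
def canSum : ℕ → ℤ → ℤ → ℤ → Bool
  | 0, _, s, _ => decide (s = 0)
  | n + 1, lo, s, q => bigDegs.any fun v => decide (lo ≤ v) && decide (v * v ≤ q) && canSum n v (s - v) (q - v * v)

theorem ten_kill : canSum 9 (-600) (-1) 443519 = false := by decide +kernel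

end CfsgLib.KGroups.M22Check
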