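import Cfsg.Agent.Lib.KGroups.M22CheckFive

/-!
# Searches for the column at a central involution, group order 443520
-/

set_option autoImplicit false

namespace CfsgLib.KGroups.M22Check

/-- The character degrees with a member of degree 99 in the principal 7-block. -/
def degsP : List ℤ := [1, 21, 45, 45, 55, 99, 154, 210, 231, 280, 280, 385]

/-- The character degrees with a member of degree 120 in the principal 7-block. -/
def degsS : List ℤ := [1, 120, 21, 210, 210, 280, 280, 55, 66, 66, 154, 385]

/-- The columns with a member of degree 99. -/
def colsP (C m : ℕ) : List (List ℤ) :=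
  (adm C m 45).flatMap fun a => (adm C m 21).flatMap fun u =>
    ((adm C m 210).filter fun w => let s := 1 - u + 2 * a + w
      decide (443520 + 2 * quo 45 * (a * a) - quo 21 * (u * u) + quo 210 * (w * w) - quo 280 * (s * s) = 0)).flatMap
    fun w => ((adm C m 99).filter fun p => let t := 1 + p - a
      decide (443520 - quo 55 * (t * t) + quo 99 * (p * p) - quo 45 * (a * a) = 0)).flatMap fun p =>
        (adm C m 231).filterMap fun r =>
          let s := 1 - u + 2 * a + w
          let t := 1 + p - a
          let f := 1 + u + r - p
          let S := 1 + 21 * u + 90 * a + 55 * t + 99 * p + 154 * f + 210 * w + 231 * r + 560 * s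
          let z := -(S / 385)
          if decide (S % 385 = 0) &&
              decide (1 + u * u + 2 * (a * a) + t * t + p * p + f * f + w * w + r * r + 2 * (s * s) + z * z = (C : ℤ))
          then some [1, u, a, a, t, p, f, w, r, s, s, z] else none

/-- The class product sum for three copies of the class, times the group order. -/
def cube (ds v : List ℤ) : ℤ := ((ds.zip v).map fun p => quo p.1 * (p.2 * p.2 * p.2)).sum

/-- The columns with a member of degree 120. -/
def colsS (C m : ℕ) : List (List ℤ) :=
  (adm C m 120).flatMap fun A => (adm C m 21).flatMap fun u => (adm C m 210).flatMap fun w =>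
    ((adm C m 210).filter fun w' => let s := 1 - A - u + w + w'
      decide (443520 - quo 120 * (A * A) - quo 21 * (u * u) + quo 210 * (w * w) + quo 210 * (w' * w') -
        quo 280 * (s * s) = 0)).flatMap fun w' =>
      ((adm C m 55).filter fun t => let f := 1 - t + A
        decide (443520 - quo 55 * (t * t) + quo 120 * (A * A) - quo 66 * (f * f) = 0)).filterMap fun t =>
          let s := 1 - A - u + w + w'
          let f := 1 - t + A
          let g := 1 + u + 2 * f
          let S := 1 + 120 * A + 21 * u + 210 * (w + w') + 560 * s + 55 * t + 132 * f + 154 * g
          let z := -(S / 385)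
          let v := [1, A, u, w, w', s, s, t, f, f, g, z]
          if decide (S % 385 = 0) &&
              decide (1 + A * A + u * u + w * w + w' * w' + 2 * (s * s) + t * t + 2 * (f * f) + g * g + z * z = (C : ℤ))
              && decide ((((443520 / C : ℕ) : ℤ) * ((443520 / C : ℕ) : ℤ) * cube degsS v) % (443520 * 443520) = 0)
          then some v else none

/-- A member of degree 99 leaves one column. -/
theorem cols_P : ∀ C ∈ centralCs, ∀ v ∈ colsP C.1 C.2,
    C.1 = 384 ∧ v = [1, 5, -3, -3, 7, 3, 10, 2, 7, -8, -8, 1] := by
  decide +kernel

/-- A member of degree 120 leaves no column. -/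
theorem cols_S : ∀ C ∈ centralCs, colsS C.1 C.2 = [] := by
  decide +kernel

end CfsgLib.KGroups.M22Check
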