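import Cfsg.Agent.Lib.KGroups.M22Check

/-!
# Searches for an automiser of order three on a subgroup of order 7, group order 443520
-/

set_option autoImplicit false

namespace CfsgLib.KGroups.M22Check

/-- The signed degrees in the principal 7-block. -/
def sdegs7 : List ℤ := [22, 99, 120, 176, 330, -6, -55, -132, -160, -384, -440]

/-- The arithmetic conditions on the principal 7-block. -/
def valid7 (a b : ℤ) : Bool :=
  decide (2 ≤ (1 + a + b).natAbs) && decide ((1 + a + b).natAbs ∣ 443520) && decide ((1 + a + b) % 7 = 3) &&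
    decide ((1 + a + b).natAbs % 11 ∈ ([0, 1, 5, 6, 10] : List ℕ)) &&
      decide (1 + a * a + b * b + 2 * ((1 + a + b) * (1 + a + b)) ≤ 443520)

/-- The conditions at a central involution on the principal 7-block. -/
def tCond7 (C : ℕ) (a b u v : ℤ) : Bool :=
  let s := 1 + a + b
  let t := sg s * (1 + sg a * u + sg b * v)
  decide ((t - s.natAbs) % 4 = 0) && decide (t.natAbs < s.natAbs) &&
    decide (1 + u * u + v * v + 2 * (t * t) ≤ (C : ℤ)) && decide ((s.natAbs : ℤ) ∣ ((443520 / C : ℕ) : ℤ) * t) &&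
      decide (443520 + sg a * quo a * (u * u) + sg b * quo b * (v * v) - sg s * quo s * (t * t) = 0)

/-- A central involution has some column. -/
def live7 (a b : ℤ) : Bool :=
  centralCs.any fun C => (adm C.1 C.2 a.natAbs).any fun u => (adm C.1 C.2 b.natAbs).any fun v => tCond7 C.1 a b u v

/-- The two possible principal 7-blocks. -/
theorem seven_options : ∀ a ∈ sdegs7, ∀ b ∈ sdegs7, a ≤ b → valid7 a b = true → live7 a b = true →
    (a = -55 ∧ b = 99) ∨ (a = -55 ∧ b = 120) := by decide +kernel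

/-- Twice the real part, and the coefficient of the root of -7, of a value at an element of order 7. -/
def pr (k m d : ℕ) : List (ℤ × ℤ) :=
  ((List.range (4 * m + 1)).map fun (i : ℕ) => (i : ℤ) - 2 * (m : ℤ)).flatMap fun P =>
    if decide ((P - 2 * (d : ℤ)) % 7 = 0) && decide (0 ≤ (d : ℤ) + 3 * P) && decide (P < 2 * (d : ℤ)) &&
        decide (P * P ≤ ((28 * k : ℕ) : ℤ)) && decide ((d : ℤ) ∣ ((63360 / k : ℕ) : ℤ) * P) &&
          decide (d % 7 = 0 → P = 0) then
      ((List.range (2 * m + 1)).map fun (i : ℕ) => (i : ℤ) - (m : ℤ)).filterMap fun R =>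
        if decide ((P - R) % 2 = 0) && decide ((R.natAbs : ℤ) * 7 ≤ 2 * (d : ℤ) - P) &&
            decide (P * P + 7 * (R * R) ≤ ((28 * k : ℕ) : ℤ)) && decide (d % 7 = 0 → R = 0) then some (P, R)
        else none
    else []

/-- The squared norm of twice a value. -/
def nq (p : ℤ × ℤ) : ℤ := p.1 * p.1 + 7 * (p.2 * p.2)

/-- The conditions at an element of order 7, with `e` for the characters outside the principal 11-block. -/
def prCond (k : ℕ) (e a b c d : ℤ) (p q r s : ℤ × ℤ) : Bool :=
  let T := th a b c d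
  let t : ℤ × ℤ := (sg T * (2 + sg a * p.1 + sg b * q.1 + sg c * r.1 + sg d * s.1),
    sg T * (sg a * p.2 + sg b * q.2 + sg c * r.2 + sg d * s.2))
  let Z := pairVal a b c d (p.1, q.1, r.1, s.1, t.1) (p.1, q.1, r.1, s.1, t.1) -
    7 * (pairVal a b c d (p.2, q.2, r.2, s.2, t.2) (p.2, q.2, r.2, s.2, t.2) - 443520) + 3 * 443520
  let N := pairVal a b c d (p.1, q.1, r.1, s.1, t.1) (p.1, q.1, r.1, s.1, t.1) +
    7 * (pairVal a b c d (p.2, q.2, r.2, s.2, t.2) (p.2, q.2, r.2, s.2, t.2) - 443520) + 3 * 443520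
  let J : ℤ := ((63360 / k : ℕ) : ℤ)
  decide ((t.1 - 2 * T.natAbs) % 7 = 0) && decide (T.natAbs % 7 = 0 → t.1 = 0 ∧ t.2 = 0) &&
    decide (4 + e + nq p + nq q + nq r + nq s + 2 * nq t ≤ ((28 * k : ℕ) : ℤ)) &&
      decide ((T.natAbs : ℤ) ∣ J * t.1) &&
        decide (pairVal a b c d (p.1, q.1, r.1, s.1, t.1) (p.2, q.2, r.2, s.2, t.2) = 443520) &&
          decide (0 ≤ Z) && decide ((J * J * Z) % (4 * (443520 * 443520)) = 0) &&
            decide (0 ≤ N) && decide ((J * J * N) % (4 * (443520 * 443520)) = 0)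

/-- The indices of the centraliser for an automiser of order three, with square roots. -/
def threeKs : List (ℕ × ℕ) := [(1, 2), (8, 7), (15, 10), (64, 21), (120, 28), (960, 81)]

/-- The cases with a character of degree 120 in both blocks. -/
def live120 (k : ℕ × ℕ) (p : ℤ × ℤ × ℤ) : Bool :=
  let (b, c, d) := p
  (pr k.1 k.2 b.natAbs).any fun q => decide (4 + 20 + 4 + nq q ≤ ((28 * k.1 : ℕ) : ℤ)) &&
    (pr k.1 k.2 c.natAbs).any fun r => decide (4 + 20 + 4 + nq q + nq r ≤ ((28 * k.1 : ℕ) : ℤ)) &&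
      (pr k.1 k.2 d.natAbs).any fun s => prCond k.1 20 (-120) b c d (2, 0) q r s

/-- The triples beside a character of degree 120. -/
def trip120 : List (ℤ × ℤ × ℤ) :=
  sdegs.flatMap fun b => (sdegs.filter fun c => decide (b ≤ c)).flatMap fun c =>
    ((sdegs.filter fun d => decide (c ≤ d)).filter fun d => valid (-120) b c d && tLive (-120) b c d).map
      fun d => (b, c, d)

/-- The cases with two characters of degree 45 in both blocks. -/
def live45 (k : ℕ × ℕ) (p : ℤ × ℤ) : Bool :=
  let (c, d) := p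
  (pr k.1 k.2 45).any fun q => decide (4 + 8 + nq q + nq (-2 - q.1, -q.2) ≤ ((28 * k.1 : ℕ) : ℤ)) &&
    (pr k.1 k.2 c.natAbs).any fun r =>
      decide (4 + 8 + nq q + nq (-2 - q.1, -q.2) + nq r ≤ ((28 * k.1 : ℕ) : ℤ)) &&
        (pr k.1 k.2 d.natAbs).any fun s => prCond k.1 8 45 45 c d q (-2 - q.1, -q.2) r s

/-- The pairs beside two characters of degree 45. -/
def pair45 : List (ℤ × ℤ) :=
  sdegs.flatMap fun c =>
    ((sdegs.filter fun d => decide (c ≤ d)).filter fun d => valid 45 45 c d && tLive 45 45 c d).map fun d => (c, d)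

/-- The cases left by the element of order 7, with the index of its centraliser. -/
theorem seven_120 : (trip120.flatMap fun p => (threeKs.filter fun k => live120 k p).map fun k => (k.1, p)) =
    [(1, (-21, 56, 210)), (1, (-21, 210, 210)), (1, (-21, -21, 56)), (8, (-120, 45, 210)), (1, (-252, 56, 210)),
      (1, (-252, -21, 56))] := by
  decide +kernel

theorem seven_45 : (pair45.flatMap fun p => (threeKs.filter fun k => live45 k p).map fun k => (k.1, p)) =
    [(8, (-10, 45)), (1, (-21, 56)), (8, (-21, 56)), (1, (-21, 210)), (8, (-21, 210))] := by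
  decide +kernel

end CfsgLib.KGroups.M22Check
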