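import Cfsg.Agent.Lib.KGroups.M22CheckSix
import Cfsg.Agent.Lib.KGroups.M22CheckSeven

/-!
# Searches at the elements of order 5, group order 443520
-/

set_option autoImplicit false

namespace CfsgLib.KGroups.M22Check

/-- An automiser of order three and a centraliser of order 56 are impossible for these blocks. -/
theorem eight_kill : ∀ p ∈ ([(-21, 56), (-21, 210), (-10, 45)] : List (ℤ × ℤ)), ∀ C ∈ sevenCs,
    zSols C.1 C.2 45 45 p.1 p.2 ≠ [] → (56 ∣ C.1 → C.1 / 56 % 7 ≠ 1) ∧ (168 ∣ C.1 → C.1 / 168 % 7 ≠ 1) := by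
  decide +kernel

/-- The centraliser orders of an involution commuting with an element of order 5, with square roots. -/
def fiveCs : List (ℕ × ℕ) :=
  [(10, 3), (20, 4), (30, 5), (40, 6), (60, 7), (70, 8), (80, 8), (90, 9), (120, 10), (140, 11), (160, 12),
    (180, 13), (210, 14), (240, 15), (280, 16), (320, 17), (360, 18), (420, 20), (480, 21), (560, 23), (630, 25),
    (640, 25), (720, 26), (840, 28), (960, 30), (1120, 33), (1260, 35), (1440, 37), (1680, 40), (1920, 43),
    (2240, 47), (2520, 50), (2880, 53), (3360, 57), (4480, 66), (5040, 70), (5760, 75), (6720, 81), (10080, 100),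
    (13440, 115), (20160, 141), (40320, 200)]

/-- The values at an involution commuting with an element of order 5. -/
def zFive (C m : ℕ) (a b c d : ℤ) : List (ℤ × ℤ × ℤ × ℤ) :=
  ((adm C m a.natAbs).filter fun v => decide (a.natAbs % 5 = 0 → v % 5 = 0)).flatMap fun u =>
    ((adm C m b.natAbs).filter fun v => decide (b.natAbs % 5 = 0 → v % 5 = 0)).flatMap fun v =>
      ((adm C m c.natAbs).filter fun v => decide (c.natAbs % 5 = 0 → v % 5 = 0)).flatMap fun w =>
        (((adm C m d.natAbs).filter fun v => decide (d.natAbs % 5 = 0 → v % 5 = 0)).filter fun x =>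
          tCond C a b c d u v w x &&
            decide ((th a b c d).natAbs % 5 = 0 → tval a b c d u v w x % 5 = 0)).map fun x => (u, v, w, x)

/-- No involution commutes with an element of order 5 for these blocks. -/
theorem five_kill : ∀ p ∈ ([(45, 45, -21, 56), (45, 45, -21, 210), (-120, -21, 210, 210), (-120, -120, 45, 210)] :
    List (ℤ × ℤ × ℤ × ℤ)), ∀ C ∈ fiveCs, zFive C.1 C.2 p.1 p.2.1 p.2.2.1 p.2.2.2 = [] := by
  decide +kernel

/-- The possible centraliser indices for an automiser of order four on a subgroup of order 5, with square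
roots. -/
def fourKs : List (ℕ × ℕ) :=
  [(1, 2), (6, 5), (16, 8), (21, 10), (36, 13), (56, 16), (96, 21), (126, 25), (336, 40), (2016, 100)]

/-- The candidate values at an element of order 5. -/
def fAdm (k m d : ℕ) : List ℤ :=
  ((List.range (2 * m + 1)).map fun (i : ℕ) => (i : ℤ) - (m : ℤ)).filter fun v =>
    decide ((v - (d : ℤ)) % 5 = 0) && decide (0 ≤ (d : ℤ) + 4 * v) && decide (v < (d : ℤ)) &&
      decide (v * v ≤ ((5 * k : ℕ) : ℤ)) && decide ((d : ℤ) ∣ ((88704 / k : ℕ) : ℤ) * v) &&
        decide (d % 5 = 0 → v = 0)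

/-- The conditions at an element of order 5, beside a block of degrees 1, 120, 55, 66, 66. -/
def fCond (k : ℕ) (a b c d u v w x r : ℤ) : Bool :=
  let t := tval a b c d u v w x
  let I : ℤ := ((88704 / k : ℕ) : ℤ)
  let s := 1 + u - r
  let A := pairVal a b c d (u, v, w, x, t) (u, v, w, x, t)
  let B := 443520 + quo 120 * (u * u) - quo 55 * (r * r) - quo 66 * (s * s)
  decide ((t - (th a b c d).natAbs) % 5 = 0) && decide ((th a b c d).natAbs % 5 = 0 → t = 0) &&
    decide ((s - 66) % 5 = 0) &&
      decide (1 + u * u + v * v + w * w + x * x + 2 * (t * t) + r * r + 2 * (s * s) ≤ ((5 * k : ℕ) : ℤ)) &&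
        decide (0 ≤ A) && decide ((I * I * A) % (443520 * 443520) = 0) &&
          decide (0 ≤ B) && decide ((I * I * B) % (443520 * 443520) = 0) && decide ((66 : ℤ) ∣ I * s) &&
            decide (((th a b c d).natAbs : ℤ) ∣ I * t)

/-- The three blocks with a character of degree 56 have no automiser of order four at 5. -/
theorem fifty_six : ∀ p ∈ ([(-21, 56, 210), (-21, -21, 56), (-252, 56, 210), (-252, -21, 56)] :
    List (ℤ × ℤ × ℤ)), fourKs.all (fun k =>
      (fAdm k.1 k.2 120).all fun u => (fAdm k.1 k.2 p.1.natAbs).all fun v =>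
        (fAdm k.1 k.2 p.2.1.natAbs).all fun w => (fAdm k.1 k.2 p.2.2.natAbs).all fun x =>
          (fAdm k.1 k.2 55).all fun r => !fCond k.1 (-120) p.1 p.2.1 p.2.2 u v w x r) = true := by
  decide +kernel

end CfsgLib.KGroups.M22Check
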