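import Cfsg.Agent.Lib.KGroups.M22CheckSix

/-!
# Searches for an automiser of order six on a subgroup of order 7 beside a common member of two blocks

A member of both principal blocks takes a sign at the element of order 7, and a value congruent to its degree
modulo 28 at an involution commuting with it.
-/

set_option autoImplicit false

namespace CfsgLib.KGroups.M22Check

/-- The values of a common member of the two principal blocks. -/
def common (d : ℕ) (vq vz : ℤ) : Bool :=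
  decide (vq.natAbs = 1) && decide ((vq - (d : ℤ)) % 7 = 0) && decide (((d : ℤ) - vz) % 28 = 0)

/-- The two blocks left, with the values at the involution and its centraliser orders. -/
def narrowList : List ((ℤ × ℤ × ℤ × ℤ) × ℕ × (ℤ × ℤ × ℤ × ℤ) × ℕ × (ℤ × ℤ × ℤ × ℤ)) :=
  [((-120, -21, -10, 45), 4, (1, 0, 3, 3), 448, (8, -7, 2, 9)),
    ((-120, -21, -10, 45), 4, (1, 0, 3, 3), 1344, (8, -7, 2, 9)),
    ((-120, -21, 210, 210), 4, (1, 0, 0, 0), 1344, (8, -7, -14, 14)),
    ((-120, -21, 210, 210), 4, (1, 0, 0, 0), 1344, (8, -7, 14, -14))]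

/-- The block has no common member outside the list. -/
def narrowOk (p : ℤ × ℤ × ℤ × ℤ) : Bool :=
  let (a, b, c, d) := p
  sixKs.all fun k => (qSols k.1 k.2 a b c d).all fun q =>
    !(decide (q.1.natAbs = 1) || decide (q.2.1.natAbs = 1) || decide (q.2.2.1.natAbs = 1) ||
      decide (q.2.2.2.natAbs = 1) || decide ((tval a b c d q.1 q.2.1 q.2.2.1 q.2.2.2).natAbs = 1)) ||
    (sevenCs.filter fun C => !(jList k.1 C.1).isEmpty).all fun C => (zSols C.1 C.2 a b c d).all fun z =>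
      !(common a.natAbs q.1 z.1 || common b.natAbs q.2.1 z.2.1 || common c.natAbs q.2.2.1 z.2.2.1 ||
        common d.natAbs q.2.2.2 z.2.2.2 ||
        common (th a b c d).natAbs (tval a b c d q.1 q.2.1 q.2.2.1 q.2.2.2)
          (tval a b c d z.1 z.2.1 z.2.2.1 z.2.2.2)) || decide ((p, k.1, q, C.1, z) ∈ narrowList)

theorem six_narrow : blocks.all narrowOk = true := by decide +kernel

/-- The value of the character of degree 21 at an involution beside these. -/
theorem narrow_invol : ∀ e ∈ narrowList, ∀ C ∈ evenCs,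
    ∀ u ∈ tSols C.1 C.2 e.1.1 e.1.2.1 e.1.2.2.1 e.1.2.2.2,
      pairVal e.1.1 e.1.2.1 e.1.2.2.1 e.1.2.2.2
        (u.1, u.2.1, u.2.2.1, u.2.2.2, tval e.1.1 e.1.2.1 e.1.2.2.1 e.1.2.2.2 u.1 u.2.1 u.2.2.1 u.2.2.2)
        (e.2.2.2.2.1, e.2.2.2.2.2.1, e.2.2.2.2.2.2.1, e.2.2.2.2.2.2.2,
          tval e.1.1 e.1.2.1 e.1.2.2.1 e.1.2.2.2 e.2.2.2.2.1 e.2.2.2.2.2.1 e.2.2.2.2.2.2.1 e.2.2.2.2.2.2.2) = 0 →
      u.2.1 ≤ -3 ∧ (e.1.2.2.1 = -10 → u.2.1 ≤ -7) := by decide +kernel

/-- The conditions at an element of order 4 whose square has the values of the involution. -/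
def narrowCond (p q z : ℤ × ℤ × ℤ × ℤ) (Cz C : ℕ) (u v w x : ℤ) : Bool :=
  let (a, b, c, d) := p
  let t := tval a b c d u v w x
  let tz := tval a b c d z.1 z.2.1 z.2.2.1 z.2.2.2
  let tq := tval a b c d q.1 q.2.1 q.2.2.1 q.2.2.2
  let I : ℤ := ((443520 / C : ℕ) : ℤ)
  let Iz : ℤ := ((443520 / Cz : ℕ) : ℤ)
  let Z := pairVal a b c d (z.1, z.2.1, z.2.2.1, z.2.2.2, tz) (u, v, w, x, t)
  let Q := pairVal a b c d (q.1, q.2.1, q.2.2.1, q.2.2.2, tq) (u, v, w, x, t)
  let W := pairVal a b c d (u, v, w, x, t) (u, v, w, x, t)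
  decide (((((th a b c d).natAbs : ℤ) + tz) / 2 - t) % 4 = 0) &&
    decide (1 + u * u + v * v + w * w + x * x + 2 * (t * t) ≤ (C : ℤ)) &&
      decide (((th a b c d).natAbs : ℤ) ∣ I * t) &&
        decide (0 ≤ Z) && decide ((Iz * I * Z) % (443520 * 443520) = 0) &&
          decide (0 ≤ Q) && decide ((15840 * I * Q) % (443520 * 443520) = 0) &&
            decide (0 ≤ W) && decide ((I * I * W) % (443520 * 443520) = 0)

/-- The centraliser orders of an element of order 4, with square roots. -/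
def narrowCs : List (ℕ × ℕ) :=
  [(4, 2), (8, 2), (12, 3), (16, 4), (24, 4), (28, 5), (32, 5), (48, 6), (56, 7), (64, 8), (84, 9), (96, 9),
    (112, 10), (168, 12), (192, 13), (224, 14), (336, 18), (448, 21), (672, 25), (1344, 36)]

/-- Its value on the character of degree 21. -/
theorem narrow_four : ∀ e ∈ narrowList, ∀ C ∈ narrowCs, C.1 ∣ e.2.2.2.1 →
    ((gCand C.1 C.2 e.1.1.natAbs e.2.2.2.2.1).all fun u =>
      (gCand C.1 C.2 e.1.2.1.natAbs e.2.2.2.2.2.1).all fun v =>
        (gCand C.1 C.2 e.1.2.2.1.natAbs e.2.2.2.2.2.2.1).all fun w =>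
          (gCand C.1 C.2 e.1.2.2.2.natAbs e.2.2.2.2.2.2.2).all fun x =>
            !narrowCond e.1 e.2.2.1 e.2.2.2.2 e.2.2.2.1 C.1 u v w x ||
              decide (v = -1 ∨ (v = 3 ∧ e.1.2.2.1 = -10))) = true := by
  decide +kernel

end CfsgLib.KGroups.M22Check
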