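import Cfsg.Agent.Lib.KGroups.M22Check

/-!
# Searches for an automiser of order six on a subgroup of order 7, group order 443520
-/

set_option autoImplicit false

namespace CfsgLib.KGroups.M22Check

/-! ## An automiser of order six on a subgroup of order 7 -/

/-- The candidate values at an element of order 7. -/
def qAdm (k m d : ℕ) : List ℤ :=
  ((List.range (2 * m + 1)).map fun (i : ℕ) => (i : ℤ) - (m : ℤ)).filter fun v =>
    decide ((v - (d : ℤ)) % 7 = 0) && decide (0 ≤ (d : ℤ) + 6 * v) && decide (v < (d : ℤ)) &&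
      decide (v * v ≤ ((7 * k : ℕ) : ℤ)) && decide ((d : ℤ) ∣ ((63360 / k : ℕ) : ℤ) * v) &&
        decide (d % 7 = 0 → v = 0)

/-- The conditions at an element of order 7. -/
def qCond (k : ℕ) (a b c d u v w x : ℤ) : Bool :=
  let t := tval a b c d u v w x
  let Z := pairVal a b c d (u, v, w, x, t) (u, v, w, x, t)
  decide ((t - (th a b c d).natAbs) % 7 = 0) && decide ((th a b c d).natAbs % 7 = 0 → t = 0) &&
    decide (0 ≤ ((th a b c d).natAbs : ℤ) + 6 * t) && decide (t < ((th a b c d).natAbs : ℤ)) &&
    decide (1 + u * u + v * v + w * w + x * x + 2 * (t * t) ≤ ((7 * k : ℕ) : ℤ)) &&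
      decide (((th a b c d).natAbs : ℤ) ∣ ((63360 / k : ℕ) : ℤ) * t) && decide (0 ≤ Z) &&
        decide ((((63360 / k : ℕ) : ℤ) * ((63360 / k : ℕ) : ℤ) * Z) % (443520 * 443520) = 0)

/-- The values at an element of order 7. -/
def qSols (k m : ℕ) (a b c d : ℤ) : List (ℤ × ℤ × ℤ × ℤ) :=
  (qAdm k m a.natAbs).flatMap fun u => (qAdm k m b.natAbs).flatMap fun v => (qAdm k m c.natAbs).flatMap fun w =>
    ((qAdm k m d.natAbs).filter fun x => qCond k a b c d u v w x).map fun x => (u, v, w, x)

/-- The indices of the normaliser in the centraliser of an involution allowed by Sylow. -/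
def jList (k C : ℕ) : List ℕ :=
  [1, 3, 5, 9, 15, 45].filter fun j =>
    decide (42 * k % j = 0) && decide (C % (42 * k / j) = 0) && decide (C * j / (42 * k) % 7 = 1)

/-- The centraliser orders of an involution commuting with an element of order 7, with square roots. -/
def sevenCs : List (ℕ × ℕ) :=
  [(14, 3), (28, 5), (42, 6), (56, 7), (70, 8), (84, 9), (112, 10), (126, 11), (140, 11), (168, 12), (210, 14),
    (224, 14), (252, 15), (280, 16), (336, 18), (420, 20), (448, 21), (504, 22), (560, 23), (630, 25),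
    (672, 25), (840, 28), (896, 29), (1008, 31), (1120, 33), (1260, 35), (1344, 36), (1680, 40), (2016, 44),
    (2240, 47), (2520, 50), (2688, 51), (3360, 57), (4032, 63), (4480, 66), (5040, 70), (6720, 81), (8064, 89),
    (10080, 100), (13440, 115), (20160, 141), (40320, 200)]

/-- The values at an involution commuting with an element of order 7. -/
def zSols (C m : ℕ) (a b c d : ℤ) : List (ℤ × ℤ × ℤ × ℤ) :=
  ((adm C m a.natAbs).filter fun v => decide (a.natAbs % 7 = 0 → v % 7 = 0)).flatMap fun u =>
    ((adm C m b.natAbs).filter fun v => decide (b.natAbs % 7 = 0 → v % 7 = 0)).flatMap fun v =>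
      ((adm C m c.natAbs).filter fun v => decide (c.natAbs % 7 = 0 → v % 7 = 0)).flatMap fun w =>
        (((adm C m d.natAbs).filter fun v => decide (d.natAbs % 7 = 0 → v % 7 = 0)).filter fun x =>
          tCond C a b c d u v w x &&
            decide ((th a b c d).natAbs % 7 = 0 → tval a b c d u v w x % 7 = 0)).map fun x => (u, v, w, x)

/-- The candidate values at an element of order 14 with square `q` and seventh power `z`. -/
def bAdm (m d : ℕ) (vq vz : ℤ) : List ℤ :=
  ((List.range (2 * m + 1)).map fun (i : ℕ) => (i : ℤ) - (m : ℤ)).filter fun b =>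
    decide ((b - vz) % 7 = 0) && decide ((b - vq) % 2 = 0) && decide (d % 7 = 0 → b = 0)

/-- A column at an element of order 14 exists. -/
def bLive (k m : ℕ) (a b c d : ℤ) (q z : ℤ × ℤ × ℤ × ℤ) : Bool :=
  (bAdm m a.natAbs q.1 z.1).any fun u => (bAdm m b.natAbs q.2.1 z.2.1).any fun v =>
    (bAdm m c.natAbs q.2.2.1 z.2.2.1).any fun w => (bAdm m d.natAbs q.2.2.2 z.2.2.2).any fun x =>
      let t := tval a b c d u v w x
      decide ((t - tval a b c d z.1 z.2.1 z.2.2.1 z.2.2.2) % 7 = 0) &&
        decide ((th a b c d).natAbs % 7 = 0 → t = 0) &&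
          decide (1 + u * u + v * v + w * w + x * x + 2 * (t * t) ≤ ((7 * k : ℕ) : ℤ))

/-- The possible centraliser indices for an automiser of order six, with square roots. -/
def sixKs : List (ℕ × ℕ) := [(4, 5), (32, 14), (60, 20), (480, 57)]

/-- The block admits an automiser of order six. -/
def sixLive (p : ℤ × ℤ × ℤ × ℤ) : Bool :=
  let (a, b, c, d) := p
  sixKs.any fun k => (qSols k.1 k.2 a b c d).any fun q =>
    (sevenCs.filter fun C => !(jList k.1 C.1).isEmpty).any fun C => (zSols C.1 C.2 a b c d).any fun z =>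
      (jList k.1 C.1).any fun j => decide (j ≠ 1) || bLive k.1 k.2 a b c d q z

/-- The blocks which do. -/
def sixList : List (ℤ × ℤ × ℤ × ℤ) :=
  [(-120, -120, -10, 144), (-120, -10, 12, 12), (-120, -10, 45, 144), (-120, -21, -10, 45), (-120, -21, 210, 210)]

theorem six_live : (blocks.filter sixLive).all (fun p => decide (p ∈ sixList)) = true := by decide +kernel

/-- The degree-10 character is negative at every involution commuting with the element of order 7. -/
theorem ten_neg : ∀ C ∈ sevenCs,
    (∀ z ∈ zSols C.1 C.2 (-120) (-10) 12 12, z.2.1 < 0) ∧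
      (∀ z ∈ zSols C.1 C.2 (-120) (-120) (-10) 144, z.2.2.1 < 0) := by decide +kernel

/-- The exterior square of the degree-10 character is not the one of degree 45 at the element of order 7. -/
theorem ext_seven : ∀ k ∈ sixKs, ∀ q ∈ qSols k.1 k.2 (-120) (-10) 45 144,
    2 * q.2.2.1 ≠ q.2.1 * q.2.1 - q.2.1 := by decide +kernel

/-- The exterior square of the degree-10 character is not the one of degree 45 at an involution. -/
theorem ext_two : ∀ C ∈ sevenCs, ∀ z ∈ zSols C.1 C.2 (-120) (-21) (-10) 45,
    2 * z.2.2.2 ≠ z.2.2.1 * z.2.2.1 - 10 := by decide +kernel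

/-- The only index and values for the block with two characters of degree 210. -/
theorem six_q : ∀ k ∈ sixKs, ∀ q ∈ qSols k.1 k.2 (-120) (-21) 210 210, k.1 = 4 ∧ q = (1, 0, 0, 0) := by
  decide +kernel

/-- The values at an involution commuting with the element of order 7. -/
theorem six_z : ∀ C ∈ sevenCs, ∀ z ∈ zSols C.1 C.2 (-120) (-21) 210 210,
    C.1 ∈ ([672, 896, 1344, 2688] : List ℕ) ∧ (z = (8, -7, 14, -14) ∨ z = (8, -7, -14, 14)) ∧
      (jList 4 C.1 ≠ [] → C.1 = 1344) := by decide +kernel

/-- The even divisors of 40320, with square roots. -/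
def evenCs : List (ℕ × ℕ) :=
  [(2, 1), (4, 2), (6, 2), (8, 2), (10, 3), (12, 3), (14, 3), (16, 4), (18, 4), (20, 4), (24, 4), (28, 5), (30, 5),
    (32, 5), (36, 6), (40, 6), (42, 6), (48, 6), (56, 7), (60, 7), (64, 8), (70, 8), (72, 8), (80, 8), (84, 9),
    (90, 9), (96, 9), (112, 10), (120, 10), (126, 11), (128, 11), (140, 11), (144, 12), (160, 12), (168, 12),
    (180, 13), (192, 13), (210, 14), (224, 14), (240, 15), (252, 15), (280, 16), (288, 16), (320, 17), (336, 18),
    (360, 18), (384, 19), (420, 20), (448, 21), (480, 21), (504, 22), (560, 23), (576, 24), (630, 25), (640, 25),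
    (672, 25), (720, 26), (840, 28), (896, 29), (960, 30), (1008, 31), (1120, 33), (1152, 33), (1260, 35),
    (1344, 36), (1440, 37), (1680, 40), (1920, 43), (2016, 44), (2240, 47), (2520, 50), (2688, 51), (2880, 53),
    (3360, 57), (4032, 63), (4480, 66), (5040, 70), (5760, 75), (6720, 81), (8064, 89), (10080, 100), (13440, 115),
    (20160, 141), (40320, 200)]

/-- An involution which forms no product of order 11 with `z` is negative on the degree 21. -/
theorem six_invol : ∀ C ∈ evenCs, ∀ u ∈ tSols C.1 C.2 (-120) (-21) 210 210,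
    pairVal (-120) (-21) 210 210 (u.1, u.2.1, u.2.2.1, u.2.2.2, tval (-120) (-21) 210 210 u.1 u.2.1 u.2.2.1 u.2.2.2)
      (8, -7, 14, -14, 0) = 0 → u.2.1 ≤ -3 := by decide +kernel

/-- The values at an element of order 4 whose square has the values of `z`. -/
def gCand (C m : ℕ) (d : ℕ) (z : ℤ) : List ℤ :=
  ((List.range (2 * m + 1)).map fun (i : ℕ) => (i : ℤ) - (m : ℤ)).filter fun v =>
    decide ((((d : ℤ) + z) / 2 - v) % 4 = 0) && decide (v * v ≤ (C : ℤ)) &&
      decide ((d : ℤ) ∣ ((443520 / C : ℕ) : ℤ) * v)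

/-- The conditions at such an element. -/
def gCond (C : ℕ) (u v w x : ℤ) : Bool :=
  let t := tval (-120) (-21) 210 210 u v w x
  let I : ℤ := ((443520 / C : ℕ) : ℤ)
  let Z := pairVal (-120) (-21) 210 210 (8, -7, 14, -14, 0) (u, v, w, x, t)
  let Q := pairVal (-120) (-21) 210 210 (1, 0, 0, 0, 0) (u, v, w, x, t)
  let W := pairVal (-120) (-21) 210 210 (u, v, w, x, t) (u, v, w, x, t)
  decide (t % 2 = 0) && decide (1 + u * u + v * v + w * w + x * x + 2 * (t * t) ≤ (C : ℤ)) &&
    decide ((280 : ℤ) ∣ I * t) && decide (0 ≤ Z) && decide ((330 * I * Z) % (443520 * 443520) = 0) &&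
      decide (0 ≤ Q) && decide ((15840 * I * Q) % (443520 * 443520) = 0) &&
        decide (0 ≤ W) && decide ((I * I * W) % (443520 * 443520) = 0)

/-- The centraliser orders of such an element, with square roots. -/
def fourCs : List (ℕ × ℕ) :=
  (evenCs.filter fun C => decide (C.1 % 4 = 0) && (decide (C.1 ∣ 2688) || decide (C.1 ∣ 896)))

/-- Such an element has value -1 on the degree 21. -/
theorem six_four : fourCs.all (fun C =>
    (gCand C.1 C.2 120 8).all fun u => (gCand C.1 C.2 21 (-7)).all fun v =>
      (gCand C.1 C.2 210 14).all fun w => (gCand C.1 C.2 210 (-14)).all fun x =>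
        !gCond C.1 u v w x || decide (v = -1)) = true := by decide +kernel

end CfsgLib.KGroups.M22Check
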