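import Cfsg.Agent.Lib.KGroups.M12Tools

/-!
# Three columns of the character table of a simple group of order 443520

The degrees, the column at an involution, the column at the elements of order five, and the relations of the
principal blocks for the primes 5, 7 and 11.
-/

set_option autoImplicit false

namespace CfsgLib.KGroups.M22Table

open Cfsg CfsgLib.Blocks Subgroup
open scoped Classical

/-- The degrees. -/
def degs : Fin 12 → ℕ := ![1, 21, 45, 45, 55, 99, 154, 210, 231, 280, 280, 385]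

/-- The column at an involution. -/
def tcol : Fin 12 → ℤ := ![1, 5, -3, -3, 7, 3, 10, 2, 7, -8, -8, 1]

/-- The column at an element of order five. -/
def fcol : Fin 12 → ℤ := ![1, 1, 0, 0, 0, -1, -1, 0, 1, 0, 0, 0]

theorem tcol_sq : ∑ i, tcol i * tcol i = 384 := by decide +kernel

theorem fcol_sq : ∑ i, fcol i * fcol i = 5 := by decide +kernel

theorem degs_sq : ∑ i, (degs i : ℕ) * degs i = 443520 := by decide +kernel

/-- The part of the character table found from the blocks of full defect at 5, 7 and 11. -/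
structure Table (G : Type*) [Group G] [Fintype G] where
  irr : Fin 12 ≃ IrrCharacter G
  triv : irr 0 = trivChar G
  deg : ∀ i, charDegree (irr i : G → ℂ) = degs i
  t : G
  ht : orderOf t = 2
  card_t : Nat.card (centralizer ({t} : Set G)) = 384
  inv_conj : ∀ u : G, orderOf u = 2 → IsConj t u
  t_val : ∀ i, (irr i : G → ℂ) t = (tcol i : ℂ)
  five_val : ∀ x : G, orderOf x = 5 → ∀ i, (irr i : G → ℂ) x = (fcol i : ℂ)
  card_five : ∀ x : G, orderOf x = 5 → Nat.card (centralizer ({x} : Set G)) = 5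
  card_seven : ∀ x : G, orderOf x = 7 → Nat.card (centralizer ({x} : Set G)) = 7
  card_eleven : ∀ x : G, orderOf x = 11 → Nat.card (centralizer ({x} : Set G)) = 11
  norm_five : ∀ x : G, orderOf x = 5 → Nat.card (normalizer ((zpowers x : Subgroup G) : Set G)) = 20
  norm_seven : ∀ x : G, orderOf x = 7 → Nat.card (normalizer ((zpowers x : Subgroup G) : Set G)) = 21
  norm_eleven : ∀ x : G, orderOf x = 11 → Nat.card (normalizer ((zpowers x : Subgroup G) : Set G)) = 55
  agree_seven : ∀ g : G, ¬ 7 ∣ orderOf g → (irr 2 : G → ℂ) g = (irr 3 : G → ℂ) g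
  agree_eleven : ∀ g : G, ¬ 11 ∣ orderOf g → (irr 9 : G → ℂ) g = (irr 10 : G → ℂ) g
  rel_five : ∀ g : G, ¬ 5 ∣ orderOf g →
    (irr 5 : G → ℂ) g + (irr 6 : G → ℂ) g = 1 + (irr 1 : G → ℂ) g + (irr 8 : G → ℂ) g
  rel_seven : ∀ g : G, ¬ 7 ∣ orderOf g →
    (irr 2 : G → ℂ) g = 1 - (irr 4 : G → ℂ) g + (irr 5 : G → ℂ) g
  rel_eleven : ∀ g : G, ¬ 11 ∣ orderOf g →
    (irr 9 : G → ℂ) g = 1 - (irr 1 : G → ℂ) g + (irr 2 : G → ℂ) g + (irr 3 : G → ℂ) g + (irr 7 : G → ℂ) g

namespace Table

variable {G : Type*} [Group G] [Fintype G] (T : Table G)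

theorem sum_eq {M : Type*} [AddCommMonoid M] (f : IrrCharacter G → M) :
    ∑ χ, f χ = ∑ i, f (T.irr i) :=
  (T.irr.sum_comp f).symm

include T in
theorem card_irr : Fintype.card (IrrCharacter G) = 12 := by
  rw [← Fintype.card_congr T.irr, Fintype.card_fin]

end Table

end CfsgLib.KGroups.M22Table
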