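import Cfsg.Agent.Lib.KGroups.M12Classes
import Cfsg.Agent.Lib.KGroups.M22Table

/-!
# Congruences and determinants at elements of small order

General character lemmas used for the groups of order 443520.
-/

set_option autoImplicit false

namespace CfsgLib.KGroups.M22Congr

open Cfsg CfsgLib.Blocks CfsgLib.KGroups.M11Tools CfsgLib.KGroups.M12Tools Subgroup
open scoped Classical

variable {G : Type*} [Group G] [Fintype G]

theorem sum_pow_prime {R ι : Type*} [CommRing R] {p : ℕ} (hp : p.Prime) (s : Finset ι) (f : ι → R) :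
    ∃ r : R, (∑ i ∈ s, f i) ^ p = ∑ i ∈ s, f i ^ p + (p : R) * r := by
  induction s using Finset.induction_on with
  | empty => exact ⟨0, by simp [zero_pow hp.ne_zero]⟩
  | @insert a s ha ih =>
    obtain ⟨r, hr⟩ := ih
    obtain ⟨r', hr'⟩ := exists_add_pow_prime_eq hp (f a) (∑ i ∈ s, f i)
    refine ⟨r + f a * (∑ i ∈ s, f i) * r', ?_⟩
    rw [Finset.sum_insert ha, Finset.sum_insert ha, hr', hr]
    ring

/-- An integral value is congruent to the `p`th power of itself and to the value at the `p`th power. -/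
theorem pow_dvd_sub (χ : IrrCharacter G) (g : G) {p : ℕ} (hp : p.Prime) {v w : ℤ} (hv : (χ : G → ℂ) g = v)
    (hw : (χ : G → ℂ) (g ^ p) = w) : (p : ℤ) ∣ v ^ p - w := by
  obtain ⟨μ, hμ, hval⟩ := exists_roots χ g
  have hint : ∀ a, IsIntegral ℤ (μ a) := fun a => by
    have h1 : IsIntegral ℤ ((μ a) ^ orderOf g) := by rw [hμ a]; exact isIntegral_one
    exact IsIntegral.of_pow (orderOf_pos g) h1
  obtain ⟨r, hr⟩ := sum_pow_prime hp Finset.univ fun a => (⟨μ a, hint a⟩ : integralClosure ℤ ℂ)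
  have hr' : ((v ^ p - w : ℤ) : ℂ) = (p : ℂ) * (r : ℂ) := by
    have h1 := hval 1
    simp only [pow_one] at h1
    have h2 := congrArg (fun y : integralClosure ℤ ℂ => (y : ℂ)) hr
    push_cast at h2
    rw [← h1, ← hval p, hv, hw] at h2
    push_cast
    linear_combination h2
  have hq : (r : ℂ) = (((v ^ p - w : ℤ) : ℚ) / p : ℚ) := by
    have hp0 : (p : ℂ) ≠ 0 := Nat.cast_ne_zero.mpr hp.ne_zero
    have h : ((v ^ p - w : ℤ) : ℂ) / (p : ℂ) = (r : ℂ) := by rw [hr', mul_div_cancel_left₀ _ hp0]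
    rw [← h, Rat.cast_div, Rat.cast_intCast, Rat.cast_natCast]
  obtain ⟨k, hk⟩ := CfsgLib.Char.exists_int_of_isIntegral_rat r.2 hq
  refine ⟨k, ?_⟩
  rw [hk] at hr'
  exact_mod_cast hr'

theorem mod_two (χ : IrrCharacter G) (g : G) {v w : ℤ} (hv : (χ : G → ℂ) g = v)
    (hw : (χ : G → ℂ) (g ^ 2) = w) : (v - w) % 2 = 0 := by
  have h := pow_dvd_sub χ g Nat.prime_two hv hw
  push_cast at h
  have h1 : (v ^ 2 - v) % 2 = 0 := by
    rcases Int.emod_two_eq v with e | e <;> simp [pow_two, Int.sub_emod, Int.mul_emod, e]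
  omega

theorem mod_three (χ : IrrCharacter G) (g : G) {v w : ℤ} (hv : (χ : G → ℂ) g = v)
    (hw : (χ : G → ℂ) (g ^ 3) = w) : (v - w) % 3 = 0 := by
  have h := pow_dvd_sub χ g Nat.prime_three hv hw
  push_cast at h
  have h1 : (v ^ 3 - v) % 3 = 0 := by
    have hv3 : v % 3 = 0 ∨ v % 3 = 1 ∨ v % 3 = 2 := by omega
    rcases hv3 with e | e | e <;> simp [pow_succ, Int.sub_emod, Int.mul_emod, e]
  omega

/-- An element of odd prime order whose normaliser has odd order is not conjugate to its inverse. -/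
theorem not_conj_inv {x : G} {n : ℕ} (hn : Nat.card (normalizer ((zpowers x : Subgroup G) : Set G)) = n)
    (hodd : ¬ 2 ∣ n) (hx : x ^ 2 ≠ 1) : ¬ IsConj x x⁻¹ := by
  intro e
  obtain ⟨c, hc⟩ := isConj_iff.mp e
  have hmem : c ∈ normalizer ((zpowers x : Subgroup G) : Set G) := by
    refine mem_normalizer_iff_map_conj_eq.mpr ?_
    rw [MonoidHom.map_zpowers]
    show zpowers (c * x * c⁻¹) = _
    rw [hc, zpowers_inv]
  have hsq : Commute (c ^ 2) x := by
    show c ^ 2 * x = x * c ^ 2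
    have h2 : c * (c * x * c⁻¹) * c⁻¹ = x := by rw [hc, ← conj_inv, hc, inv_inv]
    calc c ^ 2 * x = c * (c * x * c⁻¹) * c⁻¹ * c ^ 2 := by rw [pow_two]; group
      _ = x * c ^ 2 := by rw [h2]
  have ho : orderOf c % 2 = 1 := by
    rcases Nat.mod_two_eq_zero_or_one (orderOf c) with h | h
    · exact absurd ((Nat.dvd_of_mod_eq_zero h).trans (hn ▸ Subgroup.orderOf_dvd_natCard _ hmem)) hodd
    · exact h
  have hcx : Commute c x := by
    have h1 : Commute ((c ^ 2) ^ (orderOf c / 2 + 1)) x := hsq.pow_left _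
    rwa [← pow_mul, show 2 * (orderOf c / 2 + 1) = orderOf c + 1 by omega, pow_succ, pow_orderOf_eq_one,
      one_mul] at h1
  rw [hcx.eq, mul_inv_cancel_right] at hc
  exact hx (by rw [pow_two]; nth_rw 2 [hc]; exact mul_inv_cancel _)

/-- An element which is not conjugate to its inverse has a nonreal value. -/
theorem exists_nonreal {x : G} (hx : ¬ IsConj x x⁻¹) :
    ∃ χ : IrrCharacter G, ((χ : G → ℂ) x).im ≠ 0 := by
  by_contra h
  push Not at h
  have h0 := CfsgLib.Char.sum_irr_mul_conj x x⁻¹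
  rw [if_neg hx, Finset.sum_congr rfl (g := fun χ : IrrCharacter G => (χ : G → ℂ) x * (χ : G → ℂ) x)
    fun χ _ => by rw [conj_irr, inv_inv]] at h0
  have h1 := congrArg Complex.re h0
  simp only [Complex.re_sum, Complex.mul_re, h, mul_zero, sub_zero, Complex.zero_re] at h1
  have h2 := Finset.single_le_sum (f := fun χ : IrrCharacter G =>
    ((χ : G → ℂ) x).re * ((χ : G → ℂ) x).re) (fun _ _ => mul_self_nonneg _) (Finset.mem_univ (trivChar G))
  rw [h1] at h2
  simp at h2
  linarith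

/-- For an element of order four with integral trace the multiplicity of `-1` is even. -/
theorem det_four [IsSimpleGroup G] (hna : ¬ IsMulCommutative G) (χ : IrrCharacter G) {g : G}
    (hg : g ^ 4 = 1) {v u : ℤ} (hv : (χ : G → ℂ) g = v) (hu : (χ : G → ℂ) (g ^ 2) = u) :
    ((charDegree (χ : G → ℂ) : ℤ) + u - 2 * v) % 8 = 0 := by
  obtain ⟨n, ρ, hρ, he⟩ := χ.2
  obtain ⟨p, q, r, s, hsum, ht1, ht2, hdet⟩ := four_eigen (ρ g) (by rw [← map_pow, hg, map_one])
  have hn : Module.finrank ℂ (Fin n → ℂ) = charDegree (χ : G → ℂ) := by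
    apply Nat.cast_injective (R := ℂ)
    rw [← irr_one_eq, ← he, Representation.char_one]
  have e1 : (χ : G → ℂ) g = LinearMap.trace ℂ _ (ρ g) := by rw [← he]; rfl
  have e2 : (χ : G → ℂ) (g ^ 2) = LinearMap.trace ℂ _ ((ρ g) ^ 2) := by rw [← he, ← map_pow]; rfl
  rw [ht1, hv] at e1
  rw [ht2, hu] at e2
  rw [hn] at hsum
  have him := congrArg Complex.im e1
  simp at him
  have hrs : r = s := by exact_mod_cast (by linarith : (r : ℝ) = s)
  subst hrs
  have hev : Even q := by
    rw [det_eq_one hna ρ g, mul_assoc, ← mul_pow, mul_neg, Complex.I_mul_I, neg_neg, one_pow, mul_one] at hdet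
    exact (neg_one_pow_eq_one_iff_even (by norm_num)).mp hdet.symm
  obtain ⟨k, rfl⟩ := hev
  have h1 : v = (p : ℤ) - (k + k : ℕ) := by
    apply Int.cast_injective (α := ℂ)
    push_cast at e1 ⊢
    linear_combination e1
  have h2 : u = (p : ℤ) + (k + k : ℕ) - r - r := by
    apply Int.cast_injective (α := ℂ)
    push_cast at e2 ⊢
    linear_combination e2
  omega

/-- For an element of order eight with rational traces the multiplicity of `-1` is even. -/
theorem det_eight [IsSimpleGroup G] (hna : ¬ IsMulCommutative G) (χ : IrrCharacter G) {g : G}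
    (hg : orderOf g = 8) {v w u : ℤ} (hv : (χ : G → ℂ) g = v) (hw : (χ : G → ℂ) (g ^ 2) = w)
    (hu : (χ : G → ℂ) (g ^ 4) = u) :
    ((charDegree (χ : G → ℂ) : ℤ) + u + 2 * w - 4 * v) % 16 = 0 := by
  obtain ⟨n, ρ, hρ, he⟩ := χ.2
  have hg8 : g ^ 8 = 1 := hg ▸ pow_orderOf_eq_one g
  have hf8 : ρ g ^ 8 = 1 := by rw [← map_pow, hg8, map_one]
  obtain ⟨b, μ, h⟩ := CfsgLib.Char.exists_eigenbasis_of_pow_eq_one (ρ g) (n := 8) (by norm_num) hf8
  set ω : ℂ := Complex.exp (2 * Real.pi * Complex.I / (8 : ℕ))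
  have hω : IsPrimitiveRoot ω 8 := Complex.isPrimitiveRoot_exp 8 (by norm_num)
  have hval : ∀ k : ℕ, (χ : G → ℂ) (g ^ k) = ∑ a, μ a ^ k := fun k => by
    rw [← he]
    show LinearMap.trace ℂ _ (ρ (g ^ k)) = _
    rw [map_pow]
    refine CfsgLib.Char.trace_eq_sum_of_eigen _ b _ fun a => ?_
    induction k with
    | zero => simp
    | succ k ih => rw [pow_succ', Module.End.mul_apply, ih, map_smul, (h a).1, smul_smul, pow_succ]
  have hex : ∀ a, ∃ j, j < 8 ∧ ω ^ j = μ a := fun a => hω.eq_pow_of_pow_eq_one (h a).2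
  choose e he8 heμ using hex
  have hd : charDegree (χ : G → ℂ) = Fintype.card (Fin (Module.finrank ℂ (Fin n → ℂ))) := by
    apply Nat.cast_injective (R := ℂ)
    rw [← irr_one_eq, ← pow_zero g, hval 0]
    simp
  set m : ℕ → ℕ := fun j => (Finset.univ.filter fun a => e a = j).card with hm
  have hcount : ∀ j, j < 8 → (Finset.univ.filter fun a => μ a = ω ^ j).card = m j := fun j hj => by
    refine congrArg Finset.card (Finset.filter_congr fun a _ => ⟨fun e' => ?_, fun e' => by rw [← heμ a, e']⟩)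
    exact hω.pow_inj (he8 a) hj ((heμ a).trans e')
  have hc : ∀ k, k.Coprime 8 → (χ : G → ℂ) (g ^ k) = v := fun k hk =>
    M12Reps.pow_value χ g (by rw [hg]; exact hk) hv
  have hw6 : (χ : G → ℂ) (g ^ 6) = w := by
    rw [show g ^ 6 = (g ^ 2) ^ 3 by rw [← pow_mul]]
    exact M12Reps.pow_value χ _ (by rw [orderOf_pow, hg]; decide) hw
  have hm8 : ∀ j, j < 8 → (8 : ℂ) * m j = (charDegree (χ : G → ℂ) : ℂ) + u * (ω⁻¹ ^ j) ^ 4 +
      w * ((ω⁻¹ ^ j) ^ 2 + (ω⁻¹ ^ j) ^ 6) + v * (ω⁻¹ ^ j + (ω⁻¹ ^ j) ^ 3 + (ω⁻¹ ^ j) ^ 5 + (ω⁻¹ ^ j) ^ 7) := by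
    intro j hj
    have h1 := sum_twist μ (fun a => (h a).2) (ν := ω ^ j) (by rw [← pow_mul, mul_comm, pow_mul, hω.pow_eq_one, one_pow])
    simp only [← hval, hcount j hj, ← inv_pow] at h1
    simp only [Finset.sum_range_succ, Finset.sum_range_zero] at h1
    rw [pow_zero, irr_one_eq, hc 1 (by decide), hc 3 (by decide), hc 5 (by decide), hc 7 (by decide), hw, hw6,
      hu] at h1
    push_cast at h1
    linear_combination -h1
  have hsym : ∀ j, 0 < j → j < 8 → m j = m (8 - j) := fun j h0 hj => by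
    have e1 := hm8 j hj
    have e2 := hm8 (8 - j) (by omega)
    have w8 : (ω⁻¹) ^ 8 = 1 := by rw [inv_pow, hω.pow_eq_one, inv_one]
    have hr : ∀ k l : ℕ, k + l = 8 → ((ω⁻¹) ^ (8 - j)) ^ k = ((ω⁻¹) ^ j) ^ l := fun k l hkl => by
      rw [← pow_mul, ← pow_mul]
      refine pow_eq_pow_of_modEq ?_ w8
      have : (8 - j) * k + j * k = 8 * k := by rw [← Nat.add_mul, show 8 - j + j = 8 by omega]
      have h3 : j * k + j * l = 8 * j := by rw [← Nat.mul_add, hkl, mul_comm]
      unfold Nat.ModEq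
      omega
    have h1 := hr 1 7 rfl
    rw [pow_one] at h1
    rw [hr 4 4 rfl, hr 2 6 rfl, hr 6 2 rfl, hr 3 5 rfl, hr 5 3 rfl, hr 7 1 rfl, h1, pow_one] at e2
    have : (8 : ℂ) * m j = 8 * m (8 - j) := by rw [e1, e2]; ring
    exact_mod_cast mul_left_cancel₀ (by norm_num : (8 : ℂ) ≠ 0) this
  have hdet : LinearMap.det (ρ g) = ω ^ (∑ a, e a) := by
    rw [← LinearMap.det_toMatrix b, show LinearMap.toMatrix b b (ρ g) = Matrix.diagonal μ by
      ext i j
      by_cases hij : i = j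
      · subst hij
        simp [LinearMap.toMatrix_apply, (h i).1]
      · simp [LinearMap.toMatrix_apply, (h j).1, hij],
      Matrix.det_diagonal, ← Finset.prod_pow_eq_pow_sum]
    exact Finset.prod_congr rfl fun a _ => (heμ a).symm
  rw [det_eq_one hna ρ g] at hdet
  have hdvd : 8 ∣ ∑ a, e a := (hω.pow_eq_one_iff_dvd _).mp hdet.symm
  rw [← Finset.sum_fiberwise_of_maps_to (t := Finset.range 8) (g := e) (fun a _ => Finset.mem_range.mpr (he8 a)),
    Finset.sum_congr rfl (g := fun j => m j * j) fun j _ => by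
      rw [Finset.sum_congr rfl (g := fun _ => j) fun a ha => (Finset.mem_filter.mp ha).2, Finset.sum_const,
        smul_eq_mul]] at hdvd
  simp only [Finset.sum_range_succ, Finset.sum_range_zero] at hdvd
  have s1 := hsym 1 (by norm_num) (by norm_num)
  have s2 := hsym 2 (by norm_num) (by norm_num)
  have s3 := hsym 3 (by norm_num) (by norm_num)
  norm_num at s1 s2 s3
  have h4 : (8 : ℤ) * m 4 = (charDegree (χ : G → ℂ) : ℤ) + u + 2 * w - 4 * v := by
    have e4 := hm8 4 (by norm_num)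
    have w4 : (ω⁻¹) ^ 4 = -1 := by
      rw [inv_pow, show ω ^ 4 = -1 from (hω.pow (show (0 : ℕ) < 8 by norm_num) (show (8 : ℕ) = 4 * 2 by
        norm_num)).eq_neg_one_of_two_right, inv_neg, inv_one]
    rw [w4] at e4
    apply Int.cast_injective (α := ℂ)
    push_cast
    linear_combination e4
  omega

end CfsgLib.KGroups.M22Congr
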