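import Cfsg.Agent.Lib.KGroups.M22FiveBlock
import Cfsg.Agent.Lib.KGroups.M22CheckCol
import Cfsg.Agent.Lib.KGroups.M22Congr

/-!
# Three columns of the character table of a simple group of order 443520, found from the order

The column at a central involution, the number of involutions, and the interface used for the identification.
-/

set_option autoImplicit false

namespace CfsgLib.KGroups.M22Column

open Cfsg CfsgLib.Blocks CfsgLib.KGroups.M11Tools CfsgLib.KGroups.M12Tools CfsgLib.KGroups.M12Classes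
  CfsgLib.KGroups.M12Local CfsgLib.KGroups.M22Tools CfsgLib.KGroups.M22Frame CfsgLib.KGroups.M22Check
  CfsgLib.KGroups.M22Eleven CfsgLib.KGroups.M22Block CfsgLib.KGroups.M22Seven CfsgLib.KGroups.M22SevenPair
  CfsgLib.KGroups.M22SevenFinal CfsgLib.KGroups.M22Five CfsgLib.KGroups.M22FiveBlock CfsgLib.KGroups.M22Congr
  Subgroup
open CfsgLib.SmallGroups
open scoped Classical

variable {G : Type*} [Group G] [Fintype G]

/-- Two exceptional characters with an automiser of odd order are not real. -/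
theorem nu_pair_frame {p e : ℕ} [Fact p.Prime] {P : Sylow p G} (F : Frame p e P) {θ θ' : IrrCharacter G}
    (hY : F.Y = {θ, θ'}) (hne : θ ≠ θ') (hp : p ≠ 2) (hodd : ¬ 2 ∣ Nat.card (normalizer ((P : Subgroup G) : Set G)))
    (hrest : ∀ χ : IrrCharacter G, χ ∉ F.X → χ ∉ F.Y → (χ : G → ℂ) F.x = 0) : nu θ = 0 ∧ nu θ' = 0 := by
  have hpr : p.Prime := Fact.out
  have hx2 : F.x ^ 2 ≠ 1 := fun h => by
    have := orderOf_dvd_of_pow_eq_one h
    rw [F.hx] at this
    exact hp ((Nat.prime_dvd_prime_iff_eq hpr Nat.prime_two).mp this)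
  obtain ⟨χ, hχ⟩ := exists_nonreal (not_conj_inv (x := F.x) (by rw [F.hzp]) hodd hx2)
  have hs := sum_theta F ⟨θ, by rw [hY]; simp⟩ (i := 1) hpr.not_dvd_one (u := 1) (Commute.one_right _)
    (by rw [orderOf_one]; exact hpr.not_dvd_one)
  rw [pow_one, mul_one, hY, Finset.sum_pair hne] at hs
  have him := congrArg Complex.im hs
  simp at him
  have hχY : χ ∈ F.Y := by
    by_contra hY'
    by_cases hX : χ ∈ F.X
    · have hv := F.hval χ hX 1 hpr.not_dvd_one 1 (Commute.one_right _) (by rw [orderOf_one]; exact hpr.not_dvd_one)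
      rw [pow_one, mul_one] at hv
      rw [hv] at hχ
      simp at hχ
    · rw [hrest χ hX hY'] at hχ
      simp at hχ
  rw [hY] at hχY
  simp only [Finset.mem_insert, Finset.mem_singleton] at hχY
  refine ⟨(nu_eq_zero_iff _).mpr ⟨F.x, ?_⟩, (nu_eq_zero_iff _).mpr ⟨F.x, ?_⟩⟩ <;> rcases hχY with rfl | rfl <;>
    intro h0 <;> apply hχ <;> linarith

/-- The relation given by a rational column. -/
theorem rel_of_col (irr : Fin 12 ≃ IrrCharacter G) {x g : G} (hgx : ¬ IsConj g x) {f : Fin 12 → ℤ}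
    (hf : ∀ i, (irr i : G → ℂ) x = (f i : ℂ)) : ∑ i, (irr i : G → ℂ) g * (f i : ℂ) = 0 := by
  have h := CfsgLib.Char.sum_irr_mul_conj g x
  rw [if_neg hgx, ← irr.sum_comp (fun χ : IrrCharacter G => (χ : G → ℂ) g * (starRingEnd ℂ) ((χ : G → ℂ) x))] at h
  rw [← h]
  exact Finset.sum_congr rfl fun i _ => by rw [hf, map_intCast]

/-- The sum of the cubes of a column of integers, weighted by the inverse degrees. -/
theorem cube_dvd (hG : Nat.card G = 443520) (irr : Fin 12 ≃ IrrCharacter G) {t : G} (ht : orderOf t = 2)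
    {d : Fin 12 → ℕ} (hd : ∀ i, charDegree (irr i : G → ℂ) = d i) {v : Fin 12 → ℤ}
    (hv : ∀ i, (irr i : G → ℂ) t = (v i : ℂ)) :
    ∃ n : ℕ, ((centralizer ({t} : Set G)).index : ℤ) * ((centralizer ({t} : Set G)).index : ℤ) *
      ∑ i, quo (d i : ℤ) * (v i * v i * v i) = 443520 * 443520 * (n : ℤ) := by
  have hcount := card_pairs_eq t t t
  rw [show t⁻¹ = t from inv_eq_of_mul_eq_one_right (by rw [← pow_two, ← ht, pow_orderOf_eq_one]), hG,
    ← irr.sum_comp (fun χ : IrrCharacter G => (χ : G → ℂ) t * (χ : G → ℂ) t * (χ : G → ℂ) t / (χ : G → ℂ) 1),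
    Finset.sum_congr rfl (g := fun i => ((v i * v i * v i : ℤ) : ℂ) / (d i : ℂ)) fun i _ => by
      rw [hv, irr_one_eq, hd]; push_cast; ring] at hcount
  have hq : ((∑ i, quo (d i : ℤ) * (v i * v i * v i) : ℤ) : ℂ) =
      443520 * ∑ i, ((v i * v i * v i : ℤ) : ℂ) / (d i : ℂ) := by
    rw [Int.cast_sum, Finset.mul_sum]
    refine Finset.sum_congr rfl fun i _ => ?_
    rw [quo, Int.cast_mul, Int.natAbs_natCast, Int.cast_natCast, ← hd i,
      Nat.cast_div (hG ▸ charDegree_dvd (irr i)) (Nat.cast_ne_zero.mpr (charDegree_pos (irr i)).ne')]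
    push_cast
    ring
  refine ⟨Nat.card {a : G // IsConj t a ∧ IsConj t (a⁻¹ * t)}, ?_⟩
  apply Int.cast_injective (α := ℂ)
  rw [Int.cast_mul, hq]
  push_cast at hcount ⊢
  linear_combination (443520 : ℂ) * hcount

variable [IsSimpleGroup G] [Fact (Nat.Prime 11)] [Fact (Nat.Prime 7)] [Fact (Nat.Prime 5)]
variable (hG : Nat.card G = 443520)

include hG in
/-- The sums of the principal 7-block at two involutions. -/
theorem seven_block_zero {S : Seven G} {t : G} (ht : orderOf t = 2) {η : IrrCharacter G} (hη : η ∈ S.F.Y)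
    {va vb r : ℤ} (ha : (S.c55 : G → ℂ) t = va) (hb : (S.c2 : G → ℂ) t = vb) (hr : (η : G → ℂ) t = r) :
    443520 - quo 55 * (va * va) + quo (charDegree (S.c2 : G → ℂ) : ℤ) * (vb * vb) -
      quo (charDegree (η : G → ℂ) : ℤ) * (r * r) = 0 := by
  have ht7 : ¬ 7 ∣ orderOf t := by rw [ht]; norm_num
  have hz := blockSum_eq_zero S.F S.hS ht7 ht7 hη fun s hs hsp u htu =>
    no_inverting (by norm_num) S.F (by decide) S.hN S.hC ht ht hs hsp htu
  have htX := triv_mem7 S
  rw [blockSum, ← Finset.add_sum_erase _ _ htX, show S.F.X.erase (trivChar G) = {S.c55, S.c2} from S.hset,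
    Finset.sum_pair S.ne, S.F.sgn_triv htX, S.s55, S.s2, S.hεy, trivChar_apply, trivChar_apply, ha, hb, hr] at hz
  simp only [irr_one_eq, S.d55] at hz
  apply Int.cast_injective (α := ℂ)
  simp only [Int.cast_add, Int.cast_sub, Int.cast_mul, Int.cast_zero, Int.cast_ofNat,
    show quo (charDegree (S.c2 : G → ℂ) : ℤ) = ((443520 / charDegree (S.c2 : G → ℂ) : ℕ) : ℤ) from rfl,
    show quo (charDegree (η : G → ℂ) : ℤ) = ((443520 / charDegree (η : G → ℂ) : ℕ) : ℤ) from rfl,
    show quo 55 = 8064 by decide, Int.cast_natCast, int_quo hG]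
  push_cast at hz
  linear_combination (443520 : ℂ) * hz

include hG in
/-- The second list of characters leaves no column at a central involution. -/
theorem shapeB_false {D : Data G} {S : Seven G} {Q : Quad D} {R : Four G} (B : ShapeB S Q R) : False := by
  obtain ⟨t, hto, C, hCm, hCt, hlt⟩ := exists_central hG D
  have hval : ∀ i, ∃ v : ℤ, (B.irr i : G → ℂ) t = v := fun i => exists_int_two (B.irr i) hto
  choose v hv using hval
  have ht11 : ¬ 11 ∣ orderOf t := by rw [hto]; norm_num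
  have ht7 : ¬ 7 ∣ orderOf t := by rw [hto]; norm_num
  have hv0 : v 0 = 1 := by
    have h := hv 0
    rw [B.triv, trivChar_apply] at h
    exact_mod_cast h.symm
  have hrel5 := rel_of_col B.irr (g := t) (M12Classes.not_conj_order (by rw [hto, R.hx]; norm_num)) B.five
  simp only [hv, Fin.sum_univ_succ, fcolB, Matrix.cons_val_zero, Matrix.cons_val_succ,
    Finset.univ_eq_empty, Finset.sum_empty] at hrel5
  have hrel5' : v 10 = 1 + v 2 + v 8 + v 9 := by
    have h : ((v 10 : ℤ) : ℂ) = ((1 + v 2 + v 8 + v 9 : ℤ) : ℂ) := by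
      simp at hrel5
      rw [hv0] at hrel5
      push_cast at hrel5 ⊢
      linear_combination -hrel5
    exact_mod_cast h
  have hd0 : ∑ i, (degsB i : ℤ) * v i = 0 := by
    have h := orth_zero (g := (1 : G)) (h := t) (M12Classes.not_conj_order (by rw [orderOf_one, hto]; norm_num))
      (f := fun χ => (charDegree (χ : G → ℂ) : ℤ)) (f' := fun χ => v (B.irr.symm χ))
      (fun χ => by rw [irr_one_eq]; norm_cast) (fun χ => by rw [← hv, Equiv.apply_symm_apply])
    rw [← B.irr.sum_comp] at h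
    simpa [B.deg] using h
  have hsq : ∑ i, v i * v i = (C.1 : ℤ) := by
    have h := col_sq (g := t) (f := fun χ => v (B.irr.symm χ)) (fun χ => by rw [← hv, Equiv.apply_symm_apply])
    rw [← B.irr.sum_comp, hCt] at h
    simpa using h
  have hle : ∀ i, v i * v i ≤ (C.1 : ℤ) := fun i =>
    hsq ▸ Finset.single_le_sum (fun j _ => mul_self_nonneg (v j)) (Finset.mem_univ i)
  have hadm : ∀ i, i ≠ 0 → v i ∈ adm C.1 C.2 (degsB i) := fun i hi => by
    have h := mem_adm_gen hG hto (χ := B.irr i) (fun e => hi (B.irr.injective (e.trans B.triv.symm))) (hv i)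
      (m := C.2) (by rw [hCt]; exact hlt) (by rw [hCt]; exact hle i)
    rwa [hCt, B.deg] at h
  have h65 : v 6 = v 5 := by
    have h := D.F.hagree (B.irr 6) (by rw [B.hY]; simp) (B.irr 5) (by rw [B.hY]; simp) t ht11
    rw [hv, hv] at h
    exact_mod_cast h
  have h98 : v 9 = v 8 := by
    have h := S.F.hagree (B.irr 9) (by rw [B.hY7]; simp) (B.irr 8) (by rw [B.hY7]; simp) t ht7
    rw [hv, hv] at h
    exact_mod_cast h
  have hvals : Q.Vals t (v 1) (v 2) (v 3) (v 4) := ⟨B.i1 ▸ hv 1, B.i2 ▸ hv 2, B.i3 ▸ hv 3, B.i4 ▸ hv 4⟩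
  have hθ : B.irr 5 ∈ D.F.Y := by rw [B.hY]; simp
  have h5 : v 5 = 1 - v 1 - v 2 + v 3 + v 4 := by
    have h1 := Q.theta_val hvals ht11 hθ
    rw [hv] at h1
    have h2 : v 5 = Q.tv (v 1) (v 2) (v 3) (v 4) := by exact_mod_cast h1
    rw [h2, Quad.tv, tval, B.sda, B.sdb, B.sdc, B.sdd]
    simp [sg, th]
    ring
  have he11 := Q.pairs_invol hG hto hto hvals hvals
  have hη : B.irr 8 ∈ S.F.Y := by rw [B.hY7]; simp
  have h8 : v 8 = 1 - v 7 + v 1 := by
    have h1 := S.F.rel_split (triv_mem7 S) hη t ht7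
    rw [S.hset, Finset.sum_pair S.ne, S.hεy, S.s55, S.s2, ← B.i7, ← B.i1', hv, hv, hv] at h1
    have h : ((v 8 : ℤ) : ℂ) = ((1 - v 7 + v 1 : ℤ) : ℂ) := by push_cast at h1 ⊢; linear_combination h1
    exact_mod_cast h
  have he7 := seven_block_zero hG (S := S) hto hη (B.i7 ▸ hv 7) (B.i1' ▸ hv 1) (hv 8)
  rw [← B.i1', B.deg, B.deg] at he7
  obtain ⟨n, hn⟩ := cube_dvd hG B.irr hto B.deg hv
  rw [index_eq hG, hCt] at hn
  simp only [Fin.sum_univ_succ, degsB] at hd0 hsq hn
  simp at hd0 hsq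
  rw [hv0, h65, h98] at hd0 hsq
  set z := v 11 with hz
  have hS : (1 + 120 * v 1 + 21 * v 2 + 210 * (v 3 + v 4) + 560 * v 5 + 55 * v 7 + 132 * v 8 + 154 * v 10) =
      -385 * z := by linarith
  have hmem : [1, v 1, v 2, v 3, v 4, v 5, v 5, v 7, v 8, v 8, v 10, z] ∈ colsS C.1 C.2 := by
    simp only [colsS, List.mem_flatMap, List.mem_filterMap, List.mem_filter, decide_eq_true_eq]
    refine ⟨v 1, hadm 1 (by decide), v 2, hadm 2 (by decide), v 3, hadm 3 (by decide), v 4,
      ⟨hadm 4 (by decide), ?_⟩, v 7, ⟨hadm 7 (by decide), ?_⟩, ?_⟩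
    · have htv : Q.tv (v 1) (v 2) (v 3) (v 4) = v 5 := by
        rw [h5, Quad.tv, tval, B.sda, B.sdb, B.sdc, B.sdd]
        simp [sg, th]
        ring
      rw [Quad.pv, htv, pairVal, B.sda, B.sdb, B.sdc, B.sdd] at he11
      simp only [← h5]
      simp [sg, th, quo] at he11 ⊢
      linarith
    · simp only [← h8]
      simp [degsB, quo] at he7 ⊢
      linarith
    · simp only [← h5, ← h8]
      rw [show 1 + v 2 + 2 * v 8 = v 10 by omega]
      simp only [hS]
      rw [show -385 * z / 385 = -z by omega, neg_neg]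
      rw [if_pos]
      simp only [Bool.and_eq_true, decide_eq_true_eq]
      refine ⟨⟨by omega, ?_⟩, ?_⟩
      · linarith
      · rw [show cube degsS [1, v 1, v 2, v 3, v 4, v 5, v 5, v 7, v 8, v 8, v 10, z] =
            ∑ i, quo ((degsB i : ℕ) : ℤ) * (v i * v i * v i) by
          simp [cube, degsS, Fin.sum_univ_succ, degsB, hv0, h65, h98, hz]]
        simp only [Fin.sum_univ_succ, degsB]
        rw [hn]
        exact Int.mul_emod_right _ _
  rw [cols_S C hCm] at hmem
  exact List.not_mem_nil hmem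

include hG in
/-- The column at a central involution. -/
theorem column {D : Data G} {S : Seven G} {Q : Quad D} {R : Four G} (A : ShapeA S Q R) :
    ∃ t : G, orderOf t = 2 ∧ Nat.card (centralizer ({t} : Set G)) = 384 ∧
      ∀ i, (A.irr i : G → ℂ) t = (M22Table.tcol i : ℂ) := by
  obtain ⟨t, hto, C, hCm, hCt, hlt⟩ := exists_central hG D
  have hval : ∀ i, ∃ v : ℤ, (A.irr i : G → ℂ) t = v := fun i => exists_int_two (A.irr i) hto
  choose v hv using hval
  have ht11 : ¬ 11 ∣ orderOf t := by rw [hto]; norm_num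
  have ht7 : ¬ 7 ∣ orderOf t := by rw [hto]; norm_num
  have hv0 : v 0 = 1 := by
    have h := hv 0
    rw [A.triv, trivChar_apply] at h
    exact_mod_cast h.symm
  have hrel5 := rel_of_col A.irr (g := t) (M12Classes.not_conj_order (by rw [hto, R.hx]; norm_num)) A.five
  simp only [hv, Fin.sum_univ_succ, M22Table.fcol, Matrix.cons_val_zero, Matrix.cons_val_succ,
    Finset.univ_eq_empty, Finset.sum_empty] at hrel5
  have h6 : v 6 = 1 + v 1 + v 8 - v 5 := by
    have h : ((v 6 : ℤ) : ℂ) = ((1 + v 1 + v 8 - v 5 : ℤ) : ℂ) := by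
      simp at hrel5
      rw [hv0] at hrel5
      push_cast at hrel5 ⊢
      linear_combination -hrel5
    exact_mod_cast h
  have hd0 : ∑ i, (M22Table.degs i : ℤ) * v i = 0 := by
    have h := orth_zero (g := (1 : G)) (h := t) (M12Classes.not_conj_order (by rw [orderOf_one, hto]; norm_num))
      (f := fun χ => (charDegree (χ : G → ℂ) : ℤ)) (f' := fun χ => v (A.irr.symm χ))
      (fun χ => by rw [irr_one_eq]; norm_cast) (fun χ => by rw [← hv, Equiv.apply_symm_apply])
    rw [← A.irr.sum_comp] at h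
    simpa [A.deg] using h
  have hsq : ∑ i, v i * v i = (C.1 : ℤ) := by
    have h := col_sq (g := t) (f := fun χ => v (A.irr.symm χ)) (fun χ => by rw [← hv, Equiv.apply_symm_apply])
    rw [← A.irr.sum_comp, hCt] at h
    simpa using h
  have hle : ∀ i, v i * v i ≤ (C.1 : ℤ) := fun i =>
    hsq ▸ Finset.single_le_sum (fun j _ => mul_self_nonneg (v j)) (Finset.mem_univ i)
  have hadm : ∀ i, i ≠ 0 → v i ∈ adm C.1 C.2 (M22Table.degs i) := fun i hi => by
    have h := mem_adm_gen hG hto (χ := A.irr i) (fun e => hi (A.irr.injective (e.trans A.triv.symm))) (hv i)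
      (m := C.2) (by rw [hCt]; exact hlt) (by rw [hCt]; exact hle i)
    rwa [hCt, A.deg] at h
  have h10 : v 10 = v 9 := by
    have h := D.F.hagree (A.irr 10) (by rw [A.hY]; simp) (A.irr 9) (by rw [A.hY]; simp) t ht11
    rw [hv, hv] at h
    exact_mod_cast h
  have h32 : v 3 = v 2 := by
    have h := S.F.hagree (A.irr 3) (by rw [A.hY7]; simp) (A.irr 2) (by rw [A.hY7]; simp) t ht7
    rw [hv, hv] at h
    exact_mod_cast h
  have hvals : Q.Vals t (v 2) (v 3) (v 1) (v 7) := ⟨A.i2 ▸ hv 2, A.i3 ▸ hv 3, A.i1 ▸ hv 1, A.i7 ▸ hv 7⟩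
  have hθ : A.irr 9 ∈ D.F.Y := by rw [A.hY]; simp
  have h9 : v 9 = 1 - v 1 + 2 * v 2 + v 7 := by
    have h1 := Q.theta_val hvals ht11 hθ
    rw [hv] at h1
    have h2 : v 9 = Q.tv (v 2) (v 3) (v 1) (v 7) := by exact_mod_cast h1
    rw [h2, Quad.tv, tval, A.sda, A.sdb, A.sdc, A.sdd]
    simp [sg, th, h32]
    ring
  have he11 := Q.pairs_invol hG hto hto hvals hvals
  have hη : A.irr 2 ∈ S.F.Y := by rw [A.hY7]; simp
  have h4 : v 4 = 1 + v 5 - v 2 := by
    have h1 := S.F.rel_split (triv_mem7 S) hη t ht7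
    rw [S.hset, Finset.sum_pair S.ne, S.hεy, S.s55, S.s2, ← A.i4, ← A.i5, hv, hv, hv] at h1
    have h : ((v 4 : ℤ) : ℂ) = ((1 + v 5 - v 2 : ℤ) : ℂ) := by push_cast at h1 ⊢; linear_combination h1
    exact_mod_cast h
  have he7 := seven_block_zero hG (S := S) hto hη (A.i4 ▸ hv 4) (A.i5 ▸ hv 5) (hv 2)
  rw [← A.i5, A.deg, A.deg] at he7
  simp only [Fin.sum_univ_succ, M22Table.degs] at hd0 hsq
  simp at hd0 hsq
  rw [hv0, h32, h10] at hd0 hsq
  set z := v 11 with hz
  have hS : 1 + 21 * v 1 + 90 * v 2 + 55 * v 4 + 99 * v 5 + 154 * v 6 + 210 * v 7 + 231 * v 8 + 560 * v 9 =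
      -385 * z := by linarith
  have hmem : [1, v 1, v 2, v 2, v 4, v 5, v 6, v 7, v 8, v 9, v 9, z] ∈ colsP C.1 C.2 := by
    simp only [colsP, List.mem_flatMap, List.mem_filterMap, List.mem_filter, decide_eq_true_eq]
    refine ⟨v 2, hadm 2 (by decide), v 1, hadm 1 (by decide), v 7, ⟨hadm 7 (by decide), ?_⟩, v 5,
      ⟨hadm 5 (by decide), ?_⟩, v 8, hadm 8 (by decide), ?_⟩
    · have htv : Q.tv (v 2) (v 3) (v 1) (v 7) = v 9 := by
        rw [h9, Quad.tv, tval, A.sda, A.sdb, A.sdc, A.sdd]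
        simp [sg, th, h32]
        ring
      rw [Quad.pv, htv, pairVal, A.sda, A.sdb, A.sdc, A.sdd, h32] at he11
      simp only [← h9]
      simp [sg, th, quo] at he11 ⊢
      linarith
    · simp only [← h4]
      simp [M22Table.degs, quo] at he7 ⊢
      linarith
    · simp only [← h9, ← h4, ← h6]
      simp only [hS]
      rw [show -385 * z / 385 = -z by omega, neg_neg]
      rw [if_pos]
      simp only [Bool.and_eq_true, decide_eq_true_eq]
      exact ⟨by omega, by linarith⟩
  obtain ⟨h384, hlist⟩ := cols_P C hCm _ hmem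
  simp only [List.cons.injEq, and_true, true_and] at hlist
  obtain ⟨e1, e2, -, e4, e5, e6, e7, e8, e9, -, ez⟩ := hlist
  refine ⟨t, hto, hCt.trans h384, fun i => ?_⟩
  rw [hv]
  congr 1
  fin_cases i
  · exact hv0
  · exact e1
  · exact e2
  · exact h32.trans e2
  · exact e4
  · exact e5
  · exact e6
  · exact e7
  · exact e8
  · exact e9
  · exact h10.trans e9
  · exact ez

include hG in
/-- All involutions are conjugate. -/
theorem inv_conj {D : Data G} {S : Seven G} {Q : Quad D} {R : Four G} (A : ShapeA S Q R) {t : G}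
    (ht : orderOf t = 2) (hC : Nat.card (centralizer ({t} : Set G)) = 384) {u : G} (hu : orderOf u = 2) :
    IsConj t u := by
  obtain ⟨n2, n3⟩ := nu_pair_frame S.F A.hY7 (A.irr.injective.ne (by decide)) (by norm_num)
    (by rw [S.hN, A.hk7]; norm_num) fun χ hX hY =>
      M22SevenSix.vanish_seven hG χ (rest_seven hG S A.hk7 hX hY) (by rw [S.F.hx])
  obtain ⟨n9, n10⟩ := nu_pair_frame D.F A.hY (A.irr.injective.ne (by decide)) (by norm_num)
    (by rw [D.hN]; norm_num) fun χ hX hY => D.vanish_rest hG hX hY (by rw [D.F.hx])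
  have hn : ∀ i, ∃ k : ℤ, nu (A.irr i) = k ∧ k ≤ 1 := fun i => by
    rcases nu_cases (A.irr i) with h | h | h
    · exact ⟨0, by simpa using h, by norm_num⟩
    · exact ⟨1, by simpa using h, le_rfl⟩
    · exact ⟨-1, by simpa using h, by norm_num⟩
  choose k hk hk1 using hn
  set I := Finset.univ.filter fun s : G => s * s = 1 with hI
  set T := insert 1 (Finset.univ.filter fun s : G => IsConj s t) with hT
  have hle : I.card ≤ 1156 := by
    have h1 := card_sqrt_eq (1 : G)
    rw [← A.irr.sum_comp (fun χ : IrrCharacter G => nu χ * (χ : G → ℂ) 1),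
      Finset.sum_congr rfl (g := fun i => ((k i * M22Table.degs i : ℤ) : ℂ)) fun i _ => by
        rw [hk, irr_one_eq, A.deg]; push_cast; rfl, ← Int.cast_sum,
      Nat.card_eq_fintype_card, Fintype.card_subtype, ← hI] at h1
    have h1' : (I.card : ℤ) = ∑ i, k i * (M22Table.degs i : ℤ) := by exact_mod_cast h1
    have z2 : k 2 = 0 := by exact_mod_cast (hk 2).symm.trans n2
    have z3 : k 3 = 0 := by exact_mod_cast (hk 3).symm.trans n3
    have z9 : k 9 = 0 := by exact_mod_cast (hk 9).symm.trans n9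
    have z10 : k 10 = 0 := by exact_mod_cast (hk 10).symm.trans n10
    simp [Fin.sum_univ_succ, M22Table.degs] at h1'
    have b0 := hk1 0
    have b1 := hk1 1
    have b4 := hk1 4
    have b5 := hk1 5
    have b6 := hk1 6
    have b7 := hk1 7
    have b8 := hk1 8
    have b11 := hk1 11
    omega
  have hsub : T ⊆ I := fun s hs => by
    rw [hI, Finset.mem_filter]
    refine ⟨Finset.mem_univ _, ?_⟩
    simp only [hT, Finset.mem_insert, Finset.mem_filter, Finset.mem_univ, true_and] at hs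
    rcases hs with rfl | hs
    · exact mul_one 1
    · obtain ⟨c, rfl⟩ := isConj_iff.mp hs.symm
      rw [show c * t * c⁻¹ * (c * t * c⁻¹) = c * (t * t) * c⁻¹ by group, ← pow_two t, ← ht, pow_orderOf_eq_one]
      group
  have hTc : T.card = 1156 := by
    rw [hT, Finset.card_insert_of_notMem (by
      simp only [Finset.mem_filter, Finset.mem_univ, true_and]
      intro h
      rw [isConj_one_right.mp h, orderOf_one] at ht
      omega), ← Fintype.card_subtype, ← Nat.card_eq_fintype_card, CfsgLib.Char.card_isConj_eq_index]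
    have := (centralizer ({t} : Set G)).index_mul_card
    rw [hG, hC] at this
    omega
  have heq : T = I := Finset.eq_of_subset_of_card_le hsub (by omega)
  have humem : u ∈ T := by
    rw [heq, hI, Finset.mem_filter]
    exact ⟨Finset.mem_univ _, by rw [← pow_two, ← hu, pow_orderOf_eq_one]⟩
  simp only [hT, Finset.mem_insert, Finset.mem_filter, Finset.mem_univ, true_and] at humem
  rcases humem with rfl | h
  · rw [orderOf_one] at hu; omega
  · exact h.symm

omit [Fact (Nat.Prime 11)] [Fact (Nat.Prime 7)] [Fact (Nat.Prime 5)] in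
include hG in
/-- The table. -/
theorem exists_table : Nonempty (M22Table.Table G) := by
  haveI : Fact (Nat.Prime 11) := ⟨by norm_num⟩
  haveI : Fact (Nat.Prime 7) := ⟨by norm_num⟩
  haveI : Fact (Nat.Prime 5) := ⟨by norm_num⟩
  obtain ⟨D, S, Q, R, hshape⟩ := exists_shape hG
  rcases hshape with hA | hB
  swap
  · exact (shapeB_false hG hB.some).elim
  obtain ⟨A⟩ := hA
  obtain ⟨t, ht, hC, htv⟩ := column hG A
  have h7 : Nat.card (S.P : Subgroup G) = 7 :=
    (SimpleTools.card_sylow_subgroup (k := 1) (m := 63360) (by rw [hG]; norm_num) (by norm_num) S.P).trans (pow_one _)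
  refine ⟨{
    irr := A.irr
    triv := A.triv
    deg := A.deg
    t := t
    ht := ht
    card_t := hC
    inv_conj := fun u hu => inv_conj hG A ht hC hu
    t_val := htv
    five_val := fun x hx i => by rw [M12Classes.value_conj _ (R.conj_all hG hx)]; exact A.five i
    card_five := fun x hx => by
      rw [(loc_conj R.P (card_sylow_five hG R.P) R.hzp hx).2.1, R.hC, A.hk]
    card_seven := fun x hx => by rw [(loc_conj S.P h7 S.F.hzp hx).2.1, S.hC, A.hk7]
    card_eleven := fun x hx => by rw [(loc_conj D.P D.hP D.F.hzp hx).2.1, D.hC]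
    norm_five := fun x hx => by
      rw [(loc_conj R.P (card_sylow_five hG R.P) R.hzp hx).2.2, R.hN, A.hk]
    norm_seven := fun x hx => by rw [(loc_conj S.P h7 S.F.hzp hx).2.2, S.hN, A.hk7]
    norm_eleven := fun x hx => by rw [(loc_conj D.P D.hP D.F.hzp hx).2.2, D.hN]
    agree_seven := fun g hg => S.F.hagree _ (by rw [A.hY7]; simp) _ (by rw [A.hY7]; simp) g hg
    agree_eleven := fun g hg => D.F.hagree _ (by rw [A.hY]; simp) _ (by rw [A.hY]; simp) g hg
    rel_five := fun g hg => ?_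
    rel_seven := fun g hg => ?_
    rel_eleven := fun g hg => ?_ }⟩
  · have h := rel_of_col A.irr (g := g) (x := R.x) (fun e => hg (by
      obtain ⟨c, hc⟩ := isConj_iff.mp e
      rw [← MulEquiv.orderOf_eq (MulAut.conj c) g, MulAut.conj_apply, hc, R.hx])) A.five
    simp only [Fin.sum_univ_succ, M22Table.fcol] at h
    simp at h
    rw [A.triv, trivChar_apply] at h
    linear_combination -h
  · have h := S.F.rel_split (triv_mem7 S) (θ := A.irr 2) (by rw [A.hY7]; simp) g hg
    rw [S.hset, Finset.sum_pair S.ne, S.hεy, S.s55, S.s2, ← A.i4, ← A.i5] at h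
    push_cast at h
    linear_combination h
  · have h := D.F.rel_split D.triv_memX (θ := A.irr 9) (by rw [A.hY]; simp) g hg
    rw [Q.hset, Finset.sum_insert (by simp [Q.nab, Q.nac, Q.nad]), Finset.sum_insert (by simp [Q.nbc, Q.nbd]),
      Finset.sum_pair Q.ncd, ← D.sg_sd (D.F.mem_X Q.mem_a).1, ← D.sg_sd (D.F.mem_X Q.mem_b).1,
      ← D.sg_sd (D.F.mem_X Q.mem_c).1, ← D.sg_sd (D.F.mem_X Q.mem_d).1,
      ← Q.sg_T (θ := A.irr 9) (by rw [A.hY]; simp), Quad.T, A.sda, A.sdb, A.sdc, A.sdd,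
      ← A.i1, ← A.i2, ← A.i3, ← A.i7] at h
    simp [sg, th] at h
    linear_combination h

end CfsgLib.KGroups.M22Column
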