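import Cfsg.Agent.Lib.KGroups.MathieuIdent.Hexad
import Cfsg.Agent.Lib.SmallGroups.SteinerCode22
import Cfsg.Agent.Lib.SmallGroups.MathieuSimple
import Cfsg.Prelude.Def_Spor_Mathieu

/-!
# A simple group of order 443520 with a doubly transitive action of degree 22 is `M22`
-/

set_option autoImplicit false
open scoped Pointwise

namespace CfsgLib.KGroups.M22Ident

open Cfsg CfsgLib.KGroups.MathieuIdent

variable {G α : Type*} [Group G] [Finite G] [MulAction G α] [Fintype α] [DecidableEq α]

/-- The hexads: six-element fixed point sets of subgroups of order 16. -/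
def hexads (G α : Type*) [Group G] [MulAction G α] : Set (Finset α) :=
  {B | B.card = 6 ∧ ∃ P : Subgroup G, Nat.card P = 16 ∧ ∀ z, z ∈ B ↔ ∀ g ∈ P, g • z = z}

theorem isSteiner (S : Is22 G α) : IsSteinerSystem 3 6 (hexads G α) := by
  refine ⟨fun b hb => hb.1, fun s hs => ?_⟩
  obtain ⟨a, b, c, hab, hac, hbc, rfl⟩ := Finset.card_eq_three.mp hs
  obtain ⟨P, hP, hfix, huniq, B, hB, hBP⟩ := S.exists_hexad hab hac hbc
  refine ⟨B, ⟨⟨hB, P, hP, hBP⟩, ?_⟩, ?_⟩
  · intro z hz
    rw [hBP]
    intro g hg
    obtain ⟨h1, h2, h3⟩ := hfix g hg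
    simp only [Finset.mem_insert, Finset.mem_singleton] at hz
    rcases hz with rfl | rfl | rfl
    exacts [h1, h2, h3]
  · rintro B' ⟨⟨-, P', hP', hB'P⟩, hsub⟩
    have e : P' = P := huniq P' hP' fun g hg =>
      ⟨(hB'P a).mp (hsub (by simp)) g hg, (hB'P b).mp (hsub (by simp)) g hg,
        (hB'P c).mp (hsub (by simp)) g hg⟩
    subst e
    exact Finset.ext fun z => (hB'P z).trans (hBP z).symm

theorem smul_mem_hexads (g : G) {B : Finset α} (hB : B ∈ hexads G α) :
    B.image (g • ·) ∈ hexads G α := by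
  obtain ⟨h6, P, hP, hBP⟩ := hB
  refine ⟨by rw [Finset.card_image_of_injective _ (MulAction.injective g), h6],
    P.map (MulAut.conj g).toMonoidHom, by rw [Subgroup.card_map_of_injective (MulAut.conj g).injective, hP],
    fun z => ?_⟩
  rw [Finset.mem_image]
  constructor
  · rintro ⟨w, hw, rfl⟩ _ ⟨h, hh, rfl⟩
    show (g * h * g⁻¹) • g • w = g • w
    rw [mul_smul, inv_smul_smul, mul_smul, (hBP w).mp hw h hh]
  · intro hz
    refine ⟨g⁻¹ • z, (hBP _).mpr fun h hh => ?_, smul_inv_smul g z⟩
    have : (g * h * g⁻¹) • z = z := hz _ ⟨h, hh, rfl⟩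
    rw [mul_smul, mul_smul] at this
    exact eq_inv_smul_iff.mpr this

/-- The embedding into the automorphism group of the hexads. -/
theorem exists_embedding (S : Is22 G α) :
    ∃ f : G →* ↥(setSystemAut (hexads G α)), Function.Injective f := by
  have := S.fs
  refine ⟨(MulAction.toPermHom G α).codRestrict _ fun g => ?_, fun g h e => ?_⟩
  · exact SmallGroups.SteinerCode.mem_aut_of_forall fun b hb => smul_mem_hexads g hb
  · refine eq_of_smul_eq_smul (α := α) fun x => ?_
    exact Equiv.ext_iff.mp (congrArg Subtype.val e) x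

/-- Isomorphic set systems have isomorphic automorphism groups. -/
theorem autIso {α β : Type*} [Fintype α] [DecidableEq α] [Fintype β] [DecidableEq β] {B : Set (Finset α)}
    {B' : Set (Finset β)} (h : SetSystemIso B B') :
    Nonempty (↥(setSystemAut B) ≃* ↥(setSystemAut B')) := by
  obtain ⟨e, he⟩ := h
  have key : ∀ g : Equiv.Perm α, e.permCongr g ∈ setSystemAut B' ↔ g ∈ setSystemAut B := by
    intro g
    have hb : ∀ b : Finset α, (b.image e).image (e.permCongr g) = (b.image g).image e := fun b => by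
      rw [Finset.image_image, Finset.image_image]
      congr 1
      funext x; simp
    constructor
    · intro hg
      refine SmallGroups.SteinerCode.mem_aut_of_forall fun b hb' => ?_
      have := SmallGroups.SteinerCode.aut_image hg (b := b.image e) (he ▸ ⟨b, hb', rfl⟩)
      rw [hb, ← he] at this
      obtain ⟨c, hc, e'⟩ := this
      exact (Finset.image_injective e.injective e') ▸ hc
    · intro hg
      refine SmallGroups.SteinerCode.mem_aut_of_forall fun b hb' => ?_
      rw [← he] at hb' ⊢
      obtain ⟨c, hc, rfl⟩ := hb'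
      exact ⟨c.image g, SmallGroups.SteinerCode.aut_image hg hc, (hb c).symm⟩
  refine ⟨(MulEquiv.subgroupMap e.permCongrHom (setSystemAut B)).trans (MulEquiv.subgroupCongr ?_)⟩
  ext g
  rw [← MulEquiv.toMonoidHom_eq_coe, Subgroup.mem_map_equiv]
  have := key (e.permCongr.symm g)
  rw [Equiv.apply_symm_apply] at this
  exact this.symm

/-- Two simple subgroups of half order coincide. -/
theorem eq_of_half {A : Type*} [Group A] [Finite A] {X Y : Subgroup A} [IsSimpleGroup Y]
    (hX : 2 * Nat.card X = Nat.card A) (hY : 2 * Nat.card Y = Nat.card A) (h3 : 2 < Nat.card X) :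
    X = Y := by
  have hXn : X.Normal := by
    refine Subgroup.normal_of_index_eq_two ?_
    have := Subgroup.index_mul_card X
    rw [← hX] at this
    exact Nat.eq_of_mul_eq_mul_right Nat.card_pos this
  rcases ((inferInstance : (X.subgroupOf Y).Normal)).eq_bot_or_eq_top with h | h
  · exfalso
    rw [Subgroup.subgroupOf_eq_bot, disjoint_iff] at h
    have := card_mul_le X Y
    rw [h, Subgroup.card_bot, mul_one, ← hX, show Nat.card Y = Nat.card X by omega] at this
    have := Nat.le_of_mul_le_mul_right this (by omega)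
    omega
  · exact (Subgroup.eq_of_le_of_card_ge (Subgroup.subgroupOf_eq_top.mp h) (by omega)).symm

/-- Two such groups are isomorphic. -/
theorem nonempty_mulEquiv {G' β : Type*} [Group G'] [Finite G'] [MulAction G' β] [Fintype β] [DecidableEq β]
    [IsSimpleGroup G] [IsSimpleGroup G'] (S : Is22 G α) (S' : Is22 G' β) : Nonempty (G ≃* G') := by
  obtain ⟨f, hf⟩ := exists_embedding S
  obtain ⟨f', hf'⟩ := exists_embedding S'
  have hB := isSteiner S
  have hB' := isSteiner S'
  obtain ⟨ι⟩ := autIso (SmallGroups.SteinerCode.iso22 S.card S'.card hB hB')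
  obtain ⟨hcard, -, -⟩ := SmallGroups.SteinerCode.aut22 S'.card hB'
  have h1 : Function.Injective (ι.toMonoidHom.comp f) := ι.injective.comp hf
  let e1 := MonoidHom.ofInjective h1
  let e2 := MonoidHom.ofInjective hf'
  have c1 : Nat.card (ι.toMonoidHom.comp f).range = 443520 := by rw [← Nat.card_congr e1.toEquiv, S.order]
  have c2 : Nat.card f'.range = 443520 := by rw [← Nat.card_congr e2.toEquiv, S'.order]
  have : IsSimpleGroup f'.range := SmallGroups.MathieuSimple.isSimpleGroup_congr' e2
  have heq : (ι.toMonoidHom.comp f).range = f'.range :=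
    eq_of_half (by rw [c1, hcard]) (by rw [c2, hcard]) (by rw [c1]; norm_num)
  exact ⟨(e1.trans (MulEquiv.subgroupCongr heq)).trans e2.symm⟩

section Concrete

/-- The concrete group. -/
abbrev T22 : Subgroup M24 :=
  MulAction.stabilizer M24 (none : GolayPt) ⊓ MulAction.stabilizer M24 (some 0 : GolayPt)

/-- Its twenty-two points. -/
abbrev Pts : Type := {x : GolayPt // x ≠ none ∧ x ≠ some 0}

instance instActPts : MulAction ↥T22 Pts where
  smul g x := ⟨(g : M24) • (x : GolayPt),
    fun e => x.2.1 (smul_left_cancel (g : M24) (e.trans g.2.1.symm)),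
    fun e => x.2.2 (smul_left_cancel (g : M24) (e.trans g.2.2.symm))⟩
  one_smul x := Subtype.ext (one_smul _ (x : GolayPt))
  mul_smul g h x := Subtype.ext (mul_smul (g : M24) h (x : GolayPt))

theorem is22_T22 : Is22 ↥T22 Pts := by
  have hne : (none : GolayPt) ≠ some 0 := by simp
  refine ⟨?_, SmallGroups.MathieuSimple.card_stab_two hne, ⟨fun {g h} e => ?_⟩, ?_⟩
  · decide +kernel
  · refine Subtype.ext (Subtype.ext (Equiv.ext fun x => ?_))
    by_cases hx : x ≠ none ∧ x ≠ some 0
    · exact congrArg Subtype.val (e ⟨x, hx⟩)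
    · rcases not_and_or.mp hx with hx | hx <;> rw [not_not.mp hx]
      · exact g.2.1.trans h.2.1.symm
      · exact g.2.2.trans h.2.2.symm
  · refine MulAction.is_two_pretransitive_iff.mpr fun {a b c d} hab hcd => ?_
    have mk : ∀ a b : Pts, a ≠ b →
        Function.Injective ![none, some 0, (a : GolayPt), (b : GolayPt)] := by
      intro a b hab
      have ha := a.2
      have hb := b.2
      have hab' : (a : GolayPt) ≠ b := fun e => hab (Subtype.ext e)
      intro i j e
      fin_cases i <;> fin_cases j <;> first | rfl | (exfalso; simp_all [eq_comm])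
    obtain ⟨g, hg⟩ := SmallGroups.MathieuSimple.exists_map_of_le (show 4 ≤ 5 by norm_num)
      ⟨_, mk a b hab⟩ ⟨_, mk c d hcd⟩
    exact ⟨⟨g, hg 0, hg 1⟩, Subtype.ext (hg 2), Subtype.ext (hg 3)⟩

theorem equivM22 : Nonempty (↥T22 ≃* ↥Spor.M22) :=
  ⟨{ toFun := fun g => ⟨((g : M24) : Equiv.Perm GolayPt), ⟨⟨(g : M24).2, g.2.1⟩, g.2.2⟩⟩
     invFun := fun g => ⟨⟨g.1, g.2.1.1⟩, g.2.1.2, g.2.2⟩
     left_inv := fun _ => rfl
     right_inv := fun _ => rfl
     map_mul' := fun _ _ => rfl }⟩

end Concrete

/-- Recognition of `M22` from a doubly transitive action. -/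
theorem isoM22_of_is22 [IsSimpleGroup G] (S : Is22 G α) : Spor.IsoM22 G := by
  have : IsSimpleGroup ↥T22 := SmallGroups.MathieuSimple.isSimple_M22 (by simp)
  obtain ⟨e⟩ := nonempty_mulEquiv S is22_T22
  obtain ⟨e'⟩ := equivM22
  exact ⟨e.trans e'⟩

/-- Recognition of `M22` from a subgroup of index 22 with doubly transitive coset action. -/
theorem isoM22 {G : Type*} [Group G] [Finite G] [IsSimpleGroup G] (hG : Nat.card G = 443520)
    (H : Subgroup G) (hH : H.index = 22) (h2 : MulAction.IsMultiplyPretransitive G (G ⧸ H) 2) :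
    Spor.IsoM22 G := by
  classical
  cases nonempty_fintype (G ⧸ H)
  have hc : Fintype.card (G ⧸ H) = 22 := by rw [← Nat.card_eq_fintype_card, ← Subgroup.index_eq_card, hH]
  refine isoM22_of_is22 (α := G ⧸ H) ⟨hc, hG, ⟨fun {g h} e => ?_⟩, h2⟩
  have hbot : (MulAction.toPermHom G (G ⧸ H)).ker = ⊥ := by
    refine ((inferInstance : (MulAction.toPermHom G (G ⧸ H)).ker.Normal)).eq_bot_or_eq_top.resolve_right fun ht => ?_
    have : H = ⊤ := eq_top_iff.mpr fun x _ => by
      have hx := Equiv.ext_iff.mp (show MulAction.toPermHom G (G ⧸ H) x = 1 from ht.ge (Subgroup.mem_top x))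
        ((1 : G) : G ⧸ H)
      rw [MulAction.toPermHom_apply, MulAction.toPerm_apply, MulAction.Quotient.smul_coe, smul_eq_mul,
        mul_one, Equiv.Perm.one_apply, QuotientGroup.eq, mul_one] at hx
      exact inv_mem_iff.mp hx
    rw [this, Subgroup.index_top] at hH
    omega
  exact (MonoidHom.ker_eq_bot_iff _).mp hbot (Equiv.ext e)

end CfsgLib.KGroups.M22Ident
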