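import Cfsg.Agent.Lib.KGroups.M22Orbit
import Cfsg.Agent.Lib.Char.Induced

/-!
# A doubly transitive action of degree 22 of a simple group of order 443520

The subgroup over the Sylow 3-normaliser has order 20160; its permutation character is the trivial character
plus the one of degree 21.
-/

set_option autoImplicit false

namespace CfsgLib.KGroups.M22Point

open Cfsg CfsgLib.Blocks CfsgLib.KGroups.M22Table CfsgLib.KGroups.M22Three CfsgLib.KGroups.M22Orbit Subgroup
open CfsgLib.SmallGroups
open scoped Classical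

variable {G : Type*} [Group G] [Fintype G] [IsSimpleGroup G] (T : Table G) (hG : Nat.card G = 443520)

include hG in
/-- A proper subgroup has index at least eleven. -/
theorem index_ge {H : Subgroup G} (hH : H ≠ ⊤) : 11 ≤ H.index := by
  have h := SimpleTools.two_mul_card_dvd_factorial
    (SimpleTools.not_comm_of_card (by rw [hG]; norm_num)) H hH
  rw [hG] at h
  exact (Nat.Prime.dvd_factorial (by norm_num)).mp (Dvd.dvd.trans (by norm_num) h)

variable (L : Loc G) (M : Subgroup G) (hNM : L.N ≤ M)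

include hNM in
theorem card_eq : Nat.card M = Nat.card (Pt L M) * 72 := by
  have h := (L.N.subgroupOf M).index_mul_card
  rw [Nat.card_congr (subgroupOfEquivOfLe hNM).toEquiv, show Nat.card L.N = 72 from L.hN, index_eq_card] at h
  exact h.symm

include hNM in
/-- The number of conjugates is one modulo three. -/
theorem mod_three : Nat.card (Pt L M) % 3 = 1 := by
  obtain ⟨h3, S, hS⟩ := L.sylow
  have hle : (S : Subgroup G) ≤ M := hS ▸ L.P_le.trans hNM
  have h := card_sylow_modEq_one 3 M
  rw [(S.subtype hle).card_eq_index_normalizer] at h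
  have e : normalizer (((S.subtype hle : Sylow 3 M) : Subgroup M) : Set M) = L.N.subgroupOf M := by
    show normalizer (((S : Subgroup G).subgroupOf M : Subgroup M) : Set M) = _
    rw [← Subgroup.subgroupOf_normalizer_eq hle, hS]
    rfl
  change (normalizer (((S.subtype hle : Sylow 3 M) : Subgroup M) : Set M)).index ≡ 1 [MOD 3] at h
  rw [e, index_eq_card] at h
  exact h

include hG hNM in
/-- The conjugates of an element of order `q` are not counted by a number divisible by `q`. -/
theorem sylow_count {q B : ℕ} [hq : Fact q.Prime] (hq72 : Nat.Coprime q 72)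
    (hqq : ¬ q * q ∣ 443520) (hB : ∀ x : G, orderOf x = q → Nat.card (normalizer ((zpowers x : Subgroup G) : Set G)) = B)
    (hdvd : q ∣ Nat.card (Pt L M)) :
    ∃ d, d ∣ B ∧ q ∣ d ∧ d ≠ q ∧ d ∣ Nat.card M ∧ Nat.card M / d % q = 1 := by
  have hMc := card_eq L M hNM
  obtain ⟨m, hm⟩ := hdvd
  have hM' : Nat.card M = q ^ 1 * (m * 72) := by rw [hMc, hm, pow_one]; ring
  have hMG : Nat.card M ∣ 443520 := hG ▸ card_subgroup_dvd_card M
  have hnd : ¬ q ∣ m * 72 := fun h => hqq ((mul_dvd_mul_left q h).trans (by rw [pow_one] at hM'; rw [← hM']; exact hMG))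
  obtain ⟨Q⟩ : Nonempty (Sylow q M) := inferInstance
  have hQ : Nat.card (Q : Subgroup M) = q :=
    (SimpleTools.card_sylow_subgroup hM' hnd Q).trans (pow_one q)
  obtain ⟨x, hxQ, hx, hzp⟩ := PrimeOrder.exists_generator Q hQ
  set N := normalizer ((Q : Subgroup M) : Set M)
  have hxG : orderOf (x : G) = q := (Subgroup.orderOf_coe x).trans hx
  have hle : N.map M.subtype ≤ normalizer ((zpowers (x : G) : Subgroup G) : Set G) := by
    rintro _ ⟨n, hn, rfl⟩
    refine mem_normalizer_of_le fun a ha => ?_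
    obtain ⟨i, rfl⟩ := mem_zpowers_iff.mp ha
    have h1 : n * x ^ i * n⁻¹ ∈ zpowers x := by
      rw [hzp]
      exact (mem_normalizer_iff.mp hn _).mp (hzp ▸ zpow_mem (mem_zpowers x) i)
    obtain ⟨j, hj⟩ := mem_zpowers_iff.mp h1
    exact mem_zpowers_iff.mpr ⟨j, by simpa using congrArg Subtype.val hj⟩
  have hdB : Nat.card N ∣ B := by
    rw [← hB _ hxG, ← Subgroup.card_map_of_injective M.subtype_injective]
    exact card_dvd_of_le hle
  have hqd : q ∣ Nat.card N := by
    have := card_dvd_of_le (le_normalizer (H := (Q : Subgroup M)))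
    rwa [hQ] at this
  refine ⟨Nat.card N, hdB, hqd, fun e => ?_, card_subgroup_dvd_card N, ?_⟩
  · -- Burnside's transfer would give a normal complement
    have hNQ : N = (Q : Subgroup M) := (eq_of_le_of_card_ge le_normalizer (by rw [hQ, e])).symm
    have hP : normalizer ((Q : Subgroup M) : Set M) ≤ centralizer ((Q : Subgroup M) : Set M) := by
      intro a ha
      have ha' : a ∈ (Q : Subgroup M) := hNQ ▸ ha
      rw [mem_centralizer_iff]
      intro b hb
      rw [← hzp] at ha'
      have hb' : b ∈ zpowers x := by rw [hzp]; exact hb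
      obtain ⟨i, rfl⟩ := mem_zpowers_iff.mp ha'
      obtain ⟨j, rfl⟩ := mem_zpowers_iff.mp hb'
      exact ((Commute.refl x).zpow_zpow j i).eq
    set φ := MonoidHom.transferSylow Q hP
    have hker : ∀ y : M, (y : G) ∈ L.N → y ∈ φ.ker := fun y hy => by
      have h1 : orderOf (φ y) ∣ 72 := by
        refine (orderOf_map_dvd φ y).trans ?_
        rw [← Subgroup.orderOf_coe y, ← L.hN]
        exact orderOf_dvd_natCard L.N hy
      have h2 : orderOf (φ y) ∣ q := by have := _root_.orderOf_dvd_natCard (φ y); rwa [hQ] at this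
      exact orderOf_eq_one_iff.mp (Nat.eq_one_of_dvd_one ((Nat.dvd_gcd h2 h1).trans (by rw [hq72.gcd_eq_one])))
    obtain ⟨h3, S, hS⟩ := L.sylow
    have hle3 : (S : Subgroup G) ≤ M := hS ▸ L.P_le.trans hNM
    have hsup := Sylow.normalizer_sup_eq_top' (N := φ.ker) (S.subtype hle3) fun y hy =>
      hker y (L.P_le (hS ▸ Subgroup.mem_subgroupOf.mp hy))
    have e3 : normalizer (((S.subtype hle3 : Sylow 3 M) : Subgroup M) : Set M) = L.N.subgroupOf M := by
      show normalizer (((S : Subgroup G).subgroupOf M : Subgroup M) : Set M) = _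
      rw [← Subgroup.subgroupOf_normalizer_eq hle3, hS]
      rfl
    have htop : φ.ker = ⊤ := by
      rw [eq_top_iff, ← hsup]
      refine sup_le (fun y hy => hker y ?_) le_rfl
      have hy' : y ∈ normalizer (((S.subtype hle3 : Sylow 3 M) : Subgroup M) : Set M) := hy
      rw [e3] at hy'
      exact Subgroup.mem_subgroupOf.mp hy'
    have hdis := MonoidHom.ker_transferSylow_disjoint Q hP (Q : Subgroup M) Q.2
    rw [show (MonoidHom.transferSylow Q hP).ker = ⊤ from htop, top_disjoint] at hdis
    rw [hdis, Subgroup.card_bot] at hQ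
    exact hq.out.one_lt.ne hQ
  · have h := card_sylow_modEq_one q M
    rw [Q.card_eq_index_normalizer] at h
    change N.index ≡ 1 [MOD q] at h
    rw [← N.index_mul_card, Nat.mul_div_cancel _ Nat.card_pos]
    exact Eq.trans h (Nat.mod_eq_of_lt hq.out.one_lt)

include hG T hNM in
/-- The subgroup has index 22. -/
theorem index_eq {g : G} (hM : M ≠ ⊤) (hg : g ∈ M) (hgN : g ∉ L.N)
    (hgK : (∀ k ∈ L.K, Commute g k) ∨ ∃ c ∈ L.K, orderOf c = 8 ∧ g * c * g⁻¹ = c ^ 3) : M.index = 22 := by
  set n := Nat.card (Pt L M)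
  have hMc := card_eq L M hNM
  have hidx := M.index_mul_card
  rw [hG, hMc] at hidx
  have hge := index_ge hG hM
  have hn560 : n ≤ 560 := by nlinarith
  have hn6160 : n ∣ 6160 := ⟨M.index, by linarith⟩
  have h3 := mod_three L M hNM
  obtain ⟨f, hf, -, h9⟩ := exists_fix L M hNM T hG
  have h9' : n % 9 = 1 ∨ n % 9 = 4 := by rcases hf with rfl | rfl <;> omega
  have h1 : n ≠ 1 := fun e => hgN (by
    have : Subsingleton (Pt L M) := (Nat.card_eq_one_iff_unique.mp e).1
    exact (smul_base_iff L M).mp (Subsingleton.elim ((⟨g, hg⟩ : M) • base L M) (base L M)))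
  have h4 : n ≠ 4 := fun e => not_four L M hNM T hG hg hgN e
  have h10 : n ≠ 10 := fun e => by
    rcases hgK with hK | ⟨c, hc, hc8, hgc⟩
    · exact not_ten_quaternion L M hNM T hG e hg hgN hK
    · exact not_ten_cyclic L M hNM T hG e hg hgN hc hc8 hgc
  have key : ∀ k ∈ Finset.range 561, k ∣ 6160 → k % 3 = 1 → (k % 9 = 1 ∨ k % 9 = 4) →
      k ∈ ([1, 4, 10, 22, 28, 40, 55, 112, 154, 220, 280] : List ℕ) := by
    decide +kernel
  have hmem := key n (Finset.mem_range.mpr (by omega)) hn6160 h3 h9'
  have h5 : n = 40 → False := fun e => by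
    have : Fact (Nat.Prime 5) := ⟨by norm_num⟩
    obtain ⟨d, hd, hd', hdq, hdM, hmod⟩ := sylow_count hG L M hNM (q := 5) (by norm_num) (by norm_num)
      T.norm_five (show 5 ∣ n by rw [e]; norm_num)
    have hk : ∀ d ∈ Finset.range 21, d ∣ 20 → 5 ∣ d → d ≠ 5 → d ∣ 40 * 72 → 40 * 72 / d % 5 ≠ 1 := by
      decide +kernel
    rw [hMc, show Nat.card (Pt L M) = 40 from e] at hdM hmod
    exact hk d (Finset.mem_range.mpr (by have := Nat.le_of_dvd (by norm_num) hd; omega)) hd hd' hdq hdM hmod
  have h7 : n = 28 ∨ n = 112 → False := fun e => by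
    have : Fact (Nat.Prime 7) := ⟨by norm_num⟩
    obtain ⟨d, hd, hd', hdq, hdM, hmod⟩ := sylow_count hG L M hNM (q := 7) (by norm_num) (by norm_num)
      T.norm_seven (show 7 ∣ n by rcases e with e | e <;> rw [e] <;> norm_num)
    have hk : ∀ d ∈ Finset.range 22, ∀ k ∈ ([28, 112] : List ℕ), d ∣ 21 → 7 ∣ d → d ≠ 7 → d ∣ k * 72 →
        k * 72 / d % 7 ≠ 1 := by
      decide +kernel
    rw [hMc] at hdM hmod
    exact hk d (Finset.mem_range.mpr (by have := Nat.le_of_dvd (by norm_num) hd; omega)) n
      (by rcases e with e | e <;> rw [e] <;> simp) hd hd' hdq hdM hmod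
  have h11 : n = 22 ∨ n = 55 ∨ n = 154 ∨ n = 220 → False := fun e => by
    have : Fact (Nat.Prime 11) := ⟨by norm_num⟩
    obtain ⟨d, hd, hd', hdq, hdM, hmod⟩ := sylow_count hG L M hNM (q := 11) (by norm_num) (by norm_num)
      T.norm_eleven (show 11 ∣ n by rcases e with e | e | e | e <;> rw [e] <;> norm_num)
    have hk : ∀ d ∈ Finset.range 56, ∀ k ∈ ([22, 55, 154, 220] : List ℕ), d ∣ 55 → 11 ∣ d → d ≠ 11 → d ∣ k * 72 →
        k * 72 / d % 11 ≠ 1 := by
      decide +kernel
    rw [hMc] at hdM hmod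
    exact hk d (Finset.mem_range.mpr (by have := Nat.le_of_dvd (by norm_num) hd; omega)) n
      (by rcases e with e | e | e | e <;> rw [e] <;> simp) hd hd' hdq hdM hmod
  have h280 : n = 280 := by
    simp only [List.mem_cons, List.not_mem_nil, or_false] at hmem
    rcases hmem with e | e | e | e | e | e | e | e | e | e | e
    · exact absurd e h1
    · exact absurd e h4
    · exact absurd e h10
    · exact (h11 (Or.inl e)).elim
    · exact (h7 (Or.inl e)).elim
    · exact (h5 e).elim
    · exact (h11 (Or.inr (Or.inl e))).elim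
    · exact (h7 (Or.inr e)).elim
    · exact (h11 (Or.inr (Or.inr (Or.inl e)))).elim
    · exact (h11 (Or.inr (Or.inr (Or.inr e)))).elim
    · exact e
  rw [show Nat.card (Pt L M) = 280 from h280] at hidx
  omega

set_option maxHeartbeats 1000000 in
include T hG in
/-- The cosets of a subgroup of index 22 form a doubly transitive set. -/
theorem two_transitive (H : Subgroup G) (hH : H.index = 22) :
    MulAction.IsMultiplyPretransitive G (G ⧸ H) 2 := by
  set π : G → ℂ := Cfsg.indFun H (fun _ => 1) with hπ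
  have hπc : Cfsg.IsCharacter G π := CfsgLib.Char.IsCharacter.indFun H CfsgLib.Char.isCharacter_one
  obtain ⟨hcl, hnat⟩ := CfsgLib.Char.isCharacter_iff.mp hπc
  choose c hc using fun χ : IrrCharacter G => hnat χ χ.2
  have hexp : ∀ g, π g = ∑ χ : IrrCharacter G, (c χ : ℂ) * (χ : G → ℂ) g := fun g => by
    conv_lhs => rw [CfsgLib.Char.IsClassFunction.eq_sum_irr hcl]
    simp [hc, Finset.sum_apply]
  have hrec : ∀ χ : IrrCharacter G, (Nat.card H : ℂ) * c χ = ∑ h : H, (χ : G → ℂ) h := fun χ => by
    have h := hc χ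
    rw [hπ, CfsgLib.Char.classInner_indFun H _ (CfsgLib.Char.IsIrrCharacter.isClassFunction χ.2)] at h
    have h' := congrArg (starRingEnd ℂ) h
    rw [CfsgLib.Char.classInner_conj_symm, CfsgLib.Char.classInner_fun_one_right, map_natCast] at h'
    rw [← h', ← mul_assoc, mul_inv_cancel₀ (Nat.cast_ne_zero.mpr Nat.card_pos.ne'), one_mul]
  have hc0 : c (T.irr 0) = 1 := by
    have h := hrec (T.irr 0)
    simp only [T.triv, trivChar_apply, Finset.sum_const, Finset.card_univ, nsmul_eq_mul, mul_one,
      ← Nat.card_eq_fintype_card] at h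
    rw [T.triv]
    exact_mod_cast mul_left_cancel₀ (Nat.cast_ne_zero.mpr Nat.card_pos.ne') (h.trans (mul_one _).symm)
  have hdeg : ∑ i, c (T.irr i) * degs i = 22 := by
    have h := hexp 1
    rw [hπ, CharDeep.PermChar.indFun_one_eq, CharDeep.PermChar.fixCount] at h
    simp only [irr_one_eq, one_smul] at h
    rw [Nat.card_congr (Equiv.subtypeUnivEquiv fun _ => trivial), T.sum_eq] at h
    simp only [T.deg] at h
    rw [← hH, Subgroup.index]
    exact_mod_cast h.symm
  rw [← Finset.add_sum_erase _ _ (Finset.mem_univ (0 : Fin 12)), hc0, show degs 0 = 1 from rfl] at hdeg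
  have hbig : ∀ i : Fin 12, i ≠ 0 → i ≠ 1 → 22 ≤ degs i := by decide +kernel
  have hother : ∀ i : Fin 12, i ≠ 0 → i ≠ 1 → c (T.irr i) = 0 := fun i h0 h1 => by
    by_contra hne
    have h := Finset.single_le_sum (f := fun j => c (T.irr j) * degs j) (fun _ _ => Nat.zero_le _)
      (Finset.mem_erase.mpr ⟨h0, Finset.mem_univ i⟩)
    have h' : 1 * 22 ≤ c (T.irr i) * degs i := Nat.mul_le_mul (Nat.pos_of_ne_zero hne) (hbig i h0 h1)
    omega
  have hc1 : c (T.irr 1) = 1 := by
    rw [Finset.sum_eq_single (1 : Fin 12) (fun i hi h1 => by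
      rw [hother i (Finset.mem_erase.mp hi).1 h1, zero_mul]) (fun h => absurd (Finset.mem_erase.mpr
        ⟨by decide, Finset.mem_univ _⟩) h), show degs 1 = 21 from rfl] at hdeg
    omega
  -- the stabiliser has two orbits
  have hfix : ∀ h : H, (Fintype.card (MulAction.fixedBy (G ⧸ H) h) : ℂ) =
      1 + (T.irr 1 : G → ℂ) h := fun h => by
    have h1 := hexp (h : G)
    rw [hπ, CharDeep.PermChar.indFun_one_eq, CharDeep.PermChar.fixCount, T.sum_eq,
      ← Finset.add_sum_erase _ _ (Finset.mem_univ (0 : Fin 12)),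
      ← Finset.add_sum_erase _ _ (show (1 : Fin 12) ∈ Finset.univ.erase 0 from
        Finset.mem_erase.mpr ⟨by decide, Finset.mem_univ _⟩),
      Finset.sum_eq_zero (fun i hi => by
        simp only [Finset.mem_erase] at hi
        rw [hother i hi.2.1 hi.1, Nat.cast_zero, zero_mul]), add_zero, hc0, hc1, T.triv, trivChar_apply] at h1
    simp only [Nat.cast_one, one_mul] at h1
    rw [← h1, ← Nat.card_eq_fintype_card]
    rfl
  have hsum : ∑ h : H, Fintype.card (MulAction.fixedBy (G ⧸ H) h) = 2 * Nat.card H := by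
    apply Nat.cast_injective (R := ℂ)
    push_cast
    rw [Finset.sum_congr rfl fun h _ => hfix h, Finset.sum_add_distrib, ← hrec, hc1, Finset.sum_const,
      Finset.card_univ, nsmul_eq_mul, ← Nat.card_eq_fintype_card]
    push_cast
    ring
  have := Fintype.ofFinite (MulAction.orbitRel.Quotient H (G ⧸ H))
  have hB := MulAction.sum_card_fixedBy_eq_card_orbits_mul_card_group H (G ⧸ H)
  rw [hsum, ← Nat.card_eq_fintype_card (α := H)] at hB
  have h2 : Fintype.card (MulAction.orbitRel.Quotient H (G ⧸ H)) = 2 :=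
    (Nat.eq_of_mul_eq_mul_right Nat.card_pos hB).symm
  set b : G ⧸ H := ((1 : G) : G ⧸ H) with hb
  have hHb : ∀ h : H, h • b = b := fun h => by
    show (h : G) • b = b
    rw [hb, CharDeep.PermChar.smul_mk_eq_iff]
    simp
  have horb : ∀ x y : G ⧸ H, x ≠ b → y ≠ b → ∃ h : H, (h : G) • x = y := fun x y hx hy => by
    set mk : G ⧸ H → MulAction.orbitRel.Quotient H (G ⧸ H) := fun z => Quotient.mk'' z
    have hne : ∀ z, z ≠ b → mk z ≠ mk b := fun z hz e => by
      obtain ⟨h, hh⟩ := Quotient.exact' e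
      exact hz (hh.symm.trans (hHb h))
    have heq : mk x = mk y := by
      by_contra hxy
      have h3 := Finset.card_le_univ ({mk b, mk x, mk y} : Finset _)
      rw [h2, Finset.card_eq_three.mpr ⟨_, _, _, (hne x hx).symm, (hne y hy).symm, hxy, rfl⟩] at h3
      omega
    obtain ⟨h, hh⟩ := Quotient.exact' heq.symm
    exact ⟨h, hh⟩
  rw [MulAction.is_two_pretransitive_iff]
  intro a a' d d' ha hd
  obtain ⟨u, hu⟩ := MulAction.exists_smul_eq G a b
  obtain ⟨v, hv⟩ := MulAction.exists_smul_eq G d b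
  obtain ⟨h, hh⟩ := horb (u • a') (v • d') (fun e => ha (smul_left_cancel u (hu.trans e.symm)))
    (fun e => hd (smul_left_cancel v (hv.trans e.symm)))
  refine ⟨v⁻¹ * (h : G) * u, ?_, ?_⟩
  · rw [mul_smul, mul_smul, hu, show (h : G) • b = b from hHb h, inv_smul_eq_iff, hv]
  · rw [mul_smul, mul_smul, hh, inv_smul_smul]

omit [IsSimpleGroup G] in
/-- A simple group of order 443520 with the known part of the character table has a doubly transitive action
of degree 22. -/
theorem exists_doubly [IsSimpleGroup G] (hG : Nat.card G = 443520) (T : Table G) :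
    ∃ H : Subgroup G, H.index = 22 ∧ MulAction.IsMultiplyPretransitive G (G ⧸ H) 2 := by
  obtain ⟨L⟩ := exists_loc T hG
  obtain ⟨M, hM, hNM, g, hg, hgN, hgK⟩ := M22Fix.exists_stabiliser T hG L
  have h := index_eq T hG L M hNM hM hg hgN hgK
  exact ⟨M, h, two_transitive T hG M h⟩

end CfsgLib.KGroups.M22Point
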