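import Cfsg.Agent.Lib.Recognition.CountSimple
import Cfsg.Agent.Lib.KGroups.M22Column
import Cfsg.Agent.Lib.KGroups.M22Point
import Cfsg.Agent.Lib.KGroups.M22Ident
import Cfsg.Agent.Lib.Sporadic.MathieuOutTwo

/-!
# `M22` from its order, and from its order and element order counts
-/

set_option autoImplicit false

namespace CfsgLib.KGroups.M22Count

open Cfsg Subgroup CfsgLib.SmallGroups.Golay CfsgLib.SmallGroups.GolayOctads CfsgLib.SmallGroups.M24Group

/-- A simple group of order 443520 is `M22`. -/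
theorem isoM22_of_card {G : Type*} [Group G] [Finite G] [IsSimpleGroup G] (hG : Nat.card G = 443520) :
    Spor.IsoM22 G := by
  cases nonempty_fintype G
  obtain ⟨T⟩ := M22Column.exists_table hG
  obtain ⟨H, hH, h2⟩ := M22Point.exists_doubly hG T
  exact M22Ident.isoM22 hG H hH h2

theorem simple_card : IsSimpleGroup Cfsg.Spor.M22 ∧ Nat.card Cfsg.Spor.M22 = 443520 := by
  refine ⟨?_, CfsgLib.Sporadic.MathieuOutTwo.card_M22⟩
  have := CfsgLib.SmallGroups.MathieuSimple.isSimple_M22 (show (none : GolayPt) ≠ some 0 by simp)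
  let e : ↥(MulAction.stabilizer M24 (none : GolayPt) ⊓ MulAction.stabilizer M24 (some 0 : GolayPt)) ≃*
      ↥Cfsg.Spor.M22 :=
    { toFun := fun g => ⟨((g : M24) : Equiv.Perm GolayPt), ⟨⟨(g : M24).2, g.2.1⟩, g.2.2⟩⟩
      invFun := fun g => ⟨⟨g.1, g.2.1.1⟩, g.2.1.2, g.2.2⟩
      left_inv := fun _ => rfl
      right_inv := fun _ => rfl
      map_mul' := fun _ _ => rfl }
  exact CfsgLib.SmallGroups.MathieuSimple.isSimpleGroup_congr' e

/-- In a simple group of order 443520 the elements of order 11 are self-centralising. -/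
theorem centralizer_eleven {M : Type*} [Group M] [Fintype M] [IsSimpleGroup M] (hM : Nat.card M = 443520)
    {y : M} (hy : orderOf y = 11) : Nat.card ↥(centralizer ({y} : Set M)) = 11 := by
  have : Fact (Nat.Prime 11) := ⟨by norm_num⟩
  obtain ⟨P, hP⟩ := (IsPGroup.of_card (n := 1) (by rw [Nat.card_zpowers, hy, pow_one]) :
    IsPGroup 11 ↥(zpowers y)).exists_le_sylow
  have he : zpowers y = (P : Subgroup M) := Subgroup.eq_of_le_of_card_ge hP
    (by rw [M22Eleven.card_sylow_eleven hM P, Nat.card_zpowers, hy])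
  rw [← CfsgLib.Recognition.CountSimple.centralizer_coe_zpowers, he]
  exact (M22Eleven.normalizer_eleven hM P).2

/-- No prime power above one dividing 40320 is one modulo 11. -/
theorem prime_power_key {q j : ℕ} (hq : q.Prime) (hj : 1 ≤ j) (h : q ^ j ∣ 40320) : q ^ j % 11 ≠ 1 := by
  have hq' : q ∣ 40320 := (dvd_pow_self q (by omega)).trans h
  have hq7 : q = 2 ∨ q = 3 ∨ q = 5 ∨ q = 7 := by
    have h4 : q ∣ 2 ^ 7 * 3 ^ 2 * 5 * 7 := hq'
    rcases hq.dvd_mul.mp h4 with h | h
    · rcases hq.dvd_mul.mp h with h | h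
      · rcases hq.dvd_mul.mp h with h | h
        · exact Or.inl ((Nat.prime_dvd_prime_iff_eq hq Nat.prime_two).mp (hq.dvd_of_dvd_pow h))
        · exact Or.inr (Or.inl ((Nat.prime_dvd_prime_iff_eq hq Nat.prime_three).mp (hq.dvd_of_dvd_pow h)))
      · exact Or.inr (Or.inr (Or.inl ((Nat.prime_dvd_prime_iff_eq hq Nat.prime_five).mp h)))
    · exact Or.inr (Or.inr (Or.inr ((Nat.prime_dvd_prime_iff_eq hq (by norm_num)).mp h)))
  have hj16 : j < 16 := by
    by_contra hc
    have h1 : 2 ^ 16 ≤ q ^ j :=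
      (Nat.pow_le_pow_right (by norm_num) (Nat.not_lt.mp hc)).trans (Nat.pow_le_pow_left hq.two_le j)
    have := Nat.le_of_dvd (by norm_num) h
    omega
  rcases hq7 with rfl | rfl | rfl | rfl <;> interval_cases j <;> revert h <;> norm_num

/-- The counts of `M22` force simplicity. -/
theorem isSimple_of_nse {G : Type*} [Group G] [Finite G] (hcard : Nat.card G = Nat.card ↥Cfsg.Spor.M22)
    (hnse : {c : ℕ | 0 < c ∧ ∃ n : ℕ, c = Nat.card {g : G // orderOf g = n}} =
      {c : ℕ | 0 < c ∧ ∃ n : ℕ, c = Nat.card {g : ↥Cfsg.Spor.M22 // orderOf g = n}}) :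
    IsSimpleGroup G ∧ Nat.card G = 443520 := by
  obtain ⟨hs, hM⟩ := simple_card
  have : Fact (Nat.Prime 11) := ⟨by norm_num⟩
  cases nonempty_fintype ↥Cfsg.Spor.M22
  refine ⟨?_, hcard.trans hM⟩
  refine CfsgLib.Recognition.CountSimple.isSimple (p := 11) (m := 40320) (by rw [hcard, hM]) (by rw [hM])
    (by norm_num) (by norm_num) (by norm_num) (fun y hy => centralizer_eleven hM hy) hnse ?_ ?_
  · have h := card_sylow_modEq_one 11 ↥Cfsg.Spor.M22
    obtain ⟨P⟩ := (inferInstance : Nonempty (Sylow 11 ↥Cfsg.Spor.M22))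
    have h2 : Nat.card (Sylow 11 ↥Cfsg.Spor.M22) =
        (normalizer ((P : Subgroup ↥Cfsg.Spor.M22) : Set ↥Cfsg.Spor.M22)).index := P.card_eq_index_normalizer
    have h3 := (normalizer ((P : Subgroup ↥Cfsg.Spor.M22) : Set ↥Cfsg.Spor.M22)).index_mul_card
    rw [← h2, (M22Eleven.normalizer_eleven hM P).1, hM] at h3
    omega
  · exact fun q j hq hj h => prime_power_key hq hj h

end CfsgLib.KGroups.M22Count
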