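import Cfsg.Agent.Lib.KGroups.M12Reps
import Cfsg.Agent.Lib.KGroups.M12Local
import Cfsg.Agent.Lib.Blocks.SectionSums
import Mathlib.RepresentationTheory.Character

/-!
# Character tools for the simple group of order 443520

Twisted sums beside a constant, characters outside a block of prime order, and counts of pairs from two classes.
-/

set_option autoImplicit false

namespace CfsgLib.KGroups.M22Tools

open Cfsg CfsgLib.Blocks CfsgLib.KGroups.M11Tools CfsgLib.KGroups.M11Local CfsgLib.KGroups.M12Tools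
  CfsgLib.KGroups.M12Reps CfsgLib.KGroups.M12Local Subgroup
open CfsgLib.SmallGroups
open scoped Classical ComplexConjugate

variable {G : Type*} [Group G] [Fintype G]

/-- A constant on the products with an element `x` of order `p` multiplies a twisted sum by `p`. -/
theorem twist_const (χ : IrrCharacter G) {x v : G} {p n : ℕ} (hp : p.Prime) (hx : orderOf x = p)
    (hv : orderOf v = n) (hxv : Commute x v) (hpn : ¬ p ∣ n) {s : ℂ}
    (hval : ∀ i j : ℕ, ¬ p ∣ i → (χ : G → ℂ) (x ^ i * v ^ j) = s) {μ : ℂ} (hμ : μ ^ n = 1) :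
    ∃ m : ℕ, ∑ j ∈ Finset.range n, (χ : G → ℂ) (v ^ j) * μ ^ j +
      ((p : ℂ) - 1) * s * ∑ j ∈ Finset.range n, μ ^ j = (p * n : ℂ) * m := by
  haveI : Fact p.Prime := ⟨hp⟩
  have hn : 0 < n := hv ▸ orderOf_pos v
  have hcop : Nat.Coprime p n := (hp.coprime_iff_not_dvd).mpr hpn
  have hord : orderOf (x * v) = p * n := by
    rw [hxv.orderOf_mul_eq_mul_orderOf_of_coprime (by rw [hx, hv]; exact hcop), hx, hv]
  obtain ⟨m, hm⟩ := twist_nat χ hord (μ := μ) (by rw [mul_comm, pow_mul, hμ, one_pow])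
  refine ⟨m, ?_⟩
  push_cast at hm
  rw [← hm]
  have hterm : ∀ i ∈ Finset.range (p * n), (χ : G → ℂ) ((x * v) ^ i) * μ ^ i =
      if p ∣ i then (χ : G → ℂ) (v ^ (i % n)) * μ ^ (i % n) else s * μ ^ (i % n) := by
    intro i _
    rw [hxv.mul_pow, show v ^ i = v ^ (i % n) by rw [← hv, pow_mod_orderOf],
      show μ ^ i = μ ^ (i % n) from pow_eq_pow_mod i hμ]
    split_ifs with h
    · obtain ⟨c, rfl⟩ := h
      rw [pow_mul, show x ^ p = 1 from hx ▸ pow_orderOf_eq_one x, one_pow, one_mul]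
    · rw [hval i _ h]
  rw [Finset.sum_congr rfl hterm]
  -- the Chinese remainder theorem
  have key : ∀ f : ℕ → ℕ → ℂ, ∑ i ∈ Finset.range (p * n), f (i % p) (i % n) =
      ∑ a ∈ Finset.range p, ∑ b ∈ Finset.range n, f a b := by
    intro f
    rw [← Finset.sum_product']
    refine Finset.sum_bij (fun i _ => (i % p, i % n)) (fun i _ => ?_) (fun i hi j hj h => ?_) (fun ab hab => ?_)
      fun i _ => rfl
    · simp [Nat.mod_lt _ hp.pos, Nat.mod_lt _ hn]
    · rw [Finset.mem_range] at hi hj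
      simp only [Prod.mk.injEq] at h
      have : i ≡ j [MOD p * n] := (Nat.modEq_and_modEq_iff_modEq_mul hcop).mp ⟨h.1, h.2⟩
      exact this.eq_of_lt_of_lt hi hj
    · simp only [Finset.mem_product, Finset.mem_range] at hab
      obtain ⟨c, hc1, hc2⟩ := Nat.chineseRemainder hcop ab.1 ab.2
      refine ⟨c % (p * n), Finset.mem_range.mpr (Nat.mod_lt _ (Nat.mul_pos hp.pos hn)), ?_⟩
      rw [Nat.mod_mul_right_mod, Nat.mod_mul_left_mod, (show c % p = ab.1 % p from hc1).trans (Nat.mod_eq_of_lt hab.1),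
        (show c % n = ab.2 % n from hc2).trans (Nat.mod_eq_of_lt hab.2)]
  have h := key fun a b => if a = 0 then (χ : G → ℂ) (v ^ b) * μ ^ b else s * μ ^ b
  rw [show ∑ a ∈ Finset.range p, ∑ b ∈ Finset.range n,
      (if a = 0 then (χ : G → ℂ) (v ^ b) * μ ^ b else s * μ ^ b) =
      ∑ j ∈ Finset.range n, (χ : G → ℂ) (v ^ j) * μ ^ j + ((p : ℂ) - 1) * s * ∑ j ∈ Finset.range n, μ ^ j by
    obtain ⟨p', rfl⟩ : ∃ p', p = p' + 1 := ⟨p - 1, by have := hp.pos; omega⟩
    rw [Finset.sum_range_succ', add_comm]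
    simp [Finset.mul_sum, Finset.sum_const, mul_assoc]] at h
  rw [← h]
  refine Finset.sum_congr rfl fun i _ => ?_
  simp only [Nat.dvd_iff_mod_eq_zero]

/-- Outside a block of prime order with self-centralising defect group the degree is divisible by `p`. -/
theorem rest_dvd {p e : ℕ} [Fact p.Prime] {P : Sylow p G} (F : Frame p e P) (he : e ∣ p - 1) (he' : e < p)
    (hP : Nat.card (P : Subgroup G) = p) (hC : Nat.card (centralizer ((P : Subgroup G) : Set G)) = p)
    {χ : IrrCharacter G} (hX : χ ∉ F.X) (hY : χ ∉ F.Y) : p ∣ charDegree (χ : G → ℂ) := by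
  have hp : p.Prime := Fact.out
  set S : IrrCharacter G → ℝ := fun η => ∑ i ∈ Finset.Ico 1 p, ‖(η : G → ℂ) (F.x ^ i)‖ ^ 2 with hS
  have hnd : ∀ i ∈ Finset.Ico 1 p, ¬ p ∣ i := fun i hi h => by
    have := Finset.mem_Ico.mp hi
    exact absurd (Nat.le_of_dvd (by omega) h) (by omega)
  have hcard : (Finset.Ico 1 p).card = p - 1 := Nat.card_Ico 1 p
  have htot : ∑ η : IrrCharacter G, S η = ((p - 1) * p : ℕ) := by
    rw [hS, Finset.sum_comm, Finset.sum_congr rfl (g := fun _ => (p : ℝ)) fun i hi => ?_]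
    · rw [Finset.sum_const, hcard, nsmul_eq_mul, Nat.cast_mul]
    · rw [sum_norm_sq_column]
      have hz : zpowers (F.x ^ i) = (P : Subgroup G) := PrimeOrder.zpowers_eq P hP
        (pow_mem F.hxP i) fun h => hnd i hi (F.hx ▸ orderOf_dvd_of_pow_eq_one h)
      rw [← centralizer_closure, ← zpowers_eq_closure, hz, hC]
  have hXS : ∀ η ∈ F.X, S η = ((p - 1 : ℕ) : ℝ) := fun η hη => by
    simp only [hS]
    rw [Finset.sum_congr rfl (g := fun _ => (1 : ℝ)) fun i hi => ?_]
    · rw [Finset.sum_const, hcard, nsmul_eq_mul, mul_one]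
    · have h1 := F.hval η hη i (hnd i hi) 1 (Commute.one_right _) (by rw [orderOf_one]; exact hp.not_dvd_one)
      rw [mul_one] at h1
      rw [h1]
      rcases F.hsgn η hη with e | e <;> rw [e] <;> norm_num
  have hYS : ∀ η ∈ F.Y, ((e * (p - e) : ℕ) : ℝ) ≤ S η := fun η hη => by
    refine le_trans (le_of_eq ?_) (norm_sum_lower η hp F.hx)
    have he0 : 0 < e := Nat.pos_of_ne_zero fun h => by
      rw [h, zero_dvd_iff] at he
      have := hp.two_le
      omega
    have h1 := F.hYd η hη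
    rw [Int.ModEq] at h1
    have h2 : charDegree (η : G → ℂ) % p = e ∨ charDegree (η : G → ℂ) % p = p - e := by
      rcases F.hεy with e1 | e1 <;> rw [e1] at h1
      · left
        have h3 : ((charDegree (η : G → ℂ) % p : ℕ) : ℤ) = (e : ℤ) := by
          push_cast; rw [h1, one_mul]; exact Int.emod_eq_of_lt (by omega) (by exact_mod_cast he')
        exact_mod_cast h3
      · right
        have h3 : ((charDegree (η : G → ℂ) % p : ℕ) : ℤ) = ((p - e : ℕ) : ℤ) := by
          push_cast [he'.le]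
          rw [h1, ← Int.add_emod_right]
          rw [Int.emod_eq_of_lt (by omega) (by omega)]
          ring
        exact_mod_cast h3
    rcases h2 with e2 | e2 <;> rw [e2]
    rw [Nat.sub_sub_self he'.le, mul_comm]
  have hle : ∑ η ∈ insert χ (F.X ∪ F.Y), S η ≤ ((p - 1) * p : ℕ) :=
    htot ▸ Finset.sum_le_sum_of_subset_of_nonneg (Finset.subset_univ _) fun η _ _ =>
      Finset.sum_nonneg fun i _ => sq_nonneg _
  rw [Finset.sum_insert (by simp [hX, hY]), Finset.sum_union F.hdisj, Finset.sum_congr rfl hXS,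
    Finset.sum_const, F.hX] at hle
  have hY' : (((p - 1) * (p - e) : ℕ) : ℝ) ≤ ∑ η ∈ F.Y, S η := by
    refine le_trans (le_of_eq ?_) (Finset.sum_le_sum hYS)
    rw [Finset.sum_const, F.hY, nsmul_eq_mul]
    obtain ⟨c, hc⟩ := he
    have he0 : 0 < e := Nat.pos_of_ne_zero fun h => by
      rw [h, zero_mul] at hc
      have := hp.two_le
      omega
    rw [hc, Nat.mul_div_cancel_left _ he0]
    push_cast
    ring
  have hχS : (((charDegree (χ : G → ℂ) % p * (p - charDegree (χ : G → ℂ) % p) : ℕ)) : ℝ) ≤ S χ :=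
    norm_sum_lower χ hp F.hx
  have h0 : charDegree (χ : G → ℂ) % p * (p - charDegree (χ : G → ℂ) % p) = 0 := by
    have h' : (((charDegree (χ : G → ℂ) % p * (p - charDegree (χ : G → ℂ) % p) : ℕ)) : ℝ) ≤ 0 := by
      have hsum : (e : ℝ) * ((p - 1 : ℕ) : ℝ) + (((p - 1) * (p - e) : ℕ) : ℝ) = (((p - 1) * p : ℕ) : ℝ) := by
        push_cast [he'.le]; ring
      rw [nsmul_eq_mul] at hle
      linarith
    exact Nat.eq_zero_of_le_zero (by exact_mod_cast h')
  rcases Nat.mul_eq_zero.mp h0 with h | h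
  · exact Nat.dvd_of_mod_eq_zero h
  · have := Nat.mod_lt (charDegree (χ : G → ℂ)) hp.pos
    omega

/-- The number of fixed vectors, as a sum of values. -/
theorem sum_eq_invariants {n : ℕ} (ρ : Representation ℂ G (Fin n → ℂ)) (A : Subgroup G) :
    ∑ a : A, ρ.character a =
      (Nat.card A : ℂ) * (Module.finrank ℂ (Representation.invariants (ρ.comp A.subtype)) : ℂ) := by
  have hne : (Nat.card A : ℂ) ≠ 0 := Nat.cast_ne_zero.mpr Nat.card_pos.ne'
  have : Invertible (Nat.card A : ℂ) := invertibleOfNonzero hne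
  have h : (Nat.card A : ℂ)⁻¹ * ∑ a : A, ρ.character a =
      (Module.finrank ℂ (Representation.invariants (ρ.comp A.subtype)) : ℂ) :=
    FDRep.average_char_eq_finrank_invariants (k := ℂ) (G := A) (FDRep.of (ρ.comp A.subtype))
  rw [← h, ← mul_assoc, mul_inv_cancel₀ hne, one_mul]

/-- A larger subgroup fixes fewer vectors. -/
theorem mult_mono (χ : IrrCharacter G) {A B : Subgroup G} (hAB : A ≤ B) {a b : ℕ}
    (ha : ∑ g : A, (χ : G → ℂ) g = (Nat.card A : ℂ) * a) (hb : ∑ g : B, (χ : G → ℂ) g = (Nat.card B : ℂ) * b) :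
    b ≤ a := by
  obtain ⟨n, ρ, hρ, he⟩ := χ.2
  have key : ∀ (C : Subgroup G) (c : ℕ), ∑ g : C, (χ : G → ℂ) g = (Nat.card C : ℂ) * c →
      Module.finrank ℂ (Representation.invariants (ρ.comp C.subtype)) = c := fun C c hc => by
    have h1 := sum_eq_invariants ρ C
    rw [he, hc] at h1
    exact_mod_cast (mul_left_cancel₀ (Nat.cast_ne_zero.mpr Nat.card_pos.ne') h1).symm
  rw [← key A a ha, ← key B b hb]
  exact Submodule.finrank_mono fun v hv g => hv ⟨g.1, hAB g.2⟩

/-- Four distinct elements can be named in increasing order. -/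
theorem exists_sorted {α : Type*} [DecidableEq α] {s : Finset α} (hs : s.card = 4) (f : α → ℤ) :
    ∃ a b c d, a ≠ b ∧ a ≠ c ∧ a ≠ d ∧ b ≠ c ∧ b ≠ d ∧ c ≠ d ∧ s = {a, b, c, d} ∧
      f a ≤ f b ∧ f b ≤ f c ∧ f c ≤ f d := by
  obtain ⟨a, ha, hmin⟩ := s.exists_min_image f (Finset.card_pos.mp (by omega))
  have h1 : (s.erase a).card = 3 := by rw [Finset.card_erase_of_mem ha]; omega
  obtain ⟨b, hb, hminb⟩ := (s.erase a).exists_min_image f (Finset.card_pos.mp (by omega))
  have h2 : ((s.erase a).erase b).card = 2 := by rw [Finset.card_erase_of_mem hb]; omega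
  obtain ⟨c, hc, hminc⟩ := ((s.erase a).erase b).exists_min_image f (Finset.card_pos.mp (by omega))
  obtain ⟨d, hd⟩ := Finset.card_eq_one.mp (show (((s.erase a).erase b).erase c).card = 1 by
    rw [Finset.card_erase_of_mem hc]; omega)
  have hdm : d ∈ ((s.erase a).erase b).erase c := by rw [hd]; exact Finset.mem_singleton_self d
  simp only [Finset.mem_erase] at hb hc hdm
  refine ⟨a, b, c, d, hb.1.symm, hc.2.1.symm, hdm.2.2.1.symm, hc.1.symm, hdm.2.1.symm, hdm.1.symm, ?_,
    hmin _ hb.2, hminb _ (by simp [hc]), hminc _ (by simp [hdm])⟩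
  rw [← hd, Finset.insert_erase (by simp [hc]), Finset.insert_erase (by simp [hb]), Finset.insert_erase ha]

/-- The value at a power with the same class, or a Galois conjugate of it. -/
theorem exists_int_conj (χ : IrrCharacter G) {g : G}
    (h : ∀ j : ℕ, j.Coprime (orderOf g) → IsConj (g ^ j) g) : ∃ n : ℤ, (χ : G → ℂ) g = n := by
  refine DegreeTools.Rationality.exists_int_of_fixed (irr_isIntegral χ g) fun σ => ?_
  obtain ⟨μ, hμ, hval⟩ := exists_roots χ g
  have hn : orderOf g ≠ 0 := (orderOf_pos g).ne'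
  haveI : NeZero (orderOf g) := ⟨hn⟩
  have hω := Complex.isPrimitiveRoot_exp (orderOf g) hn
  have hω' := hω.map_of_injective σ.injective
  obtain ⟨j, -, hj⟩ := hω.eq_pow_of_pow_eq_one hω'.pow_eq_one
  have hcop : j.Coprime (orderOf g) :=
    (hω.pow_iff_coprime (Nat.pos_of_ne_zero hn) j).mp (by rw [hj]; exact hω')
  have h1 := hval 1
  simp only [pow_one] at h1
  obtain ⟨c, hc⟩ := isConj_iff.mp (h j hcop)
  have h2 : (χ : G → ℂ) g = (χ : G → ℂ) (g ^ j) := by
    conv_lhs => rw [← hc]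
    exact irr_conj_apply χ _ c
  conv_rhs => rw [h2, hval j]
  rw [h1, map_sum]
  refine Finset.sum_congr rfl fun a _ => ?_
  obtain ⟨i, -, hi⟩ := hω.eq_pow_of_pow_eq_one (hμ a)
  rw [← hi, map_pow, ← hj]
  ring

/-- Two classes never multiplying to `g` give a vanishing sum. -/
theorem pairs_eq_zero (t u g : G) (h : ∀ a : G, IsConj t a → ¬ IsConj u (a⁻¹ * g)) :
    ∑ χ : IrrCharacter G, (χ : G → ℂ) t * (χ : G → ℂ) u * (χ : G → ℂ) g⁻¹ / (χ : G → ℂ) 1 = 0 := by
  have hcount := card_pairs_eq t u g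
  have hempty : Nat.card {a : G // IsConj t a ∧ IsConj u (a⁻¹ * g)} = 0 :=
    @Nat.card_of_isEmpty _ ⟨fun a => h a.1 a.2.1 a.2.2⟩
  rw [hempty, Nat.cast_zero, mul_zero, mul_eq_zero] at hcount
  exact hcount.resolve_left (mul_ne_zero (Nat.cast_ne_zero.mpr index_ne_zero_of_finite)
    (Nat.cast_ne_zero.mpr index_ne_zero_of_finite))

/-- An element which is a product of two conjugates of involutions is inverted by an involution. -/
theorem exists_inverting {t u g a : G} (ht : orderOf t = 2) (hu : orderOf u = 2) (ha : IsConj t a)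
    (hb : IsConj u (a⁻¹ * g)) : orderOf a = 2 ∧ a * g * a⁻¹ = g⁻¹ := by
  obtain ⟨c, hc⟩ := isConj_iff.mp ha
  have hao : orderOf a = 2 := by rw [← hc, ← ht]; exact MulEquiv.orderOf_eq (MulAut.conj c) t
  obtain ⟨c', hc'⟩ := isConj_iff.mp hb
  have hbo : orderOf (a⁻¹ * g) = 2 := by rw [← hc', ← hu]; exact MulEquiv.orderOf_eq (MulAut.conj c') u
  refine ⟨hao, ?_⟩
  have ha2 : a⁻¹ = a := inv_eq_of_mul_eq_one_right (by rw [← pow_two, ← hao, pow_orderOf_eq_one])
  have hb2 := pow_orderOf_eq_one (a⁻¹ * g)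
  rw [hbo, pow_two, ha2] at hb2
  rw [ha2]
  refine eq_inv_of_mul_eq_one_left ?_
  rw [mul_assoc (a * g) a g]
  exact hb2

end CfsgLib.KGroups.M22Tools
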