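import Cfsg.Agent.Lib.KGroups.M22Values
import Cfsg.Agent.Lib.KGroups.M22Tools

/-!
# The elements of order prime to 385 in a simple group of order 443520

Elements of order three and the 2-elements: their orders, columns and centralisers.
-/

set_option autoImplicit false

namespace CfsgLib.KGroups.M22Elements

open Cfsg CfsgLib.Blocks CfsgLib.KGroups.M11Tools CfsgLib.KGroups.M12Tools CfsgLib.KGroups.M12Classes
  CfsgLib.KGroups.M22Table CfsgLib.KGroups.M22Congr CfsgLib.KGroups.M22Search CfsgLib.KGroups.M22Values Subgroup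
open CfsgLib.SmallGroups
open scoped Classical

variable {G : Type*} [Group G] [Fintype G] {T : Table G}

theorem reg_of_pow {g : G} {p k : ℕ} (hp : p.Prime) (hp' : p ∈ ({2, 3} : Finset ℕ)) (hg : orderOf g ∣ p ^ k) :
    Reg g := by
  have key : ∀ q : ℕ, q.Prime → q ∣ p ^ k → q = p := fun q hq h =>
    (Nat.prime_dvd_prime_iff_eq hq hp).mp (hq.dvd_of_dvd_pow h)
  simp only [Finset.mem_insert, Finset.mem_singleton] at hp'
  refine reg_of_dvd hg (fun h => ?_) (fun h => ?_) fun h => ?_
  · have := key 5 (by norm_num) h; omega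
  · have := key 7 (by norm_num) h; omega
  · have := key 11 (by norm_num) h; omega

theorem card_eq_sq (hG : Nat.card G = 443520) {g : G} (hg : Reg g) :
    ∃ c : ℕ, Nat.card (centralizer ({g} : Set G)) = c ∧ (c : ℤ) = M22Search.sq (col T g) ∧ c ∣ 443520 :=
  ⟨_, rfl, card_centralizer_col hg, hG ▸ card_subgroup_dvd_card _⟩

theorem divCond_col (hG : Nat.card G = 443520) {g : G} (hg : Reg g) : divCond (col T g) = true := by
  simp only [divCond, List.all_eq_true, List.mem_finRange, decide_eq_true_eq, forall_const]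
  exact fun i => degree_dvd hG hg i

/-- The order of a centraliser in `C(x)`, for `x` self-centralising of prime order. -/
theorem not_dvd_centralizer {p : ℕ} [hp : Fact p.Prime]
    (hC : ∀ x : G, orderOf x = p → Nat.card (centralizer ({x} : Set G)) = p) {g : G} (hg : ¬ p ∣ orderOf g)
    (hg1 : g ≠ 1) : ¬ p ∣ Nat.card (centralizer ({g} : Set G)) := fun h => by
  obtain ⟨⟨x, hxC⟩, hx⟩ := exists_prime_orderOf_dvd_card' p h
  rw [Subgroup.orderOf_mk] at hx
  have hgC : g ∈ centralizer ({x} : Set G) := mem_centralizer_singleton_iff.mpr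
    (mem_centralizer_singleton_iff.mp hxC).symm
  have h1 := Subgroup.orderOf_dvd_natCard _ hgC
  rw [hC x hx] at h1
  rcases (Nat.dvd_prime hp.out).mp h1 with e | e
  · exact hg1 (orderOf_eq_one_iff.mp e)
  · exact hg (e ▸ dvd_rfl)

theorem form_bounds {v : Fin 12 → ℤ} (h : v = colOf (v 1) (v 2) (v 5) (v 7)) :
    v 1 * v 1 + 1 ≤ M22Search.sq v ∧ 2 * (v 2 * v 2) + 1 ≤ M22Search.sq v ∧ v 5 * v 5 + 1 ≤ M22Search.sq v ∧
      v 7 * v 7 + 1 ≤ M22Search.sq v := by
  have hs : M22Search.sq v = sqOf (v 1) (v 2) (v 5) (v 7) := (congrArg M22Search.sq h).trans (sq_colOf _ _ _ _)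
  rw [hs]
  simp only [sqOf]
  generalize v 1 = a
  generalize v 2 = b
  generalize v 5 = c
  generalize v 7 = e
  refine ⟨?_, ?_, ?_, ?_⟩ <;>
    nlinarith [mul_self_nonneg a, mul_self_nonneg b, mul_self_nonneg c, mul_self_nonneg e,
      mul_self_nonneg (1 + c - b), mul_self_nonneg (1 + a + (-2 * a + 3 * b + e) - c),
      mul_self_nonneg (-2 * a + 3 * b + e), mul_self_nonneg (1 - a + 2 * b + e),
      mul_self_nonneg (4 - 3 * (1 + c - b) - 3 * (1 + a + (-2 * a + 3 * b + e) - c))]

variable (T)

include T in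
theorem centralizer_dvd_1152 (hG : Nat.card G = 443520) {g : G} (hg : Reg g) (hg1 : g ≠ 1) :
    Nat.card (centralizer ({g} : Set G)) ∣ 1152 := by
  have : Fact (Nat.Prime 5) := ⟨by norm_num⟩
  have : Fact (Nat.Prime 7) := ⟨by norm_num⟩
  have : Fact (Nat.Prime 11) := ⟨by norm_num⟩
  have h5 := not_dvd_centralizer (p := 5) T.card_five hg.1 hg1
  have h7 := not_dvd_centralizer (p := 7) T.card_seven hg.2.1 hg1
  have h11 := not_dvd_centralizer (p := 11) T.card_eleven hg.2.2 hg1
  have hd : Nat.card (centralizer ({g} : Set G)) ∣ 1152 * 385 := by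
    have := card_subgroup_dvd_card (centralizer ({g} : Set G))
    rw [hG] at this
    exact this
  refine Nat.Coprime.dvd_of_dvd_mul_right ?_ hd
  rw [show (385 : ℕ) = 5 * 7 * 11 by norm_num]
  exact Nat.Coprime.mul_right (Nat.Coprime.mul_right ((Nat.prime_five.coprime_iff_not_dvd).mpr h5).symm
    (((by norm_num : Nat.Prime 7).coprime_iff_not_dvd).mpr h7).symm)
    (((by norm_num : Nat.Prime 11).coprime_iff_not_dvd).mpr h11).symm

omit T in
theorem sylow_three_card (hG : Nat.card G = 443520) [Fact (Nat.Prime 3)] (P : Sylow 3 G) :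
    Nat.card (P : Subgroup G) = 9 :=
  SimpleTools.card_sylow_subgroup (k := 2) (m := 49280) (by rw [hG]; norm_num) (by norm_num) P

omit T in
theorem sylow_three_comm (hG : Nat.card G = 443520) [Fact (Nat.Prime 3)] (P : Sylow 3 G) {a b : G}
    (ha : a ∈ (P : Subgroup G)) (hb : b ∈ (P : Subgroup G)) : a * b = b * a := by
  have hc : Nat.card (P : Subgroup G) = 3 ^ 2 := sylow_three_card hG P
  have := IsPGroup.isMulCommutative_of_card_eq_prime_sq hc
  exact congrArg Subtype.val (mul_comm' (⟨a, ha⟩ : ↥(P : Subgroup G)) ⟨b, hb⟩)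

omit T in
theorem exists_sylow_three {g : G} {k : ℕ} [Fact (Nat.Prime 3)] (hg : orderOf g = 3 ^ k) :
    ∃ P : Sylow 3 G, g ∈ (P : Subgroup G) := by
  obtain ⟨P, hP⟩ := (IsPGroup.of_card (n := k) ((Nat.card_zpowers g).trans hg)).exists_le_sylow
  exact ⟨P, hP (mem_zpowers g)⟩

omit T in
theorem nine_dvd_centralizer (hG : Nat.card G = 443520) {g : G} (hg : orderOf g = 3) :
    9 ∣ Nat.card (centralizer ({g} : Set G)) := by
  have : Fact (Nat.Prime 3) := ⟨by norm_num⟩
  obtain ⟨P, hP⟩ := exists_sylow_three (k := 1) (hg.trans (pow_one 3).symm)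
  rw [← sylow_three_card hG P]
  exact card_dvd_of_le fun b hb => mem_centralizer_singleton_iff.mpr (sylow_three_comm hG P hb hP)

variable [IsSimpleGroup G]

/-- The column at an element of order three is one of three candidates. -/
theorem three_mem (hG : Nat.card G = 443520) {g : G} (hg : orderOf g = 3) : col T g ∈ threes := by
  have hR : Reg g := reg_of_pow (k := 1) Nat.prime_three (by simp) (by rw [hg]; norm_num)
  have hg1 : g ≠ 1 := fun e => by rw [e, orderOf_one] at hg; omega
  obtain ⟨c, hc, hcq, hcG⟩ := card_eq_sq (T := T) hG hR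
  have hc1152 := hc ▸ centralizer_dvd_1152 T hG hR hg1
  have hc9 := hc ▸ nine_dvd_centralizer hG hg
  have hcle : c ≤ 1152 := Nat.le_of_dvd (by norm_num) hc1152
  have hF := col_form (T := T) hR (by omega) (by omega)
  have h3 : ∀ i, (col T g i - (degs i : ℕ)) % 3 = 0 := fun i => by
    have h := mod_three_col (T := T) hR i
    rwa [show g ^ 3 = 1 by rw [← hg]; exact pow_orderOf_eq_one g, col_one] at h
  have h9 : ∀ i, (9 : ℤ) ∣ (degs i : ℕ) → (9 : ℤ) ∣ col T g i := fun i hi => by
    have h := hi.trans (degree_dvd (T := T) hG hR i)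
    rw [← hcq] at h
    obtain ⟨m, hm⟩ := hcG
    have h0 : (443520 : ℤ) / (c : ℤ) = (m : ℤ) := by
      rw [show (443520 : ℤ) = (c : ℤ) * (m : ℤ) by exact_mod_cast hm]
      refine Int.mul_ediv_cancel_left _ (Nat.cast_ne_zero.mpr ?_)
      rintro rfl
      omega
    rw [h0] at h
    have hm3 : ¬ (3 : ℤ) ∣ (m : ℤ) := fun h3 => by
      obtain ⟨m', rfl⟩ := Int.natCast_dvd_natCast.mp (show ((3 : ℕ) : ℤ) ∣ (m : ℤ) from h3)
      obtain ⟨c', rfl⟩ := hc9
      have : 27 ∣ 443520 := ⟨c' * m', by rw [hm]; ring⟩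
      norm_num at this
    rw [show (9 : ℤ) = 3 ^ 2 by norm_num] at h ⊢
    exact Int.prime_three.pow_dvd_of_dvd_mul_left 2 hm3 h
  have hsq : M22Search.sq (col T g) ≤ 1152 := by rw [← hcq]; exact_mod_cast hcle
  obtain ⟨ba, bb, bc, be⟩ := form_bounds hF
  have hn := norm_lt (not_comm hG) (T.irr 1) (by rw [T.deg]; decide) hg1
  rw [col_spec hR, T.deg, Complex.norm_intCast] at hn
  have hn' : |col T g 1| < 21 := by
    have : ((|col T g 1| : ℤ) : ℝ) < ((21 : ℤ) : ℝ) := by push_cast; simpa [degs] using hn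
    exact_mod_cast this
  rw [abs_lt] at hn'
  obtain ⟨i, hi⟩ : ∃ i, col T g 1 = 3 * i := ⟨col T g 1 / 3, by have := h3 1; simp [degs] at this; omega⟩
  obtain ⟨l, hl⟩ : ∃ l, col T g 7 = 3 * l := ⟨col T g 7 / 3, by have := h3 7; simp [degs] at this; omega⟩
  obtain ⟨j, hj⟩ : ∃ j, col T g 2 = 9 * j := h9 2 (by decide)
  obtain ⟨k, hk⟩ : ∃ k, col T g 5 = 9 * k := h9 5 (by decide)
  have be' := M22Values.abs_le (n := 33) (show col T g 7 * col T g 7 < _ by push_cast; linarith)
  have bb' := M22Values.abs_le (n := 23) (show col T g 2 * col T g 2 < _ by push_cast; linarith)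
  have bc' := M22Values.abs_le (n := 33) (show col T g 5 * col T g 5 < _ by push_cast; linarith)
  push_cast at be' bb' bc'
  rw [hi, hj, hk, hl] at hF
  obtain ⟨e1, e2, e3, e4⟩ := three_search (i := i) (j := j) (k := k) (l := l)
    (mem_around (by omega) (by omega)) (mem_around (by omega) (by omega)) (mem_around (by omega) (by omega))
    (mem_around (by omega) (by omega)) (hF ▸ hsq)
    (by rw [← hF, ← hcq]; exact_mod_cast Nat.mod_eq_zero_of_dvd hc9)
    (by rw [← hF, ← hcq]; exact_mod_cast Nat.mod_eq_zero_of_dvd hc1152)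
    (hF ▸ divCond_col hG hR)
  rw [hF, ← e1, e2, e3]
  rcases e4 with rfl | rfl | rfl <;> simp [threes]

include T in
theorem three_conj (hG : Nat.card G = 443520) {g h : G} (hg : orderOf g = 3) (hh : orderOf h = 3) : IsConj g h :=
  conj_of_dot (T := T) (reg_of_pow (k := 1) Nat.prime_three (by simp) (by rw [hg]; norm_num))
    (reg_of_pow (k := 1) Nat.prime_three (by simp) (by rw [hh]; norm_num))
    (threes_dot _ (three_mem T hG hg) _ (three_mem T hG hh))

include T in
/-- No element has order nine. -/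
theorem no_nine (hG : Nat.card G = 443520) (g : G) : orderOf g ≠ 9 := fun hg => by
  have hR : Reg g := reg_of_pow (k := 2) Nat.prime_three (by simp) (by rw [hg]; norm_num)
  have hw : orderOf (g ^ 3) = 3 := by rw [orderOf_pow, hg]; decide
  have hwm := three_mem T hG hw
  have key : ∀ v ∈ threes, M22Search.sq v ≤ 36 ∧ v 1 % 3 = 0 ∧ v 2 % 3 = 0 ∧ v 5 % 3 = 0 ∧ v 7 % 3 = 0 := by
    decide +kernel
  obtain ⟨hw36, p1, p2, p5, p7⟩ := key _ hwm
  have hdvd : Nat.card (centralizer ({g} : Set G)) ∣ Nat.card (centralizer ({g ^ 3} : Set G)) :=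
    card_dvd_of_le fun b hb => mem_centralizer_singleton_iff.mpr
      ((Commute.pow_right (mem_centralizer_singleton_iff.mp hb : Commute b g) 3).eq)
  have h9 : 9 ∣ Nat.card (centralizer ({g} : Set G)) := by
    rw [← hg, ← Nat.card_zpowers]
    exact card_dvd_of_le (zpowers_le.mpr (mem_centralizer_singleton_iff.mpr rfl))
  have hd : M22Search.sq (col T (g ^ 3)) % M22Search.sq (col T g) = 0 := by
    rw [← card_centralizer_col hR, ← card_centralizer_col (reg_pow hR 3)]
    exact_mod_cast Nat.mod_eq_zero_of_dvd hdvd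
  have h9' : M22Search.sq (col T g) % 9 = 0 := by
    rw [← card_centralizer_col hR]; exact_mod_cast Nat.mod_eq_zero_of_dvd h9
  have h36 : M22Search.sq (col T g) ≤ 36 := by
    refine le_trans ?_ hw36
    rw [← card_centralizer_col hR, ← card_centralizer_col (reg_pow hR 3)]
    exact_mod_cast Nat.le_of_dvd Nat.card_pos hdvd
  have hF := col_form (T := T) hR (by omega) (by omega)
  obtain ⟨ba, bb, bc, be⟩ := form_bounds hF
  have hm := mod_three_col (T := T) hR
  have m1 := hm 1
  have m2 := hm 2
  have m5 := hm 5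
  have m7 := hm 7
  obtain ⟨i, hi⟩ : ∃ i, col T g 1 = 3 * i := ⟨col T g 1 / 3, by omega⟩
  obtain ⟨j, hj⟩ : ∃ j, col T g 2 = 3 * j := ⟨col T g 2 / 3, by omega⟩
  obtain ⟨k, hk⟩ : ∃ k, col T g 5 = 3 * k := ⟨col T g 5 / 3, by omega⟩
  obtain ⟨l, hl⟩ : ∃ l, col T g 7 = 3 * l := ⟨col T g 7 / 3, by omega⟩
  have ba' := M22Values.abs_le (n := 6) (show col T g 1 * col T g 1 < _ by push_cast; linarith)
  have bb' := M22Values.abs_le (n := 6) (show col T g 2 * col T g 2 < _ by push_cast; linarith)
  have bc' := M22Values.abs_le (n := 6) (show col T g 5 * col T g 5 < _ by push_cast; linarith)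
  have be' := M22Values.abs_le (n := 6) (show col T g 7 * col T g 7 < _ by push_cast; linarith)
  push_cast at ba' bb' bc' be'
  rw [hi, hj, hk, hl] at hF
  have ho := col_dot (T := T) hR (reg_pow hR 3) (not_conj_order (by omega))
  rw [hF] at ho h36 h9' hd hm
  exact nine_search hwm (mem_around (by omega) (by omega)) (mem_around (by omega) (by omega))
    (mem_around (by omega) (by omega)) (mem_around (by omega) (by omega)) ho h36 h9' hd hm

include T in
/-- A Sylow 3-subgroup is elementary abelian. -/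
theorem sylow_three_order (hG : Nat.card G = 443520) [Fact (Nat.Prime 3)] (P : Sylow 3 G) {x : G}
    (hx : x ∈ (P : Subgroup G)) (hx1 : x ≠ 1) : orderOf x = 3 := by
  have h : orderOf x ∣ 3 ^ 2 := by
    have := Subgroup.orderOf_dvd_natCard _ hx
    rwa [sylow_three_card hG P] at this
  obtain ⟨k, hk, hk'⟩ := (Nat.dvd_prime_pow Nat.prime_three).mp h
  interval_cases k
  · exact absurd (orderOf_eq_one_iff.mp (by simpa using hk')) hx1
  · simpa using hk'
  · exact absurd (by simpa using hk') (no_nine T hG x)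

/-- The column at every element of order three. -/
theorem three_col (hG : Nat.card G = 443520) {g : G} (hg : orderOf g = 3) : col T g = wcol := by
  have : Fact (Nat.Prime 3) := ⟨by norm_num⟩
  have hR : ∀ u : G, orderOf u = 3 → Reg u := fun u hu =>
    reg_of_pow (k := 1) Nat.prime_three (by simp) (by rw [hu]; norm_num)
  obtain ⟨P, hP⟩ := exists_sylow_three (k := 1) (hg.trans (pow_one 3).symm)
  have hv : ∀ x ∈ (P : Subgroup G), x ≠ 1 → (T.irr 1 : G → ℂ) x = (col T g 1 : ℂ) := fun x hx hx1 => by
    have ho := sylow_three_order T hG P hx hx1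
    rw [col_spec (hR x ho), col_conj (hR x ho) (hR g hg) (three_conj T hG ho hg)]
  obtain ⟨n, ρ, hρ, he⟩ := (T.irr 1).2
  have hs := M22Tools.sum_eq_invariants ρ (P : Subgroup G)
  simp only [he] at hs
  rw [← Finset.add_sum_erase _ _ (Finset.mem_univ (1 : ↥(P : Subgroup G))),
    Finset.sum_congr rfl (g := fun _ => (col T g 1 : ℂ)) fun a ha => hv a.1 a.2 fun e =>
      (Finset.mem_erase.mp ha).1 (Subtype.ext e),
    Finset.sum_const, Finset.card_erase_of_mem (Finset.mem_univ _), Finset.card_univ, ← Nat.card_eq_fintype_card,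
    sylow_three_card hG P, OneMemClass.coe_one, irr_one_eq, T.deg, show degs 1 = 21 from rfl, nsmul_eq_mul] at hs
  have h1 : (21 : ℤ) + 8 * col T g 1 =
      9 * (Module.finrank ℂ (Representation.invariants (ρ.comp (P : Subgroup G).subtype)) : ℤ) := by
    apply Int.cast_injective (α := ℂ)
    push_cast at hs ⊢
    exact hs
  have key : ∀ v ∈ threes, v = wcol ∨ v 1 = 0 ∨ v 1 = -3 := by decide +kernel
  rcases key _ (three_mem T hG hg) with e | e | e
  · exact e
  · rw [e] at h1; omega
  · rw [e] at h1; omega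

include T in
theorem card_three (hG : Nat.card G = 443520) {g : G} (hg : orderOf g = 3) :
    Nat.card (centralizer ({g} : Set G)) = 36 := by
  have h := card_centralizer_col (T := T) (reg_of_pow (g := g) (k := 1) Nat.prime_three (by simp)
    (by rw [hg]; norm_num))
  rw [three_col T hG hg, sizes.1] at h
  exact_mod_cast h

/-- There is an element of order six with a known column. -/
theorem exists_six (hG : Nat.card G = 443520) :
    ∃ g : G, orderOf g = 6 ∧ Reg g ∧ col T g = colOf (-1) 0 0 (-1) := by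
  have : Fact (Nat.Prime 3) := ⟨by norm_num⟩
  have : Fact (Nat.Prime 2) := ⟨by norm_num⟩
  obtain ⟨w, hw⟩ := exists_prime_orderOf_dvd_card' (G := G) 3 (by rw [hG]; norm_num)
  obtain ⟨⟨u, hu⟩, huo⟩ := exists_prime_orderOf_dvd_card' (G := centralizer ({w} : Set G)) 2
    (by rw [card_three T hG hw]; norm_num)
  rw [Subgroup.orderOf_mk] at huo
  have hc : Commute u w := mem_centralizer_singleton_iff.mp hu
  have hg : orderOf (u * w) = 6 := by
    rw [hc.orderOf_mul_eq_mul_orderOf_of_coprime (by rw [huo, hw]; norm_num), huo, hw]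
  have hR : Reg (u * w) := reg_of_dvd (n := 6) (by rw [hg]) (by norm_num) (by norm_num) (by norm_num)
  refine ⟨u * w, hg, hR, ?_⟩
  have h2 : orderOf ((u * w) ^ 2) = 3 := by rw [orderOf_pow, hg]; decide
  have h3 : orderOf ((u * w) ^ 3) = 2 := by rw [orderOf_pow, hg]; decide
  have e2 : col T ((u * w) ^ 2) = wcol := three_col T hG h2
  have e3 : col T ((u * w) ^ 3) = tcol := by
    rw [col_conj (reg_pow hR 3) t_reg (T.inv_conj _ h3).symm, col_t]
  have hle : M22Search.sq (col T (u * w)) ≤ 12 := by
    rw [← card_centralizer_col hR]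
    have hsub : ∀ k : ℕ, Nat.card (centralizer ({u * w} : Set G)) ∣
        Nat.card (centralizer ({(u * w) ^ k} : Set G)) := fun k =>
      card_dvd_of_le fun b hb => mem_centralizer_singleton_iff.mpr
        ((Commute.pow_right (mem_centralizer_singleton_iff.mp hb : Commute b (u * w)) k).eq)
    have a := hsub 2
    have b := hsub 3
    rw [card_three T hG h2] at a
    rw [card_centralizer_eq (T.inv_conj _ h3).symm, T.card_t] at b
    exact_mod_cast Nat.le_of_dvd (by norm_num) (Nat.dvd_gcd a b)
  have hF := col_form (T := T) hR (by omega) (by omega)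
  obtain ⟨ba, bb, bc, be⟩ := form_bounds hF
  have hm2 := mod_two_col (T := T) hR
  have hm3 := mod_three_col (T := T) hR
  rw [e2, wcol_eq] at hm2
  rw [e3] at hm3
  have ba' := M22Values.abs_le (n := 3) (show col T (u * w) 1 * col T (u * w) 1 < _ by push_cast; linarith)
  have bb' := M22Values.abs_le (n := 2) (show col T (u * w) 2 * col T (u * w) 2 < _ by push_cast; linarith)
  have bc' := M22Values.abs_le (n := 3) (show col T (u * w) 5 * col T (u * w) 5 < _ by push_cast; linarith)
  have be' := M22Values.abs_le (n := 3) (show col T (u * w) 7 * col T (u * w) 7 < _ by push_cast; linarith)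
  push_cast at ba' bb' bc' be'
  have p1 := hm2 1
  have p2 := hm2 2
  have p5 := hm2 5
  have p7 := hm2 7
  have q1 := hm3 1
  have q2 := hm3 2
  have q5 := hm3 5
  have q7 := hm3 7
  simp [tcol] at p1 p2 p5 p7 q1 q2 q5 q7
  rw [hF, show col T (u * w) 1 = -1 by omega, show col T (u * w) 2 = 0 by omega,
    show col T (u * w) 5 = 0 by omega, show col T (u * w) 7 = -1 by omega]

/-- An element whose order is a power of two has values of the parity of the degrees. -/
theorem parity (k : ℕ) : ∀ g : G, g ^ 2 ^ k = 1 → ∀ i, (col T g i - (degs i : ℕ)) % 2 = 0 := by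
  induction k with
  | zero =>
    intro g hg i
    rw [show g = 1 by simpa using hg, col_one]
    simp
  | succ k ih =>
    intro g hg i
    have hR : Reg g := reg_of_pow Nat.prime_two (by simp) (orderOf_dvd_of_pow_eq_one hg)
    have h1 := mod_two_col (T := T) hR i
    have h2 := ih (g ^ 2) (by rw [← pow_mul, ← pow_succ']; exact hg) i
    omega

/-- The column at a 2-element of order at least four is one of six candidates. -/
theorem two_mem (hG : Nat.card G = 443520) {g : G} {k : ℕ} (hk : 2 ≤ k) (hg : orderOf g = 2 ^ k) :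
    col T g ∈ twos := by
  have hR : Reg g := reg_of_pow Nat.prime_two (by simp) (by rw [hg])
  have h4 : 4 ≤ orderOf g := by
    rw [hg]; exact (show 4 = 2 ^ 2 by norm_num) ▸ Nat.pow_le_pow_right (by norm_num) hk
  have h384 : Nat.card (centralizer ({g} : Set G)) ∣ 384 := by
    have ho : orderOf (g ^ 2 ^ (k - 1)) = 2 := by
      rw [orderOf_pow, hg, Nat.gcd_eq_right (pow_dvd_pow 2 (Nat.sub_le k 1)), Nat.pow_div (Nat.sub_le k 1)
        (by norm_num), show k - (k - 1) = 1 by omega, pow_one]
    rw [← T.card_t, ← card_centralizer_eq (T.inv_conj _ ho).symm]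
    exact card_dvd_of_le fun b hb => mem_centralizer_singleton_iff.mpr
      ((Commute.pow_right (mem_centralizer_singleton_iff.mp hb : Commute b g) _).eq)
  have hsq : M22Search.sq (col T g) ≤ 384 := by
    rw [← card_centralizer_col hR]; exact_mod_cast Nat.le_of_dvd (by norm_num) h384
  have hdv : 384 % M22Search.sq (col T g) = 0 := by
    rw [← card_centralizer_col hR]; exact_mod_cast Nat.mod_eq_zero_of_dvd h384
  have hp := parity T k g (hg ▸ pow_orderOf_eq_one g)
  have hF := col_form (T := T) hR (by omega) (by omega)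
  obtain ⟨w, hw⟩ := exists_prime_orderOf_dvd_card' (hp := ⟨Nat.prime_three⟩) (G := G) 3 (by rw [hG]; norm_num)
  obtain ⟨s, hs, hsR, hscol⟩ := exists_six T hG
  have hne3 : orderOf g ≠ 3 := by omega
  have hne6 : orderOf g ≠ 6 := fun e => by
    have h3 : 3 ∣ 2 ^ k := by rw [← hg, e]; norm_num
    have := Nat.prime_three.dvd_of_dvd_pow h3
    norm_num at this
  have ow := col_dot (T := T) hR (reg_of_pow (g := w) (k := 1) Nat.prime_three (by simp) (by rw [hw]; norm_num))
    (not_conj_order (by rw [hw]; exact hne3))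
  have os := col_dot (T := T) hR hsR (not_conj_order (by rw [hs]; exact hne6))
  rw [three_col T hG hw, hF, wcol] at ow
  rw [hscol, hF] at os
  simp [dot, colOf, Fin.sum_univ_succ] at ow os
  obtain ⟨ba, bb, bc, be⟩ := form_bounds hF
  have hb1 : col T g 2 = col T g 1 := by omega
  have he : col T g 7 = -1 - col T g 1 := by omega
  have p1 := hp 1
  have p5 := hp 5
  simp [degs] at p1 p5
  obtain ⟨i, hi⟩ : ∃ i, col T g 1 = 2 * i + 1 := ⟨col T g 1 / 2, by omega⟩
  obtain ⟨m, hm⟩ : ∃ m, col T g 5 = 2 * m + 1 := ⟨col T g 5 / 2, by omega⟩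
  have ba' := M22Values.abs_le (n := 19) (show col T g 1 * col T g 1 < _ by push_cast; linarith)
  have bc' := M22Values.abs_le (n := 19) (show col T g 5 * col T g 5 < _ by push_cast; linarith)
  push_cast at ba' bc'
  rw [hb1, he, hi, hm] at hF
  rw [hF]
  rw [hF] at hsq hdv hp
  exact two_search i (mem_around (by omega) (by omega)) m (mem_around (by omega) (by omega)) hsq hdv hp
    (hF ▸ divCond_col hG hR)

theorem sqrt_order {g s : G} {k : ℕ} (hk : 1 ≤ k) (hg : orderOf g = 2 ^ k) (hs : s * s = g) :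
    orderOf s = 2 ^ (k + 1) := by
  have h2 : s ^ 2 = g := by rw [pow_two, hs]
  haveI : Fact (Nat.Prime 2) := ⟨Nat.prime_two⟩
  refine orderOf_eq_prime_pow (fun e => ?_) (by rw [pow_succ', pow_mul, h2, ← hg, pow_orderOf_eq_one])
  have h : g ^ 2 ^ (k - 1) = 1 := by rw [← h2, ← pow_mul, ← pow_succ', show k - 1 + 1 = k by omega, e]
  exact pow_ne_one_of_lt_orderOf (by positivity)
    (by rw [hg]; exact Nat.pow_lt_pow_right (by norm_num) (by omega)) h

theorem roots_nonneg (hG : Nat.card G = 443520) {g : G} (hg : Reg g) : 0 ≤ rootsOf (col T g) := by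
  rw [← card_roots T hG hg]; exact Int.natCast_nonneg _

theorem exists_root (hG : Nat.card G = 443520) {g : G} (hg : Reg g) (h : rootsOf (col T g) ≠ 0) :
    ∃ s, s * s = g := by
  have : Nat.card {s : G // s * s = g} ≠ 0 := fun e => h (by rw [← card_roots T hG hg, e]; rfl)
  obtain ⟨⟨s, hs⟩⟩ := (Nat.card_ne_zero.mp this).1
  exact ⟨s, hs⟩

/-- The column at a 2-element of order at least four is one of three. -/
theorem two_small (hG : Nat.card G = 443520) {g : G} {k : ℕ} (hk : 2 ≤ k) (hg : orderOf g = 2 ^ k) :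
    col T g = c8 ∨ col T g = c16 ∨ col T g = c32 := by
  have hR : ∀ {u : G} {j : ℕ}, orderOf u = 2 ^ j → Reg u := fun {u j} hu =>
    reg_of_pow Nat.prime_two (by simp) (by rw [hu])
  have h64 : ∀ {u : G} {j : ℕ}, 2 ≤ j → orderOf u = 2 ^ j →
      col T u ∈ [c8, c16, c32, colOf (-3) (-3) 3 2, colOf 5 5 3 (-6)] := fun {u j} hj hu => by
    have h := two_mem T hG hj hu
    simp only [twos, List.mem_cons, List.not_mem_nil, or_false] at h ⊢
    rcases h with h | h | h | h | h | h
    · exact Or.inl h
    · exact Or.inr (Or.inl h)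
    · exact Or.inr (Or.inr (Or.inl h))
    · exfalso
      have h1 := roots_nonneg T hG (hR hu)
      rw [h] at h1
      exact absurd roots_c64 (not_lt.mpr h1)
    · exact Or.inr (Or.inr (Or.inr (Or.inl h)))
    · exact Or.inr (Or.inr (Or.inr (Or.inr h)))
  have hbig : col T g ∈ [colOf (-3) (-3) 3 2, colOf 5 5 3 (-6)] → False := fun h => by
    obtain ⟨s, hs⟩ := exists_root T hG (hR hg) (by
      simp only [List.mem_cons, List.not_mem_nil, or_false] at h
      rcases h with h | h <;> rw [h]
      · rw [roots_big.1]; norm_num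
      · rw [roots_big.2]; norm_num)
    have hso := sqrt_order (by omega) hg hs
    refine big_dot _ (h64 (by omega) hso) _ h (col_dot (hR hso) (hR hg) (not_conj_order ?_))
    rw [hso, hg]
    exact fun e => absurd (Nat.pow_right_injective le_rfl e) (by omega)
  have h := h64 hk hg
  simp only [List.mem_cons, List.not_mem_nil, or_false] at h hbig
  tauto

theorem four_col (hG : Nat.card G = 443520) {g : G} (hg : orderOf g = 4) : col T g = c16 ∨ col T g = c32 := by
  have hg' : orderOf g = 2 ^ 2 := by omega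
  refine (two_small T hG le_rfl hg').resolve_left fun h => ?_
  have hR : Reg g := reg_of_pow Nat.prime_two (by simp) (by rw [hg'])
  have h2 : orderOf (g ^ 2) = 2 := by rw [orderOf_pow, hg]; decide
  have hd := det_four (not_comm hG) (T.irr 1) (hg ▸ pow_orderOf_eq_one g)
    (v := -1) (u := 5) (by rw [col_spec hR, h, c8_eq]; rfl)
    (by rw [col_spec (reg_pow hR 2), col_conj (reg_pow hR 2) t_reg (T.inv_conj _ h2).symm, col_t]; rfl)
  rw [T.deg] at hd
  simp [degs] at hd

theorem eight_col (hG : Nat.card G = 443520) {g : G} (hg : orderOf g = 8) : col T g = c8 := by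
  have hg' : orderOf g = 2 ^ 3 := by omega
  have hR : Reg g := reg_of_pow Nat.prime_two (by simp) (by rw [hg'])
  have h4 : orderOf (g ^ 2) = 4 := by rw [orderOf_pow, hg]; decide
  have h2 : orderOf (g ^ 4) = 2 := by rw [orderOf_pow, hg]; decide
  have e4 : col T (g ^ 2) = c32 := by
    refine (four_col T hG h4).resolve_left fun h => ?_
    have h0 := card_roots T hG (reg_pow hR 2)
    rw [h, roots_c16, Nat.cast_eq_zero, Nat.card_eq_zero] at h0
    rcases h0 with h0 | h0
    · exact h0.false ⟨g, (pow_two g).symm⟩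
    · exact not_finite {s : G // s * s = g ^ 2}
  rcases two_small T hG (by norm_num) hg' with h | h | h
  · exact h
  · exfalso
    have hd := det_eight (not_comm hG) (T.irr 1) hg (v := 1) (w := 1) (u := 5)
      (by rw [col_spec hR, h, c16_eq]; rfl) (by rw [col_spec (reg_pow hR 2), e4, c32_eq]; rfl)
      (by rw [col_spec (reg_pow hR 4), col_conj (reg_pow hR 4) t_reg (T.inv_conj _ h2).symm, col_t]; rfl)
    rw [T.deg] at hd
    simp [degs] at hd
  · exfalso
    have ho := col_dot (T := T) hR (reg_pow hR 2) (not_conj_order (by omega))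
    rw [h, e4] at ho
    exact small_dot.2.2 ho

include T in
/-- A 2-element has order at most eight. -/
theorem two_orders (hG : Nat.card G = 443520) {g : G} {k : ℕ} (hg : orderOf g = 2 ^ k) : k ≤ 3 := by
  by_contra hk
  push Not at hk
  have h16 : orderOf (g ^ 2 ^ (k - 4)) = 16 := by
    rw [orderOf_pow, hg, Nat.gcd_eq_right (pow_dvd_pow 2 (Nat.sub_le k 4)), Nat.pow_div (Nat.sub_le k 4)
      (by norm_num), show k - (k - 4) = 4 by omega]
  set h := g ^ 2 ^ (k - 4)
  have h8 : orderOf (h * h) = 8 := by rw [← pow_two, orderOf_pow, h16]; decide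
  have h0 := card_roots T hG (reg_of_pow (g := h * h) (k := 3) Nat.prime_two (by simp) (by rw [h8]; norm_num))
  rw [eight_col T hG h8, roots_c8, Nat.cast_eq_zero, Nat.card_eq_zero] at h0
  rcases h0 with h0 | h0
  · exact h0.false ⟨h, rfl⟩
  · exact not_finite {s : G // s * s = h * h}

include T in
theorem eight_conj (hG : Nat.card G = 443520) {g h : G} (hg : orderOf g = 8) (hh : orderOf h = 8) : IsConj g h :=
  conj_of_col (T := T) (reg_of_pow (k := 3) Nat.prime_two (by simp) (by rw [hg]; norm_num))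
    (reg_of_pow (k := 3) Nat.prime_two (by simp) (by rw [hh]; norm_num))
    (by rw [eight_col T hG hg, eight_col T hG hh])

include T in
theorem card_eight (hG : Nat.card G = 443520) {g : G} (hg : orderOf g = 8) :
    Nat.card (centralizer ({g} : Set G)) = 8 := by
  have h := card_centralizer_col (T := T) (reg_of_pow (g := g) (k := 3) Nat.prime_two (by simp)
    (by rw [hg]; norm_num))
  rw [eight_col T hG hg, sizes.2.1] at h
  exact_mod_cast h

include T in
theorem card_four (hG : Nat.card G = 443520) {g : G} (hg : orderOf g = 4) :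
    (Nat.card (centralizer ({g} : Set G)) = 16 ∧ Nat.card {s : G // s * s = g} = 0) ∨
      (Nat.card (centralizer ({g} : Set G)) = 32 ∧ Nat.card {s : G // s * s = g} = 4) := by
  have hR : Reg g := reg_of_pow (k := 2) Nat.prime_two (by simp) (by rw [hg]; norm_num)
  have h := card_centralizer_col (T := T) hR
  have h' := card_roots T hG hR
  rcases four_col T hG hg with e | e <;> rw [e] at h h'
  · rw [sizes.2.2.1] at h
    rw [roots_c16] at h'
    exact Or.inl ⟨by exact_mod_cast h, by exact_mod_cast h'⟩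
  · rw [sizes.2.2.2] at h
    rw [roots_c32] at h'
    exact Or.inr ⟨by exact_mod_cast h, by exact_mod_cast h'⟩

/-- The values of the character of degree 21. -/
theorem chi_three (hG : Nat.card G = 443520) {g : G} (hg : orderOf g = 3) : (T.irr 1 : G → ℂ) g = 3 := by
  rw [col_spec (reg_of_pow (g := g) (k := 1) Nat.prime_three (by simp) (by rw [hg]; norm_num)),
    three_col T hG hg, wcol_eq]
  norm_num

omit [IsSimpleGroup G] in
theorem chi_one : (T.irr 1 : G → ℂ) 1 = 21 := by
  rw [irr_one_eq, T.deg]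
  norm_num [degs]

omit [IsSimpleGroup G] in
theorem chi_two {g : G} (hg : orderOf g = 2) : (T.irr 1 : G → ℂ) g = 5 := by
  rw [← value_conj _ (T.inv_conj g hg), T.t_val]
  norm_num [tcol]

theorem chi_four (hG : Nat.card G = 443520) {g : G} (hg : orderOf g = 4) : (T.irr 1 : G → ℂ) g = 1 := by
  rw [col_spec (reg_of_pow (g := g) (k := 2) Nat.prime_two (by simp) (by rw [hg]; norm_num))]
  rcases four_col T hG hg with e | e <;> rw [e]
  · rw [c16_eq]; norm_num
  · rw [c32_eq]; norm_num

theorem chi_eight (hG : Nat.card G = 443520) {g : G} (hg : orderOf g = 8) : (T.irr 1 : G → ℂ) g = -1 := by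
  rw [col_spec (reg_of_pow (g := g) (k := 3) Nat.prime_two (by simp) (by rw [hg]; norm_num)),
    eight_col T hG hg, c8_eq]
  norm_num

end CfsgLib.KGroups.M22Elements
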