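import Cfsg.Agent.Lib.KGroups.M22Frame
import Cfsg.Agent.Lib.KGroups.M22Check

/-!
# The Sylow 11-normaliser of a simple group of order 443520
-/

set_option autoImplicit false

namespace CfsgLib.KGroups.M22Eleven

open Cfsg CfsgLib.Blocks CfsgLib.KGroups.M11Tools CfsgLib.KGroups.M12Tools CfsgLib.KGroups.M12Local
  CfsgLib.KGroups.M22Tools CfsgLib.KGroups.M22Frame CfsgLib.KGroups.M22Check Subgroup
open CfsgLib.SmallGroups
open scoped Classical

variable {G : Type*} [Group G] [Fintype G]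

theorem block_degree_key : ∀ a ∈ Finset.range 666, a ∣ 443520 → 2 ≤ a →
    (a % 11 = 1 → (a : ℤ) ∈ sdegs) ∧ (a % 11 = 10 → -(a : ℤ) ∈ sdegs) := by
  decide +kernel

theorem eleven_index_key : ∀ n ∈ Nat.divisors 40320, n % 11 = 1 → n ≠ 1 → ∀ e ∈ Nat.divisors 10, e ≠ 1 →
    ∀ k : ℕ, n * (e * k) = 40320 → k = 40320 / (n * e) := by
  intro n _ _ _ e _ _ k h
  rw [← h, ← mul_assoc, Nat.mul_div_cancel_left]
  rcases Nat.eq_zero_or_pos (n * e) with h0 | h0
  · rw [← mul_assoc, h0, zero_mul] at h; omega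
  · exact h0

theorem eleven_cases_key : ∀ n ∈ Nat.divisors 40320, n % 11 = 1 → n ≠ 1 → ∀ e ∈ Nat.divisors 10, e ≠ 1 →
    n * (e * (40320 / (n * e))) = 40320 →
    (e = 5 ∧ 40320 / (n * e) = 1) ∨ (e = 5 ∧ 2 ∣ 40320 / (n * e)) ∨
      (e = 2 ∧ (2 ∣ 40320 / (n * e) ∨ 3 ∣ 40320 / (n * e))) ∨
      (e = 10 ∧ (3 ∣ 40320 / (n * e) ∨ 40320 / (n * e) = 28)) := by
  decide +kernel

variable [IsSimpleGroup G] (hG : Nat.card G = 443520)

include hG in
theorem not_comm : ¬ IsMulCommutative G :=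
  SimpleTools.not_comm_of_card (by rw [hG]; norm_num)

include hG in
theorem card_sylow_eleven (P : Sylow 11 G) [Fact (Nat.Prime 11)] : Nat.card (P : Subgroup G) = 11 :=
  (SimpleTools.card_sylow_subgroup (k := 1) (m := 40320) (by rw [hG]; norm_num) (by norm_num) P).trans (pow_one _)

omit [IsSimpleGroup G] in
include hG in
theorem deg_le (χ : IrrCharacter G) : charDegree (χ : G → ℂ) ≤ 665 := by
  have h : charDegree (χ : G → ℂ) ^ 2 ≤ 443520 := by
    calc charDegree (χ : G → ℂ) ^ 2 ≤ ∑ η : IrrCharacter G, charDegree (η : G → ℂ) ^ 2 :=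
          Finset.single_le_sum (f := fun η : IrrCharacter G => charDegree (η : G → ℂ) ^ 2)
            (fun _ _ => Nat.zero_le _) (Finset.mem_univ χ)
      _ = 443520 := by rw [sum_deg_sq, hG]
  nlinarith

include hG in
theorem two_le_degree {χ : IrrCharacter G} (hne : χ ≠ trivChar G) : 2 ≤ charDegree (χ : G → ℂ) := by
  have := charDegree_pos χ
  have : charDegree (χ : G → ℂ) ≠ 1 := fun h => hne (BlockDegrees.eq_trivChar (not_comm hG) χ h)
  omega

include hG in
/-- The signed degrees in a principal 11-block. -/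
theorem signed_degree_mem {χ : IrrCharacter G} (hne : χ ≠ trivChar G) {s : ℤ} (hs : s = 1 ∨ s = -1)
    (hmod : (charDegree (χ : G → ℂ) : ℤ) ≡ s [ZMOD (11 : ℕ)]) :
    s * (charDegree (χ : G → ℂ) : ℤ) ∈ sdegs := by
  obtain ⟨h1, h10⟩ := block_degree_key _ (Finset.mem_range.mpr (by have := deg_le hG χ; omega))
    (hG ▸ charDegree_dvd χ) (two_le_degree hG hne)
  rw [Int.ModEq] at hmod
  rcases hs with rfl | rfl
  · rw [one_mul]; exact h1 (by omega)
  · rw [neg_one_mul]; exact h10 (by omega)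

theorem big_of_mem : ∀ a ∈ sdegs, 22 ≤ a.natAbs → a ∈ bigDegs := by decide +kernel

include hG in
theorem vanish_big {χ : IrrCharacter G} {s : ℤ} (hs : s = 1 ∨ s = -1) {q n : ℕ} (hq : q.Prime)
    (h1 : q ^ n ∣ 443520) (h2 : ¬ q ^ (n + 1) ∣ 443520) {g : G} (hg : q ∣ orderOf g)
    (hval : (χ : G → ℂ) g = (s : ℂ)) : ¬ q ^ n ∣ charDegree (χ : G → ℂ) := fun h => by
  rw [vanish χ hq (by rw [hG]; exact h1) (by rw [hG]; exact h2) h hg] at hval
  rcases hs with rfl | rfl <;> norm_num at hval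

/-- An element of order three or two commuting with a generator forces members of degree at least 22. -/
theorem member_big [IsSimpleGroup G] (hna : ¬ IsMulCommutative G) [Fact (Nat.Prime 11)] {x u : G}
    (hx : orderOf x = 11) (hu : orderOf u = 2 ∨ orderOf u = 3) (hxu : Commute x u) {χ : IrrCharacter G} {s : ℤ}
    (hne : χ ≠ trivChar G)
    (hval : ∀ i, ¬ 11 ∣ i → ∀ v : G, Commute x v → ¬ 11 ∣ orderOf v → (χ : G → ℂ) (x ^ i * v) = (s : ℂ)) :
    22 ≤ charDegree (χ : G → ℂ) := by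
  rcases hu with hu | hu
  · obtain ⟨v, -, h4, h22, hlt⟩ := member_two hx hval hna (by norm_num) hne hu hxu
    push_cast at h22
    omega
  · exact member_three hx hval hna (by norm_num) hne hu hxu

theorem low_mem {d : ℕ} {v : ℤ} (h1 : (44 : ℤ) ∣ (d : ℤ) - v) (h2 : v.natAbs < d) : v ∈ low d := by
  obtain ⟨c, hc⟩ := h1
  simp only [low, List.mem_map, List.mem_range]
  exact ⟨(c - 1).toNat, by omega, by omega⟩

include hG in
/-- An element commuting with a Sylow 11-subgroup, of prime order. -/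
theorem exists_commuting [Fact (Nat.Prime 11)] {P : Sylow 11 G} {e : ℕ} (F : Frame 11 e P) {q k : ℕ}
    (hq : q.Prime) (hqk : q ∣ k) (hC : Nat.card (centralizer ((P : Subgroup G) : Set G)) = 11 * k) :
    ∃ u : G, orderOf u = q ∧ Commute F.x u := by
  haveI : Fact q.Prime := ⟨hq⟩
  obtain ⟨⟨u, huC⟩, hu⟩ := exists_prime_orderOf_dvd_card' (G := ↥(centralizer ((P : Subgroup G) : Set G))) q
    (hC ▸ hqk.mul_left 11)
  rw [Subgroup.orderOf_mk] at hu
  exact ⟨u, hu, mem_centralizer_iff.mp huC F.x F.hxP⟩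

include hG in
theorem not_two [Fact (Nat.Prime 11)] {P : Sylow 11 G} (F : Frame 11 2 P) {k : ℕ} (hk : 2 ∣ k ∨ 3 ∣ k)
    (hC : Nat.card (centralizer ((P : Subgroup G) : Set G)) = 11 * k) : False := by
  have hna := not_comm hG
  obtain ⟨u, hu, hxu⟩ : ∃ u : G, (orderOf u = 2 ∨ orderOf u = 3) ∧ Commute F.x u := by
    rcases hk with h | h
    · obtain ⟨u, h1, h2⟩ := exists_commuting hG F Nat.prime_two h hC; exact ⟨u, Or.inl h1, h2⟩
    · obtain ⟨u, h1, h2⟩ := exists_commuting hG F Nat.prime_three h hC; exact ⟨u, Or.inr h1, h2⟩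
  have ht := F.triv_mem (by norm_num) (by norm_num) (by norm_num)
  obtain ⟨χ, hχ⟩ := Finset.card_eq_one.mp (show F.X'.card = 1 by have := F.card_X' ht; omega)
  obtain ⟨θ, hθ⟩ : F.Y.Nonempty := Finset.card_pos.1 (by rw [F.hY]; norm_num)
  have hm := F.mem_X (show χ ∈ F.X' by rw [hχ]; exact Finset.mem_singleton_self χ)
  have hr := F.rel_one ht hθ
  rw [hχ, Finset.sum_singleton] at hr
  have hbig := member_big hna F.hx hu hxu hm.2 (F.hval χ hm.1)
  have hmem := signed_degree_mem hG hm.2 (F.hsgn χ hm.1) (F.hmod χ hm.1)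
  have key : ∀ a ∈ sdegs, 22 ≤ a.natAbs → ¬ (1 + a).natAbs ∣ 443520 := by decide +kernel
  refine key _ hmem ?_ ?_
  · rcases F.hsgn χ hm.1 with e | e <;> simp [e] <;> omega
  · rw [← hr, Int.natAbs_mul, Int.natAbs_natCast]
    rcases F.hεy with e | e <;> rw [e] <;> simpa using hG ▸ charDegree_dvd θ

include hG in
theorem not_ten_three [Fact (Nat.Prime 11)] {P : Sylow 11 G} (F : Frame 11 10 P) {k : ℕ} (hk : 3 ∣ k)
    (hC : Nat.card (centralizer ((P : Subgroup G) : Set G)) = 11 * k) : False := by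
  have hna := not_comm hG
  obtain ⟨w, hw, hxw⟩ := exists_commuting hG F Nat.prime_three hk hC
  have hY1 : F.Y.card = 1 := by rw [F.hY]
  obtain ⟨θ, hθ⟩ := Finset.card_eq_one.mp hY1
  have hθY : θ ∈ F.Y := by rw [hθ]; exact Finset.mem_singleton_self θ
  set s : IrrCharacter G → ℤ := fun χ => if χ = θ then -F.εy else F.sgn χ with hs
  have hθX : θ ∉ F.X := fun h => Finset.disjoint_left.mp F.hdisj h hθY
  have hsX : ∀ χ ∈ F.X, s χ = F.sgn χ := fun χ h => by
    simp only [hs]
    exact if_neg fun h' : χ = θ => hθX (h' ▸ h)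
  have hsθ : s θ = -F.εy := by simp [hs]
  have hall : ∀ χ ∈ F.X ∪ F.Y, (s χ = 1 ∨ s χ = -1) ∧ (charDegree (χ : G → ℂ) : ℤ) ≡ s χ [ZMOD (11 : ℕ)] ∧
      ∀ i, ¬ 11 ∣ i → ∀ u : G, Commute F.x u → ¬ 11 ∣ orderOf u → (χ : G → ℂ) (F.x ^ i * u) = (s χ : ℂ) := by
    intro χ h
    rcases Finset.mem_union.mp h with h | h
    · rw [hsX χ h]
      exact ⟨F.hsgn χ h, F.hmod χ h, F.hval χ h⟩
    · rw [hθ, Finset.mem_singleton] at h
      rw [h, hsθ]
      refine ⟨by rcases F.hεy with e1 | e1 <;> simp [e1], ?_, fun i hi u hc hu => ?_⟩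
      · have h1 := F.hYd θ hθY
        rw [Int.ModEq] at h1 ⊢
        rcases F.hεy with e1 | e1 <;> rw [e1] at h1 ⊢ <;> omega
      · rw [single_val F hY1 hθY hi hc hu]
        push_cast; rfl
  have hsum0 : ∑ χ ∈ F.X ∪ F.Y, s χ * (charDegree (χ : G → ℂ) : ℤ) = 0 := by
    rw [Finset.sum_union F.hdisj, hθ, Finset.sum_singleton, Finset.sum_congr rfl fun χ h => by rw [hsX χ h],
      ← rel_degree F hθY, hsθ]
    ring
  have htB : trivChar G ∈ F.X ∪ F.Y := Finset.mem_union.mpr F.htriv
  have hst : s (trivChar G) = 1 := by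
    have h1 := (hall _ htB).2.2 1 (by norm_num) 1 (Commute.one_right _) (by rw [orderOf_one]; norm_num)
    rw [trivChar_apply] at h1
    exact_mod_cast h1.symm
  rw [← Finset.add_sum_erase _ _ htB, hst,
    show charDegree ((trivChar G : IrrCharacter G) : G → ℂ) = 1 by simp [charDegree]] at hsum0
  have h2 : (2 : ℤ) ∣ ∑ χ ∈ (F.X ∪ F.Y).erase (trivChar G), s χ * (charDegree (χ : G → ℂ) : ℤ) := by
    refine Finset.dvd_sum fun χ h => ?_
    obtain ⟨hne, hB⟩ := Finset.mem_erase.mp h
    obtain ⟨h1, hmd, hv⟩ := hall χ hB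
    have hbig := member_big hna F.hx (Or.inr hw) hxw hne hv
    have hmem := big_of_mem _ (signed_degree_mem hG hne h1 hmd) (by rcases h1 with e | e <;> simp [e] <;> omega)
    have h9 := vanish_big hG h1 (q := 3) (n := 2) Nat.prime_three (by norm_num) (by norm_num)
      (g := F.x ^ 1 * w)
      (by rw [pow_one, hxw.orderOf_mul_eq_mul_orderOf_of_coprime (by rw [F.hx, hw]; norm_num), F.hx, hw]; norm_num)
      (hv 1 (by norm_num) w hxw (by rw [hw]; norm_num))
    have key : ∀ a ∈ bigDegs, ¬ 9 ∣ a.natAbs → (2 : ℤ) ∣ a := by decide +kernel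
    refine key _ hmem ?_
    rcases h1 with e | e <;> simpa [e] using h9
  omega

include hG in
theorem not_ten_28 [Fact (Nat.Prime 11)] {P : Sylow 11 G}
    (hN : Nat.card (normalizer ((P : Subgroup G) : Set G)) = 10 * (11 * 28))
    (hC : Nat.card (centralizer ((P : Subgroup G) : Set G)) = 11 * 28) : False := by
  haveI : Fact (Nat.Prime 7) := ⟨by norm_num⟩
  set C := centralizer ((P : Subgroup G) : Set G)
  set N := normalizer ((P : Subgroup G) : Set G)
  obtain ⟨Q⟩ : Nonempty (Sylow 7 ↥C) := inferInstance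
  have hQ : Nat.card (Q : Subgroup ↥C) = 7 :=
    (SimpleTools.card_sylow_subgroup (k := 1) (m := 44) (by rw [hC]; norm_num) (by norm_num) Q).trans (pow_one _)
  have hPC : (P : Subgroup G) ≤ C := fun y hy => mem_centralizer_iff.mpr fun z hz => by
    haveI := isCyclic_of_prime_card (card_sylow_eleven hG P)
    exact congrArg Subtype.val (IsCyclic.commGroup.mul_comm (⟨z, hz⟩ : (P : Subgroup G)) ⟨y, hy⟩)
  -- the Sylow 7-subgroup of the centraliser is unique
  have huniq : Nat.card (Sylow 7 ↥C) = 1 := by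
    have hn : Nat.card (Sylow 7 ↥C) = (normalizer ((Q : Subgroup ↥C) : Set ↥C)).index :=
      Q.card_eq_index_normalizer
    have hmod := card_sylow_modEq_one 7 ↥C
    have h11 : 11 ∣ Nat.card ↥(normalizer ((Q : Subgroup ↥C) : Set ↥C)) := by
      have hle : (P : Subgroup G).subgroupOf C ≤ normalizer ((Q : Subgroup ↥C) : Set ↥C) := fun y hy => by
        refine mem_normalizer_iff.mpr fun h => ?_
        have : y * h = h * y := Subtype.ext (mem_centralizer_iff.mp h.2 _ hy)
        rw [this, mul_inv_cancel_right]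
      have h1 := Subgroup.card_dvd_of_le hle
      rwa [Nat.card_congr (subgroupOfEquivOfLe hPC).toEquiv, card_sylow_eleven hG P] at h1
    have h7 : 7 ∣ Nat.card ↥(normalizer ((Q : Subgroup ↥C) : Set ↥C)) := by
      have h1 := Subgroup.card_dvd_of_le (le_normalizer (H := (Q : Subgroup ↥C)))
      rwa [hQ] at h1
    have h77 : 77 ∣ Nat.card ↥(normalizer ((Q : Subgroup ↥C) : Set ↥C)) :=
      Nat.Coprime.mul_dvd_of_dvd_of_dvd (m := 7) (n := 11) (by norm_num) h7 h11
    obtain ⟨c, hc⟩ := h77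
    have hidx := (normalizer ((Q : Subgroup ↥C) : Set ↥C)).index_mul_card
    rw [← hn, hc, hC] at hidx
    have h4 : Nat.card (Sylow 7 ↥C) ∣ 4 := ⟨c, by linarith⟩
    have := Nat.le_of_dvd (by norm_num) h4
    rw [Nat.ModEq] at hmod
    omega
  have hsub : Subsingleton (Sylow 7 ↥C) := (Nat.card_eq_one_iff_unique.mp huniq).1
  set Q' : Subgroup G := (Q : Subgroup ↥C).map C.subtype
  have hQ' : Nat.card Q' = 7 := by rw [Subgroup.card_map_of_injective C.subtype_injective, hQ]
  -- the normaliser of P normalises it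
  have hNle : N ≤ normalizer (Q' : Set G) := fun g hg => by
    rw [mem_normalizer_iff_map_conj_eq]
    have hgC : ∀ c ∈ C, g * c * g⁻¹ ∈ C := fun c hc => mem_centralizer_iff.mpr fun z hz => by
      have hz' := (mem_normalizer_iff''.mp hg z).mp hz
      have h1 := mem_centralizer_iff.mp hc _ hz'
      calc z * (g * c * g⁻¹) = g * ((g⁻¹ * z * g) * c) * g⁻¹ := by group
        _ = g * (c * (g⁻¹ * z * g)) * g⁻¹ := by rw [h1]
        _ = g * c * g⁻¹ * z := by group
    have hle : Q'.map (MulAut.conj g).toMonoidHom ≤ C := by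
      rintro _ ⟨c, ⟨c', -, rfl⟩, rfl⟩
      exact hgC _ c'.2
    have hcard : Nat.card ↥((Q'.map (MulAut.conj g).toMonoidHom).subgroupOf C) = 7 := by
      rw [Nat.card_congr (subgroupOfEquivOfLe hle).toEquiv,
        Subgroup.card_map_of_injective (f := (MulAut.conj g).toMonoidHom) (MulAut.conj g).injective, hQ']
    obtain ⟨R, hR⟩ := (IsPGroup.of_card (n := 1) (by rw [hcard, pow_one]) :
      IsPGroup 7 ↥((Q'.map (MulAut.conj g).toMonoidHom).subgroupOf C)).exists_le_sylow
    rw [Subsingleton.elim R Q] at hR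
    refine Subgroup.eq_of_le_of_card_ge ?_
      (Subgroup.card_map_of_injective (K := Q') (f := (MulAut.conj g : G →* G)) (MulAut.conj g).injective).ge
    intro y hy
    exact ⟨⟨y, hle hy⟩, hR (mem_subgroupOf.mpr hy), rfl⟩
  -- counting Sylow subgroups
  obtain ⟨R, hR⟩ := (IsPGroup.of_card (n := 1) (by rw [hQ', pow_one]) : IsPGroup 7 ↥Q').exists_le_sylow
  have hRc : Nat.card (R : Subgroup G) = 7 :=
    (SimpleTools.card_sylow_subgroup (k := 1) (m := 63360) (by rw [hG]; norm_num) (by norm_num) R).trans (pow_one _)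
  have hReq : Q' = (R : Subgroup G) := Subgroup.eq_of_le_of_card_ge hR (le_of_eq (hRc.trans hQ'.symm))
  rw [hReq] at hNle
  set H := normalizer ((R : Subgroup G) : Set G)
  have hn7 : Nat.card (Sylow 7 G) * Nat.card H = 443520 := hG ▸ SimpleTools.card_normalizer_mul R
  have hm7 := card_sylow_modEq_one 7 G
  have hne7 := SimpleTools.card_sylow_ne_one (p := 7) (not_comm hG) (by rw [hG]; norm_num)
  have hPH : (P : Subgroup G) ≤ H := le_normalizer.trans hNle
  set P' : Sylow 11 ↥H := P.subtype hPH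
  have hP'N : Nat.card ↥(normalizer ((P' : Subgroup ↥H) : Set ↥H)) = 10 * (11 * 28) := by
    have : normalizer ((P' : Subgroup ↥H) : Set ↥H) = N.subgroupOf H :=
      (Subgroup.subgroupOf_normalizer_eq hPH).symm
    rw [this, Nat.card_congr (subgroupOfEquivOfLe hNle).toEquiv, hN]
  have hn11 : Nat.card (Sylow 11 ↥H) * (10 * (11 * 28)) = Nat.card H := by
    rw [← hP'N]; exact SimpleTools.card_normalizer_mul P'
  have hm11 := card_sylow_modEq_one 11 ↥H
  rw [← hn11] at hn7
  rw [Nat.ModEq] at hm7 hm11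
  have hprod : Nat.card (Sylow 7 G) * Nat.card (Sylow 11 ↥H) = 144 := by
    refine Nat.eq_of_mul_eq_mul_right (show 0 < 10 * (11 * 28) by norm_num) ?_
    rw [mul_assoc]; linarith
  have key : ∀ a ∈ Nat.divisors 144, a % 7 = 1 → a ≠ 1 → 144 / a % 11 ≠ 1 := by decide +kernel
  refine key _ (Nat.mem_divisors.mpr ⟨⟨_, hprod.symm⟩, by norm_num⟩) hm7 hne7 ?_
  rw [Nat.div_eq_of_eq_mul_left (Nat.pos_of_ne_zero fun h => by rw [h, zero_mul] at hprod; omega)
    (by rw [mul_comm]; exact hprod.symm)]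
  exact hm11

include hG in
/-- An involution centralising a Sylow 11-subgroup leaves no degrees for an automiser of order five. -/
theorem not_five [Fact (Nat.Prime 11)] {P : Sylow 11 G} (F : Frame 11 5 P) (hS : SectionZero F) {k : ℕ}
    (hk : 2 ∣ k) (hN : Nat.card (normalizer ((P : Subgroup G) : Set G)) = 5 * (11 * k))
    (hC : Nat.card (centralizer ((P : Subgroup G) : Set G)) = 11 * k) : False := by
  have hna := not_comm hG
  obtain ⟨u, hu, hxu⟩ := exists_commuting hG F Nat.prime_two hk hC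
  have ht := F.triv_mem (by norm_num) (by norm_num) (by norm_num)
  obtain ⟨θ, hθ⟩ : F.Y.Nonempty := Finset.card_pos.1 (by rw [F.hY]; norm_num)
  have hY2 : F.Y.card = 2 := by rw [F.hY]
  obtain ⟨a, b, c, d, nab, nac, nad, nbc, nbd, ncd, hset, hab, hbc, hcd⟩ :=
    exists_sorted (show F.X'.card = 4 by have := F.card_X' ht; omega)
      fun χ => F.sgn χ * (charDegree (χ : G → ℂ) : ℤ)
  have hm : ∀ χ ∈ F.X', F.sgn χ * (charDegree (χ : G → ℂ) : ℤ) ∈ sdegs ∧
      22 ≤ charDegree (χ : G → ℂ) ∧ ∃ v : ℤ, (χ : G → ℂ) u = v ∧ v ∈ low (charDegree (χ : G → ℂ)) := fun χ h => by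
    obtain ⟨hX, hne⟩ := F.mem_X h
    obtain ⟨v, hv, h4, h22, hlt⟩ := member_two F.hx (F.hval χ hX) hna (by norm_num) hne hu hxu
    push_cast at h22
    exact ⟨signed_degree_mem hG hne (F.hsgn χ hX) (F.hmod χ hX), by omega, v, hv, low_mem (by omega) hlt⟩
  obtain ⟨sa, ba, va, hva, la⟩ := hm a (by simp [hset])
  obtain ⟨sb, bb, vb, hvb, lb⟩ := hm b (by simp [hset])
  obtain ⟨sc, bc, vc, hvc, lc⟩ := hm c (by simp [hset])
  obtain ⟨sd, bd, vd, hvd, ld⟩ := hm d (by simp [hset])
  have hX : ∀ χ ∈ F.X', χ ∈ F.X := fun χ h => (F.mem_X h).1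
  have hsg : ∀ χ ∈ F.X', sg (F.sgn χ * (charDegree (χ : G → ℂ) : ℤ)) = F.sgn χ ∧
      (F.sgn χ * (charDegree (χ : G → ℂ) : ℤ)).natAbs = charDegree (χ : G → ℂ) := fun χ h => by
    have := charDegree_pos χ
    rcases F.hsgn χ (hX χ h) with e | e <;> rw [e] <;> simp only [sg] <;> refine ⟨?_, ?_⟩ <;>
      first
        | (split_ifs <;> omega)
        | omega
  obtain ⟨ga, na⟩ := hsg a (by simp [hset])
  obtain ⟨gb, nb⟩ := hsg b (by simp [hset])
  obtain ⟨gc, nc⟩ := hsg c (by simp [hset])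
  obtain ⟨gd, nd⟩ := hsg d (by simp [hset])
  have hth : th (F.sgn a * (charDegree (a : G → ℂ) : ℤ)) (F.sgn b * (charDegree (b : G → ℂ) : ℤ))
      (F.sgn c * (charDegree (c : G → ℂ) : ℤ)) (F.sgn d * (charDegree (d : G → ℂ) : ℤ)) =
      F.εy * (charDegree (θ : G → ℂ) : ℤ) := by
    rw [F.rel_one ht hθ, hset, Finset.sum_insert (by simp [nab, nac, nad]),
      Finset.sum_insert (by simp [nbc, nbd]), Finset.sum_pair ncd, th]
    ring
  have hθne : θ ≠ trivChar G := fun h => Finset.disjoint_left.mp F.hdisj ht (h ▸ hθ)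
  have hθ2 := two_le_degree hG hθne
  have nθ : (th (F.sgn a * (charDegree (a : G → ℂ) : ℤ)) (F.sgn b * (charDegree (b : G → ℂ) : ℤ))
      (F.sgn c * (charDegree (c : G → ℂ) : ℤ)) (F.sgn d * (charDegree (d : G → ℂ) : ℤ))).natAbs =
      charDegree (θ : G → ℂ) := by
    rw [hth]; rcases F.hεy with e | e <;> simp [e]
  have gθ : sg (th (F.sgn a * (charDegree (a : G → ℂ) : ℤ)) (F.sgn b * (charDegree (b : G → ℂ) : ℤ))
      (F.sgn c * (charDegree (c : G → ℂ) : ℤ)) (F.sgn d * (charDegree (d : G → ℂ) : ℤ))) = F.εy := by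
    rw [hth]; rcases F.hεy with e | e <;> simp only [sg, e] <;> split_ifs <;> omega
  have hvalid : valid (F.sgn a * (charDegree (a : G → ℂ) : ℤ)) (F.sgn b * (charDegree (b : G → ℂ) : ℤ))
      (F.sgn c * (charDegree (c : G → ℂ) : ℤ)) (F.sgn d * (charDegree (d : G → ℂ) : ℤ)) = true := by
    simp only [valid, Bool.and_eq_true, decide_eq_true_eq, nθ]
    refine ⟨⟨⟨hθ2, hG ▸ charDegree_dvd θ⟩, ?_⟩, ?_⟩
    · have h1 := F.hYd θ hθ
      rw [Int.ModEq] at h1
      rw [hth]
      rcases F.hεy with e | e <;> rw [e] at h1 ⊢ <;> omega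
    · have h1 : ∑ η ∈ F.X ∪ F.Y, (charDegree (η : G → ℂ) : ℤ) ^ 2 ≤
          ∑ η : IrrCharacter G, (charDegree (η : G → ℂ) : ℤ) ^ 2 :=
        Finset.sum_le_sum_of_subset_of_nonneg (Finset.subset_univ _) fun _ _ _ => sq_nonneg _
      rw [Finset.sum_union F.hdisj, ← Finset.add_sum_erase _ _ ht,
        show F.X.erase (trivChar G) = {a, b, c, d} from hset,
        Finset.sum_insert (by simp [nab, nac, nad]), Finset.sum_insert (by simp [nbc, nbd]), Finset.sum_pair ncd,
        Finset.sum_congr rfl (g := fun _ => (charDegree (θ : G → ℂ) : ℤ) ^ 2) fun η hη => by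
          rw [F.deg_agree hη hθ],
        Finset.sum_const, hY2, show ∑ η : IrrCharacter G, (charDegree (η : G → ℂ) : ℤ) ^ 2 = 443520 by
          exact_mod_cast (sum_deg_sq (G := G)).trans hG,
        show charDegree ((trivChar G : IrrCharacter G) : G → ℂ) = 1 by simp [charDegree]] at h1
      simp only [nsmul_eq_mul] at h1
      push_cast at h1
      have hsq : ∀ χ : IrrCharacter G, (F.sgn χ = 1 ∨ F.sgn χ = -1) →
          F.sgn χ * (charDegree (χ : G → ℂ) : ℤ) * (F.sgn χ * (charDegree (χ : G → ℂ) : ℤ)) =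
            (charDegree (χ : G → ℂ) : ℤ) ^ 2 := fun χ h => by
        rcases h with e | e <;> rw [e] <;> ring
      rw [hth, hsq a (F.hsgn a (hX a (by simp [hset]))), hsq b (F.hsgn b (hX b (by simp [hset]))),
        hsq c (F.hsgn c (hX c (by simp [hset]))), hsq d (F.hsgn d (hX d (by simp [hset]))),
        show F.εy * (charDegree (θ : G → ℂ) : ℤ) * (F.εy * (charDegree (θ : G → ℂ) : ℤ)) =
          (charDegree (θ : G → ℂ) : ℤ) ^ 2 by rcases F.hεy with e | e <;> rw [e] <;> ring]
      linarith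
  have hkill := List.all_eq_true.mp low_kill _ (mem_blocks sa sb sc sd hab hbc hcd hvalid)
  -- the centraliser of u
  have hidx := (centralizer ({u} : Set G)).index_mul_card
  rw [hG] at hidx
  have h22 : 22 ∣ Nat.card (centralizer ({u} : Set G)) := by
    have h2 : orderOf (F.x * u) = 22 := by
      rw [hxu.orderOf_mul_eq_mul_orderOf_of_coprime (by rw [F.hx, hu]; norm_num), F.hx, hu]
    rw [← h2]
    exact Subgroup.orderOf_dvd_natCard _
      (mem_centralizer_singleton_iff.mpr ((hxu.mul_left (Commute.refl u))).eq)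
  obtain ⟨K, hK⟩ := h22
  have hI : (centralizer ({u} : Set G)).index * K = 20160 := by
    refine Nat.eq_of_mul_eq_mul_right (show 0 < 22 by norm_num) ?_
    rw [mul_assoc, mul_comm K, ← hK, hidx]
  have hu1 : u ≠ 1 := fun h => by rw [h, orderOf_one] at hu; omega
  have hproper : centralizer ({u} : Set G) ≠ ⊤ := fun h => by
    have : u ∈ center G := mem_center_iff.mpr fun g =>
      (mem_centralizer_singleton_iff.mp (h ▸ mem_top g : g ∈ centralizer ({u} : Set G)))
    rw [SimpleTools.center_eq_bot hna, mem_bot] at this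
    exact hu1 this
  have hI12 : 12 ≤ (centralizer ({u} : Set G)).index := by
    have hf := SimpleTools.two_mul_card_dvd_factorial hna _ hproper
    by_contra hlt
    have h11 : 11 ≤ (centralizer ({u} : Set G)).index := by
      by_contra h10
      have h1 : (11 : ℕ) ∣ Nat.factorial (centralizer ({u} : Set G)).index :=
        Dvd.dvd.trans (by rw [hG]; norm_num) hf
      exact absurd ((Nat.prime_iff.mp (by norm_num : Nat.Prime 11)).dvd_finsetProd_iff _ |>.mp
        (by rwa [← Finset.prod_range_add_one_eq_factorial] at h1)) (by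
          rintro ⟨j, hj, hj11⟩
          rw [Finset.mem_range] at hj
          have := Nat.le_of_dvd (by omega) hj11
          omega)
    have e : (centralizer ({u} : Set G)).index = 11 := by omega
    rw [e] at hI
    omega
  have hK1 : K < 1681 := by nlinarith
  -- the value of the exceptional characters
  have hu11 : ¬ 11 ∣ orderOf u := by rw [hu]; norm_num
  obtain ⟨r, hr⟩ := exists_int_two θ hu
  have hrel := F.rel_split ht hθ u hu11
  rw [hset, Finset.sum_insert (by simp [nab, nac, nad]), Finset.sum_insert (by simp [nbc, nbd]),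
    Finset.sum_pair ncd, hva, hvb, hvc, hvd, hr] at hrel
  have hrel' : F.εy * r = 1 + F.sgn a * va + F.sgn b * vb + F.sgn c * vc + F.sgn d * vd := by
    have : ((F.εy * r : ℤ) : ℂ) =
        ((1 + F.sgn a * va + F.sgn b * vb + F.sgn c * vc + F.sgn d * vd : ℤ) : ℂ) := by
      push_cast; linear_combination hrel
    exact_mod_cast this
  have htval : tval (F.sgn a * (charDegree (a : G → ℂ) : ℤ)) (F.sgn b * (charDegree (b : G → ℂ) : ℤ))
      (F.sgn c * (charDegree (c : G → ℂ) : ℤ)) (F.sgn d * (charDegree (d : G → ℂ) : ℤ)) va vb vc vd = r := by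
    rw [tval, gθ, ga, gb, gc, gd, ← hrel', ← mul_assoc]
    rcases F.hεy with e | e <;> simp [e]
  simp only [lowKill, Bool.or_eq_true, decide_eq_true_eq, na, nb, nc, nd, List.all_eq_true] at hkill
  rcases hkill with h | h
  · omega
  have h1 := h va la vb lb vc lc vd ld
  rw [htval, nθ] at h1
  have hdv : ∀ (χ : IrrCharacter G) (w : ℤ), (χ : G → ℂ) u = w →
      (charDegree (χ : G → ℂ) : ℤ) ∣ ((20160 / K : ℕ) : ℤ) * w := fun χ w hw => by
    have hd := degree_dvd_index_mul χ u hw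
    rwa [show 20160 / K = (centralizer ({u} : Set G)).index from
      Nat.div_eq_of_eq_mul_left (Nat.pos_of_ne_zero fun h0 => by rw [h0, mul_zero] at hI; omega) hI.symm]
  have hcol : 1 + va * va + vb * vb + vc * vc + vd * vd + 2 * (r * r) ≤ ((22 * K : ℕ) : ℤ) := by
    have h2 : ∑ η ∈ F.X ∪ F.Y, ‖(η : G → ℂ) u‖ ^ 2 ≤ ((22 * K : ℕ) : ℝ) := by
      rw [← hK]
      exact (sum_norm_sq_column u).symm ▸
        Finset.sum_le_sum_of_subset_of_nonneg (Finset.subset_univ _) fun _ _ _ => sq_nonneg _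
    rw [Finset.sum_union F.hdisj, ← Finset.add_sum_erase _ _ ht,
      show F.X.erase (trivChar G) = {a, b, c, d} from hset,
      Finset.sum_insert (by simp [nab, nac, nad]), Finset.sum_insert (by simp [nbc, nbd]), Finset.sum_pair ncd,
      hva, hvb, hvc, hvd, Finset.sum_congr rfl (g := fun _ => ‖((r : ℤ) : ℂ)‖ ^ 2) fun η hη => by
        rw [(F.hagree η hη θ hθ u hu11).trans hr],
      Finset.sum_const, hY2, trivChar_apply] at h2
    simp only [Complex.norm_intCast, sq_abs, norm_one, one_pow, nsmul_eq_mul] at h2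
    have h3 : ((1 + va * va + vb * vb + vc * vc + vd * vd + 2 * (r * r) : ℤ) : ℝ) ≤
        (((22 * K : ℕ) : ℤ) : ℝ) := by
      push_cast
      push_cast at h2
      nlinarith
    exact_mod_cast h3
  -- no two involutions multiply into the section
  have hno : ∀ s, Commute F.x s → ¬ 11 ∣ orderOf s → ∀ t, IsConj u t → ¬ IsConj u (t⁻¹ * (F.x * s)⁻¹) := by
    intro s hs hs11 t htu hb
    obtain ⟨hto, hinv⟩ := exists_inverting hu hu htu hb
    obtain ⟨m, hm1, hm0⟩ := Nat.chineseRemainder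
      (((Nat.Prime.coprime_iff_not_dvd (by norm_num : Nat.Prime 11)).mpr hs11)) 1 0
    have hpow : (F.x * s) ^ m = F.x := by
      rw [hs.mul_pow, ← pow_mod_orderOf F.x, F.hx, hm1, ← pow_mod_orderOf s, hm0]
      simp
    have hinv' : t * F.x * t⁻¹ = F.x⁻¹ := by
      have h2 := congrArg (fun y : G => y ^ m) hinv
      simp only [conj_pow, inv_pow, inv_inv, hpow] at h2
      calc t * F.x * t⁻¹ = (t * F.x⁻¹ * t⁻¹)⁻¹ := by group
        _ = _ := by rw [h2]
    have htN : t ∈ normalizer ((P : Subgroup G) : Set G) := by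
      rw [← F.hzp]
      refine mem_normalizer_iff_map_conj_eq.mpr ?_
      rw [MonoidHom.map_zpowers]
      show zpowers (t * F.x * t⁻¹) = _
      rw [hinv', zpowers_inv]
    -- an involution of the normaliser centralises the subgroup
    have hCN : centralizer ((P : Subgroup G) : Set G) ≤ normalizer ((P : Subgroup G) : Set G) :=
      Subgroup.centralizer_le_normalizer _
    set C' := (centralizer ((P : Subgroup G) : Set G)).subgroupOf (normalizer ((P : Subgroup G) : Set G))
    have hidx5 : C'.index = 5 := by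
      have h2 := C'.index_mul_card
      rw [Nat.card_congr (subgroupOfEquivOfLe hCN).toEquiv, hN, hC] at h2
      exact Nat.eq_of_mul_eq_mul_right (show 0 < 11 * k by
        have : 0 < Nat.card (centralizer ((P : Subgroup G) : Set G)) := Nat.card_pos
        omega) h2
    haveI : C'.Normal := ⟨fun c hc g => by
      rw [mem_subgroupOf, mem_centralizer_iff] at hc ⊢
      intro z hz
      have hz' := (mem_normalizer_iff''.mp g.2 z).mp hz
      have h2 := hc _ hz'
      push_cast
      calc z * ((g : G) * (c : G) * (g : G)⁻¹) = (g : G) * (((g : G)⁻¹ * z * g) * c) * (g : G)⁻¹ := by group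
        _ = (g : G) * ((c : G) * ((g : G)⁻¹ * z * g)) * (g : G)⁻¹ := by rw [h2]
        _ = (g : G) * c * (g : G)⁻¹ * z := by group⟩
    have htC : (⟨t, htN⟩ : ↥(normalizer ((P : Subgroup G) : Set G))) ∈ C' := by
      rw [← QuotientGroup.eq_one_iff (N := C'), ← orderOf_eq_one_iff]
      have d5 : orderOf ((⟨t, htN⟩ : ↥(normalizer ((P : Subgroup G) : Set G))) :
          ↥(normalizer ((P : Subgroup G) : Set G)) ⧸ C') ∣ 5 := by
        rw [← hidx5]; exact orderOf_dvd_natCard _
      have d2 : orderOf ((⟨t, htN⟩ : ↥(normalizer ((P : Subgroup G) : Set G))) :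
          ↥(normalizer ((P : Subgroup G) : Set G)) ⧸ C') ∣ 2 := by
        refine (orderOf_map_dvd (QuotientGroup.mk' C') _).trans ?_
        rw [Subgroup.orderOf_mk, hto]
      exact Nat.eq_one_of_dvd_one (by simpa using Nat.dvd_gcd d5 d2)
    have hxt : Commute F.x t := mem_centralizer_iff.mp htC F.x F.hxP
    rw [← hxt.eq, mul_inv_cancel_right] at hinv'
    have hx2 : F.x ^ 2 = 1 := by rw [pow_two]; nth_rw 1 [hinv']; rw [inv_mul_cancel]
    have := orderOf_dvd_of_pow_eq_one hx2
    rw [F.hx] at this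
    norm_num at this
  have hz := blockSum_eq_zero F hS hu11 hu11 hθ hno
  rw [blockSum, ← Finset.add_sum_erase _ _ ht, show F.X.erase (trivChar G) = {a, b, c, d} from hset,
    Finset.sum_insert (by simp [nab, nac, nad]), Finset.sum_insert (by simp [nbc, nbd]), Finset.sum_pair ncd,
    F.sgn_triv ht, trivChar_apply, trivChar_apply, hva, hvb, hvc, hvd, hr] at hz
  simp only [irr_one_eq] at hz
  have hpv : pairVal (F.sgn a * (charDegree (a : G → ℂ) : ℤ)) (F.sgn b * (charDegree (b : G → ℂ) : ℤ))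
      (F.sgn c * (charDegree (c : G → ℂ) : ℤ)) (F.sgn d * (charDegree (d : G → ℂ) : ℤ))
      (va, vb, vc, vd, r) (va, vb, vc, vd, r) = 0 := by
    have hdiv : ∀ χ : IrrCharacter G, ((443520 / charDegree (χ : G → ℂ) : ℕ) : ℂ) =
        443520 / (charDegree (χ : G → ℂ) : ℂ) := fun χ => by
      rw [Nat.cast_div (hG ▸ charDegree_dvd χ) (Nat.cast_ne_zero.mpr (charDegree_pos χ).ne')]
      norm_num
    apply Int.cast_injective (α := ℂ)
    simp only [pairVal, quo, na, nb, nc, nd, nθ, ga, gb, gc, gd, gθ, Int.cast_add, Int.cast_sub, Int.cast_mul,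
      Int.cast_natCast, Int.cast_ofNat, Int.cast_zero]
    rw [hdiv a, hdiv b, hdiv c, hdiv d, hdiv θ]
    linear_combination (443520 : ℂ) * hz
  have hr4 := ValueTools.mod_four hna θ hu hr
  have hlt := ValueTools.lt_degree hna hθne hu1 hr
  have h1' := h1.resolve_left (by
    simp only [Bool.not_eq_true', Bool.eq_false_iff, ne_eq, not_not, Bool.and_eq_true, decide_eq_true_eq]
    exact ⟨⟨hlt, hr4⟩, hpv⟩)
  have h2 := h1' K (List.mem_range.mpr hK1)
  simp only [Bool.not_eq_true', Bool.and_eq_false_iff, decide_eq_false_iff_not] at h2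
  rcases h2 with ((((((h2 | h2) | h2) | h2) | h2) | h2) | h2)
  · exact h2 ⟨_, by rw [mul_comm]; exact hI.symm⟩
  · exact h2 (hdv a va hva)
  · exact h2 (hdv b vb hvb)
  · exact h2 (hdv c vc hvc)
  · exact h2 (hdv d vd hvd)
  · exact h2 (hdv θ r hr)
  · exact h2 hcol

include hG in
/-- The Sylow 11-normaliser. -/
theorem normalizer_eleven [Fact (Nat.Prime 11)] (P : Sylow 11 G) :
    Nat.card (normalizer ((P : Subgroup G) : Set G)) = 55 ∧
      Nat.card (centralizer ((P : Subgroup G) : Set G)) = 11 := by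
  have hna := not_comm hG
  have hP := card_sylow_eleven hG P
  obtain ⟨e, k, he1, he, hN, hC⟩ := LocalTools.exists_e hna P hP
  have hn := SimpleTools.card_sylow_mem (G := G) (p := 11) (k := 1) (m := 40320)
    (by rw [hG]; norm_num) (by norm_num)
  rw [Finset.mem_filter] at hn
  have hne1 := SimpleTools.card_sylow_ne_one (p := 11) hna (by rw [hG]; norm_num)
  have hmul : Nat.card (Sylow 11 G) * Nat.card (normalizer ((P : Subgroup G) : Set G)) = Nat.card G :=
    SimpleTools.card_normalizer_mul P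
  rw [hG, hN] at hmul
  have hmul' : Nat.card (Sylow 11 G) * (e * k) = 40320 := by linarith
  have he10 : e ∈ Nat.divisors 10 := Nat.mem_divisors.mpr ⟨he, by norm_num⟩
  have hk := eleven_index_key _ hn.1 hn.2 hne1 e he10 he1 k hmul'
  have hcases := eleven_cases_key _ hn.1 hn.2 hne1 e he10 he1 (hk ▸ hmul')
  rw [← hk] at hcases
  obtain ⟨F, hS⟩ := exists_frame_section (e := e) (by norm_num) P hP (by rw [hN, hC])
  rcases hcases with ⟨rfl, rfl⟩ | ⟨rfl, hk2⟩ | ⟨rfl, hk2⟩ | ⟨rfl, hk3 | rfl⟩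
  · exact ⟨by rw [hN], by rw [hC]⟩
  · exact (not_five hG F hS hk2 hN hC).elim
  · exact (not_two hG F hk2 hC).elim
  · exact (not_ten_three hG F hk3 hC).elim
  · exact (not_ten_28 hG hN hC).elim

end CfsgLib.KGroups.M22Eleven
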