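import Cfsg.Agent.Lib.KGroups.M22SevenFinal
import Cfsg.Agent.Lib.KGroups.M22CheckFive

/-!
# The centraliser of an element of order 5 in a simple group of order 443520
-/

set_option autoImplicit false

namespace CfsgLib.KGroups.M22Five

open Cfsg CfsgLib.Blocks CfsgLib.KGroups.M11Tools CfsgLib.KGroups.M12Tools CfsgLib.KGroups.M12Reps
  CfsgLib.KGroups.M12Local CfsgLib.KGroups.M22Tools CfsgLib.KGroups.M22Frame CfsgLib.KGroups.M22Check
  CfsgLib.KGroups.M22Eleven CfsgLib.KGroups.M22Block CfsgLib.KGroups.M22Seven CfsgLib.KGroups.M22SevenPair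
  CfsgLib.KGroups.M22SevenValues CfsgLib.KGroups.M22SevenFinal Subgroup
open CfsgLib.SmallGroups

/-- The cases: the index at 7, the block for 11, and the degrees in the block for 7. -/
def caseList : List (ℕ × (ℤ × ℤ × ℤ × ℤ) × List ℕ) :=
  [(1, (45, 45, -21, 56), [1, 55, 99, 45]), (1, (45, 45, -21, 210), [1, 55, 99, 45]),
    (1, (-120, -21, 56, 210), [1, 55, 120, 66]), (1, (-120, -21, 210, 210), [1, 55, 120, 66]),
    (1, (-120, -21, -21, 56), [1, 55, 120, 66]), (1, (-120, -252, 56, 210), [1, 55, 120, 66]),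
    (1, (-120, -252, -21, 56), [1, 55, 120, 66]), (8, (-120, -120, 45, 210), [1, 55, 120, 66])]

/-- A possible degree of a nontrivial character. -/
def okDeg (c : ℕ × (ℤ × ℤ × ℤ × ℤ) × List ℕ) (d : ℕ) : Bool :=
  let q := c.2.1
  decide (2 ≤ d) && decide (d ∣ 443520) &&
    (decide (d % 11 = 0) || decide (d ∈ [q.1.natAbs, q.2.1.natAbs, q.2.2.1.natAbs, q.2.2.2.natAbs,
      (th q.1 q.2.1 q.2.2.1 q.2.2.2).natAbs])) &&
    (decide (c.1 ≠ 1) || decide (d % 7 = 0) || decide (d ∈ c.2.2))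

/-- No adjacent degrees. -/
theorem adjacent : ∀ c ∈ caseList, ∀ d ∈ Finset.range 666, okDeg c d = true →
    (d % 5 = 1 → okDeg c (d + 1) = false) ∧ (d % 5 = 4 → okDeg c (d - 1) = false) := by
  decide +kernel

set_option synthInstance.maxSize 2000 in
/-- The index of the normaliser of a subgroup of order 5. -/
theorem five_index_key' : ∀ a ∈ Nat.divisors 4032, ∀ b ∈ Nat.divisors 22, (a * b) % 5 = 1 → a * b ≠ 1 →
    ∀ e ∈ Nat.divisors 4, e ≠ 1 → a * b * (e * (88704 / (a * b * e))) = 88704 →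
      (88704 / (a * b * e)) % 11 ≠ 0 →
      e = 2 ∨ (e = 4 ∧ 88704 / (a * b * e) ∈ ([1, 6, 16, 21, 36, 56, 96, 126, 336, 2016] : List ℕ)) := by
  decide +kernel

theorem five_index_key {n : ℕ} (hn : n ∣ 88704) (h5 : n % 5 = 1) (h1 : n ≠ 1) {e : ℕ} (he : e ∈ Nat.divisors 4)
    (he1 : e ≠ 1) (hmul : n * (e * (88704 / (n * e))) = 88704) (h11 : ¬ 11 ∣ 88704 / (n * e)) :
    e = 2 ∨ (e = 4 ∧ 88704 / (n * e) ∈ fourKs.map Prod.fst) := by
  obtain ⟨a, b, ha, hb, rfl⟩ := Nat.dvd_mul.mp (show n ∣ 4032 * 22 from hn)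
  exact five_index_key' a (Nat.mem_divisors.mpr ⟨ha, by norm_num⟩) b (Nat.mem_divisors.mpr ⟨hb, by norm_num⟩)
    h5 h1 e he he1 hmul fun h => h11 (Nat.dvd_of_mod_eq_zero h)

theorem fiveCs_key : ∀ c ∈ Finset.range 4033, 10 * c ∣ 40320 →
    ∃ C ∈ fiveCs, C.1 = 10 * c ∧ C.1 < (C.2 + 1) * (C.2 + 1) := by
  decide +kernel

theorem fourKs_key : ∀ C ∈ fourKs, 5 * C.1 < (C.2 + 1) * (C.2 + 1) := by decide +kernel

open scoped Classical

variable {G : Type*} [Group G] [Fintype G]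

/-- An element of order `p` sits in a conjugate of a Sylow subgroup of order `p`. -/
theorem loc_conj {p : ℕ} [hp : Fact p.Prime] (P : Sylow p G) (hP : Nat.card (P : Subgroup G) = p) {x y : G}
    (hzp : zpowers x = (P : Subgroup G)) (hy : orderOf y = p) :
    (∃ i, ¬ p ∣ i ∧ IsConj y (x ^ i)) ∧
      Nat.card (centralizer ({y} : Set G)) = Nat.card (centralizer ((P : Subgroup G) : Set G)) ∧
      Nat.card (normalizer ((zpowers y : Subgroup G) : Set G)) =
        Nat.card (normalizer ((P : Subgroup G) : Set G)) := by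
  obtain ⟨Q, hQ⟩ := (IsPGroup.of_card (n := 1) (by rw [Nat.card_zpowers, hy, pow_one]) :
    IsPGroup p ↥(zpowers y)).exists_le_sylow
  have hx : orderOf x = p := by rw [← Nat.card_zpowers, hzp, hP]
  have hQP : Nat.card (Q : Subgroup G) = p := by
    exact (Nat.card_congr (Sylow.equiv Q P).toEquiv).trans hP
  have hyQ : zpowers y = (Q : Subgroup G) :=
    Subgroup.eq_of_le_of_card_ge hQ (by rw [hQP, Nat.card_zpowers, hy])
  obtain ⟨g, hg⟩ := MulAction.exists_smul_eq G Q P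
  have hmap : (zpowers y).map (MulAut.conj g).toMonoidHom = (P : Subgroup G) := by
    rw [hyQ, ← hg]; rfl
  have hz : zpowers (g * y * g⁻¹) = (P : Subgroup G) := by
    rw [← hmap, MonoidHom.map_zpowers]; rfl
  have hzx : g * y * g⁻¹ ∈ zpowers x := by rw [hzp, ← hz]; exact mem_zpowers _
  rw [← mem_powers_iff_mem_zpowers] at hzx
  obtain ⟨i, hi⟩ := hzx
  have hi' : x ^ i = g * y * g⁻¹ := hi
  have hconj : IsConj y (x ^ i) := isConj_iff.mpr ⟨g, hi'.symm⟩
  refine ⟨⟨i, fun hd => ?_, hconj⟩, ?_, ?_⟩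
  · obtain ⟨a, rfl⟩ := hd
    rw [pow_mul, show x ^ p = 1 from hx ▸ pow_orderOf_eq_one x, one_pow] at hi'
    rw [conj_eq_one_iff.mp hi'.symm, orderOf_one] at hy
    exact hp.out.one_lt.ne hy
  · rw [M12Classes.card_centralizer_eq hconj, hi', ← centralizer_closure, ← zpowers_eq_closure, hz]
  · rw [← hmap, show (MulAut.conj g).toMonoidHom = (MulAut.conj g : G ≃* G).toMonoidHom from rfl,
      ← Subgroup.map_equiv_normalizer_eq, Subgroup.card_map_of_injective]
    exact (MulAut.conj g : G ≃* G).injective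

variable [IsSimpleGroup G] (hG : Nat.card G = 443520)

omit [IsSimpleGroup G] in
include hG in
theorem card_sylow_five (P : Sylow 5 G) [Fact (Nat.Prime 5)] : Nat.card (P : Subgroup G) = 5 :=
  (SimpleTools.card_sylow_subgroup (k := 1) (m := 88704) (by rw [hG]; norm_num) (by norm_num) P).trans (pow_one _)

omit [IsSimpleGroup G] in
include hG in
theorem vanish_five (χ : IrrCharacter G) (hd : 5 ∣ charDegree (χ : G → ℂ)) {g : G} (hg : 5 ∣ orderOf g) :
    (χ : G → ℂ) g = 0 :=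
  vanish χ (show Nat.Prime 5 by norm_num) (n := 1) (by rw [hG]; norm_num) (by rw [hG]; norm_num)
    (by rwa [pow_one]) hg

omit [IsSimpleGroup G] in
include hG in
/-- A degree divisible by 5 gives values divisible by 5 at the involutions commuting with an element of order 5. -/
theorem value_five_two (χ : IrrCharacter G) (hd : 5 ∣ charDegree (χ : G → ℂ)) {x y : G} (hx : orderOf x = 5)
    (hy : orderOf y = 2) (hxy : Commute x y) {v : ℤ} (hv : (χ : G → ℂ) y = v) : v % 5 = 0 := by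
  haveI : Fact (Nat.Prime 5) := ⟨by norm_num⟩
  have hval : ∀ i, ¬ 5 ∣ i → ∀ u : G, Commute x u → ¬ 5 ∣ orderOf u → (χ : G → ℂ) (x ^ i * u) = ((0 : ℤ) : ℂ) := by
    intro i hi u hc hu
    rw [Int.cast_zero]
    refine vanish_five hG χ hd ?_
    rw [(hc.pow_left i).orderOf_mul_eq_mul_orderOf_of_coprime (by
      rw [orderOf_pow_five hx hi]; exact (Nat.Prime.coprime_iff_not_dvd (by norm_num)).mpr hu),
      orderOf_pow_five hx hi]
    exact dvd_mul_right _ _
  obtain ⟨m, hm⟩ := member_twist hx hval hy hxy (by norm_num) (μ := 1) (one_pow 2)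
  simp only [Finset.sum_range_succ, Finset.sum_range_zero, pow_zero, pow_one, irr_one_eq, hv] at hm
  have : ((charDegree (χ : G → ℂ) : ℤ) + v : ℂ) = ((10 * m : ℤ) : ℂ) := by
    push_cast at hm ⊢; linear_combination hm
  have : (charDegree (χ : G → ℂ) : ℤ) + v = 10 * m := by exact_mod_cast this
  omega

variable [Fact (Nat.Prime 11)]

include hG in
/-- The degrees prime to 11. -/
theorem deg_eleven {D : Data G} (Q : Quad D) {χ : IrrCharacter G} (hne : χ ≠ trivChar G)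
    (h : ¬ 11 ∣ charDegree (χ : G → ℂ)) :
    charDegree (χ : G → ℂ) ∈ [(D.sd Q.a).natAbs, (D.sd Q.b).natAbs, (D.sd Q.c).natAbs, (D.sd Q.d).natAbs,
      (th (D.sd Q.a) (D.sd Q.b) (D.sd Q.c) (D.sd Q.d)).natAbs] := by
  rcases D.mem_of_not_dvd hG h with h' | h' | h'
  · exact absurd h' hne
  · rw [Q.hset] at h'
    simp only [Finset.mem_insert, Finset.mem_singleton] at h'
    rw [D.natAbs_sd (D.F.mem_X Q.mem_a).1, D.natAbs_sd (D.F.mem_X Q.mem_b).1,
      D.natAbs_sd (D.F.mem_X Q.mem_c).1, D.natAbs_sd (D.F.mem_X Q.mem_d).1]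
    rcases h' with rfl | rfl | rfl | rfl <;> simp
  · rw [show (th (D.sd Q.a) (D.sd Q.b) (D.sd Q.c) (D.sd Q.d)).natAbs = charDegree (χ : G → ℂ) from Q.natAbs_T h']
    simp

variable [Fact (Nat.Prime 7)]

omit [IsSimpleGroup G] in
include hG in
/-- With a self-centralising Sylow 7-subgroup, outside its principal block the degree is a multiple of 7. -/
theorem rest_seven (S : Seven G) (hk : S.k = 1) {χ : IrrCharacter G} (hX : χ ∉ S.F.X) (hY : χ ∉ S.F.Y) :
    7 ∣ charDegree (χ : G → ℂ) :=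
  M22Tools.rest_dvd S.F (by norm_num) (by norm_num)
    ((SimpleTools.card_sylow_subgroup (k := 1) (m := 63360) (by rw [hG]; norm_num) (by norm_num) S.P).trans
      (pow_one _)) (by rw [S.hC, hk]) hX hY

theorem case_key {D : Data G} {S : Seven G} {Q : Quad D} (h : Case S Q) :
    ∃ L, (S.k, (D.sd Q.a, D.sd Q.b, D.sd Q.c, D.sd Q.d), L) ∈ caseList ∧
      charDegree (S.c2 : G → ℂ) ∈ L ∧ ∀ θ ∈ S.F.Y, charDegree (θ : G → ℂ) ∈ L := by
  cases h with
  | pair hk ha hb hY hd hcd =>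
    refine ⟨[1, 55, 99, 45], ?_, by rw [hd]; simp, fun θ hθ => ?_⟩
    · simp only [List.mem_cons, List.not_mem_nil, or_false, Prod.mk.injEq] at hcd
      rcases hcd with ⟨hc, hd'⟩ | ⟨hc, hd'⟩ <;> simp [caseList, hk, ha, hb, hc, hd']
    · rcases S.cases with ⟨-, h2⟩ | ⟨h1, -⟩
      · rw [h2 θ hθ]; simp
      · omega
  | single ha hca hd hbcd =>
    refine ⟨[1, 55, 120, 66], ?_, ?_, fun θ hθ => by rw [hd θ hθ]; simp⟩
    · simp only [List.mem_cons, List.not_mem_nil, or_false, Prod.mk.injEq] at hbcd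
      rcases hbcd with ⟨hk, h⟩ | ⟨hk, hb, hc, hd'⟩
      · rcases h with ⟨hb, hc, hd'⟩ | ⟨hb, hc, hd'⟩ | ⟨hb, hc, hd'⟩ | ⟨hb, hc, hd'⟩ | ⟨hb, hc, hd'⟩ <;>
          simp [caseList, hk, ha, hb, hc, hd']
      · simp [caseList, hk, ha, hb, hc, hd']
    · have h1 := D.natAbs_sd (χ := S.c2) (by rw [← hca]; exact (D.F.mem_X Q.mem_a).1)
      rw [← hca, ha] at h1
      rw [← hca, ← h1]; simp

include hG in
/-- The possible degrees. -/
theorem deg_ok {D : Data G} {S : Seven G} {Q : Quad D} {L : List ℕ}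
    (hL : (S.k, (D.sd Q.a, D.sd Q.b, D.sd Q.c, D.sd Q.d), L) ∈ caseList)
    (h2 : charDegree (S.c2 : G → ℂ) ∈ L) (hY : ∀ θ ∈ S.F.Y, charDegree (θ : G → ℂ) ∈ L) {χ : IrrCharacter G}
    (hne : χ ≠ trivChar G) : okDeg (S.k, (D.sd Q.a, D.sd Q.b, D.sd Q.c, D.sd Q.d), L) (charDegree (χ : G → ℂ)) = true := by
  simp only [okDeg, Bool.and_eq_true, Bool.or_eq_true, decide_eq_true_eq]
  refine ⟨⟨⟨two_le_degree hG hne, hG ▸ charDegree_dvd χ⟩, ?_⟩, ?_⟩
  · by_cases h : 11 ∣ charDegree (χ : G → ℂ)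
    · exact Or.inl (Nat.mod_eq_zero_of_dvd h)
    · exact Or.inr (deg_eleven hG Q hne h)
  · by_cases hk : S.k = 1
    · by_cases h7 : 7 ∣ charDegree (χ : G → ℂ)
      · exact Or.inl (Or.inr (Nat.mod_eq_zero_of_dvd h7))
      right
      by_cases hY' : χ ∈ S.F.Y
      · exact hY χ hY'
      by_cases hX : χ ∈ S.F.X'
      · rw [S.hset] at hX
        simp only [Finset.mem_insert, Finset.mem_singleton] at hX
        rcases hX with rfl | rfl
        · rw [S.d55]
          have key : ∀ c ∈ caseList, (55 : ℕ) ∈ c.2.2 := by decide +kernel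
          exact key _ hL
        · exact h2
      exact absurd (rest_seven hG S hk (fun h => hX (Finset.mem_erase.mpr ⟨hne, h⟩)) hY') h7
    · exact Or.inl (Or.inl hk)

variable [Fact (Nat.Prime 5)]

include hG in
theorem not_two {D : Data G} {S : Seven G} {Q : Quad D} (h : Case S Q) {P : Sylow 5 G} (F : Frame 5 2 P) :
    False := by
  obtain ⟨L, hL, h2, hY⟩ := case_key h
  have ht := F.triv_mem (by norm_num) (by norm_num) (by norm_num)
  obtain ⟨χ, hχ⟩ := Finset.card_eq_one.mp (show F.X'.card = 1 by have := F.card_X' ht; omega)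
  obtain ⟨θ, hθ⟩ : F.Y.Nonempty := Finset.card_pos.1 (by rw [F.hY]; norm_num)
  have hm := F.mem_X (show χ ∈ F.X' by rw [hχ]; exact Finset.mem_singleton_self χ)
  have hr := F.rel_one ht hθ
  rw [hχ, Finset.sum_singleton] at hr
  have h2' := two_le_degree hG hm.2
  have hθne : θ ≠ trivChar G := fun e => Finset.disjoint_left.mp F.hdisj ht (e ▸ hθ)
  obtain ⟨k1, k4⟩ := adjacent _ hL _ (Finset.mem_range.mpr (by have := deg_le hG χ; omega))
    (deg_ok hG hL h2 hY hm.2)
  have hθok := deg_ok hG hL h2 hY hθne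
  have hmd := F.hmod χ hm.1
  rw [Int.ModEq] at hmd
  rcases F.hsgn χ hm.1 with e | e <;> rw [e] at hr hmd
  · have he : charDegree (θ : G → ℂ) = charDegree (χ : G → ℂ) + 1 := by
      rcases F.hεy with e1 | e1 <;> rw [e1] at hr <;> omega
    rw [he] at hθok
    rw [k1 (by omega)] at hθok
    exact Bool.noConfusion hθok
  · have he : charDegree (θ : G → ℂ) = charDegree (χ : G → ℂ) - 1 := by
      rcases F.hεy with e1 | e1 <;> rw [e1] at hr <;> omega
    rw [he] at hθok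
    rw [k4 (by omega)] at hθok
    exact Bool.noConfusion hθok

/-- An element of order 5 with automiser of order four. -/
structure Four (G : Type*) [Group G] [Fintype G] [Fact (Nat.Prime 5)] where
  P : Sylow 5 G
  x : G
  hx : orderOf x = 5
  hzp : zpowers x = (P : Subgroup G)
  k : ℕ
  hk : k ∈ fourKs.map Prod.fst
  hC : Nat.card (centralizer ((P : Subgroup G) : Set G)) = 5 * k
  hN : Nat.card (normalizer ((P : Subgroup G) : Set G)) = 4 * (5 * k)

include hG in
theorem exists_four {D : Data G} {S : Seven G} {Q : Quad D} (h : Case S Q) : Nonempty (Four G) := by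
  have hna := M22Eleven.not_comm hG
  obtain ⟨P⟩ : Nonempty (Sylow 5 G) := inferInstance
  have hP := card_sylow_five hG P
  obtain ⟨e, k, he1, he, hN, hC⟩ := LocalTools.exists_e hna P hP
  obtain ⟨x, hxP, hx, hzp⟩ := PrimeOrder.exists_generator P hP
  have h11 : ¬ 11 ∣ k := fun h => by
    obtain ⟨⟨y, hyC⟩, hy⟩ := exists_prime_orderOf_dvd_card' (G := ↥(centralizer ((P : Subgroup G) : Set G))) 11
      (hC ▸ h.mul_left 5)
    rw [Subgroup.orderOf_mk] at hy
    exact eleven_false hG D (g := x) (fun e => by rw [e, orderOf_one] at hx; omega) (by rw [hx]; norm_num) hy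
      (mem_centralizer_iff.mp hyC x hxP).symm
  have hn := SimpleTools.card_sylow_mem (G := G) (p := 5) (k := 1) (m := 88704)
    (by rw [hG]; norm_num) (by norm_num)
  rw [Finset.mem_filter] at hn
  have hne1 := SimpleTools.card_sylow_ne_one (p := 5) hna (by rw [hG]; norm_num)
  have hmul : Nat.card (Sylow 5 G) * Nat.card (normalizer ((P : Subgroup G) : Set G)) = Nat.card G :=
    SimpleTools.card_normalizer_mul P
  rw [hG, hN] at hmul
  have hmul' : Nat.card (Sylow 5 G) * (e * k) = 88704 := by linarith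
  have he4 : e ∈ Nat.divisors 4 := Nat.mem_divisors.mpr ⟨he, by norm_num⟩
  have hpos : 0 < Nat.card (Sylow 5 G) * e := by
    rcases Nat.eq_zero_or_pos (Nat.card (Sylow 5 G) * e) with h | h
    · rw [← mul_assoc, h, zero_mul] at hmul'; omega
    · exact h
  have hk : k = 88704 / (Nat.card (Sylow 5 G) * e) := by
    rw [← hmul', ← mul_assoc, Nat.mul_div_cancel_left _ hpos]
  have hcases := five_index_key (Nat.dvd_of_mem_divisors hn.1) hn.2 hne1 he4 he1 (hk ▸ hmul') (hk ▸ h11)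
  rw [← hk] at hcases
  rcases hcases with rfl | ⟨rfl, hk4⟩
  · obtain ⟨F, -⟩ := exists_frame_section (e := 2) (by norm_num) P hP (by rw [hN, hC])
    exact (not_two hG h F).elim
  · exact ⟨⟨P, x, hx, hzp, k, hk4, hC, hN⟩⟩

namespace Four

variable (R : Four G)

theorem centralizer_x : Nat.card (centralizer ({R.x} : Set G)) = 5 * R.k := by
  rw [← centralizer_closure, ← zpowers_eq_closure, R.hzp, R.hC]

theorem conj_pow_x {j : ℕ} (hj : ¬ 5 ∣ j) : IsConj (R.x ^ j) R.x :=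
  exists_conj_pow R.hx (by rw [R.hzp, R.hN, R.centralizer_x]) hj

include hG in
/-- All elements of order 5 are conjugate. -/
theorem conj_all {y : G} (hy : orderOf y = 5) : IsConj y R.x := by
  obtain ⟨⟨i, hi, hc⟩, -, -⟩ := loc_conj R.P (card_sylow_five hG R.P) R.hzp hy
  exact hc.trans (R.conj_pow_x hi)

include hG in
/-- The values at the element of order 5. -/
theorem exists_val (χ : IrrCharacter G) : ∃ v : ℤ, (χ : G → ℂ) R.x = v ∧
    (v - (charDegree (χ : G → ℂ) : ℤ)) % 5 = 0 ∧ 0 ≤ (charDegree (χ : G → ℂ) : ℤ) + 4 * v ∧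
    (5 ∣ charDegree (χ : G → ℂ) → v = 0) := by
  obtain ⟨v, hv⟩ := exists_int_conj χ (g := R.x) fun j hj => R.conj_pow_x (by
    rw [R.hx] at hj
    exact (Nat.Prime.coprime_iff_not_dvd (by norm_num)).mp hj.symm)
  obtain ⟨m, hm⟩ := twist_nat χ R.hx (μ := 1) (one_pow 5)
  have hp : ∀ j, ¬ 5 ∣ j → (χ : G → ℂ) (R.x ^ j) = v := fun j hj =>
    (M12Classes.value_conj χ (R.conj_pow_x hj)).trans hv
  simp only [Finset.sum_range_succ, Finset.sum_range_zero, pow_zero, pow_one, irr_one_eq, one_pow, mul_one,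
    hp 2 (by norm_num), hp 3 (by norm_num), hp 4 (by norm_num), hv] at hm
  have h1 : (charDegree (χ : G → ℂ) : ℤ) + 4 * v = 5 * m := by
    have h' : (((charDegree (χ : G → ℂ) : ℤ) + 4 * v : ℤ) : ℂ) = ((5 * m : ℕ) : ℂ) := by
      push_cast at hm ⊢; linear_combination hm
    exact_mod_cast h'
  refine ⟨v, hv, by omega, by omega, fun h => ?_⟩
  have h0 := vanish_five hG χ h (g := R.x) (by rw [R.hx])
  rw [hv] at h0
  exact_mod_cast h0

include hG in
theorem not_seven (S : Seven G) : ¬ 7 ∣ R.k := fun h => by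
  obtain ⟨⟨y, hyC⟩, hy⟩ := exists_prime_orderOf_dvd_card' (G := ↥(centralizer ({R.x} : Set G))) 7
    (R.centralizer_x.symm ▸ h.mul_left 5)
  rw [Subgroup.orderOf_mk] at hy
  obtain ⟨-, hC, -⟩ := loc_conj S.P ((SimpleTools.card_sylow_subgroup (k := 1) (m := 63360) (by rw [hG]; norm_num)
    (by norm_num) S.P).trans (pow_one _)) S.F.hzp hy
  have h5 : 5 ∣ Nat.card (centralizer ({y} : Set G)) :=
    R.hx ▸ Subgroup.orderOf_dvd_natCard _ (mem_centralizer_singleton_iff.mpr (mem_centralizer_singleton_iff.mp hyC).symm)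
  rw [hC, S.hC] at h5
  exact not_five_dvd hG S ((Nat.Coprime.dvd_of_dvd_mul_left (by norm_num) h5))

include hG in
/-- No involution commutes with an element of order 5 for four of the blocks. -/
theorem not_even {D : Data G} (Q : Quad D) (hQ : (D.sd Q.a, D.sd Q.b, D.sd Q.c, D.sd Q.d) ∈
      ([(45, 45, -21, 56), (45, 45, -21, 210), (-120, -21, 210, 210), (-120, -120, 45, 210)] :
        List (ℤ × ℤ × ℤ × ℤ))) : ¬ 2 ∣ R.k := fun h => by
  haveI : Fact (Nat.Prime 2) := ⟨Nat.prime_two⟩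
  obtain ⟨⟨z, hzC⟩, hz⟩ := exists_prime_orderOf_dvd_card' (G := ↥(centralizer ({R.x} : Set G))) 2
    (R.centralizer_x.symm ▸ h.mul_left 5)
  rw [Subgroup.orderOf_mk] at hz
  have hxz : Commute R.x z := (mem_centralizer_singleton_iff.mp hzC).symm
  have h10 : 10 ∣ Nat.card (centralizer ({z} : Set G)) := by
    refine Nat.Coprime.mul_dvd_of_dvd_of_dvd (m := 5) (n := 2) (by norm_num) ?_ ?_
    · exact R.hx ▸ Subgroup.orderOf_dvd_natCard _ (mem_centralizer_singleton_iff.mpr hxz.eq)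
    · exact hz ▸ Subgroup.orderOf_dvd_natCard _ (mem_centralizer_singleton_iff.mpr rfl)
  have hz1 : z ≠ 1 := fun e => by rw [e, orderOf_one] at hz; omega
  have hz11 : ¬ 11 ∣ orderOf z := by rw [hz]; norm_num
  have h40 := card_centralizer_dvd hG D hz1 hz11
  obtain ⟨c, hc⟩ := h10
  rw [hc] at h40
  obtain ⟨⟨C, m⟩, hCm, hC, hlt⟩ := fiveCs_key c
    (Finset.mem_range.mpr (by have := Nat.le_of_dvd (by norm_num) h40; omega)) h40
  simp only at hC hlt
  rw [← hc] at hC
  subst hC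
  obtain ⟨za, zb, zc, zd, hzv⟩ := Q.exists_vals_two hG hz
  obtain ⟨fa, fb, fc, fd, htc⟩ := Q.inv_column hG hz hzv hlt
  obtain ⟨θ, hθ⟩ : D.F.Y.Nonempty := Finset.card_pos.1 (by rw [D.F.hY]; norm_num)
  have h5mem : ∀ (χ : IrrCharacter G) (v : ℤ), χ ∈ D.F.X' → (χ : G → ℂ) z = v →
      (D.sd χ).natAbs % 5 = 0 → v % 5 = 0 := fun χ v hχ hv h => by
    rw [D.natAbs_sd (D.F.mem_X hχ).1] at h
    exact value_five_two hG χ (Nat.dvd_of_mod_eq_zero h) R.hx hz hxz hv
  have hzs : (za, zb, zc, zd) ∈ zFive (Nat.card (centralizer ({z} : Set G))) m (D.sd Q.a) (D.sd Q.b) (D.sd Q.c)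
      (D.sd Q.d) := by
    simp only [zFive, List.mem_flatMap, List.mem_map, List.mem_filter, Bool.and_eq_true, decide_eq_true_eq]
    refine ⟨za, ⟨fa, h5mem _ _ Q.mem_a hzv.1⟩, zb, ⟨fb, h5mem _ _ Q.mem_b hzv.2.1⟩,
      zc, ⟨fc, h5mem _ _ Q.mem_c hzv.2.2.1⟩, zd, ⟨⟨fd, h5mem _ _ Q.mem_d hzv.2.2.2⟩, htc, fun h => ?_⟩, rfl⟩
    rw [show (th (D.sd Q.a) (D.sd Q.b) (D.sd Q.c) (D.sd Q.d)).natAbs = charDegree (θ : G → ℂ) from Q.natAbs_T hθ]
      at h
    exact value_five_two hG θ (Nat.dvd_of_mod_eq_zero h) R.hx hz hxz (Q.theta_val hzv hz11 hθ)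
  have h0 := five_kill _ hQ _ hCm
  simp only at h0
  rw [h0] at hzs
  exact List.not_mem_nil hzs

include R hG in
/-- The blocks with a character of degree 56 beside one of degree 120 do not occur. -/
theorem not_fifty {D : Data G} {S : Seven G} (Q : Quad D) (hk : S.k = 1) (hca : Q.a = S.c2)
    (hθd : ∀ θ ∈ S.F.Y, charDegree (θ : G → ℂ) = 66) (ha : D.sd Q.a = -120)
    (hQ : (D.sd Q.b, D.sd Q.c, D.sd Q.d) ∈
      ([(-21, 56, 210), (-21, -21, 56), (-252, 56, 210), (-252, -21, 56)] : List (ℤ × ℤ × ℤ))) : False := by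
  obtain ⟨⟨k, m⟩, hkm, hkR⟩ := List.mem_map.mp R.hk
  simp only at hkR
  subst hkR
  have hm := fourKs_key _ hkm
  simp only at hm
  have hna := M22Eleven.not_comm hG
  have hx1 : R.x ≠ 1 := fun e => by have := R.hx; rw [e, orderOf_one] at this; omega
  have hx11 : ¬ 11 ∣ orderOf R.x := by rw [R.hx]; norm_num
  have hx7 : ¬ 7 ∣ orderOf R.x := by rw [R.hx]; norm_num
  obtain ⟨u, hu, hu5, hu4, hu0⟩ := R.exists_val hG Q.a
  obtain ⟨v, hv, hv5, hv4, hv0⟩ := R.exists_val hG Q.b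
  obtain ⟨w, hw, hw5, hw4, hw0⟩ := R.exists_val hG Q.c
  obtain ⟨x, hx, hx5, hx4, hxz⟩ := R.exists_val hG Q.d
  obtain ⟨r, hr, hr5, hr4, hr0⟩ := R.exists_val hG S.c55
  obtain ⟨θ, hθ⟩ : D.F.Y.Nonempty := Finset.card_pos.1 (by rw [D.F.hY]; norm_num)
  obtain ⟨t, ht, ht5, -, ht0⟩ := R.exists_val hG θ
  obtain ⟨η, η', hηne, hηY⟩ := Finset.card_eq_two.mp (show S.F.Y.card = 2 by rw [S.F.hY])
  have hη : η ∈ S.F.Y := by simp [hηY]
  obtain ⟨s, hs, hs5, -, -⟩ := R.exists_val hG η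
  have hvals : Q.Vals R.x u v w x := ⟨hu, hv, hw, hx⟩
  have ht' : t = Q.tv u v w x := by exact_mod_cast ht.symm.trans (Q.theta_val hvals hx11 hθ)
  have htriv := triv_mem7 S
  have hs' : s = 1 + u - r := by
    have h1 := S.F.rel_split htriv hη R.x hx7
    rw [S.hset, Finset.sum_pair S.ne, S.hεy, S.s55, S.s2, ← hca, hu, hr, hs] at h1
    apply Int.cast_injective (α := ℂ)
    push_cast at h1 ⊢; linear_combination h1
  -- the column
  have h55 : ∀ χ ∈ ({S.c55, η, η'} : Finset (IrrCharacter G)), 11 ∣ charDegree (χ : G → ℂ) := by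
    intro χ hχ
    simp only [Finset.mem_insert, Finset.mem_singleton] at hχ
    rcases hχ with rfl | rfl | rfl
    · rw [S.d55]; norm_num
    · rw [hθd _ hη]; norm_num
    · rw [hθd _ (by simp [hηY])]; norm_num
  have hdisj : Disjoint ({S.c55, η, η'} : Finset (IrrCharacter G)) (D.F.X ∪ D.F.Y) := by
    rw [Finset.disjoint_left]
    intro χ hχ hmem
    have h := h55 χ hχ
    rcases Finset.mem_union.mp hmem with h' | h'
    · have h1 := D.F.hmod χ h'
      rw [Int.ModEq] at h1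
      rcases D.F.hsgn χ h' with e | e <;> rw [e] at h1 <;> omega
    · have h1 := D.F.hYd χ h'
      rw [Int.ModEq] at h1
      rcases D.F.hεy with e | e <;> rw [e] at h1 <;> omega
  have h55Y : S.c55 ∉ ({η, η'} : Finset (IrrCharacter G)) := fun h => by
    rw [← hηY] at h
    exact Finset.disjoint_left.mp S.F.hdisj (S.F.mem_X (mem55 S)).1 h
  have hs2 : (η' : G → ℂ) R.x = s := (S.F.hagree η' (by simp [hηY]) η hη R.x hx7).trans hs
  have hcolR := Q.col_le hvals hx11 _ hdisj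
  rw [Finset.sum_insert h55Y, Finset.sum_pair hηne, hr, hs, hs2, R.centralizer_x] at hcolR
  simp only [Complex.norm_intCast, sq_abs] at hcolR
  have hcol : 1 + u * u + v * v + w * w + x * x + 2 * (t * t) + r * r + 2 * (s * s) ≤ ((5 * R.k : ℕ) : ℤ) := by
    rw [ht']
    have h' : ((1 + u * u + v * v + w * w + x * x + 2 * (Q.tv u v w x * Q.tv u v w x) + r * r + 2 * (s * s) : ℤ) : ℝ) ≤
        (((5 * R.k : ℕ) : ℤ) : ℝ) := by
      push_cast at hcolR ⊢; linarith
    exact_mod_cast h'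
  -- membership in the candidate lists
  have hI : (centralizer ({R.x} : Set G)).index = 88704 / R.k := by
    rw [index_eq hG, R.centralizer_x, ← Nat.div_div_eq_div_mul]
  have hdvd : ∀ (χ : IrrCharacter G) (z : ℤ), (χ : G → ℂ) R.x = z →
      (charDegree (χ : G → ℂ) : ℤ) ∣ ((88704 / R.k : ℕ) : ℤ) * z := fun χ z hz => by
    have h1 := degree_dvd_index_mul χ R.x hz
    rwa [hI] at h1
  have hmemf : ∀ (χ : IrrCharacter G) (z : ℤ), χ ≠ trivChar G → (χ : G → ℂ) R.x = z →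
      (z - (charDegree (χ : G → ℂ) : ℤ)) % 5 = 0 → 0 ≤ (charDegree (χ : G → ℂ) : ℤ) + 4 * z →
      (5 ∣ charDegree (χ : G → ℂ) → z = 0) → z * z ≤ ((5 * R.k : ℕ) : ℤ) →
      z ∈ fAdm R.k m (charDegree (χ : G → ℂ)) := by
    intro χ z hne hz h5 h4 h0 hsq
    have hlt := ValueTools.lt_degree hna hne hx1 hz
    have hzm : z.natAbs ≤ m := by
      by_contra hc
      have h1 : (m + 1) * (m + 1) ≤ z.natAbs * z.natAbs := Nat.mul_le_mul (by omega) (by omega)
      have h2 : ((z.natAbs * z.natAbs : ℕ) : ℤ) = z * z := by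
        push_cast; rw [← Int.natCast_natAbs, Int.natAbs_mul_self']
      omega
    simp only [fAdm, List.mem_filter, List.mem_map, List.mem_range, Bool.and_eq_true, decide_eq_true_eq]
    exact ⟨⟨(z + m).toNat, by omega, by omega⟩, ⟨⟨⟨⟨⟨h5, h4⟩, by omega⟩, hsq⟩, hdvd χ z hz⟩,
      fun h => h0 (Nat.dvd_of_mod_eq_zero h)⟩⟩
  have hne55 : S.c55 ≠ trivChar G := (S.F.mem_X (mem55 S)).2
  have ma := hmemf _ u (D.F.mem_X Q.mem_a).2 hu hu5 hu4 hu0 (by nlinarith)
  have mb := hmemf _ v (D.F.mem_X Q.mem_b).2 hv hv5 hv4 hv0 (by nlinarith)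
  have mc := hmemf _ w (D.F.mem_X Q.mem_c).2 hw hw5 hw4 hw0 (by nlinarith)
  have md := hmemf _ x (D.F.mem_X Q.mem_d).2 hx hx5 hx4 hxz (by nlinarith)
  have mr := hmemf _ r hne55 hr hr5 hr4 hr0 (by nlinarith)
  rw [← D.natAbs_sd (D.F.mem_X Q.mem_b).1] at mb
  rw [← D.natAbs_sd (D.F.mem_X Q.mem_c).1] at mc
  rw [← D.natAbs_sd (D.F.mem_X Q.mem_d).1] at md
  rw [← D.natAbs_sd (D.F.mem_X Q.mem_a).1, ha] at ma
  rw [S.d55] at mr
  -- the pairs at 11 and at 7
  obtain ⟨hA0, hA1⟩ := Q.pairs_nonneg hG hvals hvals hx11 hx11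
  rw [hI] at hA1
  set B : ℤ := 443520 + quo 120 * (u * u) - quo 55 * (r * r) - quo 66 * (s * s) with hBdef
  set n := Nat.card {a : G // IsConj R.x a ∧ IsConj R.x (a⁻¹ * S.F.x⁻¹)}
  have hB : ((88704 / R.k : ℕ) : ℤ) * ((88704 / R.k : ℕ) : ℤ) * B = 443520 * 443520 * (n : ℤ) := by
    have hcount := card_pairs_eq R.x R.x S.F.x⁻¹
    rw [inv_inv, hG, hI] at hcount
    have hsplit := sum_split S.F hx7 hx7 hη (i := 1) (by norm_num) (s := 1) (Commute.one_right _)
      (by rw [orderOf_one]; norm_num)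
    rw [pow_one, mul_one] at hsplit
    rw [Finset.sum_eq_zero (s := Finset.univ \ (S.F.X ∪ S.F.Y)) fun χ hχ => by
      rw [Finset.mem_sdiff, Finset.mem_union, not_or] at hχ
      rw [M22SevenSix.vanish_seven hG χ (rest_seven hG S hk hχ.2.1 hχ.2.2) (g := S.F.x) (by rw [S.F.hx]),
        mul_zero], add_zero] at hsplit
    rw [hsplit, blockSum, ← Finset.add_sum_erase _ _ htriv,
      show S.F.X.erase (trivChar G) = {S.c55, S.c2} from S.hset, Finset.sum_pair S.ne, S.F.sgn_triv htriv,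
      S.s55, S.s2, S.hεy, hr, ← hca, hu, hs] at hcount
    simp only [trivChar_apply, irr_one_eq, S.d55, hθd η hη] at hcount
    rw [show charDegree (Q.a : G → ℂ) = 120 by rw [← D.natAbs_sd (D.F.mem_X Q.mem_a).1, ha]; rfl] at hcount
    apply Int.cast_injective (α := ℂ)
    simp only [hBdef, show quo 120 = 3696 by decide, show quo 55 = 8064 by decide, show quo 66 = 6720 by decide]
    generalize (88704 / R.k : ℕ) = J at hcount ⊢
    push_cast at hcount ⊢
    linear_combination (443520 : ℂ) * hcount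
  have hB0 : 0 ≤ B := by
    have hpos : 0 < ((88704 / R.k : ℕ) : ℤ) := by
      have : (centralizer ({R.x} : Set G)).index ≠ 0 := index_ne_zero_of_finite
      rw [hI] at this
      omega
    have h0 : 0 ≤ ((88704 / R.k : ℕ) : ℤ) * ((88704 / R.k : ℕ) : ℤ) * B := by rw [hB]; positivity
    exact nonneg_of_mul_nonneg_right h0 (mul_pos hpos hpos)
  have hf : fCond R.k (-120) (D.sd Q.b) (D.sd Q.c) (D.sd Q.d) u v w x r = true := by
    have htv : tval (-120) (D.sd Q.b) (D.sd Q.c) (D.sd Q.d) u v w x = t := by rw [ht', Quad.tv, ha]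
    have hT : (th (-120) (D.sd Q.b) (D.sd Q.c) (D.sd Q.d)).natAbs = charDegree (θ : G → ℂ) := by
      rw [← ha]; exact Q.natAbs_T hθ
    have hp : pairVal (-120) (D.sd Q.b) (D.sd Q.c) (D.sd Q.d) (u, v, w, x, t) (u, v, w, x, t) =
        Q.pv u v w x u v w x := by rw [ht', Quad.pv, ha]
    simp only [fCond, htv, hT, hp, Bool.and_eq_true, decide_eq_true_eq, ← hs', ← hBdef]
    refine ⟨⟨⟨⟨⟨⟨⟨⟨⟨ht5, fun h => ht0 (Nat.dvd_of_mod_eq_zero h)⟩, ?_⟩, hcol⟩, hA0⟩, hA1⟩, hB0⟩, ?_⟩, ?_⟩, hdvd θ t ht⟩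
    · rw [hθd η hη] at hs5; exact hs5
    · rw [hB]; exact Int.mul_emod_right _ _
    · have h1 := hdvd η s hs
      rwa [hθd η hη] at h1
  have hkill := fifty_six _ hQ
  simp only [List.all_eq_true, Bool.not_eq_true'] at hkill
  have h0 := hkill (R.k, m) hkm u ma v mb w mc x md r mr
  simp only at h0
  rw [h0] at hf
  exact Bool.noConfusion hf

end Four

end CfsgLib.KGroups.M22Five
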