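import Cfsg.Agent.Lib.KGroups.M22Five
import Cfsg.Agent.Lib.KGroups.M22Table

/-!
# The twelve irreducible characters of a simple group of order 443520

The elements of order 5 have centralisers of order 5, and one of two lists of twelve characters exhausts the
irreducible ones.
-/

set_option autoImplicit false

namespace CfsgLib.KGroups.M22FiveBlock

open Cfsg CfsgLib.Blocks CfsgLib.KGroups.M11Tools CfsgLib.KGroups.M12Tools CfsgLib.KGroups.M12Classes
  CfsgLib.KGroups.M12Local CfsgLib.KGroups.M22Check CfsgLib.KGroups.M22Eleven CfsgLib.KGroups.M22Block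
  CfsgLib.KGroups.M22Seven CfsgLib.KGroups.M22SevenPair CfsgLib.KGroups.M22SevenFinal CfsgLib.KGroups.M22Five
  Subgroup
open CfsgLib.SmallGroups

/-- The degrees prime to 5 with a member of degree 99. -/
theorem prime_five : ∀ d ∈ Finset.range 666, okDeg (1, (45, 45, -21, 210), [1, 55, 99, 45]) d = true →
    d % 5 = 1 ∨ d % 5 = 4 → d ∈ ([21, 99, 154, 231, 616] : List ℕ) := by
  decide +kernel

/-- The degrees, in the second list. -/
def degsB : Fin 12 → ℕ := ![1, 120, 21, 210, 210, 280, 280, 55, 66, 66, 154, 385]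

/-- The column at an element of order five, in the second list. -/
def fcolB : Fin 12 → ℤ := ![1, 0, 1, 0, 0, 0, 0, 0, 1, 1, -1, 0]

open scoped Classical

variable {G : Type*} [Group G] [Fintype G]

/-- Eleven characters and one further of degree 385 exhaust the irreducible ones. -/
theorem complete (hG : Nat.card G = 443520) {f : Fin 11 → IrrCharacter G} (hf : Function.Injective f)
    (hsum : ∑ i, charDegree (f i : G → ℂ) ^ 2 = 295295) (hle : ∀ χ : IrrCharacter G, charDegree (χ : G → ℂ) ≤ 665)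
    (hrest : ∀ χ : IrrCharacter G, (∀ i, f i ≠ χ) → 385 ∣ charDegree (χ : G → ℂ)) :
    ∃ g : Fin 12 ≃ IrrCharacter G, (∀ i : Fin 11, g i.castSucc = f i) ∧
      charDegree (g (Fin.last 11) : G → ℂ) = 385 := by
  have h385 : ∀ χ ∈ Finset.univ \ Finset.univ.image f, charDegree (χ : G → ℂ) = 385 := fun χ hχ => by
    simp only [Finset.mem_sdiff, Finset.mem_univ, Finset.mem_image, true_and, not_exists] at hχ
    obtain ⟨c, hc⟩ := hrest χ hχ
    have := hle χ
    have := charDegree_pos χ
    omega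
  have h := sum_deg_sq (G := G)
  rw [hG, ← Finset.sum_sdiff (Finset.subset_univ (Finset.univ.image f)),
    Finset.sum_image (fun a _ b _ e => hf e), hsum,
    Finset.sum_congr rfl (g := fun _ => 385 ^ 2) fun χ hχ => by rw [h385 χ hχ], Finset.sum_const,
    smul_eq_mul] at h
  obtain ⟨z, hz⟩ := Finset.card_eq_one.mp (show (Finset.univ \ Finset.univ.image f).card = 1 by omega)
  have hzmem : z ∈ Finset.univ \ Finset.univ.image f := by rw [hz]; exact Finset.mem_singleton_self z
  have hznot : ∀ i, f i ≠ z := by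
    simpa [Finset.mem_sdiff] using hzmem
  have hbij : Function.Bijective (Fin.snoc f z : Fin 12 → IrrCharacter G) := by
    refine ⟨fun a b e => ?_, fun χ => ?_⟩
    · induction a using Fin.lastCases <;> induction b using Fin.lastCases <;>
        simp only [Fin.snoc_last, Fin.snoc_castSucc] at e
      · rfl
      · exact absurd e.symm (hznot _)
      · exact absurd e (hznot _)
      · rw [hf e]
    · by_cases hχ : χ ∈ Finset.univ.image f
      · obtain ⟨i, -, hi⟩ := Finset.mem_image.mp hχ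
        exact ⟨i.castSucc, by rw [Fin.snoc_castSucc, hi]⟩
      · have : χ ∈ Finset.univ \ Finset.univ.image f := Finset.mem_sdiff.mpr ⟨Finset.mem_univ _, hχ⟩
        rw [hz, Finset.mem_singleton] at this
        exact ⟨Fin.last 11, by rw [Fin.snoc_last, this]⟩
  refine ⟨Equiv.ofBijective _ hbij, fun i => ?_, ?_⟩
  · rw [Equiv.ofBijective_apply, Fin.snoc_castSucc]
  · rw [Equiv.ofBijective_apply, Fin.snoc_last]
    exact h385 z hzmem

/-- A list of nonzero squares adding up to two. -/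
theorem two_ones {α : Type*} [DecidableEq α] (s : Finset α) (v : α → ℤ) (h : ∑ a ∈ s, v a * v a = 2) :
    ∃ a ∈ s, ∃ b ∈ s, a ≠ b ∧ (v a = 1 ∨ v a = -1) ∧ (v b = 1 ∨ v b = -1) ∧
      ∀ c ∈ s, c ≠ a → c ≠ b → v c = 0 := by
  set T := s.filter fun a => v a ≠ 0 with hT
  have hsum : ∑ a ∈ T, v a * v a = 2 := by
    rw [hT, ← h]
    refine Finset.sum_filter_of_ne fun a _ ha e => ha ?_
    rw [e, mul_zero]
  have h1 : ∀ a ∈ T, 1 ≤ v a * v a := fun a ha => by
    have := (Finset.mem_filter.mp ha).2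
    rcases lt_or_gt_of_ne this with h | h <;> nlinarith
  have hle : (T.card : ℤ) ≤ 2 := by
    rw [← hsum, Finset.card_eq_sum_ones, Nat.cast_sum]
    exact Finset.sum_le_sum fun a ha => by exact_mod_cast h1 a ha
  have hcases : T.card = 0 ∨ T.card = 1 ∨ T.card = 2 := by omega
  rcases hcases with e | e | e
  · rw [Finset.card_eq_zero.mp e, Finset.sum_empty] at hsum; omega
  · obtain ⟨a, ha⟩ := Finset.card_eq_one.mp e
    rw [ha, Finset.sum_singleton] at hsum
    exfalso
    have hb1 : -2 ≤ v a := by nlinarith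
    have hb2 : v a ≤ 2 := by nlinarith
    rcases (show v a = -2 ∨ v a = -1 ∨ v a = 0 ∨ v a = 1 ∨ v a = 2 by omega) with h' | h' | h' | h' | h' <;>
      rw [h'] at hsum <;> norm_num at hsum
  · obtain ⟨a, b, hab, hTab⟩ := Finset.card_eq_two.mp e
    have hmem : ∀ c ∈ T, c ∈ s := fun c hc => (Finset.mem_filter.mp hc).1
    have haT : a ∈ T := by rw [hTab]; simp
    have hbT : b ∈ T := by rw [hTab]; simp
    rw [hTab, Finset.sum_pair hab] at hsum
    have ha1 := h1 a haT
    have hb1 := h1 b hbT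
    refine ⟨a, hmem a haT, b, hmem b hbT, hab, mul_self_eq_one_iff.mp (by omega),
      mul_self_eq_one_iff.mp (by omega), fun c hc hca hcb => ?_⟩
    by_contra hne
    have : c ∈ T := Finset.mem_filter.mpr ⟨hc, hne⟩
    rw [hTab] at this
    simp [hca, hcb] at this

variable [IsSimpleGroup G] [Fact (Nat.Prime 11)] [Fact (Nat.Prime 7)] [Fact (Nat.Prime 5)]

/-- Twelve characters with their degrees and their values at an element of order 5. -/
structure Shape {D : Data G} (S : Seven G) (Q : Quad D) (R : Four G) where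
  /-- The characters. -/
  irr : Fin 12 ≃ IrrCharacter G
  hk : R.k = 1
  hk7 : S.k = 1
  triv : irr 0 = trivChar G

/-- The characters with a member of degree 99. -/
structure ShapeA {D : Data G} (S : Seven G) (Q : Quad D) (R : Four G) extends Shape S Q R where
  sda : D.sd Q.a = 45
  sdb : D.sd Q.b = 45
  sdc : D.sd Q.c = -21
  sdd : D.sd Q.d = 210
  i1 : irr 1 = Q.c
  i2 : irr 2 = Q.a
  i3 : irr 3 = Q.b
  i4 : irr 4 = S.c55
  i5 : irr 5 = S.c2
  i7 : irr 7 = Q.d
  hY : D.F.Y = {irr 9, irr 10}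
  hY7 : S.F.Y = {irr 2, irr 3}
  deg : ∀ i, charDegree (irr i : G → ℂ) = M22Table.degs i
  five : ∀ i, (irr i : G → ℂ) R.x = (M22Table.fcol i : ℂ)

/-- The characters with a member of degree 120. -/
structure ShapeB {D : Data G} (S : Seven G) (Q : Quad D) (R : Four G) extends Shape S Q R where
  sda : D.sd Q.a = -120
  sdb : D.sd Q.b = -21
  sdc : D.sd Q.c = 210
  sdd : D.sd Q.d = 210
  i1 : irr 1 = Q.a
  i1' : irr 1 = S.c2
  i2 : irr 2 = Q.b
  i3 : irr 3 = Q.c
  i4 : irr 4 = Q.d
  i7 : irr 7 = S.c55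
  hY : D.F.Y = {irr 5, irr 6}
  hY7 : S.F.Y = {irr 8, irr 9}
  deg : ∀ i, charDegree (irr i : G → ℂ) = degsB i
  five : ∀ i, (irr i : G → ℂ) R.x = (fcolB i : ℂ)

variable (hG : Nat.card G = 443520)

include hG in
/-- The value at the element of order 5 when it is self-centralising. -/
theorem five_column {R : Four G} (hk : R.k = 1) : ∃ v : IrrCharacter G → ℤ,
    (∀ χ : IrrCharacter G, (χ : G → ℂ) R.x = (v χ : ℂ)) ∧ v (trivChar G) = 1 ∧
      (∀ χ : IrrCharacter G, (v χ - (charDegree (χ : G → ℂ) : ℤ)) % 5 = 0) ∧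
      ∑ χ : IrrCharacter G, v χ * v χ = 5 ∧
      ∑ χ : IrrCharacter G, (charDegree (χ : G → ℂ) : ℤ) * v χ = 0 := by
  choose v hv h5 _ _ using fun χ => R.exists_val hG χ
  refine ⟨v, hv, ?_, h5, ?_, ?_⟩
  · have h := hv (trivChar G)
    rw [trivChar_apply] at h
    exact_mod_cast h.symm
  · rw [col_sq hv, R.centralizer_x, hk]; norm_num
  · refine orth_zero (g := (1 : G)) (h := R.x) (not_conj_order (by rw [orderOf_one, R.hx]; norm_num))
      (fun χ => ?_) hv
    rw [irr_one_eq]; norm_cast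

include hG in
/-- The members of the principal 11-block. -/
theorem eleven_mem {D : Data G} (Q : Quad D) {χ : IrrCharacter G} (h : ¬ 11 ∣ charDegree (χ : G → ℂ)) :
    χ = trivChar G ∨ χ = Q.a ∨ χ = Q.b ∨ χ = Q.c ∨ χ = Q.d ∨ χ ∈ D.F.Y := by
  rcases D.mem_of_not_dvd hG h with h' | h' | h'
  · exact Or.inl h'
  · rw [Q.hset] at h'
    simp only [Finset.mem_insert, Finset.mem_singleton] at h'
    tauto
  · tauto

include hG in
theorem seven_mem {S : Seven G} (hk : S.k = 1) {χ : IrrCharacter G} (h : ¬ 7 ∣ charDegree (χ : G → ℂ)) :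
    χ = trivChar G ∨ χ = S.c55 ∨ χ = S.c2 ∨ χ ∈ S.F.Y := by
  by_cases hY : χ ∈ S.F.Y
  · tauto
  by_cases ht : χ = trivChar G
  · exact Or.inl ht
  have hX : χ ∈ S.F.X := by_contra fun hX => h (rest_seven hG S hk hX hY)
  have hX' : χ ∈ S.F.X' := Finset.mem_erase.mpr ⟨ht, hX⟩
  rw [S.hset] at hX'
  simp only [Finset.mem_insert, Finset.mem_singleton] at hX'
  tauto

include hG in
theorem exists_shapeA {D : Data G} {S : Seven G} {Q : Quad D} (R : Four G) (hk : S.k = 1) (hR : R.k = 1)
    (ha : D.sd Q.a = 45) (hb : D.sd Q.b = 45) (hY7 : S.F.Y = {Q.a, Q.b}) (h2 : charDegree (S.c2 : G → ℂ) = 99)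
    (hc : D.sd Q.c = -21) (hd : D.sd Q.d = 210) : Nonempty (ShapeA S Q R) := by
  obtain ⟨v, hv, hv1, hv5, hsq, hdv⟩ := five_column hG hR
  obtain ⟨θ, θ', hθne, hθY⟩ := Finset.card_eq_two.mp (show D.F.Y.card = 2 by rw [D.F.hY])
  have dθ : ∀ η ∈ D.F.Y, charDegree (η : G → ℂ) = 280 := fun η hη => by
    rw [← Q.natAbs_T hη, Quad.T, ha, hb, hc, hd]; rfl
  have da : charDegree (Q.a : G → ℂ) = 45 := by rw [← D.natAbs_sd (D.F.mem_X Q.mem_a).1, ha]; rfl
  have db : charDegree (Q.b : G → ℂ) = 45 := by rw [← D.natAbs_sd (D.F.mem_X Q.mem_b).1, hb]; rfl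
  have dc : charDegree (Q.c : G → ℂ) = 21 := by rw [← D.natAbs_sd (D.F.mem_X Q.mem_c).1, hc]; rfl
  have dd : charDegree (Q.d : G → ℂ) = 210 := by rw [← D.natAbs_sd (D.F.mem_X Q.mem_d).1, hd]; rfl
  have d1 : charDegree ((trivChar G : IrrCharacter G) : G → ℂ) = 1 := by simp [charDegree]
  have hne : ∀ {χ η : IrrCharacter G}, charDegree (χ : G → ℂ) ≠ charDegree (η : G → ℂ) → χ ≠ η :=
    fun h e => h (by rw [e])
  have n1 : trivChar G ≠ Q.c := hne (by rw [d1, dc]; norm_num)
  have n2 : trivChar G ≠ S.c2 := hne (by rw [d1, h2]; norm_num)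
  have n3 : Q.c ≠ S.c2 := hne (by rw [dc, h2]; norm_num)
  set K : Finset (IrrCharacter G) := {trivChar G, Q.c, S.c2}
  have hK : ∀ f : IrrCharacter G → ℤ, ∑ χ ∈ K, f χ = f (trivChar G) + (f Q.c + f S.c2) := fun f => by
    rw [Finset.sum_insert (by simp [n1, n2]), Finset.sum_pair n3]
  have hsplit : ∀ f : IrrCharacter G → ℤ, ∑ χ, f χ = (f (trivChar G) + (f Q.c + f S.c2)) +
      ∑ χ ∈ Finset.univ \ K, f χ := fun f => by
    rw [← hK, add_comm, Finset.sum_sdiff (Finset.subset_univ K)]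
  have hrest0 : 0 ≤ ∑ χ ∈ Finset.univ \ K, v χ * v χ := Finset.sum_nonneg fun _ _ => mul_self_nonneg _
  rw [hsplit, hv1] at hsq
  have vc : v Q.c = 1 := by
    have := hv5 Q.c
    rw [dc] at this
    have : -2 ≤ v Q.c ∧ v Q.c ≤ 2 := by constructor <;> nlinarith [mul_self_nonneg (v S.c2)]
    omega
  have v2 : v S.c2 = -1 := by
    have := hv5 S.c2
    rw [h2] at this
    have : -2 ≤ v S.c2 ∧ v S.c2 ≤ 2 := by constructor <;> nlinarith [mul_self_nonneg (v Q.c)]
    omega
  rw [vc, v2] at hsq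
  obtain ⟨p, hp, q, hq, hpq, vp, vq, hzero⟩ := two_ones (Finset.univ \ K) v (by linarith)
  rw [hsplit, hv1, vc, v2, d1, dc, h2] at hdv
  rw [← Finset.add_sum_erase _ _ hp, Finset.sum_eq_single_of_mem q (Finset.mem_erase.mpr ⟨hpq.symm, hq⟩)
    fun c hc' hcq => by
      rw [Finset.mem_erase] at hc'
      rw [hzero c hc'.2 hc'.1 hcq, mul_zero]] at hdv
  have hdeg : ∀ η : IrrCharacter G, v η = 1 ∨ v η = -1 → η ≠ trivChar G →
      charDegree (η : G → ℂ) ∈ ([21, 99, 154, 231, 616] : List ℕ) := fun η hη hne => by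
    obtain ⟨L, hL, hL2, hLY⟩ := case_key (Case.pair hk ha hb hY7 h2 (by simp [hc, hd]) : Case S Q)
    have hLe : L = [1, 55, 99, 45] := by
      simp only [caseList, List.mem_cons, List.not_mem_nil, or_false, Prod.mk.injEq, hk, ha, hb, hc, hd] at hL
      simp at hL
      exact hL
    have h := deg_ok hG hL hL2 hLY hne
    rw [hk, ha, hb, hc, hd, hLe] at h
    refine prime_five _ (Finset.mem_range.mpr (by have := deg_le hG η; omega)) h ?_
    have := hv5 η
    rcases hη with e | e <;> rw [e] at this <;> omega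
  have hp' : p ∉ K := (Finset.mem_sdiff.mp hp).2
  have hq' : q ∉ K := (Finset.mem_sdiff.mp hq).2
  simp only [K, Finset.mem_insert, Finset.mem_singleton, not_or] at hp' hq'
  -- the members of degree 231 and 154
  obtain ⟨χ, ψ, hχψ, dχ, vχ, dψ, vψ, hpq'⟩ : ∃ χ ψ : IrrCharacter G, χ ≠ ψ ∧
      charDegree (χ : G → ℂ) = 231 ∧ v χ = 1 ∧ charDegree (ψ : G → ℂ) = 154 ∧ v ψ = -1 ∧
      ({χ, ψ} : Finset (IrrCharacter G)) = {p, q} := by
    have hdp := hdeg p vp hp'.1
    have hdq := hdeg q vq hq'.1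
    have h5p := hv5 p
    have h5q := hv5 q
    push_cast at hdv
    simp only [List.mem_cons, List.not_mem_nil, or_false] at hdp hdq
    have key : (charDegree (p : G → ℂ) = 231 ∧ v p = 1 ∧ charDegree (q : G → ℂ) = 154 ∧ v q = -1) ∨
        (charDegree (q : G → ℂ) = 231 ∧ v q = 1 ∧ charDegree (p : G → ℂ) = 154 ∧ v p = -1) := by
      rcases vp with e | e <;> rcases vq with e' | e' <;> rw [e, e'] at hdv <;> rw [e] at h5p <;>
        rw [e'] at h5q <;> omega
    rcases key with ⟨a, b, c, d⟩ | ⟨a, b, c, d⟩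
    · exact ⟨p, q, hpq, a, b, c, d, rfl⟩
    · exact ⟨q, p, hpq.symm, a, b, c, d, Finset.pair_comm q p⟩
  -- eleven characters
  set f : Fin 11 → IrrCharacter G :=
    ![trivChar G, Q.c, Q.a, Q.b, S.c55, S.c2, ψ, Q.d, χ, θ, θ'] with hf
  have hfd : ∀ i, charDegree (f i : G → ℂ) = ![1, 21, 45, 45, 55, 99, 154, 210, 231, 280, 280] i := by
    intro i
    fin_cases i <;> simp [hf, d1, dc, da, db, S.d55, h2, dψ, dd, dχ, dθ θ (by simp [hθY]), dθ θ' (by simp [hθY])]
  have hinj : Function.Injective f := by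
    have key : ∀ i j : Fin 11, (![1, 21, 45, 45, 55, 99, 154, 210, 231, 280, 280] : Fin 11 → ℕ) i =
        (![1, 21, 45, 45, 55, 99, 154, 210, 231, 280, 280] : Fin 11 → ℕ) j →
        i = j ∨ (i = 2 ∧ j = 3) ∨ (i = 3 ∧ j = 2) ∨ (i = 9 ∧ j = 10) ∨ (i = 10 ∧ j = 9) := by decide +kernel
    intro i j e
    rcases key i j (by rw [← hfd, ← hfd, e]) with h | ⟨rfl, rfl⟩ | ⟨rfl, rfl⟩ | ⟨rfl, rfl⟩ | ⟨rfl, rfl⟩
    · exact h
    all_goals first
      | exact absurd (show Q.a = Q.b from e) Q.nab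
      | exact absurd (show Q.b = Q.a from e) Q.nab.symm
      | exact absurd (show θ = θ' from e) hθne
      | exact absurd (show θ' = θ from e) hθne.symm
  have hsum : ∑ i, charDegree (f i : G → ℂ) ^ 2 = 295295 := by
    rw [Finset.sum_congr rfl fun i _ => by rw [hfd i]]
    decide +kernel
  have hv0 : ∀ η : IrrCharacter G, (∀ i, f i ≠ η) → v η = 0 := fun η hη => by
    refine hzero η (Finset.mem_sdiff.mpr ⟨Finset.mem_univ _, ?_⟩) ?_ ?_
    · simp only [K, Finset.mem_insert, Finset.mem_singleton, not_or]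
      exact ⟨fun e => hη 0 e.symm, fun e => hη 1 e.symm, fun e => hη 5 e.symm⟩
    all_goals
      intro e
      have hm : η ∈ ({χ, ψ} : Finset (IrrCharacter G)) := by rw [hpq', e]; simp
      simp only [Finset.mem_insert, Finset.mem_singleton] at hm
      rcases hm with h | h
      · exact hη 8 h.symm
      · exact hη 6 h.symm
  obtain ⟨g, hg, hg11⟩ := complete hG hinj hsum (deg_le hG) fun η hη => by
    have h5 : 5 ∣ charDegree (η : G → ℂ) := by
      have := hv5 η
      rw [hv0 η hη] at this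
      omega
    have h7 : 7 ∣ charDegree (η : G → ℂ) := by
      by_contra h
      rcases seven_mem hG hk h with e | e | e | e
      · exact hη 0 e.symm
      · exact hη 4 e.symm
      · exact hη 5 e.symm
      · rw [hY7] at e
        simp only [Finset.mem_insert, Finset.mem_singleton] at e
        rcases e with e | e
        · exact hη 2 e.symm
        · exact hη 3 e.symm
    have h11 : 11 ∣ charDegree (η : G → ℂ) := by
      by_contra h
      rcases eleven_mem hG Q h with e | e | e | e | e | e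
      · exact hη 0 e.symm
      · exact hη 2 e.symm
      · exact hη 3 e.symm
      · exact hη 1 e.symm
      · exact hη 7 e.symm
      · rw [hθY] at e
        simp only [Finset.mem_insert, Finset.mem_singleton] at e
        rcases e with e | e
        · exact hη 9 e.symm
        · exact hη 10 e.symm
    omega
  have hz : ∀ i : Fin 11, f i ≠ g (Fin.last 11) := fun i e => by
    rw [← hg] at e
    exact (Fin.castSucc_lt_last i).ne (g.injective e)
  refine ⟨{ irr := g, hk := hR, hk7 := hk, triv := ?_, sda := ha, sdb := hb, sdc := hc, sdd := hd, i1 := ?_,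
            i2 := ?_, i3 := ?_, i4 := ?_, i5 := ?_, i7 := ?_, hY := ?_, hY7 := ?_, deg := ?_, five := ?_ }⟩
  · exact hg 0
  · exact hg 1
  · exact hg 2
  · exact hg 3
  · exact hg 4
  · exact hg 5
  · exact hg 7
  · rw [hθY, show g 9 = θ from hg 9, show g 10 = θ' from hg 10]
  · rw [hY7, show g 2 = Q.a from hg 2, show g 3 = Q.b from hg 3]
  · intro i
    induction i using Fin.lastCases with
    | last => rw [hg11]; rfl
    | cast j => rw [hg j, hfd j]; fin_cases j <;> rfl
  · intro i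
    induction i using Fin.lastCases with
    | last => rw [hv, hv0 _ hz]; rfl
    | cast j =>
      rw [hg j, hv]
      have hz0 : ∀ η : IrrCharacter G, η ∉ K → η ≠ χ → η ≠ ψ → v η = 0 := fun η h1 h2 h3 => by
        have hm : η ∉ ({χ, ψ} : Finset (IrrCharacter G)) := by simp [h2, h3]
        rw [hpq'] at hm
        simp only [Finset.mem_insert, Finset.mem_singleton, not_or] at hm
        exact hzero η (Finset.mem_sdiff.mpr ⟨Finset.mem_univ _, h1⟩) hm.1 hm.2
      have hne' : ∀ i : Fin 11, i ∉ ([0, 1, 5, 6, 8] : List (Fin 11)) → v (f i) = 0 := fun i hi => by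
        simp only [List.mem_cons, List.not_mem_nil, or_false, not_or] at hi
        refine hz0 _ ?_ (fun e => hi.2.2.2.2 (hinj (e.trans (show χ = f 8 from rfl))))
          (fun e => hi.2.2.2.1 (hinj (e.trans (show ψ = f 6 from rfl))))
        simp only [K, Finset.mem_insert, Finset.mem_singleton, not_or]
        exact ⟨fun e => hi.1 (hinj (e.trans (show trivChar G = f 0 from rfl))),
          fun e => hi.2.1 (hinj (e.trans (show Q.c = f 1 from rfl))),
          fun e => hi.2.2.1 (hinj (e.trans (show S.c2 = f 5 from rfl)))⟩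
      fin_cases j
      · rw [show f _ = trivChar G from rfl, hv1]; rfl
      · rw [show f _ = Q.c from rfl, vc]; rfl
      · rw [hne' _ (by decide)]; rfl
      · rw [hne' _ (by decide)]; rfl
      · rw [hne' _ (by decide)]; rfl
      · rw [show f _ = S.c2 from rfl, v2]; rfl
      · rw [show f _ = ψ from rfl, vψ]; rfl
      · rw [hne' _ (by decide)]; rfl
      · rw [show f _ = χ from rfl, vχ]; rfl
      · rw [hne' _ (by decide)]; rfl
      · rw [hne' _ (by decide)]; rfl

include hG in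
theorem exists_shapeB {D : Data G} {S : Seven G} {Q : Quad D} (R : Four G) (hk : S.k = 1) (hR : R.k = 1)
    (ha : D.sd Q.a = -120) (hca : Q.a = S.c2) (h66 : ∀ η ∈ S.F.Y, charDegree (η : G → ℂ) = 66)
    (hb : D.sd Q.b = -21) (hc : D.sd Q.c = 210) (hd : D.sd Q.d = 210) : Nonempty (ShapeB S Q R) := by
  obtain ⟨v, hv, hv1, hv5, hsq, hdv⟩ := five_column hG hR
  obtain ⟨θ, θ', hθne, hθY⟩ := Finset.card_eq_two.mp (show D.F.Y.card = 2 by rw [D.F.hY])
  obtain ⟨η, η', hηne, hηY⟩ := Finset.card_eq_two.mp (show S.F.Y.card = 2 by rw [S.F.hY])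
  have dη : charDegree (η : G → ℂ) = 66 := h66 η (by simp [hηY])
  have dη' : charDegree (η' : G → ℂ) = 66 := h66 η' (by simp [hηY])
  have dθ : ∀ η ∈ D.F.Y, charDegree (η : G → ℂ) = 280 := fun η hη => by
    rw [← Q.natAbs_T hη, Quad.T, ha, hb, hc, hd]; rfl
  have da : charDegree (Q.a : G → ℂ) = 120 := by rw [← D.natAbs_sd (D.F.mem_X Q.mem_a).1, ha]; rfl
  have db : charDegree (Q.b : G → ℂ) = 21 := by rw [← D.natAbs_sd (D.F.mem_X Q.mem_b).1, hb]; rfl
  have dc : charDegree (Q.c : G → ℂ) = 210 := by rw [← D.natAbs_sd (D.F.mem_X Q.mem_c).1, hc]; rfl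
  have dd : charDegree (Q.d : G → ℂ) = 210 := by rw [← D.natAbs_sd (D.F.mem_X Q.mem_d).1, hd]; rfl
  have d1 : charDegree ((trivChar G : IrrCharacter G) : G → ℂ) = 1 := by simp [charDegree]
  have hne : ∀ {χ η : IrrCharacter G}, charDegree (χ : G → ℂ) ≠ charDegree (η : G → ℂ) → χ ≠ η :=
    fun h e => h (by rw [e])
  have n1 : trivChar G ≠ Q.b := hne (by rw [d1, db]; norm_num)
  have n2 : trivChar G ≠ η := hne (by rw [d1, dη]; norm_num)
  have n2' : trivChar G ≠ η' := hne (by rw [d1, dη']; norm_num)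
  have n3 : Q.b ≠ η := hne (by rw [db, dη]; norm_num)
  have n3' : Q.b ≠ η' := hne (by rw [db, dη']; norm_num)
  set K : Finset (IrrCharacter G) := {trivChar G, Q.b, η, η'}
  have hK : ∀ f : IrrCharacter G → ℤ, ∑ χ ∈ K, f χ = f (trivChar G) + (f Q.b + (f η + f η')) := fun f => by
    rw [Finset.sum_insert (by simp [n1, n2, n2']), Finset.sum_insert (by simp [n3, n3']), Finset.sum_pair hηne]
  have hsplit : ∀ f : IrrCharacter G → ℤ, ∑ χ, f χ = (f (trivChar G) + (f Q.b + (f η + f η'))) +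
      ∑ χ ∈ Finset.univ \ K, f χ := fun f => by
    rw [← hK, add_comm, Finset.sum_sdiff (Finset.subset_univ K)]
  have hrest0 : 0 ≤ ∑ χ ∈ Finset.univ \ K, v χ * v χ := Finset.sum_nonneg fun _ _ => mul_self_nonneg _
  rw [hsplit, hv1] at hsq
  have hone : ∀ χ : IrrCharacter G, charDegree (χ : G → ℂ) % 5 = 1 → v χ * v χ ≤ 4 → v χ = 1 := fun χ h h4 => by
    have := hv5 χ
    have : -2 ≤ v χ ∧ v χ ≤ 2 := by constructor <;> nlinarith
    omega
  have vb : v Q.b = 1 := hone _ (by rw [db]) (by nlinarith [mul_self_nonneg (v η), mul_self_nonneg (v η')])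
  have vη : v η = 1 := hone _ (by rw [dη]) (by nlinarith [mul_self_nonneg (v Q.b), mul_self_nonneg (v η')])
  have vη' : v η' = 1 := hone _ (by rw [dη']) (by nlinarith [mul_self_nonneg (v Q.b), mul_self_nonneg (v η)])
  rw [vb, vη, vη'] at hsq
  -- one further member
  have hone' : ∑ χ ∈ Finset.univ \ K, v χ * v χ = 1 := by linarith
  obtain ⟨ψ, hψ, hψ0⟩ : ∃ ψ ∈ Finset.univ \ K, v ψ * v ψ ≠ 0 :=
    Finset.exists_ne_zero_of_sum_ne_zero (by rw [hone']; norm_num)
  have hψ1 : v ψ * v ψ = 1 := by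
    have h1 := Finset.single_le_sum (fun χ _ => mul_self_nonneg (v χ)) hψ
    rw [hone'] at h1
    have := mul_self_nonneg (v ψ)
    omega
  have hzero : ∀ χ ∈ Finset.univ \ K, χ ≠ ψ → v χ = 0 := fun χ hχ hne => by
    rw [← Finset.add_sum_erase _ _ hψ, hψ1, add_eq_left] at hone'
    have := (Finset.sum_eq_zero_iff_of_nonneg fun χ _ => mul_self_nonneg (v χ)).mp hone' χ
      (Finset.mem_erase.mpr ⟨hne, hχ⟩)
    exact mul_self_eq_zero.mp this
  rw [hsplit, hv1, vb, vη, vη', d1, db, dη, dη', Finset.sum_eq_single_of_mem ψ hψ fun χ hχ hne => by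
    rw [hzero χ hχ hne, mul_zero]] at hdv
  obtain ⟨dψ, vψ⟩ : charDegree (ψ : G → ℂ) = 154 ∧ v ψ = -1 := by
    rcases mul_self_eq_one_iff.mp hψ1 with e | e <;> rw [e] at hdv <;> push_cast at hdv
    · omega
    · exact ⟨by omega, e⟩
  set f : Fin 11 → IrrCharacter G :=
    ![trivChar G, Q.a, Q.b, Q.c, Q.d, θ, θ', S.c55, η, η', ψ] with hf
  have hfd : ∀ i, charDegree (f i : G → ℂ) = ![1, 120, 21, 210, 210, 280, 280, 55, 66, 66, 154] i := by
    intro i
    fin_cases i <;> simp [hf, d1, da, db, dc, dd, S.d55, dη, dη', dψ, dθ θ (by simp [hθY]), dθ θ' (by simp [hθY])]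
  have hinj : Function.Injective f := by
    have key : ∀ i j : Fin 11, (![1, 120, 21, 210, 210, 280, 280, 55, 66, 66, 154] : Fin 11 → ℕ) i =
        (![1, 120, 21, 210, 210, 280, 280, 55, 66, 66, 154] : Fin 11 → ℕ) j →
        i = j ∨ (i = 3 ∧ j = 4) ∨ (i = 4 ∧ j = 3) ∨ (i = 5 ∧ j = 6) ∨ (i = 6 ∧ j = 5) ∨ (i = 8 ∧ j = 9) ∨
          (i = 9 ∧ j = 8) := by decide +kernel
    intro i j e
    rcases key i j (by rw [← hfd, ← hfd, e]) with h | ⟨rfl, rfl⟩ | ⟨rfl, rfl⟩ | ⟨rfl, rfl⟩ | ⟨rfl, rfl⟩ |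
      ⟨rfl, rfl⟩ | ⟨rfl, rfl⟩
    · exact h
    all_goals first
      | exact absurd (show Q.c = Q.d from e) Q.ncd
      | exact absurd (show Q.d = Q.c from e) Q.ncd.symm
      | exact absurd (show θ = θ' from e) hθne
      | exact absurd (show θ' = θ from e) hθne.symm
      | exact absurd (show η = η' from e) hηne
      | exact absurd (show η' = η from e) hηne.symm
  have hsum : ∑ i, charDegree (f i : G → ℂ) ^ 2 = 295295 := by
    rw [Finset.sum_congr rfl fun i _ => by rw [hfd i]]
    decide +kernel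
  have hv0 : ∀ χ : IrrCharacter G, (∀ i, f i ≠ χ) → v χ = 0 := fun χ hχ => by
    refine hzero χ (Finset.mem_sdiff.mpr ⟨Finset.mem_univ _, ?_⟩) fun e => hχ 10 e.symm
    simp only [K, Finset.mem_insert, Finset.mem_singleton, not_or]
    exact ⟨fun e => hχ 0 e.symm, fun e => hχ 2 e.symm, fun e => hχ 8 e.symm, fun e => hχ 9 e.symm⟩
  obtain ⟨g, hg, hg11⟩ := complete hG hinj hsum (deg_le hG) fun χ hχ => by
    have h5 : 5 ∣ charDegree (χ : G → ℂ) := by
      have := hv5 χ
      rw [hv0 χ hχ] at this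
      omega
    have h7 : 7 ∣ charDegree (χ : G → ℂ) := by
      by_contra h
      rcases seven_mem hG hk h with e | e | e | e
      · exact hχ 0 e.symm
      · exact hχ 7 e.symm
      · exact hχ 1 (e.trans hca.symm).symm
      · rw [hηY] at e
        simp only [Finset.mem_insert, Finset.mem_singleton] at e
        rcases e with e | e
        · exact hχ 8 e.symm
        · exact hχ 9 e.symm
    have h11 : 11 ∣ charDegree (χ : G → ℂ) := by
      by_contra h
      rcases eleven_mem hG Q h with e | e | e | e | e | e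
      · exact hχ 0 e.symm
      · exact hχ 1 e.symm
      · exact hχ 2 e.symm
      · exact hχ 3 e.symm
      · exact hχ 4 e.symm
      · rw [hθY] at e
        simp only [Finset.mem_insert, Finset.mem_singleton] at e
        rcases e with e | e
        · exact hχ 5 e.symm
        · exact hχ 6 e.symm
    omega
  have hz : ∀ i : Fin 11, f i ≠ g (Fin.last 11) := fun i e => by
    rw [← hg] at e
    exact (Fin.castSucc_lt_last i).ne (g.injective e)
  refine ⟨{ irr := g, hk := hR, hk7 := hk, triv := ?_, sda := ha, sdb := hb, sdc := hc, sdd := hd, i1 := ?_,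
            i1' := ?_, i2 := ?_, i3 := ?_, i4 := ?_, i7 := ?_, hY := ?_, hY7 := ?_, deg := ?_, five := ?_ }⟩
  · exact hg 0
  · exact hg 1
  · exact (hg 1).trans hca
  · exact hg 2
  · exact hg 3
  · exact hg 4
  · exact hg 7
  · rw [hθY, show g 5 = θ from hg 5, show g 6 = θ' from hg 6]
  · rw [hηY, show g 8 = η from hg 8, show g 9 = η' from hg 9]
  · intro i
    induction i using Fin.lastCases with
    | last => rw [hg11]; rfl
    | cast j => rw [hg j, hfd j]; fin_cases j <;> rfl
  · intro i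
    induction i using Fin.lastCases with
    | last => rw [hv, hv0 _ hz]; rfl
    | cast j =>
      rw [hg j, hv]
      have hne' : ∀ i : Fin 11, i ∉ ([0, 2, 8, 9, 10] : List (Fin 11)) → v (f i) = 0 := fun i hi => by
        simp only [List.mem_cons, List.not_mem_nil, or_false, not_or] at hi
        refine hzero _ (Finset.mem_sdiff.mpr ⟨Finset.mem_univ _, ?_⟩)
          fun e => hi.2.2.2.2 (hinj (e.trans (show ψ = f 10 from rfl)))
        simp only [K, Finset.mem_insert, Finset.mem_singleton, not_or]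
        exact ⟨fun e => hi.1 (hinj (e.trans (show trivChar G = f 0 from rfl))),
          fun e => hi.2.1 (hinj (e.trans (show Q.b = f 2 from rfl))),
          fun e => hi.2.2.1 (hinj (e.trans (show η = f 8 from rfl))),
          fun e => hi.2.2.2.1 (hinj (e.trans (show η' = f 9 from rfl)))⟩
      fin_cases j
      · rw [show f _ = trivChar G from rfl, hv1]; rfl
      · rw [hne' _ (by decide)]; rfl
      · rw [show f _ = Q.b from rfl, vb]; rfl
      · rw [hne' _ (by decide)]; rfl
      · rw [hne' _ (by decide)]; rfl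
      · rw [hne' _ (by decide)]; rfl
      · rw [hne' _ (by decide)]; rfl
      · rw [hne' _ (by decide)]; rfl
      · rw [show f _ = η from rfl, vη]; rfl
      · rw [show f _ = η' from rfl, vη']; rfl
      · rw [show f _ = ψ from rfl, vψ]; rfl

include hG in
/-- The centraliser of an element of order 5 is the subgroup it generates, for the blocks not excluded. -/
theorem four_one {D : Data G} (S : Seven G) (Q : Quad D) (R : Four G)
    (hQ : (D.sd Q.a, D.sd Q.b, D.sd Q.c, D.sd Q.d) ∈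
      ([(45, 45, -21, 56), (45, 45, -21, 210), (-120, -21, 210, 210), (-120, -120, 45, 210)] :
        List (ℤ × ℤ × ℤ × ℤ))) : R.k = 1 := by
  have h2 := R.not_even hG Q hQ
  have h7 := R.not_seven hG S
  have key : ∀ k ∈ fourKs.map Prod.fst, ¬ 2 ∣ k → ¬ 7 ∣ k → k = 1 := by decide +kernel
  exact key _ R.hk h2 h7

include hG in
/-- Too many degrees prime to 5. -/
theorem six_false {D : Data G} {S : Seven G} {Q : Quad D} (R : Four G) (hk : R.k = 1) (ha : D.sd Q.a = 45)
    (hb : D.sd Q.b = 45) (h2 : charDegree (S.c2 : G → ℂ) = 99)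
    (hc : D.sd Q.c = -21) (hd : D.sd Q.d = 56) : False := by
  obtain ⟨v, -, hv1, hv5, hsq, -⟩ := five_column hG hk
  obtain ⟨θ, θ', hθne, hθY⟩ := Finset.card_eq_two.mp (show D.F.Y.card = 2 by rw [D.F.hY])
  have dθ : ∀ η ∈ D.F.Y, charDegree (η : G → ℂ) = 126 := fun η hη => by
    rw [← Q.natAbs_T hη, Quad.T, ha, hb, hc, hd]; rfl
  have dc : charDegree (Q.c : G → ℂ) = 21 := by rw [← D.natAbs_sd (D.F.mem_X Q.mem_c).1, hc]; rfl
  have dd : charDegree (Q.d : G → ℂ) = 56 := by rw [← D.natAbs_sd (D.F.mem_X Q.mem_d).1, hd]; rfl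
  have d1 : charDegree ((trivChar G : IrrCharacter G) : G → ℂ) = 1 := by simp [charDegree]
  have dt := dθ θ (by simp [hθY])
  have dt' := dθ θ' (by simp [hθY])
  have hne : ∀ {χ η : IrrCharacter G}, charDegree (χ : G → ℂ) ≠ charDegree (η : G → ℂ) → χ ≠ η :=
    fun h e => h (by rw [e])
  set K : Finset (IrrCharacter G) := {trivChar G, Q.c, Q.d, S.c2, θ, θ'}
  have hK : K.card = 6 := by
    rw [Finset.card_insert_of_notMem, Finset.card_insert_of_notMem, Finset.card_insert_of_notMem,
      Finset.card_insert_of_notMem, Finset.card_pair hθne] <;>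
      simp only [Finset.mem_insert, Finset.mem_singleton, not_or] <;>
      (repeat' apply And.intro) <;> apply hne <;> simp only [d1, dc, dd, h2, dt, dt'] <;> norm_num
  have hge : ∀ χ ∈ K, 1 ≤ v χ * v χ := fun χ hχ => by
    have h5 := hv5 χ
    have hmod : charDegree (χ : G → ℂ) % 5 ≠ 0 := by
      simp only [K, Finset.mem_insert, Finset.mem_singleton] at hχ
      rcases hχ with rfl | rfl | rfl | rfl | rfl | rfl <;> simp only [d1, dc, dd, h2, dt, dt'] <;> norm_num
    have : v χ ≠ 0 := fun e => by rw [e] at h5; omega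
    rcases lt_or_gt_of_ne this with h | h <;> nlinarith
  have h1 : (6 : ℤ) ≤ ∑ χ ∈ K, v χ * v χ := by
    have := Finset.sum_le_sum hge
    rw [Finset.sum_const, hK] at this
    simpa using this
  have h2' := Finset.sum_le_sum_of_subset_of_nonneg (f := fun χ => v χ * v χ) (Finset.subset_univ K)
    fun χ _ _ => mul_self_nonneg _
  linarith

include hG in
/-- A signed degree sum that does not vanish. -/
theorem sixteen_false {D : Data G} {S : Seven G} {Q : Quad D} (R : Four G) (hk : R.k = 1)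
    (ha : D.sd Q.a = -120) (hb : D.sd Q.b = -120) (hc : D.sd Q.c = 45) (hd : D.sd Q.d = 210)
    (h66 : ∀ η ∈ S.F.Y, charDegree (η : G → ℂ) = 66) : False := by
  obtain ⟨v, -, hv1, hv5, hsq, hdv⟩ := five_column hG hk
  obtain ⟨θ, θ', hθne, hθY⟩ := Finset.card_eq_two.mp (show D.F.Y.card = 2 by rw [D.F.hY])
  obtain ⟨η, η', hηne, hηY⟩ := Finset.card_eq_two.mp (show S.F.Y.card = 2 by rw [S.F.hY])
  have dθ : ∀ η ∈ D.F.Y, charDegree (η : G → ℂ) = 16 := fun η hη => by
    rw [← Q.natAbs_T hη, Quad.T, ha, hb, hc, hd]; rfl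
  have d1 : charDegree ((trivChar G : IrrCharacter G) : G → ℂ) = 1 := by simp [charDegree]
  have dt := dθ θ (by simp [hθY])
  have dt' := dθ θ' (by simp [hθY])
  have de := h66 η (by simp [hηY])
  have de' := h66 η' (by simp [hηY])
  have hne : ∀ {χ η : IrrCharacter G}, charDegree (χ : G → ℂ) ≠ charDegree (η : G → ℂ) → χ ≠ η :=
    fun h e => h (by rw [e])
  set K : Finset (IrrCharacter G) := {trivChar G, θ, θ', η, η'}
  have hK : K.card = 5 := by
    rw [Finset.card_insert_of_notMem, Finset.card_insert_of_notMem, Finset.card_insert_of_notMem,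
      Finset.card_pair hηne] <;>
      simp only [Finset.mem_insert, Finset.mem_singleton, not_or] <;>
      (repeat' apply And.intro) <;> first
        | exact hθne
        | (apply hne; simp only [d1, dt, dt', de, de']; norm_num)
  have hmem1 : ∀ χ ∈ K, charDegree (χ : G → ℂ) % 5 = 1 := fun χ hχ => by
    simp only [K, Finset.mem_insert, Finset.mem_singleton] at hχ
    rcases hχ with rfl | rfl | rfl | rfl | rfl <;> simp only [d1, dt, dt', de, de'] <;> norm_num
  have hge : ∀ χ ∈ K, 1 ≤ v χ * v χ := fun χ hχ => by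
    have h5 := hv5 χ
    have := hmem1 χ hχ
    have : v χ ≠ 0 := fun e => by rw [e] at h5; omega
    rcases lt_or_gt_of_ne this with h | h <;> nlinarith
  have hK5 : ∑ χ ∈ K, v χ * v χ ≤ 5 := hsq ▸ Finset.sum_le_sum_of_subset_of_nonneg (Finset.subset_univ K)
    fun χ _ _ => mul_self_nonneg _
  have hsum1 : ∑ _χ ∈ K, (1 : ℤ) = 5 := by rw [Finset.sum_const, hK]; rfl
  have hall := (Finset.sum_eq_sum_iff_of_le hge).mp (le_antisymm (Finset.sum_le_sum hge) (hsum1.symm ▸ hK5))
  have hv1' : ∀ χ ∈ K, v χ = 1 := fun χ hχ => by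
    have h5 := hv5 χ
    have := hmem1 χ hχ
    rcases mul_self_eq_one_iff.mp (hall χ hχ).symm with e | e
    · exact e
    · rw [e] at h5; omega
  have hout : ∑ χ ∈ Finset.univ \ K, v χ * v χ = 0 := by
    have := Finset.sum_sdiff (f := fun χ => v χ * v χ) (Finset.subset_univ K)
    rw [hsq, Finset.sum_congr rfl fun χ hχ => (hall χ hχ).symm, hsum1] at this
    linarith
  have hzero := (Finset.sum_eq_zero_iff_of_nonneg fun χ _ => mul_self_nonneg (v χ)).mp hout
  rw [← Finset.sum_sdiff (Finset.subset_univ K), Finset.sum_eq_zero fun χ hχ => by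
    rw [mul_self_eq_zero.mp (hzero χ hχ), mul_zero], zero_add] at hdv
  have hpos : (0 : ℤ) < ∑ χ ∈ K, (charDegree (χ : G → ℂ) : ℤ) * v χ :=
    Finset.sum_pos (fun χ hχ => by rw [hv1' χ hχ, mul_one]; exact_mod_cast charDegree_pos χ) ⟨trivChar G, by simp [K]⟩
  omega

include hG in
/-- The twelve characters. -/
theorem exists_shape : ∃ (D : Data G) (S : Seven G) (Q : Quad D) (R : Four G),
    Nonempty (ShapeA S Q R) ∨ Nonempty (ShapeB S Q R) := by
  obtain ⟨D⟩ := exists_data hG
  obtain ⟨S, Q, hcase⟩ := exists_case hG D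
  obtain ⟨R⟩ := exists_four hG hcase
  refine ⟨D, S, Q, R, ?_⟩
  cases hcase with
  | pair hk ha hb hY h2 hcd =>
    simp only [List.mem_cons, List.not_mem_nil, or_false, Prod.mk.injEq] at hcd
    rcases hcd with ⟨hc, hd⟩ | ⟨hc, hd⟩
    · exact (six_false hG R (four_one hG S Q R (by simp [ha, hb, hc, hd])) ha hb h2 hc hd).elim
    · exact Or.inl (exists_shapeA hG R hk (four_one hG S Q R (by simp [ha, hb, hc, hd])) ha hb hY h2 hc hd)
  | single ha hca h66 hbcd =>
    simp only [List.mem_cons, List.not_mem_nil, or_false, Prod.mk.injEq] at hbcd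
    rcases hbcd with ⟨hk, h⟩ | ⟨-, hb, hc, hd⟩
    · rcases h with ⟨hb, hc, hd⟩ | ⟨hb, hc, hd⟩ | ⟨hb, hc, hd⟩ | ⟨hb, hc, hd⟩ | ⟨hb, hc, hd⟩
      · exact (R.not_fifty hG Q hk hca h66 ha (by simp [hb, hc, hd])).elim
      · exact Or.inr (exists_shapeB hG R hk (four_one hG S Q R (by simp [ha, hb, hc, hd])) ha hca h66 hb hc hd)
      · exact (R.not_fifty hG Q hk hca h66 ha (by simp [hb, hc, hd])).elim
      · exact (R.not_fifty hG Q hk hca h66 ha (by simp [hb, hc, hd])).elim
      · exact (R.not_fifty hG Q hk hca h66 ha (by simp [hb, hc, hd])).elim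
    · exact (sixteen_false hG R (four_one hG S Q R (by simp [ha, hb, hc, hd])) ha hb hc hd h66).elim

end CfsgLib.KGroups.M22FiveBlock
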