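import Cfsg.Agent.Lib.KGroups.M22Three

/-!
# A vector of the character of degree 21 fixed by more than the Sylow 3-normaliser

The fixed spaces of the normaliser and of an extension of the complement meet.
-/

set_option autoImplicit false

namespace CfsgLib.KGroups.M22Fix

open Cfsg CfsgLib.Blocks CfsgLib.KGroups.M22Table CfsgLib.KGroups.M22Elements CfsgLib.KGroups.M22Three Subgroup
open CfsgLib.KGroups.M12Point (els mem_els card_els)
open scoped Classical

variable {G : Type*} [Group G] [Fintype G]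

/-- The sum over a subgroup as a sum over its elements. -/
theorem sum_els {M : Type*} [AddCommMonoid M] (A : Subgroup G) (f : G → M) :
    ∑ a : A, f a = ∑ a ∈ els A, f a :=
  (Finset.sum_subtype (els A) (fun _ => mem_els) f).symm

/-- Two fixed spaces inside a smaller one meet, so their groups lie in a proper subgroup. -/
theorem exists_proper (χ : IrrCharacter G) (hχ : χ ≠ trivChar G) {A B K : Subgroup G} (hA : K ≤ A) (hB : K ≤ B)
    {a b k : ℕ} (hsa : ∑ g : A, (χ : G → ℂ) g = (Nat.card A : ℂ) * a)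
    (hsb : ∑ g : B, (χ : G → ℂ) g = (Nat.card B : ℂ) * b) (hsk : ∑ g : K, (χ : G → ℂ) g = (Nat.card K : ℂ) * k)
    (hlt : k < a + b) : ∃ M : Subgroup G, M ≠ ⊤ ∧ A ≤ M ∧ B ≤ M := by
  obtain ⟨n, ρ, hρ, he⟩ := χ.2
  have key : ∀ (C : Subgroup G) (c : ℕ), ∑ g : C, (χ : G → ℂ) g = (Nat.card C : ℂ) * c →
      Module.finrank ℂ (Representation.invariants (ρ.comp C.subtype)) = c := fun C c hc => by
    have h1 := M22Tools.sum_eq_invariants ρ C
    rw [he, hc] at h1
    exact_mod_cast (mul_left_cancel₀ (Nat.cast_ne_zero.mpr Nat.card_pos.ne') h1).symm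
  set VA := Representation.invariants (ρ.comp A.subtype)
  set VB := Representation.invariants (ρ.comp B.subtype)
  have hsup : VA ⊔ VB ≤ Representation.invariants (ρ.comp K.subtype) :=
    sup_le (fun v hv g => hv ⟨g.1, hA g.2⟩) fun v hv g => hv ⟨g.1, hB g.2⟩
  have h1 := Submodule.finrank_sup_add_finrank_inf_eq VA VB
  have h2 := Submodule.finrank_mono hsup
  rw [key K k hsk] at h2
  rw [key A a hsa, key B b hsb] at h1
  obtain ⟨u, hu, hu0⟩ : ∃ u ∈ VA ⊓ VB, u ≠ 0 := by
    refine Submodule.exists_mem_ne_zero_of_ne_bot fun e => ?_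
    rw [e, finrank_bot] at h1
    omega
  let M : Subgroup G :=
    { carrier := {g | ρ g u = u}
      mul_mem' := fun {x y} hx hy => by
        show ρ (x * y) u = u
        rw [map_mul, Module.End.mul_apply, hy, hx]
      one_mem' := by
        show ρ 1 u = u
        rw [map_one, Module.End.one_apply]
      inv_mem' := fun {x} hx => by
        show ρ x⁻¹ u = u
        conv_lhs => rw [← (hx : ρ x u = u)]
        rw [← Module.End.mul_apply, ← map_mul, inv_mul_cancel, map_one, Module.End.one_apply] }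
  refine ⟨M, fun e => ?_, fun g hg => hu.1 ⟨g, hg⟩, fun g hg => hu.2 ⟨g, hg⟩⟩
  have hall : ∀ g : G, ρ g u = u := fun g => (e ▸ mem_top g : g ∈ M)
  have hsum : ∑ g : (⊤ : Subgroup G), (χ : G → ℂ) g = (Nat.card (⊤ : Subgroup G) : ℂ) * (0 : ℕ) := by
    rw [sum_els, Nat.cast_zero, mul_zero]
    have h := CfsgLib.Char.classInner_irrCharacter χ (trivChar G)
    rw [if_neg hχ, show ((trivChar G : IrrCharacter G) : G → ℂ) = fun _ => 1 from funext fun g => trivChar_apply g,
      CfsgLib.Char.classInner_fun_one_right, mul_eq_zero] at h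
    rw [← h.resolve_left (inv_ne_zero (Nat.cast_ne_zero.mpr Nat.card_pos.ne'))]
    exact Finset.sum_congr (Finset.ext fun g => by simp [els]) fun _ _ => rfl
  have h0 := key ⊤ 0 hsum
  rw [Submodule.finrank_eq_zero] at h0
  have : u ∈ Representation.invariants (ρ.comp (⊤ : Subgroup G).subtype) := fun g => hall g
  rw [h0] at this
  exact hu0 ((Submodule.mem_bot ℂ).mp this)

/-- An element outside a subgroup that normalises it with square inside it extends it. -/
def double (K : Subgroup G) (h : G) (hn : ∀ k ∈ K, h * k * h⁻¹ ∈ K) (h2 : h * h ∈ K) : Subgroup G where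
  carrier := {x | x ∈ K ∨ h * x ∈ K}
  one_mem' := Or.inl K.one_mem
  mul_mem' := fun {x y} hx hy => by
    have hn' : ∀ k ∈ K, h⁻¹ * k * h ∈ K := fun k hk =>
      (mem_normalizer_iff''.mp (mem_normalizer_of_le hn) k).mp hk
    rcases hx with hx | hx <;> rcases hy with hy | hy
    · exact Or.inl (mul_mem hx hy)
    · exact Or.inr (by
        rw [show h * (x * y) = h * x * h⁻¹ * (h * y) by group]
        exact mul_mem (hn x hx) hy)
    · exact Or.inr (by rw [← mul_assoc]; exact mul_mem hx hy)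
    · exact Or.inl (by
        rw [show x * y = h⁻¹ * (h * x) * h * (h * h)⁻¹ * (h * y) by group]
        exact mul_mem (mul_mem (hn' _ hx) (inv_mem h2)) hy)
  inv_mem' := fun {x} hx => by
    rcases hx with hx | hx
    · exact Or.inl (inv_mem hx)
    · exact Or.inr (by
        rw [show h * x⁻¹ = h * (h * x)⁻¹ * h⁻¹ * (h * h) by group]
        exact mul_mem (hn _ (inv_mem hx)) h2)

theorem card_double {K : Subgroup G} {h : G} (hn : ∀ k ∈ K, h * k * h⁻¹ ∈ K) (h2 : h * h ∈ K) (hK : h ∉ K) :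
    els (double K h hn h2) = els K ∪ (els K).image (h * ·) ∧ Disjoint (els K) ((els K).image (h * ·)) := by
  refine ⟨Finset.ext fun x => ?_, Finset.disjoint_left.mpr fun x hx hx' => ?_⟩
  · simp only [mem_els, Finset.mem_union, Finset.mem_image]
    constructor
    · rintro (hx | hx)
      · exact Or.inl hx
      · exact Or.inr ⟨(h * h)⁻¹ * (h * x), mul_mem (inv_mem h2) hx, by group⟩
    · rintro (hx | ⟨k, hk, rfl⟩)
      · exact Or.inl hx
      · exact Or.inr (by rw [← mul_assoc]; exact mul_mem h2 hk)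
  · obtain ⟨k, hk, rfl⟩ := Finset.mem_image.mp hx'
    exact hK ((K.mul_mem_cancel_right (mem_els.mp hk)).mp (mem_els.mp hx))

variable [IsSimpleGroup G] (T : Table G) (hG : Nat.card G = 443520) (L : Loc G)

/-- The value of the character of degree 21. -/
noncomputable def val (g : G) : ℕ := if orderOf g = 1 then 21 else if orderOf g = 2 then 5 else 1

include hG in
/-- An element conjugate into the complement by the Sylow subgroup. -/
theorem coset_conj {s k : G} (hs : s ∈ L.P) (hk : k ∈ L.K) (hk1 : k ≠ 1) : IsConj k (s * k) := by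
  have hmem : ∀ t ∈ L.P, t * k * t⁻¹ * k⁻¹ ∈ L.P := fun t ht => by
    rw [show t * k * t⁻¹ * k⁻¹ = t * (k * t⁻¹ * k⁻¹) by group]
    exact mul_mem ht (L.norm k hk _ (inv_mem ht))
  have hinj : Function.Injective fun t : L.P => (⟨t.1 * k * t.1⁻¹ * k⁻¹, hmem t.1 t.2⟩ : L.P) := by
    intro t u e
    have e' : t.1 * k * t.1⁻¹ = u.1 * k * u.1⁻¹ := mul_right_cancel (congrArg Subtype.val e)
    have hc : Commute k (u.1⁻¹ * t.1) := by
      show k * (u.1⁻¹ * t.1) = u.1⁻¹ * t.1 * k
      calc k * (u.1⁻¹ * t.1) = u.1⁻¹ * (u.1 * k * u.1⁻¹) * t.1 := by group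
        _ = u.1⁻¹ * (t.1 * k * t.1⁻¹) * t.1 := by rw [e']
        _ = u.1⁻¹ * t.1 * k := by group
    exact Subtype.ext (inv_mul_eq_one.mp ((L.fpf k hk _ (mul_mem (inv_mem u.2) t.2) hc).resolve_left hk1)).symm
  obtain ⟨⟨t, ht⟩, e⟩ := (Finite.injective_iff_surjective.mp hinj) ⟨s, hs⟩
  refine isConj_iff.mpr ⟨t, ?_⟩
  rw [← show t * k * t⁻¹ * k⁻¹ = s from congrArg Subtype.val e]
  group

include hG in
/-- The sum over the normaliser from the sum over the complement. -/
theorem sum_normalizer :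
    ∑ g : L.N, (T.irr 1 : G → ℂ) g = 45 + 9 * ((∑ g : L.K, (T.irr 1 : G → ℂ) g) - 21) := by
  set f : G → ℂ := (T.irr 1 : G → ℂ)
  have hbij : els L.N = (els L.P ×ˢ els L.K).image fun p => p.1 * p.2 := by
    ext n
    simp only [mem_els, Finset.mem_image, Finset.mem_product, Prod.exists]
    exact ⟨fun hn => by obtain ⟨s, hs, k, hk, rfl⟩ := L.exists_decomp hn; exact ⟨s, k, ⟨hs, hk⟩, rfl⟩,
      fun ⟨s, k, ⟨hs, hk⟩, e⟩ => e ▸ mul_mem (L.P_le hs) (L.K_le hk)⟩
  rw [sum_els, sum_els, hbij, Finset.sum_image (fun p hp q hq e => ?_), Finset.sum_product_right,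
    ← Finset.add_sum_erase _ _ (mem_els.mpr L.K.one_mem)]
  · have hP : ∑ s ∈ els L.P, f (s * 1) = 45 := by
      simp only [mul_one]
      rw [← Finset.add_sum_erase _ _ (mem_els.mpr L.P.one_mem),
        Finset.sum_congr rfl (g := fun _ => (3 : ℂ)) fun s hs => chi_three T hG
          (L.ord s (mem_els.mp (Finset.mem_erase.mp hs).2) (Finset.mem_erase.mp hs).1),
        Finset.sum_const, Finset.card_erase_of_mem (mem_els.mpr L.P.one_mem), card_els, L.hP, show f 1 = (21 : ℂ) from chi_one T]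
      norm_num
    rw [hP, Finset.sum_congr rfl (g := fun k => (9 : ℂ) * f k) fun k hk => by
      rw [Finset.sum_congr rfl (g := fun _ => f k) fun s hs =>
        (M12Classes.value_conj (T.irr 1) (coset_conj hG L (mem_els.mp hs) (mem_els.mp (Finset.mem_erase.mp hk).2)
          (Finset.mem_erase.mp hk).1)).symm, Finset.sum_const, card_els, L.hP, nsmul_eq_mul]
      norm_num, ← Finset.mul_sum]
    congr 1
    rw [← Finset.add_sum_erase _ f (mem_els.mpr L.K.one_mem), show f 1 = 21 from chi_one T]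
    ring
  · obtain ⟨hp1, hp2⟩ := Finset.mem_product.mp hp
    obtain ⟨hq1, hq2⟩ := Finset.mem_product.mp hq
    rw [mem_els] at hp1 hp2 hq1 hq2
    have e' : p.1 * p.2 = q.1 * q.2 := e
    have h1 : q.1⁻¹ * p.1 = q.2 * p.2⁻¹ := by
      calc q.1⁻¹ * p.1 = q.1⁻¹ * (p.1 * p.2) * p.2⁻¹ := by group
        _ = q.2 * p.2⁻¹ := by rw [e']; group
    have h2 := L.disjoint (mul_mem (inv_mem hq1) hp1) (h1 ▸ mul_mem hq2 (inv_mem hp2))
    rw [h2] at h1
    exact Prod.ext (inv_mul_eq_one.mp h2).symm (mul_inv_eq_one.mp h1.symm).symm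

omit [IsSimpleGroup G] in
theorem sq_cases {x : G} (h : x * x = 1 ∨ x * x = L.z) (h1 : x ≠ 1) : orderOf x = 2 ∨ orderOf x = 4 := by
  rcases h with h | h
  · exact Or.inl (orderOf_eq_prime (by rw [pow_two, h]) h1)
  · refine Or.inr ?_
    have : Fact (Nat.Prime 2) := ⟨Nat.prime_two⟩
    have hz1 : L.z ≠ 1 := fun e => by have := L.zo; rw [e, orderOf_one] at this; omega
    exact orderOf_eq_prime_pow (p := 2) (n := 1) (by rw [pow_one, pow_two, h]; exact hz1)
      (by rw [show (2 : ℕ) ^ (1 + 1) = 2 * 2 by norm_num, pow_mul, pow_two x, h, ← L.zo, pow_orderOf_eq_one])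

include hG in
theorem chi_two_or_four {x : G} (h : orderOf x = 2 ∨ orderOf x = 4) : (T.irr 1 : G → ℂ) x = (val x : ℂ) := by
  rcases h with h | h
  · rw [chi_two T h, val, h]; norm_num
  · rw [chi_four T hG h, val, h]; norm_num

theorem val_pos (x : G) : 1 ≤ val x := by
  rw [val]; split_ifs <;> norm_num

theorem z_ne : L.z ≠ 1 := fun e => by have := L.zo; rw [e, orderOf_one] at this; omega

include hG in
/-- The fixed spaces in the quaternion case. -/
theorem sum_quaternion (h4 : ∀ k ∈ L.K, k ≠ 1 → k ≠ L.z → orderOf k = 4) :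
    ∑ g : L.K, (T.irr 1 : G → ℂ) g = 32 := by
  have hz : L.z ∈ (els L.K).erase 1 := Finset.mem_erase.mpr ⟨z_ne L, mem_els.mpr L.hz⟩
  rw [sum_els, ← Finset.add_sum_erase _ _ (mem_els.mpr L.K.one_mem), ← Finset.add_sum_erase _ _ hz, chi_one T,
    chi_two T L.zo, Finset.sum_congr rfl (g := fun _ => (1 : ℂ)) fun k hk => by
      simp only [Finset.mem_erase, mem_els] at hk
      exact chi_four T hG (h4 k hk.2.2 hk.2.1 hk.1),
    Finset.sum_const, Finset.card_erase_of_mem hz, Finset.card_erase_of_mem (mem_els.mpr L.K.one_mem),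
    card_els, L.hK]
  norm_num

omit [IsSimpleGroup G] in
theorem els_cyclic {c : G} (hc : c ∈ L.K) (h8 : orderOf c = 8) :
    els L.K = (Finset.range 8).image (c ^ ·) := by
  refine (Finset.eq_of_subset_of_card_le (fun x hx => ?_) ?_).symm
  · obtain ⟨i, -, rfl⟩ := Finset.mem_image.mp hx
    exact mem_els.mpr (pow_mem hc i)
  · rw [card_els, L.hK, Finset.card_image_of_injOn (fun a ha b hb e => pow_injOn_Iio_orderOf
      (by simpa [h8] using ha) (by simpa [h8] using hb) e), Finset.card_range]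

include hG in
theorem sum_cyclic {c : G} (hc : c ∈ L.K) (h8 : orderOf c = 8) : ∑ g : L.K, (T.irr 1 : G → ℂ) g = 24 := by
  have o1 : ∀ i, i.Coprime 8 → orderOf (c ^ i) = 8 := fun i hi => by
    rw [Nat.Coprime.orderOf_pow (h8 ▸ hi.symm), h8]
  have o4 : orderOf (c ^ 4) = 2 := by rw [orderOf_pow, h8]; rfl
  have o2 : orderOf (c ^ 2) = 4 := by rw [orderOf_pow, h8]; rfl
  have o6 : orderOf (c ^ 6) = 4 := by rw [orderOf_pow, h8]; rfl
  rw [sum_els, els_cyclic L hc h8, Finset.sum_image (fun a ha b hb e => pow_injOn_Iio_orderOf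
    (by simpa [h8] using ha) (by simpa [h8] using hb) e)]
  simp only [Finset.sum_range_succ, Finset.sum_range_zero]
  rw [pow_zero, chi_one T, chi_eight T hG (o1 1 (by decide)), chi_four T hG o2, chi_eight T hG (o1 3 (by decide)),
    chi_two T o4, chi_eight T hG (o1 5 (by decide)), chi_four T hG o6, chi_eight T hG (o1 7 (by decide))]
  norm_num

include hG in
/-- The proper subgroup containing the normaliser and an extension of the complement. -/
theorem exists_over {h : G} (hn : ∀ k ∈ L.K, h * k * h⁻¹ ∈ L.K) (h2 : h * h ∈ L.K) (hK : h ∉ L.K)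
    (hsq : ∀ k ∈ L.K, h * k * (h * k) = 1 ∨ h * k * (h * k) = L.z) {a k : ℕ} {bmin : ℕ}
    (hsk : ∑ g : L.K, (T.irr 1 : G → ℂ) g = (8 : ℂ) * k) (hsa : 45 + 9 * (8 * (k : ℤ) - 21) = 72 * a)
    (hlt : k < a + bmin) (hbig : 16 * bmin < 8 * k + (∑ x ∈ els L.K, val (h * x)) + 16) :
    ∃ M : Subgroup G, M ≠ ⊤ ∧ L.N ≤ M ∧ h ∈ M := by
  obtain ⟨hels, hdisj⟩ := card_double hn h2 hK
  set B := double L.K h hn h2
  have hBc : Nat.card B = 16 := by
    rw [← card_els, hels, Finset.card_union_of_disjoint hdisj,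
      Finset.card_image_of_injective _ (mul_right_injective h), card_els, L.hK]
  have hsum : ∑ g : B, (T.irr 1 : G → ℂ) g = ((8 * k + ∑ x ∈ els L.K, val (h * x) : ℕ) : ℂ) := by
    rw [sum_els, hels, Finset.sum_union hdisj, Finset.sum_image (fun a _ b _ e => mul_right_injective h e),
      ← sum_els, hsk, Nat.cast_add, Nat.cast_mul, Nat.cast_sum]
    congr 1
    refine Finset.sum_congr rfl fun x hx => chi_two_or_four T hG (sq_cases L (hsq x (mem_els.mp hx)) ?_)
    exact fun e => hK (eq_inv_of_mul_eq_one_left e ▸ inv_mem (mem_els.mp hx))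
  obtain ⟨n, ρ, hρ, he⟩ := (T.irr 1).2
  obtain ⟨b, hb⟩ : ∃ b : ℕ, ∑ g : B, (T.irr 1 : G → ℂ) g = (Nat.card B : ℂ) * b :=
    ⟨_, he ▸ M22Tools.sum_eq_invariants ρ B⟩
  have hb' : 8 * k + (∑ x ∈ els L.K, val (h * x)) = 16 * b := by
    have := hsum.symm.trans hb
    rw [hBc] at this
    exact_mod_cast this
  have hχ : T.irr 1 ≠ trivChar G := fun e => by
    have := congrArg (fun χ : IrrCharacter G => charDegree (χ : G → ℂ)) (e.trans T.triv.symm)
    simp only [T.deg] at this
    exact absurd this (by decide)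
  have hN : ∑ g : L.N, (T.irr 1 : G → ℂ) g = (Nat.card L.N : ℂ) * a := by
    rw [sum_normalizer T hG L, hsk, show Nat.card L.N = 72 from L.hN]
    have h0 : ((45 + 9 * (8 * (k : ℤ) - 21) : ℤ) : ℂ) = ((72 * a : ℤ) : ℂ) := by rw [hsa]
    push_cast at h0 ⊢
    exact h0
  obtain ⟨M, hM, hNM, hBM⟩ := exists_proper (k := k) (T.irr 1) hχ L.K_le (B := B) (fun x hx => Or.inl hx) hN hb
    (hsk.trans (by rw [L.hK]; norm_num)) (by omega)
  exact ⟨M, hM, hNM, hBM (Or.inr h2)⟩

omit [IsSimpleGroup G] in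
/-- The elements commuting with `z` in the normaliser lie in the complement. -/
theorem not_mem_N {h : G} (hz : Commute h L.z) (hK : h ∉ L.K) : h ∉ L.N := fun hN => hK (L.mem_K_of_comm hN hz)

include T hG in
/-- The cyclic case. -/
theorem exists_cyclic {c : G} (hc : c ∈ L.K) (h8 : orderOf c = 8) :
    ∃ M : Subgroup G, M ≠ ⊤ ∧ L.N ≤ M ∧ ∃ g ∈ M, g ∉ L.N ∧ g * g ∈ L.K ∧ g * c * g⁻¹ = c ^ 3 := by
  have h3 : orderOf (c ^ 3) = 8 := by rw [Nat.Coprime.orderOf_pow (by rw [h8]; decide), h8]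
  obtain ⟨g, hg⟩ := isConj_iff.mp (eight_conj T hG h8 h3)
  have hzc : c ^ 4 = L.z := L.zuniq _ (pow_mem hc 4) (by rw [orderOf_pow, h8]; rfl)
  have hgz : Commute g L.z := by
    refine mul_inv_eq_iff_eq_mul.mp ?_
    rw [← hzc, ← conj_pow, hg, ← pow_mul, show 3 * 4 = 4 + 8 by norm_num, pow_add, ← h8, pow_orderOf_eq_one,
      mul_one]
  have hC : centralizer ({c} : Set G) = zpowers c := (eq_of_le_of_card_ge
    (zpowers_le.mpr (mem_centralizer_singleton_iff.mpr rfl))
    (by rw [card_eight T hG h8, Nat.card_zpowers, h8])).symm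
  have hgg : g * g ∈ centralizer ({c} : Set G) := by
    rw [mem_centralizer_singleton_iff]
    refine mul_inv_eq_iff_eq_mul.mp ?_
    rw [show g * g * c * (g * g)⁻¹ = g * (g * c * g⁻¹) * g⁻¹ by group, hg, ← conj_pow, hg, ← pow_mul,
      show 3 * 3 = 1 + 8 by norm_num, pow_add, ← h8, pow_orderOf_eq_one, mul_one, pow_one]
  rw [hC, ← mem_powers_iff_mem_zpowers] at hgg
  obtain ⟨j, hj : c ^ j = g * g⟩ := hgg
  have hj4 : g * g = 1 ∨ g * g = L.z := by
    have h1 : c ^ (3 * j) = c ^ j := by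
      rw [pow_mul, ← hg, conj_pow, hj]; group
    rw [pow_eq_pow_iff_modEq, h8, Nat.ModEq] at h1
    rw [← hj, ← pow_mod_orderOf, h8]
    have : j % 8 = 0 ∨ j % 8 = 4 := by omega
    rcases this with e | e <;> rw [e]
    · exact Or.inl (pow_zero c)
    · exact Or.inr hzc
  have hgK : g ∉ L.K := fun h => by
    have hc' : Commute g c := by
      have h' : g ∈ zpowers c := by
        rw [eq_of_le_of_card_ge (zpowers_le.mpr hc) (by rw [L.hK, Nat.card_zpowers, h8])]
        exact h
      obtain ⟨i, rfl⟩ := mem_zpowers_iff.mp h'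
      exact Commute.zpow_self c i
    rw [hc'.eq, mul_inv_cancel_right] at hg
    have e := pow_eq_pow_iff_modEq.mp (show c ^ 1 = c ^ 3 by rw [pow_one]; exact hg)
    rw [h8] at e
    exact absurd e (by decide)
  have hg2 : g * g ∈ L.K := hj ▸ pow_mem hc j
  have hpow : ∀ i : ℕ, g * c ^ i * g⁻¹ = c ^ (3 * i) := fun i => by rw [← conj_pow, hg, pow_mul]
  have hn : ∀ k ∈ L.K, g * k * g⁻¹ ∈ L.K := fun k hk => by
    obtain ⟨i, -, rfl⟩ := Finset.mem_image.mp (els_cyclic L hc h8 ▸ mem_els.mpr hk)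
    rw [hpow i]
    exact pow_mem hc _
  have hsquare : ∀ i : ℕ, g * c ^ i * (g * c ^ i) = c ^ (4 * i) * (g * g) := fun i => by
    have hcomm : Commute (g * g) (c ^ i) := hj ▸ Commute.pow_pow_self c j i
    calc g * c ^ i * (g * c ^ i) = g * c ^ i * g⁻¹ * ((g * g) * c ^ i) := by group
      _ = g * c ^ i * g⁻¹ * (c ^ i * (g * g)) := by rw [hcomm.eq]
      _ = c ^ (4 * i) * (g * g) := by rw [hpow i, ← mul_assoc, ← pow_add, show 3 * i + i = 4 * i by ring]
  have hsq : ∀ k ∈ L.K, g * k * (g * k) = 1 ∨ g * k * (g * k) = L.z := fun k hk => by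
    obtain ⟨i, -, rfl⟩ := Finset.mem_image.mp (els_cyclic L hc h8 ▸ mem_els.mpr hk)
    rw [hsquare i, pow_mul, hzc]
    have hzz : L.z * L.z = 1 := by rw [← pow_two, ← L.zo, pow_orderOf_eq_one]
    rw [← pow_mod_orderOf L.z, L.zo]
    rcases Nat.mod_two_eq_zero_or_one i with e | e <;> rw [e] <;> rcases hj4 with e' | e' <;> rw [e']
    · exact Or.inl (by rw [pow_zero, mul_one])
    · exact Or.inr (by rw [pow_zero, one_mul])
    · exact Or.inr (by rw [pow_one, mul_one])
    · exact Or.inl (by rw [pow_one, hzz])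
  -- one of the eight products is an involution
  obtain ⟨y, hy, hy5⟩ : ∃ y ∈ els L.K, val (g * y) = 5 := by
    have hv : ∀ y : G, y * y = 1 → y ≠ 1 → val y = 5 := fun y h1 h2 => by
      rw [val, orderOf_eq_prime (p := 2) (by rw [pow_two, h1]) h2]; norm_num
    rcases hj4 with e | e
    · refine ⟨1, mem_els.mpr L.K.one_mem, hv _ (by rw [mul_one]; exact e) (by rw [mul_one]; exact fun e' => hgK (e' ▸ L.K.one_mem))⟩
    · refine ⟨c, mem_els.mpr hc, hv _ ?_ fun e' => hgK (eq_inv_of_mul_eq_one_left e' ▸ inv_mem hc)⟩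
      have := hsquare 1
      rw [pow_one, e, mul_one, hzc, ← pow_two L.z, ← L.zo, pow_orderOf_eq_one] at this
      exact this
  have h12 : 12 ≤ ∑ x ∈ els L.K, val (g * x) := by
    rw [← Finset.add_sum_erase _ _ hy, hy5]
    have h := Finset.card_nsmul_le_sum ((els L.K).erase y) (fun x => val (g * x)) 1 fun x _ => val_pos _
    rw [Finset.card_erase_of_mem hy, card_els, L.hK, smul_eq_mul, mul_one] at h
    omega
  obtain ⟨M, hM, hNM, hgM⟩ := exists_over T hG L hn hg2 hgK hsq (a := 1) (k := 3) (bmin := 3)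
    (by rw [sum_cyclic T hG L hc h8]; norm_num) (by norm_num) (by norm_num) (by omega)
  exact ⟨M, hM, hNM, g, hgM, not_mem_N L hgz hgK, hg2, hg⟩

omit [IsSimpleGroup G] in
/-- The cosets of `⟨a⟩`, as sets. -/
theorem coset_count {a : G} (ha : orderOf a = 4) (S : Finset G) (hS : ∀ c ∈ S, ∀ x ∈ zpowers a, c * x ∈ S) :
    S.card = 4 * (S.image fun c => (els (zpowers a)).image (c * ·)).card := by
  have h := Finset.card_eq_sum_card_fiberwise (f := fun c => (els (zpowers a)).image (c * ·))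
    (t := S.image fun c => (els (zpowers a)).image (c * ·)) (s := S) fun c hc => Finset.mem_image_of_mem _ hc
  rw [Finset.sum_congr rfl (g := fun _ => 4) fun o ho => ?_, Finset.sum_const, smul_eq_mul, mul_comm] at h
  · exact h
  · obtain ⟨c₀, hc₀, rfl⟩ := Finset.mem_image.mp ho
    have e : S.filter (fun c => (els (zpowers a)).image (c * ·) = (els (zpowers a)).image (c₀ * ·)) =
        (els (zpowers a)).image (c₀ * ·) := by
      ext d
      simp only [Finset.mem_filter, Finset.mem_image, mem_els]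
      constructor
      · rintro ⟨-, hd⟩
        have h1 : d ∈ (els (zpowers a)).image (d * ·) :=
          Finset.mem_image.mpr ⟨1, mem_els.mpr (one_mem _), mul_one d⟩
        rw [hd] at h1
        obtain ⟨x, hx, hxe⟩ := Finset.mem_image.mp h1
        exact ⟨x, mem_els.mp hx, hxe⟩
      · rintro ⟨x, hx, rfl⟩
        refine ⟨hS c₀ hc₀ x hx, Finset.ext fun y => ?_⟩
        simp only [Finset.mem_image, mem_els]
        exact ⟨fun ⟨u, hu, e⟩ => ⟨x * u, mul_mem hx hu, by rw [← mul_assoc]; exact e⟩,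
          fun ⟨u, hu, e⟩ => ⟨x⁻¹ * u, mul_mem (inv_mem hx) hu, by rw [← e]; group⟩⟩
    rw [e, Finset.card_image_of_injective _ (mul_right_injective c₀), card_els, Nat.card_zpowers, ha]

omit [IsSimpleGroup G] in
theorem coset_eq_iff {a c d : G} :
    (els (zpowers a)).image (c * ·) = (els (zpowers a)).image (d * ·) ↔ d⁻¹ * c ∈ zpowers a := by
  constructor
  · intro h
    have h1 : c ∈ (els (zpowers a)).image (c * ·) :=
      Finset.mem_image.mpr ⟨1, mem_els.mpr (one_mem _), mul_one c⟩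
    rw [h] at h1
    obtain ⟨x, hx, e⟩ := Finset.mem_image.mp h1
    rw [show d⁻¹ * c = x by rw [← e]; group]
    exact mem_els.mp hx
  · intro h
    ext y
    simp only [Finset.mem_image, mem_els]
    exact ⟨fun ⟨u, hu, e⟩ => ⟨d⁻¹ * c * u, mul_mem h hu, by rw [← e]; group⟩,
      fun ⟨u, hu, e⟩ => ⟨(d⁻¹ * c)⁻¹ * u, mul_mem (inv_mem h) hu, by rw [← e]; group⟩⟩

include T hG in
/-- An element outside the quaternion group centralising it, with square in its centre. -/
theorem exists_centralising {a b : G} (ha : a ∈ L.K) (hb : b ∈ L.K) (hao : orderOf a = 4) (hbo : orderOf b = 4)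
    (hba : b * a * b⁻¹ = a⁻¹) :
    ∃ h : G, Commute h a ∧ Commute h b ∧ (h * h = 1 ∨ h * h = L.z) ∧ h ∉ zpowers a := by
  set A := zpowers a
  set cs : G → Finset G := fun c => (els A).image (c * ·)
  set C := els (centralizer ({a} : Set G))
  have hz2 : a * a = L.z := L.sq_eq_z ha hao
  have hbb : b * b = L.z := L.sq_eq_z hb hbo
  have hzz : L.z * L.z = 1 := by rw [← pow_two, ← L.zo, pow_orderOf_eq_one]
  have hAC : ∀ x ∈ A, Commute x a := fun x hx => by
    obtain ⟨i, rfl⟩ := mem_zpowers_iff.mp hx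
    exact Commute.zpow_self a i
  have hC : ∀ c, c ∈ C ↔ Commute c a := fun c => by rw [mem_els, mem_centralizer_singleton_iff]; rfl
  have hcx : ∀ c ∈ C, ∀ x ∈ A, Commute c x := fun c hc x hx => by
    obtain ⟨i, rfl⟩ := mem_zpowers_iff.mp hx
    exact ((hC c).mp hc).zpow_right i
  have hA4 : ∀ x ∈ A, x = 1 ∨ x = a ∨ x = L.z ∨ x = a⁻¹ := fun x hx => by
    rw [← mem_powers_iff_mem_zpowers] at hx
    obtain ⟨i, rfl : a ^ i = x⟩ := hx
    rw [← pow_mod_orderOf, hao]
    have : i % 4 < 4 := Nat.mod_lt _ (by norm_num)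
    interval_cases i % 4
    · exact Or.inl (pow_zero a)
    · exact Or.inr (Or.inl (pow_one a))
    · exact Or.inr (Or.inr (Or.inl (by rw [pow_two, hz2])))
    · exact Or.inr (Or.inr (Or.inr (eq_inv_of_mul_eq_one_left (by
        rw [← pow_succ, show 3 + 1 = orderOf a from hao.symm, pow_orderOf_eq_one]))))
  set E := C.filter fun c => c * c ∈ A
  set Good := C.filter fun c => (c * c = 1 ∨ c * c = L.z) ∧ c ∉ A
  set Bad := C.filter fun c => c * c = a ∨ c * c = a⁻¹
  have hxx : ∀ x ∈ A, x * x = 1 ∨ x * x = L.z := fun x hx => by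
    rcases hA4 x hx with rfl | rfl | rfl | rfl
    · exact Or.inl (one_mul 1)
    · exact Or.inr hz2
    · exact Or.inl hzz
    · exact Or.inr (by rw [← mul_inv_rev, hz2]; exact inv_eq_of_mul_eq_one_right hzz)
  have hmul : ∀ c ∈ C, ∀ x ∈ A, c * x ∈ C ∧ c * x * (c * x) = c * c * (x * x) := fun c hc x hx =>
    ⟨(hC _).mpr (((hC c).mp hc).mul_left (hAC x hx)), (hcx c hc x hx).symm.mul_mul_mul_comm c x⟩
  have hGood : ∀ c ∈ Good, ∀ x ∈ A, c * x ∈ Good := fun c hc x hx => by
    obtain ⟨hc1, hc2, hc3⟩ := Finset.mem_filter.mp hc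
    obtain ⟨h1, h2⟩ := hmul c hc1 x hx
    refine Finset.mem_filter.mpr ⟨h1, ?_, fun h => hc3 ((A.mul_mem_cancel_right hx).mp h)⟩
    rw [h2]
    rcases hxx x hx with e | e <;> rw [e] <;> rcases hc2 with e' | e' <;> rw [e']
    exacts [Or.inl (mul_one 1), Or.inr (mul_one _), Or.inr (one_mul _), Or.inl hzz]
  have hE : ∀ c ∈ E, ∀ x ∈ A, c * x ∈ E := fun c hc x hx => by
    obtain ⟨hc1, hc2⟩ := Finset.mem_filter.mp hc
    obtain ⟨h1, h2⟩ := hmul c hc1 x hx
    exact Finset.mem_filter.mpr ⟨h1, h2 ▸ mul_mem hc2 (mul_mem hx hx)⟩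
  have hCall : ∀ c ∈ C, ∀ x ∈ A, c * x ∈ C := fun c hc x hx => (hmul c hc x hx).1
  -- the self-inverse cosets are even in number
  have hEeven : Even (E.image cs).card := by
    have hinv : ∀ c ∈ C, (cs c).image (·⁻¹) = cs c⁻¹ := fun c hc => by
      ext y
      simp only [cs, Finset.mem_image, mem_els]
      constructor
      · rintro ⟨_, ⟨x, hx, rfl⟩, rfl⟩
        exact ⟨x⁻¹, inv_mem hx, by rw [mul_inv_rev]; exact ((hcx c hc x hx).inv_inv).eq⟩
      · rintro ⟨x, hx, rfl⟩
        exact ⟨c * x⁻¹, ⟨x⁻¹, inv_mem hx, rfl⟩, by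
          rw [mul_inv_rev, inv_inv]; exact ((hcx c hc x hx).inv_left).symm.eq⟩
    have hm := even_moved (C.image cs) (fun S => S.image (·⁻¹)) (fun S hS => by
      obtain ⟨c, hc, rfl⟩ := Finset.mem_image.mp hS
      exact Finset.mem_image.mpr ⟨c⁻¹, (hC _).mpr ((hC c).mp hc).inv_left, (hinv c hc).symm⟩) (fun S _ => by
        rw [Finset.image_image]; simp)
    have hfix : (C.image cs).filter (fun S => S.image (·⁻¹) = S) = E.image cs := by
      ext S
      simp only [Finset.mem_filter, Finset.mem_image]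
      constructor
      · rintro ⟨⟨c, hc, rfl⟩, h⟩
        refine ⟨c, Finset.mem_filter.mpr ⟨hc, ?_⟩, rfl⟩
        rw [hinv c hc, coset_eq_iff] at h
        have := inv_mem h
        rwa [mul_inv_rev, inv_inv] at this
      · rintro ⟨c, hc, rfl⟩
        obtain ⟨hc1, hc2⟩ := Finset.mem_filter.mp hc
        refine ⟨⟨c, hc1, rfl⟩, ?_⟩
        rw [hinv c hc1, coset_eq_iff, ← mul_inv_rev]
        exact inv_mem hc2
    have hsum := Finset.card_filter_add_card_filter_not (s := C.image cs) fun S => S.image (·⁻¹) = S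
    rw [hfix] at hsum
    have h4 := coset_count hao C hCall
    have hCc : C.card = Nat.card (centralizer ({a} : Set G)) := card_els _
    obtain ⟨r, hr⟩ := hm
    rcases card_four T hG hao with ⟨e, -⟩ | ⟨e, -⟩ <;> rw [hCc, e] at h4 <;>
      refine even_iff_two_dvd.mpr ?_ <;> simp only [cs, A, ne_eq] at * <;> omega
  -- the bad elements are square roots of the two generators
  have hBadc : Bad.card = 0 ∨ Bad.card = 8 := by
    have hroot : ∀ u : G, u = a ∨ u = a⁻¹ → ∀ s, s * s = u → s ∈ C := fun u hu s hs => (hC s).mpr (by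
      have h1 : Commute s u := hs ▸ (Commute.refl s).mul_right (Commute.refl s)
      rcases hu with rfl | rfl
      exacts [h1, Commute.inv_right_iff.mp h1])
    have hsplit : Bad = (Finset.univ.filter fun s : G => s * s = a) ∪ Finset.univ.filter fun s : G => s * s = a⁻¹ := by
      ext s
      simp only [Bad, Finset.mem_filter, Finset.mem_univ, true_and, Finset.mem_union]
      exact ⟨fun h => h.2, fun h => ⟨h.elim (hroot a (Or.inl rfl) s) (hroot a⁻¹ (Or.inr rfl) s), h⟩⟩
    have hne : a ≠ a⁻¹ := fun e => by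
      have : a * a = 1 := by conv_lhs => arg 2; rw [e]
                             exact mul_inv_cancel a
      exact z_ne L (hz2.symm.trans this)
    have hinvcard : (Finset.univ.filter fun s : G => s * s = a⁻¹).card =
        (Finset.univ.filter fun s : G => s * s = a).card := by
      refine Finset.card_bij' (fun s _ => s⁻¹) (fun s _ => s⁻¹) (fun s hs => ?_) (fun s hs => ?_)
        (fun s _ => inv_inv s) fun s _ => inv_inv s
      · simp only [Finset.mem_filter, Finset.mem_univ, true_and] at hs ⊢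
        rw [← mul_inv_rev, hs, inv_inv]
      · simp only [Finset.mem_filter, Finset.mem_univ, true_and] at hs ⊢
        rw [← mul_inv_rev, hs]
    rw [hsplit, Finset.card_union_of_disjoint (Finset.disjoint_filter.mpr fun s _ h1 h2 => hne (h1.symm.trans h2)),
      hinvcard, ← Fintype.card_subtype, ← Nat.card_eq_fintype_card]
    rcases card_four T hG hao with ⟨-, e⟩ | ⟨-, e⟩ <;> rw [e]
    exacts [Or.inl rfl, Or.inr rfl]
  have hsplit : E.card = Good.card + Bad.card + 4 := by
    have hU : E = Good ∪ Bad ∪ els A := by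
      ext c
      simp only [E, Good, Bad, Finset.mem_filter, Finset.mem_union, mem_els]
      constructor
      · rintro ⟨hc, hcc⟩
        by_cases hcA : c ∈ A
        · exact Or.inr hcA
        · rcases hA4 _ hcc with h | h | h | h
          exacts [Or.inl (Or.inl ⟨hc, Or.inl h, hcA⟩), Or.inl (Or.inr ⟨hc, Or.inl h⟩),
            Or.inl (Or.inl ⟨hc, Or.inr h, hcA⟩), Or.inl (Or.inr ⟨hc, Or.inr h⟩)]
      · rintro ((⟨hc, h, -⟩ | ⟨hc, h⟩) | h)
        · refine ⟨hc, ?_⟩
          rcases h with h | h <;> rw [h]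
          exacts [one_mem _, hz2 ▸ mul_mem (mem_zpowers a) (mem_zpowers a)]
        · refine ⟨hc, ?_⟩
          rcases h with h | h <;> rw [h]
          exacts [mem_zpowers a, inv_mem (mem_zpowers a)]
        · exact ⟨(hC c).mpr (hAC c h), mul_mem h h⟩
    have hne : ∀ u : G, (u = 1 ∨ u = L.z) → u ≠ a ∧ u ≠ a⁻¹ := by
      have hz1 := z_ne L
      have ha1 : a ≠ 1 := fun e => by rw [e, orderOf_one] at hao; omega
      have haz : a ≠ L.z := fun e => by have := L.zo; rw [← e] at this; omega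
      rintro u (rfl | rfl)
      · exact ⟨ha1.symm, fun e => ha1 (inv_eq_one.mp e.symm)⟩
      · exact ⟨haz.symm, fun e => haz (by rw [← inv_inv a, ← e, inv_eq_of_mul_eq_one_right hzz])⟩
    rw [hU, Finset.card_union_of_disjoint, Finset.card_union_of_disjoint, card_els, Nat.card_zpowers, hao]
    · refine Finset.disjoint_filter.mpr fun c _ h1 h2 => ?_
      obtain ⟨n1, n2⟩ := hne _ h1.1
      exact h2.elim n1 n2
    · refine Finset.disjoint_left.mpr fun c hc hA => ?_
      rcases Finset.mem_union.mp hc with h | h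
      · exact (Finset.mem_filter.mp h).2.2 (mem_els.mp hA)
      · obtain ⟨n1, n2⟩ := hne _ (hxx c (mem_els.mp hA))
        exact (Finset.mem_filter.mp h).2.elim n1 n2
  have h4E := coset_count hao E hE
  have h4G := coset_count hao Good hGood
  have hodd : ¬ Even (Good.image cs).card := fun h => by
    obtain ⟨r, hr⟩ := h
    obtain ⟨r', hr'⟩ := hEeven
    simp only [cs, A] at *
    omega
  -- conjugation by `b` fixes one of the good cosets
  have hbA : ∀ x ∈ A, b * x * b⁻¹ = x⁻¹ := fun x hx => by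
    obtain ⟨i, rfl⟩ := mem_zpowers_iff.mp hx
    rw [← conj_zpow, hba, inv_zpow]
  have hbcs : ∀ c, (cs c).image (fun y => b * y * b⁻¹) = cs (b * c * b⁻¹) := fun c => by
    ext y
    simp only [cs, Finset.mem_image, mem_els]
    constructor
    · rintro ⟨_, ⟨x, hx, rfl⟩, rfl⟩
      exact ⟨x⁻¹, inv_mem hx, by rw [← hbA x hx]; group⟩
    · rintro ⟨x, hx, rfl⟩
      refine ⟨c * x⁻¹, ⟨x⁻¹, inv_mem hx, rfl⟩, ?_⟩
      have := hbA x⁻¹ (inv_mem hx)
      rw [inv_inv] at this
      conv_rhs => rw [← this]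
      group
  have hbz : Commute b L.z := L.z_comm hb
  have hbGood : ∀ c ∈ Good, b * c * b⁻¹ ∈ Good := fun c hc => by
    obtain ⟨hc1, hc2, hc3⟩ := Finset.mem_filter.mp hc
    refine Finset.mem_filter.mpr ⟨(hC _).mpr ?_, ?_, fun h => hc3 ?_⟩
    · have h1 := conj_commute b ((hC c).mp hc1)
      rw [hba] at h1
      exact Commute.inv_right_iff.mp h1
    · rw [show b * c * b⁻¹ * (b * c * b⁻¹) = b * (c * c) * b⁻¹ by group]
      rcases hc2 with e | e <;> rw [e]
      · exact Or.inl (by group)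
      · exact Or.inr (by rw [hbz.eq, mul_inv_cancel_right])
    · have h1 := hbA _ h
      have h2 : b * (b * c * b⁻¹) * b⁻¹ = L.z * c * L.z⁻¹ := by rw [← hbb]; group
      rw [h2] at h1
      have hzA : L.z ∈ A := hz2 ▸ mul_mem (mem_zpowers a) (mem_zpowers a)
      rw [(hcx c hc1 _ hzA).symm.eq, mul_inv_cancel_right] at h1
      rw [h1]
      exact inv_mem h
  have hmoved := even_moved (Good.image cs) (fun S => S.image fun y => b * y * b⁻¹) (fun S hS => by
    obtain ⟨c, hc, rfl⟩ := Finset.mem_image.mp hS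
    exact Finset.mem_image.mpr ⟨_, hbGood c hc, (hbcs c).symm⟩) (fun S hS => by
    obtain ⟨c, hc, rfl⟩ := Finset.mem_image.mp hS
    rw [hbcs, hbcs]
    have hzA : L.z ∈ A := hz2 ▸ mul_mem (mem_zpowers a) (mem_zpowers a)
    congr 1
    calc b * (b * c * b⁻¹) * b⁻¹ = b * b * c * (b * b)⁻¹ := by group
      _ = c := by rw [hbb, (hcx c (Finset.mem_filter.mp hc).1 _ hzA).symm.eq, mul_inv_cancel_right])
  obtain ⟨S, hS, hfixS⟩ : ∃ S ∈ Good.image cs, S.image (fun y => b * y * b⁻¹) = S := by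
    by_contra hno
    push Not at hno
    exact hodd (by convert hmoved using 2; exact (@Finset.filter_eq_self _ _ (_) _ |>.mpr hno).symm)
  obtain ⟨c, hc, rfl⟩ := Finset.mem_image.mp hS
  rw [hbcs, coset_eq_iff] at hfixS
  obtain ⟨hc1, hc2, hc3⟩ := Finset.mem_filter.mp hc
  set x := c⁻¹ * (b * c * b⁻¹) with hx
  have hbc : b * c * b⁻¹ = c * x := by rw [hx]; group
  have hsq : x * x = 1 := by
    have h1 := (hmul c hc1 x hfixS).2
    rw [← hbc, show b * c * b⁻¹ * (b * c * b⁻¹) = b * (c * c) * b⁻¹ by group] at h1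
    have h3 : b * (c * c) * b⁻¹ = c * c := by
      rcases hc2 with e | e <;> rw [e]
      · group
      · rw [hbz.eq, mul_inv_cancel_right]
    rw [h3] at h1
    exact mul_left_cancel (h1.symm.trans (mul_one _).symm)
  have ha1 : a ≠ 1 := fun e => by rw [e, orderOf_one] at hao; omega
  rcases hA4 x hfixS with e | e | e | e
  · rw [e, mul_one] at hbc
    exact ⟨c, (hC c).mp hc1, (mul_inv_eq_iff_eq_mul.mp hbc).symm, hc2, hc3⟩
  · exact absurd (hz2.symm.trans (e ▸ hsq)) (z_ne L)
  · obtain ⟨h1, h2⟩ := hmul c hc1 a (mem_zpowers a)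
    refine ⟨c * a, (hC _).mp h1, ?_, ?_, fun h => hc3 ((A.mul_mem_cancel_right (mem_zpowers a)).mp h)⟩
    · refine (mul_inv_eq_iff_eq_mul.mp ?_).symm
      rw [show b * (c * a) * b⁻¹ = b * c * b⁻¹ * (b * a * b⁻¹) by group, hbc, e, hba, ← hz2]
      group
    · rw [h2, hz2]
      rcases hc2 with e' | e' <;> rw [e']
      exacts [Or.inr (one_mul _), Or.inl hzz]
  · exfalso
    rw [e, ← mul_inv_rev, inv_eq_one, hz2] at hsq
    exact z_ne L hsq

include T hG in
/-- The quaternion case. -/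
theorem exists_quaternion (h4 : ∀ k ∈ L.K, k ≠ 1 → k ≠ L.z → orderOf k = 4) {a b : G} (ha : a ∈ L.K)
    (hb : b ∈ L.K) (hao : orderOf a = 4) (hbo : orderOf b = 4) (hbn : b ∉ zpowers a) (hba : b * a * b⁻¹ = a⁻¹)
    (hcov : ∀ k ∈ L.K, k ∈ zpowers a ∨ b⁻¹ * k ∈ zpowers a) :
    ∃ M : Subgroup G, M ≠ ⊤ ∧ L.N ≤ M ∧ ∃ g ∈ M, g ∉ L.N ∧ ∀ k ∈ L.K, Commute g k := by
  obtain ⟨h, hha, hhb, hh2, hhA⟩ := exists_centralising T hG L ha hb hao hbo hba
  have hhK : ∀ k ∈ L.K, Commute h k := fun k hk => by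
    rcases hcov k hk with e | e <;> obtain ⟨i, hi⟩ := mem_zpowers_iff.mp e
    · exact hi ▸ hha.zpow_right i
    · rw [show k = b * a ^ i by rw [hi]; group]
      exact hhb.mul_right (hha.zpow_right i)
  have hnK : h ∉ L.K := fun hk => by
    refine hhA ((hcov h hk).resolve_right fun e => ?_)
    obtain ⟨i, hi⟩ := mem_zpowers_iff.mp e
    have hc : Commute b a := by
      have h1 : b = h * (a ^ i)⁻¹ := by rw [hi]; group
      rw [h1]
      exact hha.mul_left (Commute.zpow_self a i).inv_left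
    rw [hc.eq, mul_inv_cancel_right] at hba
    have : a * a = 1 := by conv_lhs => arg 2; rw [hba]
                           exact mul_inv_cancel a
    exact z_ne L ((L.sq_eq_z ha hao).symm.trans this)
  have hzz : L.z * L.z = 1 := by rw [← pow_two, ← L.zo, pow_orderOf_eq_one]
  have hsq : ∀ k ∈ L.K, h * k * (h * k) = 1 ∨ h * k * (h * k) = L.z := fun k hk => by
    rw [(hhK k hk).symm.mul_mul_mul_comm h k]
    rcases L.orders_K hk with e | e | e | e
    · rw [e, one_mul, mul_one]; exact hh2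
    · rw [e, hzz, mul_one]; exact hh2
    · rw [L.sq_eq_z hk e]
      rcases hh2 with e' | e' <;> rw [e']
      exacts [Or.inr (one_mul _), Or.inl hzz]
    · exfalso
      by_cases k1 : k = 1
      · rw [k1, orderOf_one] at e; omega
      · by_cases k2 : k = L.z
        · rw [k2, L.zo] at e; omega
        · rw [h4 k hk k1 k2] at e; omega
  have hhsq : h * h ∈ L.K := by rcases hh2 with e | e <;> rw [e]; exacts [one_mem _, L.hz]
  have hpos : 8 ≤ ∑ x ∈ els L.K, val (h * x) := by
    have h := Finset.card_nsmul_le_sum (els L.K) (fun x => val (h * x)) 1 fun x _ => val_pos _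
    rwa [card_els, L.hK, smul_eq_mul, mul_one] at h
  obtain ⟨M, hM, hNM, hgM⟩ := exists_over T hG L (fun k hk => by
      rw [(hhK k hk).eq, mul_inv_cancel_right]; exact hk) hhsq hnK hsq (a := 2) (k := 4) (bmin := 3)
    (by rw [sum_quaternion T hG L h4]; norm_num) (by norm_num) (by norm_num) (by omega)
  exact ⟨M, hM, hNM, h, hgM, not_mem_N L (hhK L.z L.hz) hnK, hhK⟩

include T hG in
/-- A proper subgroup containing the Sylow 3-normaliser properly. -/
theorem exists_stabiliser : ∃ M : Subgroup G, M ≠ ⊤ ∧ L.N ≤ M ∧ ∃ g ∈ M, g ∉ L.N ∧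
    ((∀ k ∈ L.K, Commute g k) ∨ ∃ c ∈ L.K, orderOf c = 8 ∧ g * c * g⁻¹ = c ^ 3) := by
  rcases L.cases with ⟨c, hc, h8⟩ | ⟨h4, a, ha, b, hb, hao, hbo, hbn, hba, hcov⟩
  · obtain ⟨M, hM, hNM, g, hg, hgN, -, hgc⟩ := exists_cyclic T hG L hc h8
    exact ⟨M, hM, hNM, g, hg, hgN, Or.inr ⟨c, hc, h8, hgc⟩⟩
  · obtain ⟨M, hM, hNM, g, hg, hgN, hgK⟩ := exists_quaternion T hG L h4 ha hb hao hbo hbn hba hcov
    exact ⟨M, hM, hNM, g, hg, hgN, Or.inl hgK⟩

end CfsgLib.KGroups.M22Fix
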