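import Cfsg.Agent.Lib.KGroups.M22Tools

/-!
# Vanishing sums over the section of a generator in a principal block of prime order

The principal block of a Sylow subgroup of prime order, with the vanishing of the other characters on the
sections, and the values at elements of order two and three commuting with a generator.
-/

set_option autoImplicit false

namespace CfsgLib.KGroups.M22Frame

open Cfsg CfsgLib.Blocks CfsgLib.KGroups.M11Tools CfsgLib.KGroups.M11Local CfsgLib.KGroups.M12Tools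
  CfsgLib.KGroups.M12Reps CfsgLib.KGroups.M12Local CfsgLib.KGroups.M22Tools Subgroup
open CfsgLib.SmallGroups
open scoped Classical

variable {G : Type*} [Group G] [Fintype G]

/-- The characters outside the block add up to zero on each section. -/
def SectionZero {p e : ℕ} [Fact p.Prime] {P : Sylow p G} (F : Frame p e P) : Prop :=
  ∀ χ : IrrCharacter G, χ ∉ F.X → χ ∉ F.Y → ∀ z : G, orderOf z = p →
    ∑ s : centralizer ({z} : Set G) with IsPRegular p s, (χ : G → ℂ) (z * (s : G)) = 0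

theorem exists_frame_section [IsSimpleGroup G] {p e : ℕ} [Fact p.Prime] (hodd : p ≠ 2) (P : Sylow p G)
    (hP : Nat.card (P : Subgroup G) = p)
    (hN : Nat.card (normalizer ((P : Subgroup G) : Set G)) =
      e * Nat.card (centralizer ((P : Subgroup G) : Set G))) :
    ∃ F : Frame p e P, SectionZero F := by
  have hp : p.Prime := Fact.out
  obtain ⟨M, hM⟩ := DegreeTools.TISum.exists_pmodular hp
  obtain ⟨X, Y, εX, ε, hB, hdisj, hX, hY, hXp, hε, hYd, hYeq, hrel⟩ :=
    PrimeOrder.principal_block hM hodd P hP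
  rw [autCard_of P hN] at hX hY hYd
  obtain ⟨x, hxP, hx, hzp⟩ := PrimeOrder.exists_generator P hP
  refine ⟨⟨X, Y, εX, ε, x, hxP, hx, hzp, hdisj, hX, hY, (hB _).1 (trivChar_mem_principalBlock hM),
    fun χ hχ => (hXp χ hχ).1, fun χ hχ => (hXp χ hχ).2.1, fun χ hχ i hi u hc hu => ?_, hε, hYd, hYeq, hrel,
    fun g hg => ?_⟩, fun χ hXχ hYχ z hz => ?_⟩
  · exact (hXp χ hχ).2.2 _ _ (isPPart_mul_of (k := 1) (by rw [M11Local.orderOf_pow_prime hp hx hi, pow_one])
      (hc.pow_left i) hu) (pow_mem hxP i) fun h => hi (hx ▸ orderOf_dvd_of_pow_eq_one h)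
  · have h := CfsgLib.Involution.ZStar.sum_degree_mul_eq_zero hM
      (isPBlock_principalBlock (M := M) (G := G)) (g := g) hg
    rw [← h]
    refine Finset.sum_congr ?_ fun χ _ => by rw [irr_one_eq]
    ext χ
    rw [Finset.mem_union, Set.mem_toFinset]
    exact (hB χ).symm
  · exact SectionSums.sum_section_eq_zero hM (fun h => ((hB χ).1 h).elim hXχ hYχ) ⟨1, by rw [hz, pow_one]⟩

variable {p e : ℕ} [hp : Fact p.Prime] {P : Sylow p G} (F : Frame p e P)

theorem singular {i : ℕ} (hi : ¬ p ∣ i) {u : G} (hc : Commute F.x u) (hu : ¬ p ∣ orderOf u) :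
    p ∣ orderOf (F.x ^ i * u) := by
  have h1 : orderOf (F.x ^ i) = p := by
    rw [orderOf_pow, F.hx, ((hp.out.coprime_iff_not_dvd).mpr hi).gcd_eq_one, Nat.div_one]
  rw [(hc.pow_left i).orderOf_mul_eq_mul_orderOf_of_coprime (by
    rw [h1]; exact (hp.out.coprime_iff_not_dvd).mpr hu), h1]
  exact dvd_mul_right _ _

theorem rel_degree {θ : IrrCharacter G} (hθ : θ ∈ F.Y) :
    F.εy * (charDegree (θ : G → ℂ) : ℤ) = ∑ χ ∈ F.X, F.sgn χ * (charDegree (χ : G → ℂ) : ℤ) := by
  have h1 := F.hrel θ hθ 1 (by rw [orderOf_one]; exact hp.out.not_dvd_one)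
  simp only [irr_one_eq] at h1
  exact_mod_cast h1

/-- The exceptional values on a section add up to a sign. -/
theorem sum_theta (hY : F.Y.Nonempty) {i : ℕ} (hi : ¬ p ∣ i) {u : G} (hc : Commute F.x u)
    (hu : ¬ p ∣ orderOf u) : ∑ θ ∈ F.Y, (θ : G → ℂ) (F.x ^ i * u) = -(F.εy : ℂ) := by
  obtain ⟨θ, hθ⟩ := hY
  have h1 := F.hcol _ (singular F hi hc hu)
  rw [Finset.sum_union F.hdisj,
    Finset.sum_congr rfl (g := fun χ : IrrCharacter G =>
      ((F.sgn χ * (charDegree (χ : G → ℂ) : ℤ) : ℤ) : ℂ))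
      fun χ h => by rw [F.hval χ h i hi u hc hu]; push_cast; ring,
    ← Int.cast_sum, ← rel_degree F hθ,
    Finset.sum_congr rfl (g := fun η : IrrCharacter G => (charDegree (θ : G → ℂ) : ℂ) * (η : G → ℂ) (F.x ^ i * u))
      fun η hη => by rw [F.deg_agree hη hθ], ← Finset.mul_sum] at h1
  refine mul_left_cancel₀ (Nat.cast_ne_zero.mpr (charDegree_pos θ).ne' : (charDegree (θ : G → ℂ) : ℂ) ≠ 0) ?_
  push_cast at h1
  linear_combination h1

/-- A single exceptional character is constant on the sections. -/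
theorem single_val (hY : F.Y.card = 1) {θ : IrrCharacter G} (hθ : θ ∈ F.Y) {i : ℕ} (hi : ¬ p ∣ i) {u : G}
    (hc : Commute F.x u) (hu : ¬ p ∣ orderOf u) : (θ : G → ℂ) (F.x ^ i * u) = -(F.εy : ℂ) := by
  have h := sum_theta F ⟨θ, hθ⟩ hi hc hu
  obtain ⟨η, hη⟩ := Finset.card_eq_one.mp hY
  rw [hη, Finset.sum_singleton] at h
  rw [hη, Finset.mem_singleton] at hθ
  rw [hθ]; exact h

/-- The block part of a class product sum. -/
noncomputable def blockSum (t u : G) (θ : IrrCharacter G) : ℂ :=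
  ∑ χ ∈ F.X, (F.sgn χ : ℂ) * ((χ : G → ℂ) t * (χ : G → ℂ) u / (χ : G → ℂ) 1) -
    (F.εy : ℂ) * ((θ : G → ℂ) t * (θ : G → ℂ) u / (θ : G → ℂ) 1)

/-- On a section the class product sum is the block part plus the sum outside the block. -/
theorem sum_split {t u : G} (ht : ¬ p ∣ orderOf t) (hu : ¬ p ∣ orderOf u) {θ : IrrCharacter G} (hθ : θ ∈ F.Y)
    {i : ℕ} (hi : ¬ p ∣ i) {s : G} (hc : Commute F.x s) (hs : ¬ p ∣ orderOf s) :
    ∑ χ : IrrCharacter G, (χ : G → ℂ) t * (χ : G → ℂ) u * (χ : G → ℂ) (F.x ^ i * s) / (χ : G → ℂ) 1 =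
      blockSum F t u θ + ∑ χ ∈ Finset.univ \ (F.X ∪ F.Y),
        (χ : G → ℂ) t * (χ : G → ℂ) u / (χ : G → ℂ) 1 * (χ : G → ℂ) (F.x ^ i * s) := by
  rw [← Finset.sum_sdiff (Finset.subset_univ (F.X ∪ F.Y)), add_comm, Finset.sum_union F.hdisj, blockSum]
  congr 1
  · rw [sub_eq_add_neg]
    congr 1
    · exact Finset.sum_congr rfl fun χ hχ => by rw [F.hval χ hχ i hi s hc hs]; ring
    · rw [Finset.sum_congr rfl (g := fun η : IrrCharacter G =>
        (θ : G → ℂ) t * (θ : G → ℂ) u / (θ : G → ℂ) 1 * (η : G → ℂ) (F.x ^ i * s)) fun η hη => by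
          rw [F.hagree η hη θ hθ t ht, F.hagree η hη θ hθ u hu, irr_one_eq, irr_one_eq, F.deg_agree hη hθ]; ring,
        ← Finset.mul_sum, sum_theta F ⟨θ, hθ⟩ hi hc hs]
      ring
  · exact Finset.sum_congr rfl fun χ _ => by ring

/-- Two classes whose products avoid the section of `x` have vanishing block part. -/
theorem blockSum_eq_zero (hS : SectionZero F) {t u : G} (ht : ¬ p ∣ orderOf t) (hu : ¬ p ∣ orderOf u)
    {θ : IrrCharacter G} (hθ : θ ∈ F.Y)
    (h : ∀ s, Commute F.x s → ¬ p ∣ orderOf s → ∀ a, IsConj t a → ¬ IsConj u (a⁻¹ * (F.x * s)⁻¹)) :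
    blockSum F t u θ = 0 := by
  set S : Finset ↥(centralizer ({F.x} : Set G)) := Finset.univ.filter fun s => IsPRegular p s with hSdef
  have hne : (S.card : ℂ) ≠ 0 := Nat.cast_ne_zero.mpr (Finset.card_ne_zero.mpr ⟨1, by
    rw [hSdef]
    refine Finset.mem_filter.mpr ⟨Finset.mem_univ _, ?_⟩
    rw [IsPRegular, orderOf_one]
    exact hp.out.not_dvd_one⟩)
  have key : ∀ s ∈ S, blockSum F t u θ + ∑ χ ∈ Finset.univ \ (F.X ∪ F.Y),
      (χ : G → ℂ) t * (χ : G → ℂ) u / (χ : G → ℂ) 1 * (χ : G → ℂ) (F.x * (s : G)) = 0 := fun s hs => by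
    have hc : Commute F.x (s : G) := (mem_centralizer_singleton_iff.mp s.2).symm
    have hs' : ¬ p ∣ orderOf (s : G) := by
      rw [Subgroup.orderOf_coe]; exact (Finset.mem_filter.mp hs).2
    have h1 := pairs_eq_zero t u (F.x * (s : G))⁻¹ (h _ hc hs')
    rw [inv_inv] at h1
    have h2 := sum_split F ht hu hθ (i := 1) hp.out.not_dvd_one hc hs'
    rw [pow_one] at h2
    exact h2.symm.trans h1
  have hsum := Finset.sum_eq_zero key
  rw [Finset.sum_add_distrib, Finset.sum_const, nsmul_eq_mul, Finset.sum_comm,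
    Finset.sum_eq_zero (s := Finset.univ \ (F.X ∪ F.Y)) fun χ hχ => by
      rw [Finset.mem_sdiff, Finset.mem_union, not_or] at hχ
      rw [← Finset.mul_sum, hS χ hχ.2.1 hχ.2.2 F.x F.hx, mul_zero],
    add_zero, mul_eq_zero] at hsum
  exact hsum.resolve_left hne

section Members

variable {x : G} (hx : orderOf x = p) {χ : IrrCharacter G} {s : ℤ}
  (hval : ∀ i, ¬ p ∣ i → ∀ u : G, Commute x u → ¬ p ∣ orderOf u → (χ : G → ℂ) (x ^ i * u) = (s : ℂ))

include hx hval in
/-- A twisted sum beside a constant member. -/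
theorem member_twist {v : G} {n : ℕ} (hv : orderOf v = n) (hxv : Commute x v) (hpn : ¬ p ∣ n) {μ : ℂ}
    (hμ : μ ^ n = 1) : ∃ m : ℕ, ∑ j ∈ Finset.range n, (χ : G → ℂ) (v ^ j) * μ ^ j +
      ((p : ℂ) - 1) * (s : ℂ) * ∑ j ∈ Finset.range n, μ ^ j = (p * n : ℂ) * m :=
  twist_const χ hp.out hx hv hxv hpn
    (fun i j hi => hval i hi (v ^ j) (hxv.pow_right j) fun h => hpn (h.trans (hv ▸ orderOf_pow_dvd j))) hμ

include hx hval in
/-- The value at an involution commuting with a generator. -/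
theorem member_two [IsSimpleGroup G] (hG : ¬ IsMulCommutative G) (hp2 : p ≠ 2) (hne : χ ≠ trivChar G) {z : G}
    (hz : orderOf z = 2) (hxz : Commute x z) :
    ∃ v : ℤ, (χ : G → ℂ) z = v ∧ (v - (charDegree (χ : G → ℂ) : ℤ)) % 4 = 0 ∧
      (2 * p : ℤ) ∣ (charDegree (χ : G → ℂ) : ℤ) - v ∧ v.natAbs < charDegree (χ : G → ℂ) := by
  obtain ⟨v, hv⟩ := exists_int_two χ hz
  obtain ⟨m, hm⟩ := member_twist hx hval hz hxz
    (fun h => hp2 ((Nat.prime_dvd_prime_iff_eq hp.out Nat.prime_two).mp h)) (μ := -1) (by norm_num)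
  refine ⟨v, hv, ValueTools.mod_four hG χ hz hv, ⟨m, ?_⟩,
    ValueTools.lt_degree hG hne (fun h => by rw [h, orderOf_one] at hz; omega) hv⟩
  simp only [Finset.sum_range_succ, Finset.sum_range_zero, pow_zero, pow_one, irr_one_eq, hv] at hm
  have : ((charDegree (χ : G → ℂ) : ℤ) - v : ℂ) = ((2 * p * m : ℤ) : ℂ) := by
    push_cast at hm ⊢; linear_combination hm
  exact_mod_cast this

include hx hval in
/-- A member beside an element of order three commuting with a generator has degree at least twice the prime. -/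
theorem member_three [IsSimpleGroup G] (hG : ¬ IsMulCommutative G) (hp3 : p ≠ 3) (hne : χ ≠ trivChar G) {w : G}
    (hw : orderOf w = 3) (hxw : Commute x w) : 2 * p ≤ charDegree (χ : G → ℂ) := by
  set d := charDegree (χ : G → ℂ) with hd
  set ω : ℂ := Complex.exp (2 * Real.pi * Complex.I / (3 : ℕ))
  have hω : IsPrimitiveRoot ω 3 := Complex.isPrimitiveRoot_exp 3 (by norm_num)
  have h1 : 1 + ω + ω ^ 2 = 0 := by
    have := hω.geom_sum_eq_zero (by norm_num)
    simpa [Finset.sum_range_succ] using this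
  have h4 : (ω ^ 2) ^ 2 = ω := by rw [← pow_mul, show 2 * 2 = 3 + 1 from rfl, pow_add, hω.pow_eq_one, one_mul, pow_one]
  obtain ⟨n, ρ, hρ, he⟩ := χ.2
  have hn : Module.finrank ℂ (Fin n → ℂ) = d := by
    apply Nat.cast_injective (R := ℂ)
    rw [hd, ← irr_one_eq, ← he, Representation.char_one]
  have hw3 : w ^ 3 = 1 := hw ▸ pow_orderOf_eq_one w
  obtain ⟨a, q, r, hsum, ht1, ht2, hdet⟩ := three_eigen (ρ w) (by rw [← map_pow, hw3, map_one]) hω
  rw [det_eq_one hG ρ w] at hdet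
  rw [hn] at hsum
  have hg1 : (χ : G → ℂ) w = (a : ℂ) + q * ω + r * ω ^ 2 := by rw [← he]; exact ht1
  have hg2 : (χ : G → ℂ) (w ^ 2) = (a : ℂ) + q * ω ^ 2 + r * ω := by
    rw [← he]
    show LinearMap.trace ℂ _ (ρ (w ^ 2)) = _
    rw [map_pow]; exact ht2
  have hpn : ¬ p ∣ 3 := fun h => hp3 ((Nat.prime_dvd_prime_iff_eq hp.out Nat.prime_three).mp h)
  have hs3 : ((d : ℕ) : ℂ) = (a : ℂ) + q + r := by exact_mod_cast hsum
  obtain ⟨m1, e1⟩ := member_twist hx hval hw hxw hpn (μ := ω ^ 2)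
    (by rw [← pow_mul, mul_comm, pow_mul, hω.pow_eq_one, one_pow])
  obtain ⟨m2, e2⟩ := member_twist hx hval hw hxw hpn (μ := ω) hω.pow_eq_one
  simp only [Finset.sum_range_succ, Finset.sum_range_zero, pow_zero, pow_one, irr_one_eq, hg1, hg2, ← hd,
    hs3, h4] at e1 e2
  have h3 := hω.pow_eq_one
  have hq : q = p * m1 := by
    have : (3 * q : ℂ) = 3 * (p * m1 : ℕ) := by
      push_cast
      linear_combination e1 - ((a : ℂ) + r + ((p : ℂ) - 1) * s) * h1 - (2 * (q : ℂ) + r * ω) * h3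
    exact_mod_cast mul_left_cancel₀ (by norm_num : (3 : ℂ) ≠ 0) this
  have hr : r = p * m2 := by
    have : (3 * r : ℂ) = 3 * (p * m2 : ℕ) := by
      push_cast
      linear_combination e2 - ((a : ℂ) + q + ((p : ℂ) - 1) * s) * h1 - ((q : ℂ) * ω + 2 * (r : ℂ)) * h3
    exact_mod_cast mul_left_cancel₀ (by norm_num : (3 : ℂ) ≠ 0) this
  have hdet' : 3 ∣ q + 2 * r := (hω.pow_eq_one_iff_dvd _).mp hdet.symm
  have hw1 : w ≠ 1 := fun h => by rw [h, orderOf_one] at hw; omega
  by_contra hlt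
  have hlt' : d < 2 * p := Nat.not_le.mp hlt
  have hz : q = 0 ∧ r = 0 := by
    have b1 : m1 ≤ 1 := by
      by_contra hc
      have : 2 * p ≤ q := by rw [hq, mul_comm]; exact Nat.mul_le_mul_left p (show 2 ≤ m1 by omega)
      omega
    have b2 : m2 ≤ 1 := by
      by_contra hc
      have : 2 * p ≤ r := by rw [hr, mul_comm]; exact Nat.mul_le_mul_left p (show 2 ≤ m2 by omega)
      omega
    have hp' : ¬ 3 ∣ p := fun h => hp3 ((Nat.prime_dvd_prime_iff_eq Nat.prime_three hp.out).mp h).symm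
    interval_cases m1 <;> interval_cases m2 <;> simp only [mul_zero, mul_one] at hq hr <;> omega
  have hfix := M11Tools.norm_lt hG χ (by
    intro hd1
    exact hne (BlockDegrees.eq_trivChar hG χ hd1)) hw1
  rw [hg1, hz.1, hz.2, ← hd] at hfix
  have : (a : ℝ) = d := by exact_mod_cast (show a = d by omega)
  norm_num at hfix
  linarith

end Members

end CfsgLib.KGroups.M22Frame
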