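import Cfsg.Agent.Lib.KGroups.M22Fix
import Cfsg.Agent.Lib.KGroups.MathieuIdent.Tools
import Cfsg.Agent.Lib.CharDeep.PermChar

/-!
# A subgroup properly containing the Sylow 3-normaliser, acting on the conjugates of the Sylow subgroup

The number of conjugates is congruent to the number fixed by an element of order three modulo nine, and it
is not ten.
-/

set_option autoImplicit false

namespace CfsgLib.KGroups.M22Orbit

open Cfsg CfsgLib.Blocks CfsgLib.KGroups.M22Table CfsgLib.KGroups.M22Elements CfsgLib.KGroups.M22Three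
  CfsgLib.KGroups.MathieuIdent Subgroup
open CfsgLib.KGroups.M12Point (els mem_els card_els)
open scoped Classical

variable {G : Type*} [Group G] [Fintype G] (L : Loc G)

theorem z_conj_inv {s : G} (hs : s ∈ L.P) : L.z * s = s⁻¹ * L.z := by
  rw [← L.zinv s hs, inv_mul_cancel_right]

/-- The elements of order three of the normaliser lie in the Sylow subgroup. -/
theorem mem_P_of_order [IsSimpleGroup G] (hG : Nat.card G = 443520) {u : G} (hu : u ∈ L.N) (h3 : orderOf u = 3) :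
    u ∈ L.P := by
  obtain ⟨s, hs, k, hk, rfl⟩ := L.exists_decomp hu
  by_cases hk1 : k = 1
  · rw [hk1, mul_one]; exact hs
  · exfalso
    obtain ⟨c, hc⟩ := isConj_iff.mp (M22Fix.coset_conj hG L hs hk hk1)
    have h8 := L.hK ▸ orderOf_dvd_natCard L.K hk
    rw [← MulEquiv.orderOf_eq (MulAut.conj c) k] at h8
    rw [show MulAut.conj c k = s * k from hc, h3] at h8
    norm_num at h8

/-- The complement is transitive on the non-identity elements of the Sylow subgroup. -/
theorem exists_conj_K {s v : G} (hs : s ∈ L.P) (hs1 : s ≠ 1) (hv : v ∈ L.P) (hv1 : v ≠ 1) :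
    ∃ k ∈ L.K, k * s * k⁻¹ = v := by
  have hinj : Set.InjOn (fun k : G => k * s * k⁻¹) (els L.K : Set G) := fun k hk l hl e => by
    rw [Finset.mem_coe, mem_els] at hk hl
    have e' : k * s * k⁻¹ = l * s * l⁻¹ := e
    have hc : Commute (l⁻¹ * k) s := by
      show l⁻¹ * k * s = s * (l⁻¹ * k)
      calc l⁻¹ * k * s = l⁻¹ * (k * s * k⁻¹) * k := by group
        _ = l⁻¹ * (l * s * l⁻¹) * k := by rw [e']
        _ = s * (l⁻¹ * k) := by group
    exact (inv_mul_eq_one.mp ((L.fpf _ (mul_mem (inv_mem hl) hk) s hs hc).resolve_right hs1)).symm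
  have himg : (els L.K).image (fun k => k * s * k⁻¹) = (els L.P).erase 1 := by
    refine Finset.eq_of_subset_of_card_le (fun x hx => ?_) ?_
    · obtain ⟨k, hk, rfl⟩ := Finset.mem_image.mp hx
      exact Finset.mem_erase.mpr ⟨fun e => hs1 (conj_eq_one_iff.mp e), mem_els.mpr (L.norm k (mem_els.mp hk) s hs)⟩
    · rw [Finset.card_image_of_injOn hinj, Finset.card_erase_of_mem (mem_els.mpr L.P.one_mem), card_els, card_els,
        L.hP, L.hK]
  have : v ∈ (els L.K).image (fun k => k * s * k⁻¹) := himg ▸ Finset.mem_erase.mpr ⟨hv1, mem_els.mpr hv⟩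
  obtain ⟨k, hk, e⟩ := Finset.mem_image.mp this
  exact ⟨k, mem_els.mp hk, e⟩

variable (M : Subgroup G)

/-- The points. -/
abbrev Pt : Type _ := M ⧸ L.N.subgroupOf M

/-- The point fixed by the normaliser. -/
abbrev base : Pt L M := ((1 : M) : Pt L M)

theorem smul_mk_iff {m x : M} :
    m • (x : Pt L M) = (x : Pt L M) ↔ (x : G)⁻¹ * m * x ∈ L.N := by
  rw [CharDeep.PermChar.smul_mk_eq_iff, Subgroup.mem_subgroupOf]
  rfl

theorem smul_base_iff {m : M} : m • base L M = base L M ↔ (m : G) ∈ L.N := by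
  rw [smul_mk_iff]
  simp

variable (hNM : L.N ≤ M)

/-- The element of the normaliser in `M`. -/
def inc {k : G} (hk : k ∈ L.N) : M := ⟨k, hNM hk⟩

variable [IsSimpleGroup G] (T : Table G) (hG : Nat.card G = 443520)

include hG T hNM in
/-- An element of order three fixes one, or four points. -/
theorem card_fix {s : M} (hs : (s : G) ∈ L.P) (hs1 : (s : G) ≠ 1) :
    (Fix (Pt L M) s).card = 1 ∨ (Fix (Pt L M) s).card = 4 := by
  set f := (Fix (Pt L M) s).card with hf
  have hNMc : Nat.card (L.N.subgroupOf M) = 72 := (Nat.card_congr (subgroupOfEquivOfLe hNM).toEquiv).trans L.hN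
  have h1 : Nat.card {m : M // (m : G)⁻¹ * s * m ∈ L.N} = 72 * f := by
    rw [← hNMc, hf, ← Fintype.card_coe, ← Nat.card_eq_fintype_card, ← Nat.card_prod]
    refine Nat.card_congr ((Equiv.subtypeEquivRight fun m => (smul_mk_iff L M).symm).trans
      ((QuotientGroup.preimageMkEquivSubgroupProdSet _ {q : Pt L M | s • q = q}).trans
        (Equiv.prodCongr (Equiv.refl _) (Equiv.subtypeEquivRight fun q => by simp [mem_fix]))))
  let D : Subgroup G := centralizer ({(s : G)} : Set G) ⊓ M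
  have h2 : Nat.card {m : M // (m : G)⁻¹ * s * m ∈ L.N} = Nat.card D * 8 := by
    rw [← L.hK, ← Nat.card_prod]
    refine (Nat.card_congr (Equiv.ofBijective (fun p : D × L.K => (⟨⟨(p.1 : G) * p.2,
      M.mul_mem p.1.2.2 (hNM (L.K_le p.2.2))⟩, ?_⟩ : {m : M // (m : G)⁻¹ * s * m ∈ L.N})) ⟨?_, ?_⟩)).symm
    · have hc := mem_centralizer_singleton_iff.mp p.1.2.1
      show ((p.1 : G) * p.2)⁻¹ * s * ((p.1 : G) * p.2) ∈ L.N
      rw [show ((p.1 : G) * p.2)⁻¹ * s * ((p.1 : G) * p.2) = (p.2 : G)⁻¹ * ((p.1 : G)⁻¹ * (s * p.1)) * p.2 by group,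
        ← hc, inv_mul_cancel_left]
      exact mul_mem (mul_mem (inv_mem (L.K_le p.2.2)) (L.P_le hs)) (L.K_le p.2.2)
    · rintro ⟨⟨c, hc⟩, ⟨k, hk⟩⟩ ⟨⟨d, hd⟩, ⟨l, hl⟩⟩ e
      have e' : c * k = d * l := congrArg (fun m : {m : M // (m : G)⁻¹ * s * m ∈ L.N} => ((m : M) : G)) e
      have h : d⁻¹ * c = l * k⁻¹ := by
        calc d⁻¹ * c = d⁻¹ * (c * k) * k⁻¹ := by group
          _ = l * k⁻¹ := by rw [e']; group
      have hD : d⁻¹ * c ∈ D := mul_mem (inv_mem hd) hc
      have hcomm : Commute (d⁻¹ * c) s := mem_centralizer_singleton_iff.mp hD.1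
      have hone := (L.fpf _ (h ▸ mul_mem hl (inv_mem hk)) _ hs hcomm).resolve_right hs1
      rw [hone] at h
      simp only [Prod.mk.injEq, Subtype.mk.injEq]
      exact ⟨(inv_mul_eq_one.mp hone).symm, (mul_inv_eq_one.mp h.symm).symm⟩
    · rintro ⟨⟨m, hm⟩, hms⟩
      have hv3 : orderOf (m⁻¹ * s * m) = 3 := by
        have := MulEquiv.orderOf_eq (MulAut.conj m⁻¹) (s : G)
        simp only [MulAut.conj_apply, inv_inv] at this
        rw [this, L.ord _ hs hs1]
      have hvP := mem_P_of_order L hG hms hv3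
      obtain ⟨k, hk, hks⟩ := exists_conj_K L hs hs1 hvP (fun e => by
        rw [show (m : G)⁻¹ * s * m = 1 from e, orderOf_one] at hv3; omega)
      refine ⟨(⟨m * k, ?_, M.mul_mem hm (hNM (L.K_le hk))⟩, ⟨k⁻¹, inv_mem hk⟩), Subtype.ext (Subtype.ext ?_)⟩
      · refine mem_centralizer_singleton_iff.mpr ?_
        calc m * k * s = m * (k * s * k⁻¹) * k := by group
          _ = m * (m⁻¹ * s * m) * k := by rw [hks]
          _ = s * (m * k) := by group
      · show m * k * k⁻¹ = m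
        rw [mul_inv_cancel_right]
  have hDd := card_dvd_of_le (inf_le_left : D ≤ centralizer ({(s : G)} : Set G))
  rw [card_three T hG (L.ord _ hs hs1)] at hDd
  have h18 : Nat.card D ≠ 18 := fun e => by
    obtain ⟨h3, S, hS⟩ := L.sylow
    have hPD : L.P ≤ D := le_inf (fun b hb => mem_centralizer_singleton_iff.mpr (L.comm b hb _ hs))
      (L.P_le.trans hNM)
    have hi : (L.P.subgroupOf D).index = 2 := by
      have h := (L.P.subgroupOf D).index_mul_card
      rw [Nat.card_congr (subgroupOfEquivOfLe hPD).toEquiv, L.hP, e] at h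
      omega
    have hn : (L.P.subgroupOf D).Normal := normal_of_index_eq_two hi
    obtain ⟨hcard, hfix⟩ := normalizer_card T hG S
    rw [hS] at hfix
    have hle : D ≤ L.P := fun c hc => hfix _ hs hs1 c (mem_normalizer_of_le fun a ha =>
      Subgroup.mem_subgroupOf.mp (hn.conj_mem ⟨a, hPD ha⟩ (Subgroup.mem_subgroupOf.mpr ha) ⟨c, hc⟩))
      (mem_centralizer_singleton_iff.mp hc.1)
    have := card_dvd_of_le hle
    rw [e, L.hP] at this
    norm_num at this
  have hle := Nat.le_of_dvd (by norm_num) hDd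
  have hpos : 0 < Nat.card D := Nat.card_pos
  have h5 : 72 * f = Nat.card D * 8 := h1.symm.trans h2
  have hf4 : f ≤ 4 := by nlinarith
  interval_cases f
  · omega
  · exact Or.inl rfl
  · omega
  · exfalso
    rw [show Nat.card D = 27 by omega] at hDd
    norm_num at hDd
  · exact Or.inr rfl

include hG T hNM in
/-- The congruence modulo nine. -/
theorem exists_fix : ∃ f, (f = 1 ∨ f = 4) ∧ (∀ s : M, (s : G) ∈ L.P → (s : G) ≠ 1 → (Fix (Pt L M) s).card = f) ∧
    9 ∣ Nat.card (Pt L M) + 8 * f := by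
  obtain ⟨h3, S, hS⟩ := L.sylow
  obtain ⟨x, hx, hx1, -⟩ := exists_basis T hG S
  rw [hS] at hx
  have hxN : x ∈ L.N := L.P_le hx
  set xm : M := inc L M hNM hxN
  set f := (Fix (Pt L M) xm).card with hf
  have hall : ∀ s : M, (s : G) ∈ L.P → (s : G) ≠ 1 → (Fix (Pt L M) s).card = f := fun s hs hs1 => by
    obtain ⟨k, hk, e⟩ := exists_conj_K L hx hx1 hs hs1
    have : s = inc L M hNM (L.K_le hk) * xm * (inc L M hNM (L.K_le hk))⁻¹ := Subtype.ext e.symm
    rw [this, card_fix_conj]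
  refine ⟨f, card_fix L M hNM T hG (s := xm) hx hx1, hall, ?_⟩
  have hPM : L.P ≤ M := L.P_le.trans hNM
  set PM := L.P.subgroupOf M
  have := Fintype.ofFinite PM
  have := Fintype.ofFinite (MulAction.orbitRel.Quotient PM (Pt L M))
  have hB := MulAction.sum_card_fixedBy_eq_card_orbits_mul_card_group PM (Pt L M)
  have hPc : Fintype.card PM = 9 := by
    rw [← Nat.card_eq_fintype_card, Nat.card_congr (subgroupOfEquivOfLe hPM).toEquiv, L.hP]
  have hterm : ∀ a : PM, Fintype.card (MulAction.fixedBy (Pt L M) a) = if a = 1 then Nat.card (Pt L M) else f := by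
    intro a
    split_ifs with ha
    · subst ha
      rw [← Nat.card_eq_fintype_card]
      exact Nat.card_congr (Equiv.subtypeUnivEquiv fun q => one_smul _ q)
    · rw [← hall a.1 (Subgroup.mem_subgroupOf.mp a.2) (fun e => ha (Subtype.ext (Subtype.ext e))),
        ← Fintype.card_coe]
      exact Fintype.card_congr (Equiv.subtypeEquivRight fun q => by rw [mem_fix]; rfl)
  rw [Finset.sum_congr rfl fun a _ => hterm a, ← Finset.add_sum_erase _ _ (Finset.mem_univ (1 : PM)), if_pos rfl,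
    Finset.sum_congr rfl (g := fun _ => f) (fun a ha => if_neg (Finset.mem_erase.mp ha).1), Finset.sum_const,
    Finset.card_erase_of_mem (Finset.mem_univ _), Finset.card_univ, hPc, smul_eq_mul] at hB
  exact ⟨_, hB.trans (Nat.mul_comm _ _)⟩

include hG T hNM in
/-- Four points are impossible. -/
theorem not_four {g : G} (hg : g ∈ M) (hgN : g ∉ L.N) (h4 : Nat.card (Pt L M) = 4) : False := by
  obtain ⟨f, hf, hall, hdvd⟩ := exists_fix L M hNM T hG
  rw [h4] at hdvd
  have hf4 : f = 4 := by rcases hf with rfl | rfl <;> [norm_num at hdvd; rfl]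
  refine hgN (inv_mem_iff.mp (mem_normalizer_of_le fun a ha => ?_))
  by_cases ha1 : a = 1
  · subst ha1; simp
  · have hu := Finset.eq_univ_of_card (Fix (Pt L M) (inc L M hNM (L.P_le ha)))
      (by rw [hall (inc L M hNM (L.P_le ha)) ha ha1, hf4, ← h4, Nat.card_eq_fintype_card])
    have h := mem_fix.mp (hu ▸ Finset.mem_univ ((⟨g, hg⟩ : M) : Pt L M))
    rw [smul_mk_iff] at h
    rw [inv_inv]
    exact mem_P_of_order L hG h (by
      have := MulEquiv.orderOf_eq (MulAut.conj g⁻¹) a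
      simp only [MulAut.conj_apply, inv_inv] at this
      exact this.trans (L.ord a ha ha1))

include hG T hNM in
/-- The structure of the action on ten points. -/
theorem ten_structure (h10 : Nat.card (Pt L M) = 10) :
    ∃ R0 : Pt L M, R0 ≠ base L M ∧
      (∀ q, (inc L M hNM (L.K_le L.hz)) • q = q → q = base L M ∨ q = R0) ∧
      (∀ k : M, (k : G) ∈ L.K → k • R0 = R0 ∧ k • base L M = base L M) ∧
      (∀ q, q ≠ base L M → ∃ s : M, (s : G) ∈ L.P ∧ s • R0 = q) ∧
      (∀ s : M, (s : G) ∈ L.P → s • R0 = R0 → (s : G) = 1) ∧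
      (∀ k : M, (k : G) ∈ L.K → ∀ q, q ≠ base L M → q ≠ R0 → k • q = q → k = 1) := by
  obtain ⟨f, hf, hall, hdvd⟩ := exists_fix L M hNM T hG
  rw [h10] at hdvd
  have hf1 : f = 1 := by rcases hf with rfl | rfl <;> [rfl; norm_num at hdvd]
  set b := base L M
  have hbfix : ∀ m : M, (m : G) ∈ L.N → m • b = b := fun m hm => (smul_base_iff L M).mpr hm
  have free : ∀ s : M, (s : G) ∈ L.P → ∀ q, q ≠ b → s • q = q → (s : G) = 1 := fun s hs q hq hsq => by
    by_contra hs1
    obtain ⟨a, ha⟩ := Finset.card_eq_one.mp ((hall s hs hs1).trans hf1)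
    have h1 : q ∈ Fix (Pt L M) s := mem_fix.mpr hsq
    have h2 : b ∈ Fix (Pt L M) s := mem_fix.mpr (hbfix s (L.P_le hs))
    rw [ha, Finset.mem_singleton] at h1 h2
    exact hq (h1.trans h2.symm)
  set nine := (Finset.univ : Finset (Pt L M)).erase b
  have hnine : nine.card = 9 := by
    rw [Finset.card_erase_of_mem (Finset.mem_univ _), Finset.card_univ, ← Nat.card_eq_fintype_card, h10]
  set zm := inc L M hNM (L.K_le L.hz)
  have hz2 : zm ^ 2 = 1 := Subtype.ext (by
    show L.z ^ 2 = 1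
    rw [← L.zo, pow_orderOf_eq_one])
  have hodd := mod_fix Nat.prime_two hz2 nine fun q hq => by
    refine Finset.mem_erase.mpr ⟨fun e => (Finset.mem_erase.mp hq).1 ?_, Finset.mem_univ _⟩
    exact (smul_left_cancel zm (e.trans (hbfix zm (L.K_le L.hz)).symm))
  rw [hnine] at hodd
  obtain ⟨R0, hR0⟩ : (nine ∩ Fix (Pt L M) zm).Nonempty := Finset.card_pos.mp (by omega)
  obtain ⟨hR0', hR0z⟩ := Finset.mem_inter.mp hR0
  have hRb : R0 ≠ b := (Finset.mem_erase.mp hR0').1
  have htrans : ∀ q, q ≠ b → ∃ s : M, (s : G) ∈ L.P ∧ s • R0 = q := by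
    intro q hq
    have himg : (els (L.P.subgroupOf M)).image (fun s => s • R0) = nine := by
      refine Finset.eq_of_subset_of_card_le (fun y hy => ?_) ?_
      · obtain ⟨s, hs, rfl⟩ := Finset.mem_image.mp hy
        refine Finset.mem_erase.mpr ⟨fun e => hRb ?_, Finset.mem_univ _⟩
        exact smul_left_cancel s (e.trans (hbfix s (L.P_le (Subgroup.mem_subgroupOf.mp (mem_els.mp hs)))).symm)
      · rw [Finset.card_image_of_injOn fun s hs t ht e => ?_, card_els,
          Nat.card_congr (subgroupOfEquivOfLe (L.P_le.trans hNM)).toEquiv, L.hP, hnine]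
        rw [Finset.mem_coe, mem_els] at hs ht
        have h1 : (t⁻¹ * s) • R0 = R0 := by
          rw [mul_smul, show s • R0 = t • R0 from e, inv_smul_smul]
        have h2 : t⁻¹ * s = 1 :=
          Subtype.ext (free _ (Subgroup.mem_subgroupOf.mp (mul_mem (inv_mem ht) hs)) R0 hRb h1)
        exact (inv_mul_eq_one.mp h2).symm
    have : q ∈ (els (L.P.subgroupOf M)).image (fun s => s • R0) :=
      himg ▸ Finset.mem_erase.mpr ⟨hq, Finset.mem_univ _⟩
    obtain ⟨s, hs, e⟩ := Finset.mem_image.mp this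
    exact ⟨s, Subgroup.mem_subgroupOf.mp (mem_els.mp hs), e⟩
  have huniq : ∀ q, zm • q = q → q = b ∨ q = R0 := fun q hq => by
    refine or_iff_not_imp_left.mpr fun hqb => ?_
    obtain ⟨s, hs, rfl⟩ := htrans q hqb
    have hzs : zm * s = s⁻¹ * zm := Subtype.ext (z_conj_inv L hs)
    rw [← mul_smul, hzs, mul_smul, mem_fix.mp hR0z] at hq
    have h1 : (s * s) • R0 = R0 := by
      conv_lhs => rw [mul_smul, ← hq, smul_inv_smul]
    have h2 : (s : G) * s = 1 := free (s * s) (by simpa using mul_mem hs hs) R0 hRb h1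
    have hs1 : (s : G) = 1 := by
      by_contra hs1
      have := orderOf_dvd_of_pow_eq_one (show (s : G) ^ 2 = 1 by rw [pow_two]; exact h2)
      rw [L.ord _ hs hs1] at this
      norm_num at this
    rw [show s = 1 from Subtype.ext hs1, one_smul]
  have hK : ∀ k : M, (k : G) ∈ L.K → k • R0 = R0 ∧ k • b = b := fun k hk => by
    refine ⟨(huniq (k • R0) ?_).resolve_left fun e => hRb ?_, hbfix k (L.K_le hk)⟩
    · have hc : zm * k = k * zm := Subtype.ext (L.z_comm hk).eq.symm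
      rw [← mul_smul, hc, mul_smul, mem_fix.mp hR0z]
    · exact smul_left_cancel k (e.trans (hbfix k (L.K_le hk)).symm)
  refine ⟨R0, hRb, huniq, hK, htrans, fun s hs h => free s hs R0 hRb h, fun k hk q hqb hqR hkq => ?_⟩
  obtain ⟨s, hs, rfl⟩ := htrans q hqb
  have h1 : (k⁻¹ * s⁻¹ * k * s) • R0 = R0 := by
    rw [mul_smul, mul_smul, mul_smul, hkq, inv_smul_smul, inv_smul_eq_iff, (hK k hk).1]
  have hmem : ((k⁻¹ * s⁻¹ * k * s : M) : G) ∈ L.P := by
    have := L.norm (k : G)⁻¹ (inv_mem hk) _ (inv_mem hs)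
    rw [inv_inv] at this
    simpa using mul_mem this hs
  have h2 : (k : G)⁻¹ * (s : G)⁻¹ * k * s = 1 := by simpa using free _ hmem R0 hRb h1
  have hc : Commute (k : G) s := by
    show (k : G) * s = s * k
    calc (k : G) * s = s * k * ((k : G)⁻¹ * (s : G)⁻¹ * k * s) := by group
      _ = s * k := by rw [h2, mul_one]
  refine Subtype.ext ((L.fpf _ hk _ hs hc).resolve_right fun e => hqR ?_)
  rw [show s = 1 from Subtype.ext e, one_smul]

include hG T hNM in
/-- An element fixing three of the ten points is the identity. -/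
theorem triple (h10 : Nat.card (Pt L M) = 10) (x : M) {A B C : Pt L M} (hAB : A ≠ B) (hAC : A ≠ C) (hBC : B ≠ C)
    (hA : x • A = A) (hB : x • B = B) (hC : x • C = C) : x = 1 := by
  obtain ⟨R0, hRb, -, hK, htrans, hPfree, hKfree⟩ := ten_structure L M hNM T hG h10
  obtain ⟨m, rfl⟩ := MulAction.exists_smul_eq M A (base L M) |>.imp fun m hm => (inv_smul_eq_iff.mpr hm.symm : m⁻¹ • base L M = A).symm
  set y := m * x * m⁻¹ with hy
  have hyb : y • base L M = base L M := by
    rw [hy, mul_smul, mul_smul, hA, smul_inv_smul]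
  have hyB : y • (m • B) = m • B := by rw [hy, mul_smul, mul_smul, inv_smul_smul, hB]
  have hyC : y • (m • C) = m • C := by rw [hy, mul_smul, mul_smul, inv_smul_smul, hC]
  have hmB : m • B ≠ base L M := fun e => hAB (inv_smul_eq_iff.mpr e.symm)
  have hmC : m • C ≠ base L M := fun e => hAC (inv_smul_eq_iff.mpr e.symm)
  obtain ⟨t, ht, htB⟩ := htrans _ hmB
  set w := t⁻¹ * y * t with hw
  have htb : t • base L M = base L M := (smul_base_iff L M).mpr (L.P_le ht)
  have hwb : w • base L M = base L M := by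
    rw [hw, mul_smul, mul_smul, htb, hyb, inv_smul_eq_iff, htb]
  have hwR : w • R0 = R0 := by rw [hw, mul_smul, mul_smul, htB, hyB, ← htB, inv_smul_smul]
  have hwC : w • (t⁻¹ • m • C) = t⁻¹ • m • C := by rw [hw, mul_smul, mul_smul, smul_inv_smul, hyC]
  obtain ⟨s, hs, k, hk, e⟩ := L.exists_decomp ((smul_base_iff L M).mp hwb)
  have hwk : w = inc L M hNM (L.P_le hs) * inc L M hNM (L.K_le hk) := Subtype.ext e
  have hs1 : s = 1 := hPfree (inc L M hNM (L.P_le hs)) hs (by
    rw [hwk, mul_smul, (hK (inc L M hNM (L.K_le hk)) hk).1] at hwR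
    exact hwR)
  have hwK : (w : G) ∈ L.K := by rw [e, hs1, one_mul]; exact hk
  have hw1 := hKfree w hwK (t⁻¹ • m • C) (fun e => hmC (by rw [inv_smul_eq_iff.mp e, htb]))
    (fun e => hBC (smul_left_cancel m (by rw [inv_smul_eq_iff.mp e, htB])).symm) hwC
  have hy1 : y = 1 := by
    rw [show y = t * w * t⁻¹ by rw [hw]; group, hw1]; group
  rw [show x = m⁻¹ * y * m by rw [hy]; group, hy1]; group

include hG T hNM in
/-- The complement is regular on the eight other points. -/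
theorem K_trans (h10 : Nat.card (Pt L M) = 10) {R0 R1 : Pt L M}
    (hK : ∀ k : M, (k : G) ∈ L.K → k • R0 = R0 ∧ k • base L M = base L M)
    (hKfree : ∀ k : M, (k : G) ∈ L.K → ∀ q, q ≠ base L M → q ≠ R0 → k • q = q → k = 1)
    (hRb : R0 ≠ base L M) (h1 : R1 ≠ base L M) (h2 : R1 ≠ R0) :
    Set.InjOn (fun k : M => k • R1) (els (L.K.subgroupOf M) : Set M) ∧
      ∀ q, q ≠ base L M → q ≠ R0 → ∃ k : M, (k : G) ∈ L.K ∧ k • R1 = q := by
  set b := base L M
  have hinj : Set.InjOn (fun k : M => k • R1) (els (L.K.subgroupOf M) : Set M) := fun k hk l hl e => by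
    rw [Finset.mem_coe, mem_els, Subgroup.mem_subgroupOf] at hk hl
    refine (inv_mul_eq_one.mp (hKfree (l⁻¹ * k) (by simpa using mul_mem (inv_mem hl) hk) R1 h1 h2 ?_)).symm
    rw [mul_smul, show k • R1 = l • R1 from e, inv_smul_smul]
  refine ⟨hinj, fun q hqb hqR => ?_⟩
  have himg : (els (L.K.subgroupOf M)).image (fun k => k • R1) =
      ((Finset.univ : Finset (Pt L M)).erase b).erase R0 := by
    refine Finset.eq_of_subset_of_card_le (fun y hy => ?_) ?_
    · obtain ⟨k, hk, rfl⟩ := Finset.mem_image.mp hy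
      have hk' := hK k (Subgroup.mem_subgroupOf.mp (mem_els.mp hk))
      exact Finset.mem_erase.mpr ⟨fun e => h2 (smul_left_cancel k (e.trans hk'.1.symm)),
        Finset.mem_erase.mpr ⟨fun e => h1 (smul_left_cancel k (e.trans hk'.2.symm)), Finset.mem_univ _⟩⟩
    · rw [Finset.card_image_of_injOn hinj, card_els,
        Nat.card_congr (subgroupOfEquivOfLe (L.K_le.trans hNM)).toEquiv, L.hK,
        Finset.card_erase_of_mem (Finset.mem_erase.mpr ⟨hRb, Finset.mem_univ _⟩),
        Finset.card_erase_of_mem (Finset.mem_univ _), Finset.card_univ, ← Nat.card_eq_fintype_card, h10]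
  have : q ∈ (els (L.K.subgroupOf M)).image (fun k => k • R1) :=
    himg ▸ Finset.mem_erase.mpr ⟨hqR, Finset.mem_erase.mpr ⟨hqb, Finset.mem_univ _⟩⟩
  obtain ⟨k, hk, e⟩ := Finset.mem_image.mp this
  exact ⟨k, Subgroup.mem_subgroupOf.mp (mem_els.mp hk), e⟩

include hG T hNM in
/-- Ten points are impossible when the extra element centralises the complement. -/
theorem not_ten_quaternion (h10 : Nat.card (Pt L M) = 10) {g : G} (hg : g ∈ M) (hgN : g ∉ L.N)
    (hgK : ∀ k ∈ L.K, Commute g k) : False := by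
  obtain ⟨R0, hRb, huniq, hK, htrans, hPfree, hKfree⟩ := ten_structure L M hNM T hG h10
  set b := base L M
  set gm : M := ⟨g, hg⟩
  set zm := inc L M hNM (L.K_le L.hz)
  have hz : ∀ q : Pt L M, zm • q = q → zm • gm • q = gm • q := fun q hq => by
    rw [← mul_smul, show zm * gm = gm * zm from Subtype.ext (hgK L.z L.hz).eq.symm, mul_smul, hq]
  have hgb : gm • b = R0 :=
    (huniq _ (hz b (hK zm L.hz).2)).resolve_left fun e => hgN ((smul_base_iff L M).mp e)
  have hgR : gm • R0 = b := (huniq _ (hz R0 (hK zm L.hz).1)).resolve_right fun e =>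
    hRb (smul_left_cancel gm (e.trans hgb.symm))
  obtain ⟨R1, hR1⟩ : ∃ R1, R1 ∉ ({b, R0} : Finset (Pt L M)) := by
    by_contra h
    push Not at h
    have := Finset.card_le_card (show (Finset.univ : Finset (Pt L M)) ⊆ {b, R0} from fun q _ => h q)
    rw [Finset.card_univ, ← Nat.card_eq_fintype_card, h10] at this
    exact absurd (this.trans Finset.card_le_two) (by norm_num)
  simp only [Finset.mem_insert, Finset.mem_singleton, not_or] at hR1
  obtain ⟨hinj, htr⟩ := K_trans L M hNM T hG h10 hK hKfree hRb hR1.1 hR1.2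
  obtain ⟨qm, hqm, hq⟩ := htr (gm • R1) (fun e => hR1.2 (smul_left_cancel gm (e.trans hgR.symm)))
    (fun e => hR1.1 (smul_left_cancel gm (e.trans hgb.symm)))
  set x := qm⁻¹ * gm
  have hfix : ∀ k : M, (k : G) ∈ L.K → Commute (qm : G) k → x • k • R1 = k • R1 := fun k hk hc => by
    rw [← mul_smul, show x * k = k * x from Subtype.ext (by
      show ((qm : G)⁻¹ * g) * k = k * ((qm : G)⁻¹ * g)
      exact ((hc.inv_left).mul_left (hgK k hk)).eq), mul_smul, show x • R1 = qm⁻¹ • gm • R1 from mul_smul _ _ _,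
      ← hq, inv_smul_smul]
  obtain ⟨k3, hk3, hc3, h31, h3z⟩ : ∃ k : G, k ∈ L.K ∧ Commute (qm : G) k ∧ k ≠ 1 ∧ k ≠ L.z := by
    by_cases hq1 : (qm : G) = 1 ∨ (qm : G) = L.z
    · obtain ⟨k, hk, hk'⟩ : ∃ k ∈ L.K, k ∉ ({1, L.z} : Finset G) := by
        by_contra h
        push Not at h
        have hle := Finset.card_le_card (show els L.K ⊆ {1, L.z} from fun x hx => h x (mem_els.mp hx))
        rw [card_els, L.hK] at hle
        exact absurd (hle.trans Finset.card_le_two) (by norm_num)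
      simp only [Finset.mem_insert, Finset.mem_singleton, not_or] at hk'
      refine ⟨k, hk, ?_, hk'.1, hk'.2⟩
      rcases hq1 with e | e <;> rw [e]
      exacts [Commute.one_left k, (L.z_comm hk).symm]
    · rw [not_or] at hq1
      exact ⟨qm, hqm, Commute.refl _, hq1.1, hq1.2⟩
  have hne : ∀ k l : M, (k : G) ∈ L.K → (l : G) ∈ L.K → (k : G) ≠ l → k • R1 ≠ l • R1 := fun k l hk hl hkl e =>
    hkl (congrArg Subtype.val (hinj (by simpa [mem_els] using Subgroup.mem_subgroupOf.mpr hk)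
      (by simpa [mem_els] using Subgroup.mem_subgroupOf.mpr hl) e))
  have hx := triple L M hNM T hG h10 x
    (hne 1 zm L.K.one_mem L.hz (fun e => M22Fix.z_ne L e.symm))
    (hne 1 (inc L M hNM (L.K_le hk3)) L.K.one_mem hk3 h31.symm)
    (hne zm (inc L M hNM (L.K_le hk3)) L.hz hk3 h3z.symm)
    (hfix 1 L.K.one_mem (Commute.one_right _)) (hfix zm L.hz (L.z_comm hqm))
    (hfix (inc L M hNM (L.K_le hk3)) hk3 hc3)
  have hgq : g = qm := congrArg Subtype.val (inv_mul_eq_one.mp hx).symm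
  exact hgN (hgq ▸ L.K_le hqm)

include hG T hNM in
/-- Ten points are impossible when the extra element cubes a generator of the complement. -/
theorem not_ten_cyclic (h10 : Nat.card (Pt L M) = 10) {g c : G} (hg : g ∈ M) (hgN : g ∉ L.N) (hc : c ∈ L.K)
    (hc8 : orderOf c = 8) (hgc : g * c * g⁻¹ = c ^ 3) : False := by
  obtain ⟨R0, hRb, huniq, hK, htrans, hPfree, hKfree⟩ := ten_structure L M hNM T hG h10
  obtain ⟨h3, S, hS⟩ := L.sylow
  obtain ⟨s, hs, hs1, -⟩ := exists_basis T hG S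
  rw [hS] at hs
  have hzc : c ^ 4 = L.z := L.zuniq _ (pow_mem hc 4) (by rw [orderOf_pow, hc8]; rfl)
  have hc8' : c ^ 8 = 1 := hc8 ▸ pow_orderOf_eq_one c
  have hgz : Commute g L.z := by
    refine mul_inv_eq_iff_eq_mul.mp ?_
    rw [← hzc, ← conj_pow, hgc, ← pow_mul, show 3 * 4 = 4 + 8 by norm_num, pow_add, hc8', mul_one]
  -- coordinates
  set d : ℕ → G := fun i => c ^ i * s * (c ^ i)⁻¹ with hd
  have hdP : ∀ i, d i ∈ L.P := fun i => L.norm _ (pow_mem hc i) _ hs
  have hd0 : d 0 = s := by simp [hd]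
  have hdsucc : ∀ i, c * d i * c⁻¹ = d (i + 1) := fun i => by
    simp only [hd]; rw [pow_succ']; group
  have hd4 : d 4 = s⁻¹ := by simp only [hd]; rw [hzc, L.zinv s hs]
  have hd4' : ∀ i, d (i + 4) = (d i)⁻¹ := fun i => by
    show c ^ (i + 4) * s * (c ^ (i + 4))⁻¹ = (c ^ i * s * (c ^ i)⁻¹)⁻¹
    rw [pow_add, hzc, show c ^ i * L.z * s * (c ^ i * L.z)⁻¹ = c ^ i * (L.z * s * L.z⁻¹) * (c ^ i)⁻¹ by group,
      L.zinv s hs]
    group
  have hdper : ∀ i, d (i + 8) = d i := fun i => by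
    show c ^ (i + 8) * s * (c ^ (i + 8))⁻¹ = c ^ i * s * (c ^ i)⁻¹
    rw [pow_add, hc8', mul_one]
  have hd1 : d 1 ∉ zpowers s := fun hmem => by
    obtain ⟨e, he⟩ := mem_zpowers_iff.mp hmem
    have h2 : c * s * c⁻¹ = s ^ e := by rw [he]; simp [hd]
    have ho : orderOf s = 3 := L.ord s hs hs1
    rw [← zpow_mod_orderOf, ho] at h2
    have h0 : e % (3 : ℤ) = 0 ∨ e % (3 : ℤ) = 1 ∨ e % (3 : ℤ) = 2 := by omega
    rcases h0 with e0 | e0 | e0 <;> push_cast at h2 <;> rw [e0] at h2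
    · exact hs1 (conj_eq_one_iff.mp (h2.trans (zpow_zero s)))
    · rw [zpow_one] at h2
      rcases L.fpf c hc s hs (mul_inv_eq_iff_eq_mul.mp h2) with h | h
      · rw [h, orderOf_one] at hc8; omega
      · exact hs1 h
    · rw [zpow_two] at h2
      have h4 : c ^ 2 * s * (c ^ 2)⁻¹ = s := by
        rw [show c ^ 2 * s * (c ^ 2)⁻¹ = c * (c * s * c⁻¹) * c⁻¹ by rw [pow_two]; group, h2,
          show c * (s * s) * c⁻¹ = c * s * c⁻¹ * (c * s * c⁻¹) by group, h2,
          show s * s * (s * s) = s ^ 3 * s by rw [pow_succ, pow_two]; simp only [mul_assoc], ← ho, pow_orderOf_eq_one, one_mul]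
      rcases L.fpf _ (pow_mem hc 2) s hs (mul_inv_eq_iff_eq_mul.mp h4) with h | h
      · have := orderOf_dvd_of_pow_eq_one h
        rw [hc8] at this; norm_num at this
      · exact hs1 h
  have ho1 : orderOf s = 3 := L.ord s hs hs1
  have hd1ne : d 1 ≠ 1 := fun e => hd1 (e ▸ one_mem _)
  have hod : orderOf (d 1) = 3 := L.ord _ (hdP 1) hd1ne
  have hcomm : Commute s (d 1) := L.comm s hs _ (hdP 1)
  have hF : ∀ a b a' b' : ℕ, s ^ a * d 1 ^ b = s ^ a' * d 1 ^ b' → a % 3 = a' % 3 ∧ b % 3 = b' % 3 := by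
    intro a b a' b' e
    have hzm : d 1 ^ ((b : ℤ) - b') = s ^ ((a' : ℤ) - a) := by
      rw [zpow_sub, zpow_natCast, zpow_natCast, sub_eq_neg_add (a' : ℤ), zpow_add, zpow_neg, zpow_natCast,
        zpow_natCast]
      calc d 1 ^ b * (d 1 ^ b')⁻¹ = (s ^ a)⁻¹ * (s ^ a * d 1 ^ b) * (d 1 ^ b')⁻¹ := by group
        _ = (s ^ a)⁻¹ * s ^ a' := by rw [e]; group
    have hb : (3 : ℤ) ∣ (b : ℤ) - b' := by
      by_contra h
      refine hd1 (mem_zpowers_iff.mpr ⟨((a' : ℤ) - a) * ((b : ℤ) - b'), ?_⟩)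
      rw [zpow_mul, ← hzm, ← zpow_mul]
      conv_rhs => rw [← zpow_one (d 1)]
      rw [zpow_eq_zpow_iff_modEq, hod]
      have h2 : ((b : ℤ) - b') % 3 = 1 ∨ ((b : ℤ) - b') % 3 = 2 := by omega
      rw [Int.ModEq, Int.mul_emod]
      rcases h2 with h2 | h2 <;> rw [Nat.cast_ofNat, h2] <;> norm_num
    have h1 : s ^ ((a' : ℤ) - a) = 1 := by
      rw [← hzm]
      exact orderOf_dvd_iff_zpow_eq_one.mp (by rw [hod]; exact_mod_cast hb)
    have ha := orderOf_dvd_iff_zpow_eq_one.mpr h1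
    rw [ho1] at ha
    omega
  have hcover : ∀ v ∈ L.P, ∃ a b : ℕ, a < 3 ∧ b < 3 ∧ v = s ^ a * d 1 ^ b := by
    have himg : ((Finset.range 3) ×ˢ (Finset.range 3)).image (fun p : ℕ × ℕ => s ^ p.1 * d 1 ^ p.2) = els L.P := by
      refine Finset.eq_of_subset_of_card_le (fun y hy => ?_) ?_
      · obtain ⟨p, -, rfl⟩ := Finset.mem_image.mp hy
        exact mem_els.mpr (mul_mem (pow_mem hs _) (pow_mem (hdP 1) _))
      · rw [Finset.card_image_of_injOn fun p hp q hq e => ?_, card_els, L.hP]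
        · rfl
        · simp only [Finset.coe_product, Set.mem_prod, Finset.coe_range, Set.mem_Iio] at hp hq
          obtain ⟨e1, e2⟩ := hF _ _ _ _ e
          exact Prod.ext (by omega) (by omega)
    intro v hv
    rw [← mem_els, ← himg, Finset.mem_image] at hv
    obtain ⟨p, hp, e⟩ := hv
    simp only [Finset.mem_product, Finset.mem_range] at hp
    exact ⟨p.1, p.2, hp.1, hp.2, e.symm⟩
  obtain ⟨α, β, hα, hβ, hd2⟩ := hcover _ (hdP 2)
  have hconj : ∀ x y : ℕ, c * (s ^ x * d 1 ^ y) * c⁻¹ = s ^ (α * y) * d 1 ^ (x + β * y) := fun x y => by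
    have h1 : c * s * c⁻¹ = d 1 := by simp [hd]
    rw [show c * (s ^ x * d 1 ^ y) * c⁻¹ = c * s ^ x * c⁻¹ * (c * d 1 ^ y * c⁻¹) by group, ← conj_pow,
      ← conj_pow, h1, hdsucc 1, hd2, (hcomm.pow_pow α β).mul_pow, ← pow_mul, ← pow_mul, ← mul_assoc,
      ((hcomm.pow_pow (α * y) x).symm).eq, mul_assoc, ← pow_add]
  have hd3 : d 3 = s ^ (α * β) * d 1 ^ (α + β * β) := by rw [← hdsucc 2, hd2, hconj]
  have hd4'' : d 4 = s ^ (α * (α + β * β)) * d 1 ^ (α * β + β * (α + β * β)) := by rw [← hdsucc 3, hd3, hconj]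
  have hsinv : s⁻¹ = s ^ 2 := inv_eq_of_mul_eq_one_right (by
    rw [← pow_succ', show 2 + 1 = orderOf s from ho1.symm, pow_orderOf_eq_one])
  have hdinv : (d 1)⁻¹ = d 1 ^ 2 := inv_eq_of_mul_eq_one_right (by
    rw [← pow_succ', show 2 + 1 = orderOf (d 1) from hod.symm, pow_orderOf_eq_one])
  obtain ⟨e1, e2⟩ := hF (α * (α + β * β)) (α * β + β * (α + β * β)) 2 0 (by
    rw [← hd4'', hd4, hsinv, pow_zero, mul_one])
  have key : ∀ a < 3, ∀ b < 3, a * (a + b * b) % 3 = 2 % 3 → (a * b + b * (a + b * b)) % 3 = 0 % 3 →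
      (a * b % 3 = 1 ∧ (a + b * b) % 3 = 2) ∨ (a * b % 3 = 2 ∧ (a + b * b) % 3 = 2) := by
    intro a ha b hb h1 h2
    interval_cases a <;> interval_cases b <;> simp at h1 h2 ⊢
  have hcases : d 3 = s * (d 1)⁻¹ ∨ d 3 = s⁻¹ * (d 1)⁻¹ := by
    rw [hd3, ← pow_mod_orderOf s, ← pow_mod_orderOf (d 1) (α + β * β), ho1, hod, hsinv, hdinv]
    rcases key α hα β hβ e1 e2 with ⟨k1, k2⟩ | ⟨k1, k2⟩ <;> rw [k1, k2]
    · exact Or.inl (by rw [pow_one])
    · exact Or.inr rfl
  -- the word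
  set b := base L M
  set gm : M := ⟨g, hg⟩
  set cm := inc L M hNM (L.K_le hc) with hcm
  set sm := inc L M hNM (L.P_le hs) with hsm
  set zm := inc L M hNM (L.K_le L.hz)
  have hz : ∀ q : Pt L M, zm • q = q → zm • gm • q = gm • q := fun q hq => by
    rw [← mul_smul, show zm * gm = gm * zm from Subtype.ext hgz.eq.symm, mul_smul, hq]
  have hgb : gm • b = R0 :=
    (huniq _ (hz b (hK zm L.hz).2)).resolve_left fun e => hgN ((smul_base_iff L M).mp e)
  have hgR : gm • R0 = b := (huniq _ (hz R0 (hK zm L.hz).1)).resolve_right fun e =>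
    hRb (smul_left_cancel gm (e.trans hgb.symm))
  have hsb : sm • b = b := (smul_base_iff L M).mpr (L.P_le hs)
  set R1 := sm • R0 with hR1def
  have hR1b : R1 ≠ b := fun e => hRb (smul_left_cancel sm (e.trans hsb.symm))
  have hR1R : R1 ≠ R0 := fun e => hs1 (hPfree sm hs e)
  obtain ⟨hinj, htr⟩ := K_trans L M hNM T hG h10 hK hKfree hRb hR1b hR1R
  obtain ⟨qm, hqm, hq⟩ := htr (gm • R1) (fun e => hR1R (smul_left_cancel gm (e.trans hgR.symm)))
    (fun e => hR1b (smul_left_cancel gm (e.trans hgb.symm)))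
  set xm := qm⁻¹ * gm with hxm
  obtain ⟨j, hj⟩ : ∃ j : ℕ, c ^ j = (qm : G) := by
    have h := M22Fix.els_cyclic L hc hc8 ▸ mem_els.mpr hqm
    obtain ⟨j, -, e⟩ := Finset.mem_image.mp h
    exact ⟨j, e⟩
  have hcb : ∀ i : ℕ, (cm ^ i) • b = b ∧ (cm ^ i) • R0 = R0 := fun i =>
    ⟨(hK (cm ^ i) (by simp [hcm, inc, pow_mem hc])).2, (hK (cm ^ i) (by simp [hcm, inc, pow_mem hc])).1⟩
  have hxc : ∀ i : ℕ, xm * cm ^ i = cm ^ (3 * i) * xm := fun i => Subtype.ext (by
    show ((qm : G)⁻¹ * g) * (c ^ i) = c ^ (3 * i) * ((qm : G)⁻¹ * g)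
    rw [pow_mul, ← hgc, conj_pow, ← hj]
    calc (c ^ j)⁻¹ * g * c ^ i = (c ^ j)⁻¹ * (g * c ^ i * g⁻¹) * g := by group
      _ = g * c ^ i * g⁻¹ * ((c ^ j)⁻¹ * g) := by
        rw [← conj_pow, hgc, ← pow_mul, ((Commute.pow_pow_self c j (3 * i)).inv_left).eq, mul_assoc])
  have hxR1 : xm • R1 = R1 := by rw [hxm, mul_smul, ← hq, inv_smul_smul]
  have hpt : ∀ i : ℕ, (cm ^ i) • R1 = (inc L M hNM (L.P_le (hdP i))) • R0 := fun i => by
    rw [hR1def, ← mul_smul, show inc L M hNM (L.P_le (hdP i)) = cm ^ i * sm * (cm ^ i)⁻¹ from Subtype.ext (by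
      simp [hcm, hsm, inc, hd]), mul_smul (cm ^ i * sm), inv_smul_eq_iff.mpr (hcb i).2.symm]
  have hW : ∀ i : ℕ, s * d (3 * i + 4) = d i → (sm * cm * xm * cm) • (cm ^ i) • R1 = (cm ^ i) • R1 := fun i hi => by
    have h1 : sm * cm * xm * cm * cm ^ i = sm * cm ^ (3 * i + 4) * xm := by
      calc sm * cm * xm * cm * cm ^ i = sm * cm * (xm * cm ^ (i + 1)) := by rw [pow_succ']; group
        _ = sm * (cm * cm ^ (3 * (i + 1))) * xm := by rw [hxc]; group
        _ = sm * cm ^ (3 * i + 4) * xm := by rw [← pow_succ', show 3 * (i + 1) + 1 = 3 * i + 4 by ring]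
    rw [← mul_smul, h1, mul_smul, hxR1, mul_smul, hpt, hpt, ← mul_smul]
    congr 1
    exact Subtype.ext hi
  have hne : ∀ i k : ℕ, i < 8 → k < 8 → i ≠ k → (cm ^ i) • R1 ≠ (cm ^ k) • R1 := fun i k hi hk hik e => by
    have h := hinj (by simp [hcm, inc, mem_els, Subgroup.mem_subgroupOf, pow_mem hc])
      (by simp [hcm, inc, mem_els, Subgroup.mem_subgroupOf, pow_mem hc]) e
    have h' : c ^ i = c ^ k := by simpa [hcm, inc] using congrArg Subtype.val h
    exact hik (pow_injOn_Iio_orderOf (by simpa [hc8] using hi) (by simpa [hc8] using hk) h')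
  have hWb : (sm * cm * xm * cm) • b ≠ b := by
    rw [mul_smul, mul_smul, mul_smul, show cm • b = b by simpa using (hcb 1).1, hxm, mul_smul, hgb,
      inv_smul_eq_iff.mpr (hK qm hqm).1.symm, show cm • R0 = R0 by simpa using (hcb 1).2]
    exact hR1b
  have hcP : ∀ i k, Commute (d i) (d k) := fun i k => L.comm _ (hdP i) _ (hdP k)
  have hsd : ∀ k, Commute s (d k) := fun k => L.comm _ hs _ (hdP k)
  have hs3 : s * s = s⁻¹ := by rw [hsinv, pow_two]
  have h4 : s * d (3 * 4 + 4) = d 4 := by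
    rw [show 3 * 4 + 4 = 0 + 8 + 8 by norm_num, hdper, hdper, hd0, hd4, hs3]
  have hfalse : ∀ i k : ℕ, i < 8 → k < 8 → i ≠ k → i ≠ 4 → k ≠ 4 → s * d (3 * i + 4) = d i →
      s * d (3 * k + 4) = d k → False := fun i k hi hk hik hi4 hk4 e e' => hWb (by
    rw [triple L M hNM T hG h10 (sm * cm * xm * cm) (hne 4 i (by norm_num) hi hi4.symm)
      (hne 4 k (by norm_num) hk hk4.symm) (hne i k hi hk hik) (hW 4 h4) (hW i e) (hW k e'), one_smul])
  rcases hcases with e | e
  · refine hfalse 1 3 (by norm_num) (by norm_num) (by norm_num) (by norm_num) (by norm_num) ?_ ?_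
    · rw [show 3 * 1 + 4 = 3 + 4 by norm_num, hd4', e, mul_inv_rev, inv_inv, (hsd 1).inv_left.symm.eq,
        mul_inv_cancel_left]
    · rw [show 3 * 3 + 4 = 1 + 4 + 8 by norm_num, hdper, hd4', e]
  · refine hfalse 5 7 (by norm_num) (by norm_num) (by norm_num) (by norm_num) (by norm_num) ?_ ?_
    · rw [show 3 * 5 + 4 = 3 + 8 + 8 by norm_num, hdper, hdper, e, show (5 : ℕ) = 1 + 4 by norm_num, hd4',
        mul_inv_cancel_left]
    · rw [show 3 * 7 + 4 = 1 + 8 + 8 + 8 by norm_num, hdper, hdper, hdper, show (7 : ℕ) = 3 + 4 by norm_num,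
        hd4', e, mul_inv_rev, inv_inv, inv_inv, (hsd 1).symm.eq]

end CfsgLib.KGroups.M22Orbit
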