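import Cfsg.Agent.Lib.KGroups.M22Table

/-!
# The finite searches for the columns at elements of order prime to 385 in a group of order 443520

A column is fixed by the values of the characters of degrees 21, 45, 99 and 210.
-/

set_option autoImplicit false

namespace CfsgLib.KGroups.M22Search

open CfsgLib.KGroups.M22Table

/-- The column with prescribed values at the degrees 21, 45, 99 and 210. -/
def colOf (a b c e : ℤ) : Fin 12 → ℤ :=
  ![1, a, b, b, 1 + c - b, c, 1 + a + (-2 * a + 3 * b + e) - c, e, -2 * a + 3 * b + e, 1 - a + 2 * b + e,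
    1 - a + 2 * b + e, 4 - 3 * (1 + c - b) - 3 * (1 + a + (-2 * a + 3 * b + e) - c)]

/-- The inner product of two columns. -/
def dot (v w : Fin 12 → ℤ) : ℤ := ∑ i, v i * w i

/-- The column at the elements of order three. -/
def wcol : Fin 12 → ℤ := colOf 3 0 0 3

/-- The columns at the elements of order four with a centraliser of order sixteen. -/
def c16 : Fin 12 → ℤ := colOf 1 1 (-1) (-2)

/-- The columns at the elements of order four with a centraliser of order 32. -/
def c32 : Fin 12 → ℤ := colOf 1 1 3 (-2)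

/-- The column at the elements of order eight. -/
def c8 : Fin 12 → ℤ := colOf (-1) (-1) (-1) 0

theorem wcol_eq : wcol = ![1, 3, 0, 0, 1, 0, 1, 3, -3, 1, 1, -2] := by decide +kernel
theorem c16_eq : c16 = ![1, 1, 1, 1, -1, -1, 2, -2, -1, 0, 0, 1] := by decide +kernel
theorem c32_eq : c32 = ![1, 1, 1, 1, 3, 3, -2, -2, -1, 0, 0, 1] := by decide +kernel
theorem c8_eq : c8 = ![1, -1, -1, -1, 1, -1, 0, 0, -1, 0, 0, 1] := by decide +kernel

/-- The sum of squares of a column. -/
def sq (v : Fin 12 → ℤ) : ℤ := dot v v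

/-- The sum of squares of `colOf`. -/
def sqOf (a b c e : ℤ) : ℤ :=
  let f := -2 * a + 3 * b + e
  let d := 1 + c - b
  let g := 1 + a + f - c
  let h := 1 - a + 2 * b + e
  let k := 4 - 3 * d - 3 * g
  1 + a * a + 2 * (b * b) + d * d + c * c + g * g + e * e + f * f + 2 * (h * h) + k * k

theorem sq_colOf (a b c e : ℤ) : sq (colOf a b c e) = sqOf a b c e := by
  simp only [sq, dot, sqOf, colOf, Fin.sum_univ_succ, Fin.sum_univ_zero, Matrix.cons_val_zero,
    Matrix.cons_val_succ]
  ring

/-- The integers of absolute value at most `n`. -/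
def around (n : ℕ) : List ℤ := (List.range (2 * n + 1)).map fun i : ℕ => (i : ℤ) - n

theorem mem_around {n : ℕ} {x : ℤ} (h1 : -(n : ℤ) ≤ x) (h2 : x ≤ n) : x ∈ around n :=
  List.mem_map.mpr ⟨(x + n).toNat, List.mem_range.mpr (by omega), by omega⟩

/-- The degree divides the class length times the value. -/
def divCond (v : Fin 12 → ℤ) : Bool :=
  (List.finRange 12).all fun i => decide (((degs i : ℕ) : ℤ) ∣ 443520 / sq v * v i)

/-- Either the four parameters are those of a candidate at the elements of order three, or a condition fails. -/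
def threeOK (i j k l : ℤ) : Bool :=
  let C := sqOf (3 * i) (9 * j) (9 * k) (3 * l)
  decide (1152 < C) || decide (C % 9 ≠ 0) || decide (1152 % C ≠ 0) || !(divCond (colOf (3 * i) (9 * j) (9 * k) (3 * l))) ||
    (decide (i = l) && decide (j = 0) && decide (k = 0) && decide (i = -1 ∨ i = 0 ∨ i = 1))

theorem three_all : ((around 6).all fun i => (around 2).all fun j => (around 3).all fun k =>
    (around 11).all fun l => threeOK i j k l) = true := by
  decide +kernel

theorem three_search {i j k l : ℤ} (hi : i ∈ around 6) (hj : j ∈ around 2) (hk : k ∈ around 3) (hl : l ∈ around 11)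
    (h1 : sq (colOf (3 * i) (9 * j) (9 * k) (3 * l)) ≤ 1152)
    (h2 : sq (colOf (3 * i) (9 * j) (9 * k) (3 * l)) % 9 = 0)
    (h3 : 1152 % sq (colOf (3 * i) (9 * j) (9 * k) (3 * l)) = 0)
    (h4 : divCond (colOf (3 * i) (9 * j) (9 * k) (3 * l)) = true) :
    i = l ∧ j = 0 ∧ k = 0 ∧ (i = -1 ∨ i = 0 ∨ i = 1) := by
  have h := three_all
  simp only [List.all_eq_true] at h
  have h' := h i hi j hj k hk l hl
  rw [threeOK] at h'
  simp only [← sq_colOf, Bool.or_eq_true, Bool.and_eq_true, Bool.not_eq_true', decide_eq_true_eq, h2, h3, h4,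
    not_lt.mpr h1] at h'
  simp at h'
  tauto

/-- The three candidates at the elements of order three. -/
def threes : List (Fin 12 → ℤ) := [colOf (-3) 0 0 (-3), colOf 0 0 0 0, colOf 3 0 0 3]

theorem threes_dot : ∀ v ∈ threes, ∀ w ∈ threes, dot v w ≠ 0 := by decide +kernel

/-- No column of an element of order nine fits above a candidate for its cube. -/
def nineOK (w : Fin 12 → ℤ) (i j k l : ℤ) : Bool :=
  let C := sqOf (3 * i) (3 * j) (3 * k) (3 * l)
  decide (36 < C) || decide (C % 9 ≠ 0) || decide (dot (colOf (3 * i) (3 * j) (3 * k) (3 * l)) w ≠ 0) ||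
    decide (sq w % C ≠ 0) ||
      !((List.finRange 12).all fun m => decide ((colOf (3 * i) (3 * j) (3 * k) (3 * l) m - w m) % 3 = 0))

theorem nine_all : (threes.all fun w => (around 2).all fun i => (around 2).all fun j => (around 2).all fun k =>
    (around 2).all fun l => nineOK w i j k l) = true := by
  decide +kernel

theorem nine_search {w : Fin 12 → ℤ} (hw : w ∈ threes) {i j k l : ℤ} (hi : i ∈ around 2) (hj : j ∈ around 2)
    (hk : k ∈ around 2) (hl : l ∈ around 2) (h0 : dot (colOf (3 * i) (3 * j) (3 * k) (3 * l)) w = 0)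
    (h1 : sq (colOf (3 * i) (3 * j) (3 * k) (3 * l)) ≤ 36)
    (h9 : sq (colOf (3 * i) (3 * j) (3 * k) (3 * l)) % 9 = 0)
    (hd : sq w % sq (colOf (3 * i) (3 * j) (3 * k) (3 * l)) = 0)
    (hm : ∀ m, (colOf (3 * i) (3 * j) (3 * k) (3 * l) m - w m) % 3 = 0) : False := by
  have h := nine_all
  simp only [List.all_eq_true] at h
  have h' := h w hw i hi j hj k hk l hl
  rw [nineOK] at h'
  simp [← sq_colOf, not_lt.mpr h1, h9, h0, hd, hm] at h'

/-- The columns at a 2-element of order at least four. -/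
def twos : List (Fin 12 → ℤ) :=
  [c8, c16, c32, colOf (-3) (-3) (-5) 2, colOf (-3) (-3) 3 2, colOf 5 5 3 (-6)]

theorem two_search : ∀ i ∈ around 10, ∀ k ∈ around 10,
    sq (colOf (2 * i + 1) (2 * i + 1) (2 * k + 1) (-1 - (2 * i + 1))) ≤ 384 →
    384 % sq (colOf (2 * i + 1) (2 * i + 1) (2 * k + 1) (-1 - (2 * i + 1))) = 0 →
    (∀ m, (colOf (2 * i + 1) (2 * i + 1) (2 * k + 1) (-1 - (2 * i + 1)) m - (degs m : ℕ)) % 2 = 0) →
    divCond (colOf (2 * i + 1) (2 * i + 1) (2 * k + 1) (-1 - (2 * i + 1))) = true →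
    colOf (2 * i + 1) (2 * i + 1) (2 * k + 1) (-1 - (2 * i + 1)) ∈ twos := by
  decide +kernel

/-- The signed count of square roots, the pairs of degrees 45 and 280 left out. -/
def rootsOf (v : Fin 12 → ℤ) : ℤ := v 0 + v 1 + v 4 + v 5 + v 6 + v 7 + v 8 + v 11

theorem roots_c64 : rootsOf (colOf (-3) (-3) (-5) 2) < 0 := by decide +kernel
theorem roots_c8 : rootsOf c8 = 0 := by decide +kernel
theorem roots_c16 : rootsOf c16 = 0 := by decide +kernel
theorem roots_c32 : rootsOf c32 = 4 := by decide +kernel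
theorem roots_big : rootsOf (colOf (-3) (-3) 3 2) = 4 ∧ rootsOf (colOf 5 5 3 (-6)) = 4 := by decide +kernel

theorem big_dot : ∀ v ∈ [c8, c16, c32, colOf (-3) (-3) 3 2, colOf 5 5 3 (-6)],
    ∀ w ∈ [colOf (-3) (-3) 3 2, colOf 5 5 3 (-6)], dot v w ≠ 0 := by
  decide +kernel

theorem small_dot : dot c8 c8 ≠ 0 ∧ dot c16 c16 ≠ 0 ∧ dot c32 c32 ≠ 0 := by decide +kernel

theorem sizes : sq wcol = 36 ∧ sq c8 = 8 ∧ sq c16 = 16 ∧ sq c32 = 32 := by decide +kernel

end CfsgLib.KGroups.M22Search
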