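import Cfsg.Agent.Lib.KGroups.M22Block

/-!
# The automiser of a Sylow 7-subgroup of a simple group of order 443520, first steps

The possible orders of the normaliser, and the members shared by the principal blocks for 7 and 11.
-/

set_option autoImplicit false

namespace CfsgLib.KGroups.M22Seven

open Cfsg CfsgLib.Blocks CfsgLib.KGroups.M11Tools CfsgLib.KGroups.M12Tools CfsgLib.KGroups.M12Local
  CfsgLib.KGroups.M22Tools CfsgLib.KGroups.M22Frame CfsgLib.KGroups.M22Check CfsgLib.KGroups.M22Eleven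
  CfsgLib.KGroups.M22Block Subgroup
open CfsgLib.SmallGroups
open scoped Classical

variable {G : Type*} [Group G] [Fintype G]

/-- Every power generating the Sylow subgroup is conjugate to the generator when the automiser is full. -/
theorem exists_conj_pow {p : ℕ} [hp : Fact p.Prime] {x : G} (hx : orderOf x = p)
    (hN : Nat.card (normalizer ((zpowers x : Subgroup G) : Set G)) =
      (p - 1) * Nat.card (centralizer ({x} : Set G)))
    {j : ℕ} (hj : ¬ p ∣ j) : IsConj (x ^ j) x := by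
  set N := normalizer ((zpowers x : Subgroup G) : Set G)
  set S : Finset G := Finset.univ.filter fun g => g ∈ N
  set T : Finset G := (Finset.Ico 1 p).image fun i => x ^ i
  have hS : S.card = Nat.card N := by rw [Nat.card_eq_fintype_card, Fintype.card_subtype]
  have hsub : S.image (fun g => g * x * g⁻¹) ⊆ T := fun y hy => by
    obtain ⟨g, hg, rfl⟩ := Finset.mem_image.mp hy
    have h1 := (mem_normalizer_iff.mp (Finset.mem_filter.mp hg).2 x).mp (mem_zpowers x)
    rw [← mem_powers_iff_mem_zpowers] at h1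
    obtain ⟨k, hk⟩ := h1
    refine Finset.mem_image.mpr ⟨k % p, Finset.mem_Ico.mpr ⟨Nat.one_le_iff_ne_zero.mpr fun h0 => ?_,
      Nat.mod_lt _ hp.out.pos⟩, by rw [← hx, pow_mod_orderOf]; exact hk⟩
    have h2 : g * x * g⁻¹ = 1 := by
      rw [← show x ^ k = g * x * g⁻¹ from hk, ← pow_mod_orderOf, hx, h0, pow_zero]
    rw [conj_eq_one_iff.mp h2, orderOf_one] at hx
    exact hp.out.one_lt.ne hx
  have hfib : ∀ y ∈ S.image (fun g => g * x * g⁻¹),
      (S.filter fun g => g * x * g⁻¹ = y).card ≤ Nat.card (centralizer ({x} : Set G)) := fun y hy => by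
    obtain ⟨g₁, -, rfl⟩ := Finset.mem_image.mp hy
    rw [Nat.card_eq_fintype_card, Fintype.card_subtype]
    refine Finset.card_le_card_of_injOn (fun g => g₁⁻¹ * g) (fun g hg => ?_) fun g _ g' _ e => mul_left_cancel e
    rw [Finset.mem_coe, Finset.mem_filter] at hg
    refine Finset.mem_filter.mpr ⟨Finset.mem_univ _, mem_centralizer_singleton_iff.mpr ?_⟩
    calc g₁⁻¹ * g * x = g₁⁻¹ * (g * x * g⁻¹) * g := by group
      _ = g₁⁻¹ * (g₁ * x * g₁⁻¹) * g := by rw [hg.2]
      _ = x * (g₁⁻¹ * g) := by group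
  have h1 := Finset.card_le_mul_card_image S (Nat.card (centralizer ({x} : Set G))) hfib
  rw [hS, hN] at h1
  have h2 : p - 1 ≤ (S.image fun g => g * x * g⁻¹).card :=
    Nat.le_of_mul_le_mul_left (by rwa [mul_comm]) Nat.card_pos
  have hT : T.card ≤ p - 1 := Finset.card_image_le.trans (by simp)
  have heq := Finset.eq_of_subset_of_card_le hsub (hT.trans h2)
  have hj' : x ^ j ∈ T := Finset.mem_image.mpr ⟨j % p, Finset.mem_Ico.mpr
    ⟨Nat.one_le_iff_ne_zero.mpr fun h0 => hj (Nat.dvd_of_mod_eq_zero h0), Nat.mod_lt _ hp.out.pos⟩,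
      by rw [← hx, pow_mod_orderOf]⟩
  rw [← heq] at hj'
  obtain ⟨g, -, hg⟩ := Finset.mem_image.mp hj'
  exact (isConj_iff.mpr ⟨g, hg⟩).symm

/-- A single exceptional character: every member of the block is constant on the sections. -/
theorem exists_signs {p e : ℕ} [hp : Fact p.Prime] {P : Sylow p G} (F : Frame p e P) (he : e + 1 = p)
    (hY : F.Y.card = 1) :
    ∃ (B : Finset (IrrCharacter G)) (s : IrrCharacter G → ℤ),
      (∀ χ ∈ B, χ ≠ trivChar G ∧ (s χ = 1 ∨ s χ = -1) ∧ (charDegree (χ : G → ℂ) : ℤ) ≡ s χ [ZMOD (p : ℤ)] ∧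
        ∀ i, ¬ p ∣ i → ∀ u : G, Commute F.x u → ¬ p ∣ orderOf u → (χ : G → ℂ) (F.x ^ i * u) = (s χ : ℂ)) ∧
      1 + ∑ χ ∈ B, s χ * (charDegree (χ : G → ℂ) : ℤ) = 0 := by
  obtain ⟨θ, hθ⟩ := Finset.card_eq_one.mp hY
  have hθY : θ ∈ F.Y := by rw [hθ]; exact Finset.mem_singleton_self θ
  set s : IrrCharacter G → ℤ := fun χ => if χ = θ then -F.εy else F.sgn χ with hs
  have hθX : θ ∉ F.X := fun h => Finset.disjoint_left.mp F.hdisj h hθY
  have hsX : ∀ χ ∈ F.X, s χ = F.sgn χ := fun χ h => by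
    simp only [hs]
    exact if_neg fun h' : χ = θ => hθX (h' ▸ h)
  have hsθ : s θ = -F.εy := by simp [hs]
  have hall : ∀ χ ∈ F.X ∪ F.Y, (s χ = 1 ∨ s χ = -1) ∧ (charDegree (χ : G → ℂ) : ℤ) ≡ s χ [ZMOD (p : ℤ)] ∧
      ∀ i, ¬ p ∣ i → ∀ u : G, Commute F.x u → ¬ p ∣ orderOf u → (χ : G → ℂ) (F.x ^ i * u) = (s χ : ℂ) := by
    intro χ h
    rcases Finset.mem_union.mp h with h | h
    · rw [hsX χ h]
      exact ⟨F.hsgn χ h, F.hmod χ h, F.hval χ h⟩
    · rw [hθ, Finset.mem_singleton] at h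
      rw [h, hsθ]
      refine ⟨by rcases F.hεy with e1 | e1 <;> simp [e1], ?_, fun i hi u hc hu => ?_⟩
      · refine (F.hYd θ hθY).trans ?_
        rw [Int.modEq_iff_dvd]
        have he' : (e : ℤ) + 1 = (p : ℤ) := by exact_mod_cast he
        exact ⟨-F.εy, by linear_combination -F.εy * he'⟩
      · rw [single_val F hY hθY hi hc hu]
        push_cast; rfl
  have htB : trivChar G ∈ F.X ∪ F.Y := Finset.mem_union.mpr F.htriv
  have hst : s (trivChar G) = 1 := by
    have h1 := (hall _ htB).2.2 1 hp.out.not_dvd_one 1 (Commute.one_right _)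
      (by rw [orderOf_one]; exact hp.out.not_dvd_one)
    rw [trivChar_apply] at h1
    exact_mod_cast h1.symm
  refine ⟨(F.X ∪ F.Y).erase (trivChar G), s,
    fun χ h => ⟨(Finset.mem_erase.mp h).1, hall χ (Finset.mem_erase.mp h).2⟩, ?_⟩
  have hsum0 : ∑ χ ∈ F.X ∪ F.Y, s χ * (charDegree (χ : G → ℂ) : ℤ) = 0 := by
    rw [Finset.sum_union F.hdisj, hθ, Finset.sum_singleton, Finset.sum_congr rfl fun χ h => by rw [hsX χ h],
      ← rel_degree F hθY, hsθ]
    ring
  rw [← Finset.add_sum_erase _ _ htB, hst,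
    show charDegree ((trivChar G : IrrCharacter G) : G → ℂ) = 1 by simp [charDegree]] at hsum0
  simpa using hsum0

theorem seven_index_key : ∀ n ∈ Nat.divisors 63360, n % 7 = 1 → n ≠ 1 → ∀ e ∈ Nat.divisors 6, e ≠ 1 →
    n * (e * (63360 / (n * e))) = 63360 → ¬ 11 ∣ 63360 / (n * e) →
    e = 2 ∨ (e = 3 ∧ 63360 / (n * e) ∈ ([1, 8, 15, 64, 120, 960] : List ℕ)) ∨
      (e = 6 ∧ 63360 / (n * e) ∈ ([4, 32, 60, 480] : List ℕ)) := by
  decide +kernel

theorem adjacent_key : ∀ a ∈ Finset.range 666, a ∣ 443520 → 2 ≤ a →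
    a % 11 ∈ ({0, 1, 5, 6, 10} : Finset ℕ) →
      (a % 7 = 1 → (1 + a) ∣ 443520 → (1 + a) % 11 ∈ ({0, 1, 5, 6, 10} : Finset ℕ) → False) ∧
      (a % 7 = 6 → (a - 1) ∣ 443520 → (a - 1) % 11 ∈ ({0, 1, 5, 6, 10} : Finset ℕ) → a = 6) := by
  decide +kernel

variable [IsSimpleGroup G] (hG : Nat.card G = 443520) [Fact (Nat.Prime 11)]

include hG in
theorem card_sylow_seven (P : Sylow 7 G) [Fact (Nat.Prime 7)] : Nat.card (P : Subgroup G) = 7 :=
  (SimpleTools.card_sylow_subgroup (k := 1) (m := 63360) (by rw [hG]; norm_num) (by norm_num) P).trans (pow_one _)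

include hG in
/-- Nothing nontrivial of order prime to 11 commutes with an element of order 11. -/
theorem eleven_false (D : Data G) {g y : G} (hg : g ≠ 1) (h11 : ¬ 11 ∣ orderOf g) (hy : orderOf y = 11)
    (hc : Commute y g) : False := by
  obtain ⟨Q, hQ⟩ := (IsPGroup.of_card (n := 1) (by rw [Nat.card_zpowers, hy, pow_one]) :
    IsPGroup 11 ↥(zpowers y)).exists_le_sylow
  have heq : zpowers y = (Q : Subgroup G) :=
    Subgroup.eq_of_le_of_card_ge hQ (by rw [card_sylow_eleven hG Q, Nat.card_zpowers, hy])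
  have hgC : g ∈ centralizer ((Q : Subgroup G) : Set G) := by
    rw [← heq, zpowers_eq_closure, centralizer_closure]
    exact mem_centralizer_singleton_iff.mpr hc.symm
  have hd := Subgroup.orderOf_dvd_natCard _ hgC
  rw [(normalizer_eleven hG Q).2] at hd
  rcases (Nat.dvd_prime (by norm_num)).mp hd with h | h
  · exact hg (orderOf_eq_one_iff.mp h)
  · exact h11 (h ▸ dvd_rfl)

include hG in
/-- A centraliser of an element of order prime to 11 has order dividing 40320. -/
theorem card_centralizer_dvd (D : Data G) {g : G} (hg : g ≠ 1) (h11 : ¬ 11 ∣ orderOf g) :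
    Nat.card (centralizer ({g} : Set G)) ∣ 40320 := by
  have h1 : Nat.card (centralizer ({g} : Set G)) ∣ 11 * 40320 := by
    rw [show 11 * 40320 = Nat.card G by rw [hG]]
    exact card_subgroup_dvd_card _
  refine Nat.Coprime.dvd_of_dvd_mul_left ?_ h1
  refine ((Nat.Prime.coprime_iff_not_dvd (by norm_num)).mpr fun h => ?_).symm
  obtain ⟨⟨y, hy⟩, hyo⟩ := exists_prime_orderOf_dvd_card' 11 h
  rw [Subgroup.orderOf_mk] at hyo
  exact eleven_false hG D hg h11 hyo (mem_centralizer_singleton_iff.mp hy)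

include hG in
/-- The degrees modulo 11. -/
theorem deg_mod_eleven (D : Data G) (χ : IrrCharacter G) :
    charDegree (χ : G → ℂ) % 11 ∈ ({0, 1, 5, 6, 10} : Finset ℕ) := by
  simp only [Finset.mem_insert, Finset.mem_singleton]
  by_cases h : 11 ∣ charDegree (χ : G → ℂ)
  · exact Or.inl (Nat.mod_eq_zero_of_dvd h)
  rcases D.mem_of_not_dvd hG h with rfl | h' | h'
  · simp [charDegree]
  · have h1 := D.F.hmod χ (D.F.mem_X h').1
    rw [Int.ModEq] at h1
    rcases D.F.hsgn χ (D.F.mem_X h').1 with e | e <;> rw [e] at h1 <;> omega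
  · have h1 := D.F.hYd χ h'
    rw [Int.ModEq] at h1
    rcases D.F.hεy with e | e <;> rw [e] at h1 <;> omega

include hG in
theorem not_two (D : Data G) [Fact (Nat.Prime 7)] {P : Sylow 7 G} (F : Frame 7 2 P) : False := by
  have ht := F.triv_mem (by norm_num) (by norm_num) (by norm_num)
  obtain ⟨χ, hχ⟩ := Finset.card_eq_one.mp (show F.X'.card = 1 by have := F.card_X' ht; omega)
  obtain ⟨θ, hθ⟩ : F.Y.Nonempty := Finset.card_pos.1 (by rw [F.hY]; norm_num)
  have hm := F.mem_X (show χ ∈ F.X' by rw [hχ]; exact Finset.mem_singleton_self χ)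
  have hr := F.rel_one ht hθ
  rw [hχ, Finset.sum_singleton] at hr
  have h2 := two_le_degree hG hm.2
  obtain ⟨k1, k6⟩ := adjacent_key _ (Finset.mem_range.mpr (by have := deg_le hG χ; omega))
    (hG ▸ charDegree_dvd χ) h2 (deg_mod_eleven hG D χ)
  have hθd : charDegree (θ : G → ℂ) ∣ 443520 := hG ▸ charDegree_dvd θ
  have hθ11 := deg_mod_eleven hG D θ
  have hmd := F.hmod χ hm.1
  rw [Int.ModEq] at hmd
  rcases F.hsgn χ hm.1 with e | e <;> rw [e] at hr hmd
  · have he : charDegree (θ : G → ℂ) = 1 + charDegree (χ : G → ℂ) := by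
      rcases F.hεy with e1 | e1 <;> rw [e1] at hr <;> omega
    exact k1 (by omega) (he ▸ hθd) (he ▸ hθ11)
  · have he : charDegree (θ : G → ℂ) = charDegree (χ : G → ℂ) - 1 := by
      rcases F.hεy with e1 | e1 <;> rw [e1] at hr <;> omega
    have h6 := k6 (by omega) (he ▸ hθd) (he ▸ hθ11)
    rw [h6] at he
    -- both degrees would be the degree of the exceptional characters for 11
    have key : ∀ η : IrrCharacter G, (charDegree (η : G → ℂ) = 5 ∨ charDegree (η : G → ℂ) = 6) → η ∈ D.F.Y := by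
      intro η hη
      rcases D.mem_of_not_dvd hG (χ := η) (by omega) with h | h | h
      · exfalso
        rw [h] at hη
        simp [charDegree] at hη
      · exfalso
        have h1 := D.F.hmod η (D.F.mem_X h).1
        rw [Int.ModEq] at h1
        rcases D.F.hsgn η (D.F.mem_X h).1 with e1 | e1 <;> rw [e1] at h1 <;> omega
      · exact h
    have := D.F.deg_agree (key χ (Or.inr h6)) (key θ (Or.inl he))
    omega

include hG in
/-- The possible orders of the normaliser of a Sylow 7-subgroup. -/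
theorem seven_cases (D : Data G) [Fact (Nat.Prime 7)] (P : Sylow 7 G) :
    ∃ e k : ℕ, Nat.card (normalizer ((P : Subgroup G) : Set G)) = e * (7 * k) ∧
      Nat.card (centralizer ((P : Subgroup G) : Set G)) = 7 * k ∧
      ((e = 3 ∧ k ∈ ([1, 8, 15, 64, 120, 960] : List ℕ)) ∨ (e = 6 ∧ k ∈ ([4, 32, 60, 480] : List ℕ))) := by
  have hna := M22Eleven.not_comm hG
  have hP := card_sylow_seven hG P
  obtain ⟨e, k, he1, he, hN, hC⟩ := LocalTools.exists_e hna P hP
  refine ⟨e, k, hN, hC, ?_⟩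
  have h11 : ¬ 11 ∣ k := fun h => by
    obtain ⟨⟨y, hyC⟩, hy⟩ := exists_prime_orderOf_dvd_card' (G := ↥(centralizer ((P : Subgroup G) : Set G))) 11
      (hC ▸ h.mul_left 7)
    rw [Subgroup.orderOf_mk] at hy
    obtain ⟨x, hxP, hx, -⟩ := PrimeOrder.exists_generator P hP
    exact eleven_false hG D (g := x) (fun e => by rw [e, orderOf_one] at hx; omega) (by rw [hx]; norm_num) hy
      (mem_centralizer_iff.mp hyC x hxP).symm
  have hn := SimpleTools.card_sylow_mem (G := G) (p := 7) (k := 1) (m := 63360)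
    (by rw [hG]; norm_num) (by norm_num)
  rw [Finset.mem_filter] at hn
  have hne1 := SimpleTools.card_sylow_ne_one (p := 7) hna (by rw [hG]; norm_num)
  have hmul : Nat.card (Sylow 7 G) * Nat.card (normalizer ((P : Subgroup G) : Set G)) = Nat.card G :=
    SimpleTools.card_normalizer_mul P
  rw [hG, hN] at hmul
  have hmul' : Nat.card (Sylow 7 G) * (e * k) = 63360 := by linarith
  have he6 : e ∈ Nat.divisors 6 := Nat.mem_divisors.mpr ⟨he, by norm_num⟩
  have hpos : 0 < Nat.card (Sylow 7 G) * e := by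
    rcases Nat.eq_zero_or_pos (Nat.card (Sylow 7 G) * e) with h | h
    · rw [← mul_assoc, h, zero_mul] at hmul'; omega
    · exact h
  have hk : k = 63360 / (Nat.card (Sylow 7 G) * e) := by
    rw [← hmul', ← mul_assoc, Nat.mul_div_cancel_left _ hpos]
  have hcases := seven_index_key _ hn.1 hn.2 hne1 e he6 he1 (hk ▸ hmul') (hk ▸ h11)
  rw [← hk] at hcases
  rcases hcases with rfl | h
  · obtain ⟨F, -⟩ := exists_frame_section (e := 2) (by norm_num) P hP (by rw [hN, hC])
    exact (not_two hG D F).elim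
  · exact h

include hG in
theorem card_centralizer_gen [Fact (Nat.Prime 7)] (P : Sylow 7 G) {x : G} (hzp : zpowers x = (P : Subgroup G)) :
    Nat.card (centralizer ({x} : Set G)) = Nat.card (centralizer ((P : Subgroup G) : Set G)) := by
  rw [← centralizer_closure, ← zpowers_eq_closure, hzp]

end CfsgLib.KGroups.M22Seven
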