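import Cfsg.Agent.Lib.KGroups.M22SevenValues

/-!
# The cases left by the element of order 7 in a simple group of order 443520
-/

set_option autoImplicit false

namespace CfsgLib.KGroups.M22SevenFinal

open Cfsg CfsgLib.Blocks CfsgLib.KGroups.M11Tools CfsgLib.KGroups.M12Tools
  CfsgLib.KGroups.M12Local CfsgLib.KGroups.M22Tools CfsgLib.KGroups.M22Frame CfsgLib.KGroups.M22Check
  CfsgLib.KGroups.M22Eleven CfsgLib.KGroups.M22Block CfsgLib.KGroups.M22Seven CfsgLib.KGroups.M22SevenSix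
  CfsgLib.KGroups.M22SevenPair CfsgLib.KGroups.M22SevenValues Subgroup
open CfsgLib.SmallGroups
open scoped Classical ComplexConjugate

variable {G : Type*} [Group G] [Fintype G] [IsSimpleGroup G] (hG : Nat.card G = 443520)
  [Fact (Nat.Prime 11)] [Fact (Nat.Prime 7)]

theorem triv_mem7 (S : Seven G) : trivChar G ∈ S.F.X := S.F.triv_mem (by norm_num) (by norm_num) (by norm_num)

theorem mem55 (S : Seven G) : S.c55 ∈ S.F.X' := by simp [S.hset]

theorem mem2 (S : Seven G) : S.c2 ∈ S.F.X' := by simp [S.hset]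

include hG in
theorem not_five_dvd (S : Seven G) : ¬ 5 ∣ S.k := fun h => by
  haveI : Fact (Nat.Prime 5) := ⟨by norm_num⟩
  obtain ⟨⟨w, hwC⟩, hw⟩ := exists_prime_orderOf_dvd_card' (G := ↥(centralizer ({S.F.x} : Set G))) 5
    ((centralizer_q S).symm ▸ h.mul_left 7)
  rw [Subgroup.orderOf_mk] at hw
  have hqw : Commute S.F.x w := (mem_centralizer_singleton_iff.mp hwC : Commute w S.F.x).symm
  have hv := S.F.hval S.c55 (S.F.mem_X (mem55 S)).1 1 (by norm_num) w hqw (by rw [hw]; norm_num)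
  rw [pow_one, S.s55, vanish S.c55 Nat.prime_five (n := 1) (by rw [hG]; norm_num) (by rw [hG]; norm_num)
    (by rw [S.d55]; norm_num) (by
      rw [hqw.orderOf_mul_eq_mul_orderOf_of_coprime (by rw [S.F.hx, hw]; norm_num), S.F.hx, hw]; norm_num)] at hv
  norm_num at hv

/-- A constant member's twofold value. -/
theorem pr_const (S : Seven G) {χ : IrrCharacter G} (hχ : χ ∈ S.F.X) {P R : ℤ}
    (h1 : 2 * (χ : G → ℂ) S.F.x = (P : ℂ) - (R : ℂ) * delta) : P = 2 * S.F.sgn χ ∧ R = 0 := by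
  have hv := S.F.hval χ hχ 1 (by norm_num) 1 (Commute.one_right _) (by rw [orderOf_one]; norm_num)
  rw [pow_one, mul_one] at hv
  rw [hv] at h1
  obtain ⟨a, b⟩ := delta_int (a := 2 * S.F.sgn χ - P) (b := R) (by push_cast; linear_combination h1)
  exact ⟨by omega, b⟩

/-- The sum over the exceptional characters is a sign. -/
theorem pr_pair (S : Seven G) {θ θ' : IrrCharacter G} (hY : S.F.Y = {θ, θ'}) (hne : θ ≠ θ') {P R P' R' : ℤ}
    (h : 2 * (θ : G → ℂ) S.F.x = (P : ℂ) - (R : ℂ) * delta)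
    (h' : 2 * (θ' : G → ℂ) S.F.x = (P' : ℂ) - (R' : ℂ) * delta) : P' = -2 - P ∧ R' = -R := by
  have hs := sum_theta S.F ⟨θ, by rw [hY]; simp⟩ (i := 1) (by norm_num) (u := 1) (Commute.one_right _)
    (by rw [orderOf_one]; norm_num)
  rw [pow_one, mul_one, hY, Finset.sum_pair hne, S.hεy] at hs
  push_cast at hs
  obtain ⟨a, b⟩ := delta_int (a := P + P' + 2) (b := -(R + R')) (by push_cast; linear_combination 2 * hs - h - h')
  exact ⟨by omega, by omega⟩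

include hG in
/-- A member of degree 3 modulo 7 has squared modulus at least two. -/
theorem norm_low (S : Seven G) (χ : IrrCharacter G) (hd : charDegree (χ : G → ℂ) % 7 = 3) :
    2 ≤ ‖(χ : G → ℂ) S.F.x‖ ^ 2 := by
  have h := norm_sum_lower χ (show Nat.Prime 7 by norm_num) S.F.hx
  rw [hd] at h
  obtain ⟨c2, c4⟩ := conj_two S
  have v2 := (M12Classes.value_conj χ c2).symm
  have v4 := (M12Classes.value_conj χ c4).symm
  have hq7 : S.F.x ^ 7 = 1 := by have h := pow_orderOf_eq_one S.F.x; rwa [S.F.hx] at h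
  have hn : ∀ i ∈ Finset.Ico 1 7, ‖(χ : G → ℂ) (S.F.x ^ i)‖ ^ 2 = ‖(χ : G → ℂ) S.F.x‖ ^ 2 := by
    intro i hi
    have hinv : ∀ j : ℕ, j + i = 7 → (χ : G → ℂ) (S.F.x ^ i) = conj ((χ : G → ℂ) (S.F.x ^ j)) := fun j hj => by
      rw [← irr_inv, inv_eq_of_mul_eq_one_right (a := S.F.x ^ j) (b := S.F.x ^ i) (by rw [← pow_add, hj, hq7])]
    fin_cases hi
    · rw [pow_one]
    · rw [v2]
    · rw [hinv 4 rfl, v4, Complex.norm_conj]
    · rw [v4]
    · rw [hinv 2 rfl, v2, Complex.norm_conj]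
    · rw [hinv 1 rfl, pow_one, Complex.norm_conj]
  rw [Finset.sum_congr rfl hn, Finset.sum_const, Nat.card_Ico, nsmul_eq_mul] at h
  push_cast at h
  norm_num at h
  linarith

/-- The twofold values of the exceptional characters. -/
noncomputable def tpr {D : Data G} (Q : Quad D) (p q r s : ℤ × ℤ) : ℤ × ℤ :=
  (sg Q.T * (2 + sg (D.sd Q.a) * p.1 + sg (D.sd Q.b) * q.1 + sg (D.sd Q.c) * r.1 + sg (D.sd Q.d) * s.1),
    sg Q.T * (sg (D.sd Q.a) * p.2 + sg (D.sd Q.b) * q.2 + sg (D.sd Q.c) * r.2 + sg (D.sd Q.d) * s.2))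

include hG in
/-- The centraliser index times a twofold value is divisible by the degree. -/
theorem dvd_twofold (S : Seven G) (χ : IrrCharacter G) {P R : ℤ}
    (h : 2 * (χ : G → ℂ) S.F.x = (P : ℂ) - (R : ℂ) * delta)
    (h3 : 2 * (χ : G → ℂ) (S.F.x ^ 3) = (P : ℂ) + (R : ℂ) * delta) :
    (charDegree (χ : G → ℂ) : ℤ) ∣ ((63360 / S.k : ℕ) : ℤ) * P := by
  obtain ⟨n, ρ, hρ, he⟩ := χ.2
  haveI := hρ
  have i1 := CfsgLib.Char.isIntegral_centralChar ρ S.F.x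
  have i3 := CfsgLib.Char.isIntegral_centralChar ρ (S.F.x ^ 3)
  rw [he, ← Representation.char_one (ρ := ρ), he, irr_one_eq] at i1 i3
  have hI : (centralizer ({S.F.x} : Set G)).index = 63360 / S.k := by
    rw [index_eq hG, centralizer_q S, ← Nat.div_div_eq_div_mul]
  rw [centralizer_pow S, hI] at i3
  rw [hI] at i1
  obtain ⟨z, hz⟩ := CfsgLib.Char.exists_int_of_isIntegral_rat (i1.add i3)
    (q := ((63360 / S.k : ℕ) : ℚ) * P / charDegree (χ : G → ℂ)) (by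
      push_cast
      rw [← add_div, ← mul_add]
      congr 2
      linear_combination (h + h3) / 2)
  refine ⟨z, ?_⟩
  have hd : (charDegree (χ : G → ℂ) : ℂ) ≠ 0 := Nat.cast_ne_zero.mpr (charDegree_pos χ).ne'
  rw [← add_div, div_eq_iff hd] at hz
  have hP : (((63360 / S.k : ℕ) : ℂ) * (P : ℂ)) = (z : ℂ) * (charDegree (χ : G → ℂ) : ℂ) := by
    linear_combination hz - ((63360 / S.k : ℕ) : ℂ) / 2 * (h + h3)
  rw [mul_comm (charDegree (χ : G → ℂ) : ℤ)]
  generalize (63360 / S.k : ℕ) = J at hP ⊢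
  exact_mod_cast hP

omit [IsSimpleGroup G] in
include hG in
theorem pr_vanish (S : Seven G) (χ : IrrCharacter G) (hd : charDegree (χ : G → ℂ) % 7 = 0) {P R : ℤ}
    (h : 2 * (χ : G → ℂ) S.F.x = (P : ℂ) - (R : ℂ) * delta) : P = 0 ∧ R = 0 := by
  rw [vanish_seven hG χ (Nat.dvd_of_mod_eq_zero hd) (by rw [S.F.hx]), mul_zero] at h
  obtain ⟨a, b⟩ := delta_int (a := P) (b := -R) (by push_cast; linear_combination -h)
  exact ⟨a, by omega⟩

include hG in
/-- The searches apply to the twofold values. -/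
theorem search (S : Seven G) {D : Data G} (Q : Quad D) (E : Finset (IrrCharacter G))
    (hE : Disjoint E (D.F.X ∪ D.F.Y)) {e : ℕ} (he8 : 8 ≤ e)
    (hEn : (e : ℝ) ≤ 4 * ∑ χ ∈ E, ‖(χ : G → ℂ) S.F.x‖ ^ 2) :
    ∃ m : ℕ, (S.k, m) ∈ threeKs ∧ ∃ p q r s : ℤ × ℤ,
      p ∈ pr S.k m (D.sd Q.a).natAbs ∧ q ∈ pr S.k m (D.sd Q.b).natAbs ∧ r ∈ pr S.k m (D.sd Q.c).natAbs ∧
      s ∈ pr S.k m (D.sd Q.d).natAbs ∧
      2 * (Q.a : G → ℂ) S.F.x = (p.1 : ℂ) - (p.2 : ℂ) * delta ∧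
      2 * (Q.b : G → ℂ) S.F.x = (q.1 : ℂ) - (q.2 : ℂ) * delta ∧
      2 * (Q.c : G → ℂ) S.F.x = (r.1 : ℂ) - (r.2 : ℂ) * delta ∧
      2 * (Q.d : G → ℂ) S.F.x = (s.1 : ℂ) - (s.2 : ℂ) * delta ∧
      4 + (e : ℤ) + nq p + nq q + nq r + nq s ≤ ((28 * S.k : ℕ) : ℤ) ∧
      prCond S.k (e : ℤ) (D.sd Q.a) (D.sd Q.b) (D.sd Q.c) (D.sd Q.d) p q r s = true := by
  have hna := M22Eleven.not_comm hG
  obtain ⟨hk, m, hkm⟩ := three_key S.k S.hk (not_five_dvd hG S)
  refine ⟨m, hkm, ?_⟩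
  obtain ⟨hm1, hm2⟩ := sqrt_key _ hkm hk
  simp only at hm1 hm2
  obtain ⟨θ, hθ⟩ : D.F.Y.Nonempty := Finset.card_pos.1 (by rw [D.F.hY]; norm_num)
  set g := S.F.x
  have hq11 : ¬ 11 ∣ orderOf g := by rw [S.F.hx]; norm_num
  have hx1 : g ≠ 1 := fun h => by have := S.F.hx; rw [show S.F.x = g from rfl, h, orderOf_one] at this; omega
  obtain ⟨P1, R1, a1, b1, c1, d1, e1, f1, n1⟩ := exists_pr S Q.a
  obtain ⟨P2, R2, a2, b2, c2, d2, e2, f2, n2⟩ := exists_pr S Q.b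
  obtain ⟨P3, R3, a3, b3, c3, d3, e3, f3, n3⟩ := exists_pr S Q.c
  obtain ⟨P4, R4, a4, b4, c4, d4, e4, f4, n4⟩ := exists_pr S Q.d
  obtain ⟨Pt, Rt, at', bt, -, -, -, ft, nt⟩ := exists_pr S θ
  have hq3 : ¬ 11 ∣ orderOf (g ^ 3) := fun h => hq11 (h.trans (orderOf_pow_dvd 3))
  -- the relation of the block
  have hrel : ∀ h : G, ¬ 11 ∣ orderOf h → (D.F.εy : ℂ) * (θ : G → ℂ) h = 1 + ((D.F.sgn Q.a : ℂ) * (Q.a : G → ℂ) h +
      ((D.F.sgn Q.b : ℂ) * (Q.b : G → ℂ) h + ((D.F.sgn Q.c : ℂ) * (Q.c : G → ℂ) h +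
        (D.F.sgn Q.d : ℂ) * (Q.d : G → ℂ) h))) := fun h hh => by
    rw [D.F.rel_split D.triv_memX hθ h hh, Q.hset, Finset.sum_insert (by simp [Q.nab, Q.nac, Q.nad]),
      Finset.sum_insert (by simp [Q.nbc, Q.nbd]), Finset.sum_pair Q.ncd]
  have hε2 : D.F.εy * D.F.εy = 1 := by rcases D.F.hεy with e | e <;> simp [e]
  have hTpr : Pt = (tpr Q (P1, R1) (P2, R2) (P3, R3) (P4, R4)).1 ∧
      Rt = (tpr Q (P1, R1) (P2, R2) (P3, R3) (P4, R4)).2 := by
    simp only [tpr, D.sg_sd (D.F.mem_X Q.mem_a).1, D.sg_sd (D.F.mem_X Q.mem_b).1, D.sg_sd (D.F.mem_X Q.mem_c).1,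
      D.sg_sd (D.F.mem_X Q.mem_d).1, Q.sg_T hθ]
    obtain ⟨x, y⟩ := delta_int
      (a := D.F.εy * Pt - (2 + D.F.sgn Q.a * P1 + D.F.sgn Q.b * P2 + D.F.sgn Q.c * P3 + D.F.sgn Q.d * P4))
      (b := -(D.F.εy * Rt) + (D.F.sgn Q.a * R1 + D.F.sgn Q.b * R2 + D.F.sgn Q.c * R3 + D.F.sgn Q.d * R4)) (by
        push_cast
        linear_combination 2 * hrel g hq11 - (D.F.εy : ℂ) * at' + (D.F.sgn Q.a : ℂ) * a1 +
          (D.F.sgn Q.b : ℂ) * a2 + (D.F.sgn Q.c : ℂ) * a3 + (D.F.sgn Q.d : ℂ) * a4)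
    refine ⟨?_, ?_⟩
    · rcases D.F.hεy with e | e <;> rw [e] at x ⊢ <;> omega
    · rcases D.F.hεy with e | e <;> rw [e] at y ⊢ <;> omega
  -- the column
  have hcol : 4 + (e : ℤ) + nq (P1, R1) + nq (P2, R2) + nq (P3, R3) + nq (P4, R4) + 2 * nq (Pt, Rt) ≤
      ((28 * S.k : ℕ) : ℤ) := by
    have h1 : ∑ η ∈ (D.F.X ∪ D.F.Y) ∪ E, ‖(η : G → ℂ) g‖ ^ 2 ≤ ((7 * S.k : ℕ) : ℝ) := by
      rw [← centralizer_q S]
      exact (sum_norm_sq_column g).symm ▸
        Finset.sum_le_sum_of_subset_of_nonneg (Finset.subset_univ _) fun _ _ _ => sq_nonneg _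
    rw [Finset.sum_union hE.symm, Finset.sum_union D.F.hdisj, ← Finset.add_sum_erase _ _ D.triv_memX,
      show D.F.X.erase (trivChar G) = {Q.a, Q.b, Q.c, Q.d} from Q.hset,
      Finset.sum_insert (by simp [Q.nab, Q.nac, Q.nad]), Finset.sum_insert (by simp [Q.nbc, Q.nbd]),
      Finset.sum_pair Q.ncd,
      Finset.sum_congr (s₁ := D.F.Y) rfl (g := fun _ => ‖(θ : G → ℂ) g‖ ^ 2) fun η hη => by
        rw [D.F.hagree η hη θ hθ g hq11],
      Finset.sum_const, D.F.hY, trivChar_apply] at h1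
    simp only [norm_one, one_pow, nsmul_eq_mul] at h1
    have h2 : ((4 + (e : ℤ) + nq (P1, R1) + nq (P2, R2) + nq (P3, R3) + nq (P4, R4) + 2 * nq (Pt, Rt) : ℤ) : ℝ) ≤
        (((28 * S.k : ℕ) : ℤ) : ℝ) := by
      simp only [nq]
      have k1 := n1; have k2 := n2; have k3 := n3; have k4 := n4; have kt := nt
      push_cast at k1 k2 k3 k4 kt h1 ⊢
      linarith
    exact_mod_cast h2
  have hnq : ∀ p : ℤ × ℤ, 0 ≤ nq p := fun p => by simp only [nq]; nlinarith [sq_nonneg p.1, sq_nonneg p.2]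
  have := hnq (P1, R1); have := hnq (P2, R2); have := hnq (P3, R3); have := hnq (P4, R4); have := hnq (Pt, Rt)
  -- membership in the candidate lists
  have hmem : ∀ (χ : IrrCharacter G) (P R : ℤ), χ ∈ D.F.X' → 2 * (χ : G → ℂ) g = (P : ℂ) - (R : ℂ) * delta →
      2 * (χ : G → ℂ) (g ^ 3) = (P : ℂ) + (R : ℂ) * delta → (P - R) % 2 = 0 →
      0 ≤ (charDegree (χ : G → ℂ) : ℤ) + 3 * P →
      (R.natAbs : ℤ) * 7 ≤ 2 * (charDegree (χ : G → ℂ) : ℤ) - P →
      (P - 2 * (charDegree (χ : G → ℂ) : ℤ)) % 7 = 0 →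
      ((P * P + 7 * (R * R) : ℤ) : ℝ) = 4 * ‖(χ : G → ℂ) g‖ ^ 2 → nq (P, R) ≤ ((28 * S.k : ℕ) : ℤ) - 12 →
      (P, R) ∈ pr S.k m (D.sd χ).natAbs := by
    intro χ P R hχ ha hb hpar h0 hR h7 hn hle
    rw [D.natAbs_sd (D.F.mem_X hχ).1]
    simp only [nq] at hle
    have hPP : P * P ≤ ((28 * S.k : ℕ) : ℤ) - 12 := by nlinarith [sq_nonneg R]
    have hPm : P.natAbs ≤ 2 * m := by
      by_contra hc
      have h1 : (2 * m + 1) * (2 * m + 1) ≤ P.natAbs * P.natAbs := Nat.mul_le_mul (by omega) (by omega)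
      have h2 : ((P.natAbs * P.natAbs : ℕ) : ℤ) = P * P := by
        push_cast; rw [← Int.natCast_natAbs, Int.natAbs_mul_self']
      omega
    have hRR : R * R ≤ ((4 * S.k : ℕ) : ℤ) := by push_cast at hle ⊢; nlinarith [sq_nonneg P]
    have hRm : R.natAbs ≤ m := by
      by_contra hc
      have h1 : (m + 1) * (m + 1) ≤ R.natAbs * R.natAbs := Nat.mul_le_mul (by omega) (by omega)
      have h2 : ((R.natAbs * R.natAbs : ℕ) : ℤ) = R * R := by
        push_cast; rw [← Int.natCast_natAbs, Int.natAbs_mul_self']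
      omega
    have hlt : P < 2 * (charDegree (χ : G → ℂ) : ℤ) := by
      have h1 := M11Tools.norm_lt hna χ (fun hd => (D.F.mem_X hχ).2 (BlockDegrees.eq_trivChar hna χ hd)) hx1
      have h2 : ((P * P : ℤ) : ℝ) < ((2 * (charDegree (χ : G → ℂ) : ℤ) * (2 * charDegree (χ : G → ℂ)) : ℤ) : ℝ) := by
        push_cast at hn ⊢
        nlinarith [sq_nonneg (R : ℝ), norm_nonneg ((χ : G → ℂ) g)]
      have h3 : P * P < 2 * (charDegree (χ : G → ℂ) : ℤ) * (2 * charDegree (χ : G → ℂ)) := by exact_mod_cast h2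
      by_contra hc
      have h4 : (0 : ℤ) ≤ charDegree (χ : G → ℂ) := Nat.cast_nonneg _
      nlinarith
    have hv : charDegree (χ : G → ℂ) % 7 = 0 → P = 0 ∧ R = 0 := fun h => pr_vanish hG S χ h ha
    simp only [pr, List.mem_flatMap, List.mem_map, List.mem_range]
    refine ⟨P, ⟨(P + 2 * m).toNat, by omega, by omega⟩, ?_⟩
    rw [if_pos (by
      simp only [Bool.and_eq_true, decide_eq_true_eq]
      exact ⟨⟨⟨⟨⟨h7, h0⟩, hlt⟩, by push_cast at hle ⊢; nlinarith [sq_nonneg R]⟩, dvd_twofold hG S χ ha hb⟩,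
        fun h => (hv h).1⟩)]
    simp only [List.mem_filterMap, List.mem_map, List.mem_range]
    refine ⟨R, ⟨(R + m).toNat, by omega, by omega⟩, ?_⟩
    rw [if_pos (by
      simp only [Bool.and_eq_true, decide_eq_true_eq]
      exact ⟨⟨⟨hpar, hR⟩, by omega⟩, fun h => (hv h).2⟩)]
  have he' : (8 : ℤ) ≤ e := by exact_mod_cast he8
  have m1 := hmem _ P1 R1 Q.mem_a a1 b1 c1 d1 e1 f1 n1 (by omega)
  have m2 := hmem _ P2 R2 Q.mem_b a2 b2 c2 d2 e2 f2 n2 (by omega)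
  have m3 := hmem _ P3 R3 Q.mem_c a3 b3 c3 d3 e3 f3 n3 (by omega)
  have m4 := hmem _ P4 R4 Q.mem_d a4 b4 c4 d4 e4 f4 n4 (by omega)
  refine ⟨(P1, R1), (P2, R2), (P3, R3), (P4, R4), m1, m2, m3, m4, a1, a2, a3, a4, by omega, ?_⟩
  -- the pairs
  have hI : (centralizer ({g} : Set G)).index = 63360 / S.k := by
    rw [index_eq hG, centralizer_q S, ← Nat.div_div_eq_div_mul]
  have hpairs : ∀ g' : G, ¬ 11 ∣ orderOf g' → ∃ n : ℕ,
      ((centralizer ({g} : Set G)).index : ℂ) * ((centralizer ({g'} : Set G)).index : ℂ) *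
        (1 + ((D.F.sgn Q.a : ℂ) * ((Q.a : G → ℂ) g * (Q.a : G → ℂ) g' / (charDegree (Q.a : G → ℂ) : ℂ)) +
          ((D.F.sgn Q.b : ℂ) * ((Q.b : G → ℂ) g * (Q.b : G → ℂ) g' / (charDegree (Q.b : G → ℂ) : ℂ)) +
            ((D.F.sgn Q.c : ℂ) * ((Q.c : G → ℂ) g * (Q.c : G → ℂ) g' / (charDegree (Q.c : G → ℂ) : ℂ)) +
              (D.F.sgn Q.d : ℂ) * ((Q.d : G → ℂ) g * (Q.d : G → ℂ) g' / (charDegree (Q.d : G → ℂ) : ℂ))))) -
          (D.F.εy : ℂ) * ((θ : G → ℂ) g * (θ : G → ℂ) g' / (charDegree (θ : G → ℂ) : ℂ))) = 443520 * (n : ℂ) := by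
    intro g' hg'
    have hcount := card_pairs_eq g g' D.F.x⁻¹
    rw [inv_inv, hG] at hcount
    have hsplit := sum_split D.F hq11 hg' hθ (i := 1) (by norm_num) (s := 1) (Commute.one_right _)
      (by rw [orderOf_one]; norm_num)
    rw [pow_one, mul_one] at hsplit
    rw [Finset.sum_eq_zero (s := Finset.univ \ (D.F.X ∪ D.F.Y)) fun χ hχ => by
      rw [Finset.mem_sdiff, Finset.mem_union, not_or] at hχ
      rw [D.vanish_rest hG hχ.2.1 hχ.2.2 (g := D.F.x) (by rw [D.F.hx]), mul_zero], add_zero] at hsplit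
    rw [hsplit, blockSum, ← Finset.add_sum_erase _ _ D.triv_memX,
      show D.F.X.erase (trivChar G) = {Q.a, Q.b, Q.c, Q.d} from Q.hset,
      Finset.sum_insert (by simp [Q.nab, Q.nac, Q.nad]), Finset.sum_insert (by simp [Q.nbc, Q.nbd]),
      Finset.sum_pair Q.ncd, D.F.sgn_triv D.triv_memX] at hcount
    simp only [trivChar_apply, irr_one_eq, Int.cast_one, one_mul, div_one, mul_one] at hcount
    refine ⟨Nat.card {a : G // IsConj g a ∧ IsConj g' (a⁻¹ * D.F.x⁻¹)}, ?_⟩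
    push_cast at hcount
    linear_combination hcount
  obtain ⟨nZ, hZ⟩ := hpairs g hq11
  obtain ⟨nN, hN⟩ := hpairs (g ^ 3) hq3
  rw [show (centralizer ({g ^ 3} : Set G)) = centralizer ({g} : Set G) from centralizer_pow S, hI] at hN
  rw [hI] at hZ
  set A := pairVal (D.sd Q.a) (D.sd Q.b) (D.sd Q.c) (D.sd Q.d) (P1, P2, P3, P4, Pt) (P1, P2, P3, P4, Pt) with hA
  set B := pairVal (D.sd Q.a) (D.sd Q.b) (D.sd Q.c) (D.sd Q.d) (R1, R2, R3, R4, Rt) (R1, R2, R3, R4, Rt) with hB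
  set M := pairVal (D.sd Q.a) (D.sd Q.b) (D.sd Q.c) (D.sd Q.d) (P1, P2, P3, P4, Pt) (R1, R2, R3, R4, Rt) with hM
  set J : ℕ := 63360 / S.k
  have hexp : ∀ X : ℤ × ℤ × ℤ × ℤ × ℤ, ∀ Y : ℤ × ℤ × ℤ × ℤ × ℤ,
      ((pairVal (D.sd Q.a) (D.sd Q.b) (D.sd Q.c) (D.sd Q.d) X Y : ℤ) : ℂ) = 443520 * (1 +
        ((D.F.sgn Q.a : ℂ) * ((X.1 : ℂ) * Y.1 / (charDegree (Q.a : G → ℂ) : ℂ)) +
          ((D.F.sgn Q.b : ℂ) * ((X.2.1 : ℂ) * Y.2.1 / (charDegree (Q.b : G → ℂ) : ℂ)) +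
            ((D.F.sgn Q.c : ℂ) * ((X.2.2.1 : ℂ) * Y.2.2.1 / (charDegree (Q.c : G → ℂ) : ℂ)) +
              (D.F.sgn Q.d : ℂ) * ((X.2.2.2.1 : ℂ) * Y.2.2.2.1 / (charDegree (Q.d : G → ℂ) : ℂ))))) -
          (D.F.εy : ℂ) * ((X.2.2.2.2 : ℂ) * Y.2.2.2.2 / (charDegree (θ : G → ℂ) : ℂ))) := fun X Y => by
    simp only [pairVal, quo, D.sg_sd (D.F.mem_X Q.mem_a).1, D.sg_sd (D.F.mem_X Q.mem_b).1,
      D.sg_sd (D.F.mem_X Q.mem_c).1, D.sg_sd (D.F.mem_X Q.mem_d).1, D.natAbs_sd (D.F.mem_X Q.mem_a).1,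
      D.natAbs_sd (D.F.mem_X Q.mem_b).1, D.natAbs_sd (D.F.mem_X Q.mem_c).1, D.natAbs_sd (D.F.mem_X Q.mem_d).1,
      show sg (th (D.sd Q.a) (D.sd Q.b) (D.sd Q.c) (D.sd Q.d)) = D.F.εy from Q.sg_T hθ,
      show (th (D.sd Q.a) (D.sd Q.b) (D.sd Q.c) (D.sd Q.d)).natAbs = charDegree (θ : G → ℂ) from Q.natAbs_T hθ,
      Int.cast_add, Int.cast_sub, Int.cast_mul, Int.cast_natCast, Int.cast_ofNat, int_quo hG]
    ring
  have hsub : ∀ {v : ℂ} {P R : ℤ}, 2 * v = (P : ℂ) - (R : ℂ) * delta → v = ((P : ℂ) - (R : ℂ) * delta) / 2 :=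
    fun h => by linear_combination h / 2
  have hsub' : ∀ {v : ℂ} {P R : ℤ}, 2 * v = (P : ℂ) + (R : ℂ) * delta → v = ((P : ℂ) + (R : ℂ) * delta) / 2 :=
    fun h => by linear_combination h / 2
  rw [hsub a1, hsub a2, hsub a3, hsub a4, hsub at'] at hZ hN
  rw [hsub' b1, hsub' b2, hsub' b3, hsub' b4, hsub' bt] at hN
  have hZ' : (((J : ℤ) * J * (A - 7 * (B - 443520) + 3 * 443520) - 4 * (443520 * 443520) * (nZ : ℤ) : ℤ) : ℂ) +
      ((-2 * ((J : ℤ) * J * (M - 443520)) : ℤ) : ℂ) * delta = 0 := by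
    push_cast
    rw [hA, hB, hM, hexp, hexp, hexp]
    linear_combination (4 * 443520 : ℂ) * hZ -
      (J : ℂ) * J * 443520 *
        ((D.F.sgn Q.a : ℂ) * ((R1 : ℂ) * R1 / (charDegree (Q.a : G → ℂ) : ℂ)) +
          (D.F.sgn Q.b : ℂ) * ((R2 : ℂ) * R2 / (charDegree (Q.b : G → ℂ) : ℂ)) +
          (D.F.sgn Q.c : ℂ) * ((R3 : ℂ) * R3 / (charDegree (Q.c : G → ℂ) : ℂ)) +
          (D.F.sgn Q.d : ℂ) * ((R4 : ℂ) * R4 / (charDegree (Q.d : G → ℂ) : ℂ)) -
          (D.F.εy : ℂ) * ((Rt : ℂ) * Rt / (charDegree (θ : G → ℂ) : ℂ))) * delta_sq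
  obtain ⟨hZ1, hZ2⟩ := delta_int hZ'
  have hJ : 0 < (J : ℤ) := by
    have : (centralizer ({g} : Set G)).index ≠ 0 := index_ne_zero_of_finite
    rw [hI] at this
    positivity
  have hM0 : M = 443520 := by
    rcases mul_eq_zero.mp (show (J : ℤ) * J * (M - 443520) = 0 by omega) with h | h
    · exact absurd h (mul_pos hJ hJ).ne'
    · omega
  have hN' : (((J : ℤ) * J * (A + 7 * (B - 443520) + 3 * 443520) : ℤ) : ℂ) =
      ((4 * (443520 * 443520) * (nN : ℤ) : ℤ) : ℂ) := by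
    push_cast
    rw [hA, hB, hexp, hexp]
    linear_combination (4 * 443520 : ℂ) * hN +
      (J : ℂ) * J * 443520 *
        ((D.F.sgn Q.a : ℂ) * ((R1 : ℂ) * R1 / (charDegree (Q.a : G → ℂ) : ℂ)) +
          (D.F.sgn Q.b : ℂ) * ((R2 : ℂ) * R2 / (charDegree (Q.b : G → ℂ) : ℂ)) +
          (D.F.sgn Q.c : ℂ) * ((R3 : ℂ) * R3 / (charDegree (Q.c : G → ℂ) : ℂ)) +
          (D.F.sgn Q.d : ℂ) * ((R4 : ℂ) * R4 / (charDegree (Q.d : G → ℂ) : ℂ)) -
          (D.F.εy : ℂ) * ((Rt : ℂ) * Rt / (charDegree (θ : G → ℂ) : ℂ))) * delta_sq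
  have hN1 : (J : ℤ) * J * (A + 7 * (B - 443520) + 3 * 443520) = 4 * (443520 * 443520) * (nN : ℤ) := by
    exact_mod_cast hN'
  have hZe : (J : ℤ) * J * (A - 7 * (B - 443520) + 3 * 443520) = 4 * (443520 * 443520) * (nZ : ℤ) := by omega
  have hnat : (th (D.sd Q.a) (D.sd Q.b) (D.sd Q.c) (D.sd Q.d)).natAbs = charDegree (θ : G → ℂ) := Q.natAbs_T hθ
  simp only [prCond]
  rw [show (sg (th (D.sd Q.a) (D.sd Q.b) (D.sd Q.c) (D.sd Q.d)) *
      (2 + sg (D.sd Q.a) * P1 + sg (D.sd Q.b) * P2 + sg (D.sd Q.c) * P3 + sg (D.sd Q.d) * P4)) = Pt from hTpr.1.symm,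
    show (sg (th (D.sd Q.a) (D.sd Q.b) (D.sd Q.c) (D.sd Q.d)) *
      (sg (D.sd Q.a) * R1 + sg (D.sd Q.b) * R2 + sg (D.sd Q.c) * R3 + sg (D.sd Q.d) * R4)) = Rt from hTpr.2.symm,
    ← hA, ← hB, ← hM, hnat]
  simp only [Bool.and_eq_true, decide_eq_true_eq]
  refine ⟨⟨⟨⟨⟨⟨⟨⟨ft, fun h => ?_⟩, hcol⟩, dvd_twofold hG S θ at' bt⟩, hM0⟩, ?_⟩, ?_⟩, ?_⟩, ?_⟩
  · exact pr_vanish hG S θ h at'
  · exact nonneg_of_mul_nonneg_right (by rw [hZe]; positivity) (mul_pos hJ hJ)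
  · rw [hZe]; exact Int.mul_emod_right _ _
  · exact nonneg_of_mul_nonneg_right (by rw [hN1]; positivity) (mul_pos hJ hJ)
  · rw [hN1]; exact Int.mul_emod_right _ _

include hG in
theorem tLive_quad {D : Data G} (Q : Quad D) : tLive (D.sd Q.a) (D.sd Q.b) (D.sd Q.c) (D.sd Q.d) = true := by
  obtain ⟨t, ht, C, hC, hCt, hlt⟩ := exists_central hG D
  obtain ⟨u, v, w, x, hv⟩ := Q.exists_vals_two hG ht
  have h := Q.mem_tSols hG ht hv (m := C.2) (by rw [hCt]; exact hlt)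
  rw [hCt] at h
  simp only [tLive, List.any_eq_true]
  refine ⟨C, hC, ?_⟩
  rw [List.isEmpty_eq_false_iff_exists_mem.mpr ⟨_, h⟩]
  rfl

include hG in
theorem sd_bound {D : Data G} {χ : IrrCharacter G} (h : χ ∈ D.F.X') : -665 ≤ D.sd χ ∧ D.sd χ ≤ 665 := by
  have := deg_le hG χ
  rcases D.F.hsgn χ (D.F.mem_X h).1 with e | e <;> simp only [Data.sd, e] <;> omega

include hG in
/-- The block with two given members in front. -/
theorem quad_two {D : Data G} {χ η : IrrCharacter G} (hχ : χ ∈ D.F.X') (hη : η ∈ D.F.X') (hne : χ ≠ η) :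
    ∃ Q : Quad D, Q.a = χ ∧ Q.b = η ∧ D.sd Q.c ≤ D.sd Q.d := by
  obtain ⟨a, b, c, d, nab, nac, nad, nbc, nbd, ncd, hset, h1, h2, h3⟩ :=
    exists_sorted (show D.F.X'.card = 4 by have := D.F.card_X' D.triv_memX; omega)
      (fun ψ => if ψ = χ then -2000 else if ψ = η then -1000 else D.sd ψ)
  have hs : ∀ ψ ∈ ({a, b, c, d} : Finset (IrrCharacter G)), -665 ≤ D.sd ψ := fun ψ h => by
    rw [← hset] at h; exact (sd_bound hG h).1
  have ba := hs a (by simp)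
  have bb := hs b (by simp)
  have bc := hs c (by simp)
  have bd := hs d (by simp)
  rw [hset] at hχ hη
  simp only [Finset.mem_insert, Finset.mem_singleton] at hχ hη
  have hb' : a = χ ∧ b = η := by
    rcases hχ with rfl | rfl | rfl | rfl <;> rcases hη with rfl | rfl | rfl | rfl <;>
      simp [nab, nac, nad, nbc, nbd, ncd, nab.symm, nac.symm, nad.symm, nbc.symm, nbd.symm, ncd.symm] at h1 h2 h3 hne ⊢ <;>
      omega
  obtain ⟨rfl, rfl⟩ := hb'
  refine ⟨⟨a, b, c, d, nab, nac, nad, nbc, nbd, ncd, hset⟩, rfl, rfl, ?_⟩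
  simpa [nac.symm, nad.symm, nbc.symm, nbd.symm] using h3

include hG in
/-- The block with one given member in front. -/
theorem quad_one {D : Data G} {χ : IrrCharacter G} (hχ : χ ∈ D.F.X') :
    ∃ Q : Quad D, Q.a = χ ∧ D.sd Q.b ≤ D.sd Q.c ∧ D.sd Q.c ≤ D.sd Q.d := by
  obtain ⟨a, b, c, d, nab, nac, nad, nbc, nbd, ncd, hset, h1, h2, h3⟩ :=
    exists_sorted (show D.F.X'.card = 4 by have := D.F.card_X' D.triv_memX; omega)
      (fun ψ => if ψ = χ then -1000 else D.sd ψ)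
  have hs : ∀ ψ ∈ ({a, b, c, d} : Finset (IrrCharacter G)), -665 ≤ D.sd ψ := fun ψ h => by
    rw [← hset] at h; exact (sd_bound hG h).1
  have ba := hs a (by simp)
  have bb := hs b (by simp)
  have bc := hs c (by simp)
  have bd := hs d (by simp)
  rw [hset] at hχ
  simp only [Finset.mem_insert, Finset.mem_singleton] at hχ
  have hb' : a = χ := by
    rcases hχ with rfl | rfl | rfl | rfl <;>
      simp [nab, nac, nad, nbc, nbd, ncd, nab.symm, nac.symm, nad.symm, nbc.symm, nbd.symm, ncd.symm] at h1 h2 h3 ⊢ <;>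
      omega
  obtain rfl := hb'
  refine ⟨⟨a, b, c, d, nab, nac, nad, nbc, nbd, ncd, hset⟩, rfl, ?_, ?_⟩
  · simpa [nab.symm, nac.symm] using h2
  · simpa [nac.symm, nad.symm] using h3

include hG in
/-- The number of Sylow 7-subgroups of a subgroup containing a generator. -/
theorem sylow_count {x : G} (hx : orderOf x = 7) (H : Subgroup G) (hxH : x ∈ H) :
    Nat.card ↥(normalizer ((zpowers x : Subgroup G) : Set G) ⊓ H) ∣ Nat.card H ∧
      Nat.card H / Nat.card ↥(normalizer ((zpowers x : Subgroup G) : Set G) ⊓ H) % 7 = 1 := by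
  obtain ⟨R, hR⟩ := (IsPGroup.of_card (n := 1) (by rw [Nat.card_zpowers, hx, pow_one]) :
    IsPGroup 7 ↥(zpowers x)).exists_le_sylow
  have hReq : zpowers x = (R : Subgroup G) :=
    Subgroup.eq_of_le_of_card_ge hR (by rw [card_sylow_seven hG R, Nat.card_zpowers, hx])
  have hRH : (R : Subgroup G) ≤ H := hReq ▸ zpowers_le.mpr hxH
  have hNR : Nat.card ↥(normalizer (((R.subtype hRH : Sylow 7 ↥H) : Subgroup ↥H) : Set ↥H)) =
      Nat.card ↥(normalizer ((zpowers x : Subgroup G) : Set G) ⊓ H) := by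
    have : normalizer (((R.subtype hRH : Sylow 7 ↥H) : Subgroup ↥H) : Set ↥H) =
        (normalizer ((zpowers x : Subgroup G) : Set G)).subgroupOf H := by
      rw [hReq]
      exact (Subgroup.subgroupOf_normalizer_eq hRH).symm
    rw [this, ← Subgroup.inf_subgroupOf_right, Nat.card_congr (subgroupOfEquivOfLe inf_le_right).toEquiv]
  have hcount := SimpleTools.card_normalizer_mul (R.subtype hRH : Sylow 7 ↥H)
  rw [hNR] at hcount
  refine ⟨⟨_, hcount.symm.trans (mul_comm _ _)⟩, ?_⟩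
  rw [← hcount, Nat.mul_div_cancel _ Nat.card_pos]
  have hmod := card_sylow_modEq_one 7 ↥H
  exact hmod

include hG in
/-- The centraliser of order 56 is impossible beside two members of degree 45. -/
theorem eight_false (S : Seven G) (hk : S.k = 8) {D : Data G} (Q : Quad D) (ha : D.sd Q.a = 45) (hb : D.sd Q.b = 45)
    (hcd : (D.sd Q.c, D.sd Q.d) ∈ ([(-21, 56), (-21, 210), (-10, 45)] : List (ℤ × ℤ))) : False := by
  haveI : Fact (Nat.Prime 2) := ⟨Nat.prime_two⟩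
  set q := S.F.x
  set C := centralizer ({q} : Set G)
  have hC56 : Nat.card C = 56 := by
    show Nat.card (centralizer ({S.F.x} : Set G)) = _
    rw [centralizer_q S, hk]
  obtain ⟨T⟩ : Nonempty (Sylow 2 ↥C) := inferInstance
  have hT : Nat.card (T : Subgroup ↥C) = 2 ^ 3 :=
    SimpleTools.card_sylow_subgroup (k := 3) (m := 7) (by rw [hC56]; norm_num) (by norm_num) T
  haveI : Nontrivial ↥(T : Subgroup ↥C) := Finite.one_lt_card_iff_nontrivial.mp (by rw [hT]; norm_num)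
  haveI := T.isPGroup'.center_nontrivial
  obtain ⟨i, hi⟩ := IsPGroup.iff_card.mp (T.isPGroup'.to_subgroup (center ↥(T : Subgroup ↥C)))
  have hi0 : i ≠ 0 := fun h => by
    have := Finite.one_lt_card (α := ↥(center ↥(T : Subgroup ↥C)))
    rw [hi, h, pow_zero] at this
    omega
  obtain ⟨⟨s, hs⟩, hso⟩ := exists_prime_orderOf_dvd_card' (G := ↥(center ↥(T : Subgroup ↥C))) 2
    (by rw [hi]; exact dvd_pow_self 2 hi0)
  rw [Subgroup.orderOf_mk, ← Subgroup.orderOf_coe, ← Subgroup.orderOf_coe] at hso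
  set z : G := ((s : ↥C) : G)
  have hzq : Commute q z := (mem_centralizer_singleton_iff.mp (s : ↥C).2 : Commute z q).symm
  set H := centralizer ({z} : Set G)
  have hqH : q ∈ H := mem_centralizer_singleton_iff.mpr hzq.eq
  have hCH : C ≤ H := by
    have h8 : 8 ∣ Nat.card ↥(C ⊓ H) := by
      rw [show 8 = Nat.card ((T : Subgroup ↥C).map C.subtype) by
        rw [Subgroup.card_map_of_injective C.subtype_injective, hT]; norm_num]
      refine Subgroup.card_dvd_of_le ?_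
      rintro _ ⟨a, ha', rfl⟩
      refine ⟨a.2, mem_centralizer_singleton_iff.mpr ?_⟩
      exact congrArg (fun r : ↥(T : Subgroup ↥C) => ((r : ↥C) : G)) (mem_center_iff.mp hs ⟨a, ha'⟩)
    have h7 : 7 ∣ Nat.card ↥(C ⊓ H) := by
      rw [← S.F.hx]
      exact Subgroup.orderOf_dvd_natCard _ ⟨mem_centralizer_singleton_iff.mpr rfl, hqH⟩
    have h56 : 56 ∣ Nat.card ↥(C ⊓ H) :=
      Nat.Coprime.mul_dvd_of_dvd_of_dvd (m := 7) (n := 8) (by norm_num) h7 h8
    exact inf_eq_left.mp (Subgroup.eq_of_le_of_card_ge inf_le_left (hC56 ▸ Nat.le_of_dvd Nat.card_pos h56))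
  set N := normalizer ((zpowers q : Subgroup G) : Set G)
  have hNc : Nat.card N = 168 := by
    show Nat.card (normalizer ((zpowers S.F.x : Subgroup G) : Set G)) = _
    rw [S.F.hzp, S.hN, hk]
  have hCN : C ≤ N := by
    refine le_trans (le_of_eq ?_) (Subgroup.centralizer_le_normalizer _)
    rw [zpowers_eq_closure, centralizer_closure]
  have h56 : 56 ∣ Nat.card ↥(N ⊓ H) := hC56 ▸ Subgroup.card_dvd_of_le (le_inf hCN hCH)
  have h168 : Nat.card ↥(N ⊓ H) ∣ 168 := hNc ▸ Subgroup.card_dvd_of_le inf_le_left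
  obtain ⟨hdvd, hmod⟩ := sylow_count hG S.F.hx H hqH
  have hz1 : z ≠ 1 := fun h => by rw [h, orderOf_one] at hso; omega
  have hz11 : ¬ 11 ∣ orderOf z := by rw [hso]; norm_num
  have h40 : Nat.card H ∣ 40320 := M22Seven.card_centralizer_dvd hG D hz1 hz11
  obtain ⟨c, hc⟩ : 14 ∣ Nat.card H :=
    ((by norm_num : 14 ∣ 56).trans (hC56 ▸ Subgroup.card_dvd_of_le hCH : 56 ∣ Nat.card H))
  obtain ⟨⟨C', mz⟩, hCmem, hC', hmz⟩ := sevenCs_key c
    (Finset.mem_range.mpr (by have := Nat.le_of_dvd (by norm_num) (hc ▸ h40); omega)) (hc ▸ h40)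
  simp only at hC' hmz
  rw [← hc] at hC' hmz
  subst hC'
  obtain ⟨za, zb, zc, zd, hzv⟩ := Q.exists_vals_two hG hso
  obtain ⟨fa, fb, fc, fd, htc⟩ := Q.inv_column hG hso hzv hmz
  obtain ⟨θ, hθ⟩ : D.F.Y.Nonempty := Finset.card_pos.1 (by rw [D.F.hY]; norm_num)
  have h7mem : ∀ (χ : IrrCharacter G) (v : ℤ), χ ∈ D.F.X' → (χ : G → ℂ) z = v →
      (D.sd χ).natAbs % 7 = 0 → v % 7 = 0 := fun χ v hχ hv h => by
    rw [D.natAbs_sd (D.F.mem_X hχ).1] at h
    exact value_seven_two hG χ (Nat.dvd_of_mod_eq_zero h) S.F.hx hso hzq hv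
  have hzs : (za, zb, zc, zd) ∈ zSols (Nat.card H) mz (D.sd Q.a) (D.sd Q.b) (D.sd Q.c) (D.sd Q.d) := by
    simp only [zSols, List.mem_flatMap, List.mem_map, List.mem_filter, Bool.and_eq_true, decide_eq_true_eq]
    refine ⟨za, ⟨fa, h7mem _ _ Q.mem_a hzv.1⟩, zb, ⟨fb, h7mem _ _ Q.mem_b hzv.2.1⟩,
      zc, ⟨fc, h7mem _ _ Q.mem_c hzv.2.2.1⟩, zd, ⟨⟨fd, h7mem _ _ Q.mem_d hzv.2.2.2⟩, htc, fun h => ?_⟩, rfl⟩
    rw [show (th (D.sd Q.a) (D.sd Q.b) (D.sd Q.c) (D.sd Q.d)).natAbs = charDegree (θ : G → ℂ) from Q.natAbs_T hθ]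
      at h
    exact value_seven_two hG θ (Nat.dvd_of_mod_eq_zero h) S.F.hx hso hzq (Q.theta_val hzv hz11 hθ)
  rw [ha, hb] at hzs
  obtain ⟨e56, e168⟩ := eight_kill _ hcd _ hCmem (List.ne_nil_of_mem hzs)
  obtain ⟨f, hf⟩ := h56
  have hf3 : f ∣ 3 := Nat.dvd_of_mul_dvd_mul_left (by norm_num : 0 < 56) (hf ▸ h168)
  rcases (Nat.dvd_prime Nat.prime_three).mp hf3 with rfl | rfl
  · rw [hf] at hdvd hmod
    exact e56 hdvd hmod
  · rw [hf] at hdvd hmod
    exact e168 hdvd hmod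

/-- The cases left. -/
inductive Case {D : Data G} (S : Seven G) (Q : Quad D) : Prop
  | pair (hk : S.k = 1) (ha : D.sd Q.a = 45) (hb : D.sd Q.b = 45) (hY : S.F.Y = {Q.a, Q.b})
      (hd : charDegree (S.c2 : G → ℂ) = 99)
      (hcd : (D.sd Q.c, D.sd Q.d) ∈ ([(-21, 56), (-21, 210)] : List (ℤ × ℤ))) : Case S Q
  | single (ha : D.sd Q.a = -120) (hca : Q.a = S.c2) (hd : ∀ θ ∈ S.F.Y, charDegree (θ : G → ℂ) = 66)
      (hbcd : (S.k = 1 ∧ (D.sd Q.b, D.sd Q.c, D.sd Q.d) ∈ ([(-21, 56, 210), (-21, 210, 210), (-21, -21, 56),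
          (-252, 56, 210), (-252, -21, 56)] : List (ℤ × ℤ × ℤ))) ∨
        (S.k = 8 ∧ (D.sd Q.b, D.sd Q.c, D.sd Q.d) = (-120, 45, 210))) : Case S Q

include hG in
theorem exists_case (D : Data G) : ∃ (S : Seven G) (Q : Quad D), Case S Q := by
  obtain ⟨S⟩ := exists_seven hG D
  have hY2 : S.F.Y.card = 2 := by rw [S.F.hY]
  have hout : ∀ χ : IrrCharacter G, 11 ∣ charDegree (χ : G → ℂ) → χ ∉ D.F.X ∪ D.F.Y := fun χ h hmem => by
    rcases Finset.mem_union.mp hmem with h' | h'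
    · have h1 := D.F.hmod χ h'
      rw [Int.ModEq] at h1
      rcases D.F.hsgn χ h' with e | e <;> rw [e] at h1 <;> omega
    · have h1 := D.F.hYd χ h'
      rw [Int.ModEq] at h1
      rcases D.F.hεy with e | e <;> rw [e] at h1 <;> omega
  have hn55 : ‖(S.c55 : G → ℂ) S.F.x‖ ^ 2 = 1 := by
    have hv := S.F.hval S.c55 (S.F.mem_X (mem55 S)).1 1 (by norm_num) 1 (Commute.one_right _)
      (by rw [orderOf_one]; norm_num)
    rw [pow_one, mul_one] at hv
    rw [hv, S.s55]; norm_num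
  have hn2 : ‖(S.c2 : G → ℂ) S.F.x‖ ^ 2 = 1 := by
    have hv := S.F.hval S.c2 (S.F.mem_X (mem2 S)).1 1 (by norm_num) 1 (Commute.one_right _)
      (by rw [orderOf_one]; norm_num)
    rw [pow_one, mul_one] at hv
    rw [hv, S.s2]; norm_num
  obtain ⟨θ, θ', hθne, hY⟩ := Finset.card_eq_two.mp hY2
  rcases S.cases with ⟨h2, hθd⟩ | ⟨h2, hθd⟩
  · -- two members of degree 45
    have hmem : ∀ η ∈ S.F.Y, η ∈ D.F.X' ∧ D.sd η = 45 := fun η hη => by
      have hd := hθd η hη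
      rcases D.mem_of_not_dvd hG (χ := η) (by rw [hd]; norm_num) with h | h | h
      · rw [h] at hd; simp [charDegree] at hd
      · refine ⟨h, ?_⟩
        have h1 := D.F.hmod η (D.F.mem_X h).1
        rw [Int.ModEq, hd] at h1
        rcases D.F.hsgn η (D.F.mem_X h).1 with e | e <;> rw [e] at h1
        · simp [Data.sd, e, hd]
        · norm_num at h1
      · exfalso
        have h1 := D.F.hYd η h
        rw [Int.ModEq, hd] at h1
        rcases D.F.hεy with e | e <;> rw [e] at h1 <;> norm_num at h1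
    obtain ⟨hθX, hθs⟩ := hmem θ (by simp [hY])
    obtain ⟨hθX', hθs'⟩ := hmem θ' (by simp [hY])
    obtain ⟨Q, hQa, hQb, hcd⟩ := quad_two hG hθX hθX' hθne
    refine ⟨S, Q, ?_⟩
    have ha : D.sd Q.a = 45 := by rw [hQa]; exact hθs
    have hb : D.sd Q.b = 45 := by rw [hQb]; exact hθs'
    have hdisj : Disjoint ({S.c55, S.c2} : Finset (IrrCharacter G)) (D.F.X ∪ D.F.Y) := by
      rw [Finset.disjoint_left]
      intro χ hχ
      simp only [Finset.mem_insert, Finset.mem_singleton] at hχ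
      rcases hχ with rfl | rfl
      · exact hout _ (by rw [S.d55]; norm_num)
      · exact hout _ (by rw [h2]; norm_num)
    obtain ⟨m, hkm, p, q, r, s, hp, hq, hr, hs, ap, aq, -, -, hcol, hcond⟩ :=
      search hG S Q {S.c55, S.c2} hdisj (e := 8) le_rfl (by rw [Finset.sum_pair S.ne, hn55, hn2]; norm_num)
    obtain ⟨hq1, hq2⟩ := pr_pair S (θ := θ) (θ' := θ') hY hθne (hQa ▸ ap) (hQb ▸ aq)
    have hqe : q = (-2 - p.1, -p.2) := Prod.ext hq1 hq2
    have hv := Q.valid_sd hG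
    have hl := tLive_quad hG Q
    rw [ha, hb] at hv hl
    have hlist : (D.sd Q.c, D.sd Q.d) ∈ pair45 := by
      simp only [pair45, List.mem_flatMap, List.mem_map, List.mem_filter, Bool.and_eq_true, decide_eq_true_eq]
      exact ⟨_, D.sd_mem hG Q.mem_c, _, ⟨⟨D.sd_mem hG Q.mem_d, hcd⟩, hv, hl⟩, rfl⟩
    have hall : (S.k, (D.sd Q.c, D.sd Q.d)) ∈
        (pair45.flatMap fun t => (threeKs.filter fun k => live45 k t).map fun k => (k.1, t)) := by
      simp only [List.mem_flatMap, List.mem_map, List.mem_filter]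
      refine ⟨_, hlist, (S.k, m), ⟨hkm, ?_⟩, rfl⟩
      subst hqe
      simp only [live45, List.any_eq_true, Bool.and_eq_true, decide_eq_true_eq]
      push_cast at hcol
      rw [ha, hb] at hcond
      rw [ha] at hp
      have hr0 : 0 ≤ nq r := by simp only [nq]; nlinarith [sq_nonneg r.1, sq_nonneg r.2]
      have hs0 : 0 ≤ nq s := by simp only [nq]; nlinarith [sq_nonneg s.1, sq_nonneg s.2]
      push_cast
      exact ⟨p, hp, by omega, r, hr, by omega, s, hs, hcond⟩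
    rw [seven_45] at hall
    simp only [List.mem_cons, List.not_mem_nil, or_false, Prod.mk.injEq] at hall
    have h45 : S.F.Y = {Q.a, Q.b} := by rw [hQa, hQb, hY]
    rcases hall with ⟨hk, hc, hd⟩ | ⟨hk, hc, hd⟩ | ⟨hk, hc, hd⟩ | ⟨hk, hc, hd⟩ | ⟨hk, hc, hd⟩
    · exact (eight_false hG S hk Q ha hb (by simp [hc, hd])).elim
    · exact .pair hk ha hb h45 h2 (by simp [hc, hd])
    · exact (eight_false hG S hk Q ha hb (by simp [hc, hd])).elim
    · exact .pair hk ha hb h45 h2 (by simp [hc, hd])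
    · exact (eight_false hG S hk Q ha hb (by simp [hc, hd])).elim
  · -- a member of degree 120 in both blocks
    obtain ⟨hcX, hcs⟩ : S.c2 ∈ D.F.X' ∧ D.sd S.c2 = -120 := by
      rcases D.mem_of_not_dvd hG (χ := S.c2) (by rw [h2]; norm_num) with h | h | h
      · rw [h] at h2; simp [charDegree] at h2
      · refine ⟨h, ?_⟩
        have h1 := D.F.hmod S.c2 (D.F.mem_X h).1
        rw [Int.ModEq, h2] at h1
        rcases D.F.hsgn S.c2 (D.F.mem_X h).1 with e | e <;> rw [e] at h1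
        · norm_num at h1
        · simp [Data.sd, e, h2]
      · exfalso
        have h1 := D.F.hYd S.c2 h
        rw [Int.ModEq, h2] at h1
        rcases D.F.hεy with e | e <;> rw [e] at h1 <;> norm_num at h1
    obtain ⟨Q, hQa, hbc, hcd⟩ := quad_one hG hcX
    refine ⟨S, Q, ?_⟩
    have ha : D.sd Q.a = -120 := by rw [hQa]; exact hcs
    have h55Y : S.c55 ∉ ({θ, θ'} : Finset (IrrCharacter G)) := fun h => by
      rw [← hY] at h
      exact Finset.disjoint_left.mp S.F.hdisj (S.F.mem_X (mem55 S)).1 h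
    have hdisj : Disjoint ({S.c55, θ, θ'} : Finset (IrrCharacter G)) (D.F.X ∪ D.F.Y) := by
      rw [Finset.disjoint_left]
      intro χ hχ
      rw [Finset.mem_insert, ← hY] at hχ
      rcases hχ with rfl | h
      · exact hout _ (by rw [S.d55]; norm_num)
      · exact hout _ (by rw [hθd χ h]; norm_num)
    obtain ⟨m, hkm, p, q, r, s, hp, hq, hr, hs, ap, -, -, -, hcol, hcond⟩ :=
      search hG S Q {S.c55, θ, θ'} hdisj (e := 20) (by norm_num) (by
        rw [Finset.sum_insert h55Y, Finset.sum_pair hθne, hn55]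
        have n1 := norm_low hG S θ (by rw [hθd θ (by simp [hY])])
        have n2 := norm_low hG S θ' (by rw [hθd θ' (by simp [hY])])
        push_cast
        linarith)
    obtain ⟨hp1, hp2⟩ := pr_const S (S.F.mem_X (mem2 S)).1 (hQa ▸ ap)
    rw [S.s2] at hp1
    have hpe : p = (2, 0) := Prod.ext hp1 hp2
    have hlist : (D.sd Q.b, D.sd Q.c, D.sd Q.d) ∈ trip120 := by
      simp only [trip120, List.mem_flatMap, List.mem_map, List.mem_filter, Bool.and_eq_true, decide_eq_true_eq]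
      exact ⟨_, D.sd_mem hG Q.mem_b, _, ⟨D.sd_mem hG Q.mem_c, hbc⟩, _, ⟨⟨D.sd_mem hG Q.mem_d, hcd⟩,
        ha ▸ Q.valid_sd hG, ha ▸ tLive_quad hG Q⟩, rfl⟩
    have hall : (S.k, (D.sd Q.b, D.sd Q.c, D.sd Q.d)) ∈
        (trip120.flatMap fun t => (threeKs.filter fun k => live120 k t).map fun k => (k.1, t)) := by
      simp only [List.mem_flatMap, List.mem_map, List.mem_filter]
      refine ⟨_, hlist, (S.k, m), ⟨hkm, ?_⟩, rfl⟩
      subst hpe
      simp only [live120, List.any_eq_true, Bool.and_eq_true, decide_eq_true_eq]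
      push_cast at hcol
      rw [ha] at hcond
      rw [show nq ((2 : ℤ), (0 : ℤ)) = 4 by rfl] at hcol
      have hr0 : 0 ≤ nq r := by simp only [nq]; nlinarith [sq_nonneg r.1, sq_nonneg r.2]
      have hs0 : 0 ≤ nq s := by simp only [nq]; nlinarith [sq_nonneg s.1, sq_nonneg s.2]
      push_cast
      exact ⟨q, hq, by omega, r, hr, by omega, s, hs, hcond⟩
    rw [seven_120] at hall
    simp only [List.mem_cons, List.not_mem_nil, or_false, Prod.mk.injEq] at hall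
    refine .single ha hQa hθd ?_
    simp only [List.mem_cons, List.not_mem_nil, or_false, Prod.mk.injEq]
    tauto

end CfsgLib.KGroups.M22SevenFinal
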