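import Cfsg.Agent.Lib.KGroups.M22SevenSix
import Cfsg.Agent.Lib.KGroups.M22CheckSeven

/-!
# The principal 7-block of a simple group of order 443520

With an automiser of order three the block is one of two, found at a central involution.
-/

set_option autoImplicit false

namespace CfsgLib.KGroups.M22SevenPair

open Cfsg CfsgLib.Blocks CfsgLib.KGroups.M11Tools CfsgLib.KGroups.M12Tools CfsgLib.KGroups.M12Local
  CfsgLib.KGroups.M22Tools CfsgLib.KGroups.M22Frame CfsgLib.KGroups.M22Check CfsgLib.KGroups.M22Eleven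
  CfsgLib.KGroups.M22Block CfsgLib.KGroups.M22Seven CfsgLib.KGroups.M22SevenSix Subgroup
open CfsgLib.SmallGroups
open scoped Classical

theorem sdegs7_key : ∀ a ∈ Finset.range 666, a ∣ 443520 → 2 ≤ a →
    a % 11 ∈ ({0, 1, 5, 6, 10} : Finset ℕ) →
      (a % 7 = 1 → (a : ℤ) ∈ sdegs7) ∧ (a % 7 = 6 → -(a : ℤ) ∈ sdegs7) := by
  decide +kernel

theorem central_key : ∀ b ∈ ([1, 3, 5, 7, 9, 15, 21, 35, 45, 63, 105, 315] : List ℕ),
    ∃ C ∈ centralCs, C.1 = 128 * b ∧ 128 * b < (C.2 + 1) * (C.2 + 1) := by decide +kernel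

theorem dvd_315_mem : ∀ b ∈ Nat.divisors 315,
    b ∈ ([1, 3, 5, 7, 9, 15, 21, 35, 45, 63, 105, 315] : List ℕ) := by decide +kernel

variable {G : Type*} [Group G] [Fintype G]

/-- With an automiser of odd order no element of a section of a generator is inverted by an involution. -/
theorem no_inverting {p e k : ℕ} [hp : Fact p.Prime] (hp2 : p ≠ 2) {P : Sylow p G} (F : Frame p e P) (he : Odd e)
    (hN : Nat.card (normalizer ((P : Subgroup G) : Set G)) = e * (p * k))
    (hC : Nat.card (centralizer ((P : Subgroup G) : Set G)) = p * k)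
    {u v : G} (hu : orderOf u = 2) (hv : orderOf v = 2) {s : G} (hs : Commute F.x s) (hsp : ¬ p ∣ orderOf s)
    {t : G} (htu : IsConj u t) : ¬ IsConj v (t⁻¹ * (F.x * s)⁻¹) := by
  intro hb
  obtain ⟨hto, hinv⟩ := exists_inverting hu hv htu hb
  obtain ⟨m, hm1, hm0⟩ := Nat.chineseRemainder ((hp.out.coprime_iff_not_dvd).mpr hsp) 1 0
  have hpow : (F.x * s) ^ m = F.x := by
    rw [hs.mul_pow, ← pow_mod_orderOf F.x, F.hx, hm1, ← pow_mod_orderOf s, hm0,
      Nat.mod_eq_of_lt hp.out.one_lt]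
    simp
  have hinv' : t * F.x * t⁻¹ = F.x⁻¹ := by
    have h2 := congrArg (fun y : G => y ^ m) hinv
    simp only [conj_pow, inv_pow, inv_inv, hpow] at h2
    calc t * F.x * t⁻¹ = (t * F.x⁻¹ * t⁻¹)⁻¹ := by group
      _ = _ := by rw [h2]
  have htN : t ∈ normalizer ((P : Subgroup G) : Set G) := by
    rw [← F.hzp]
    refine mem_normalizer_iff_map_conj_eq.mpr ?_
    rw [MonoidHom.map_zpowers]
    show zpowers (t * F.x * t⁻¹) = _
    rw [hinv', zpowers_inv]
  have hCN : centralizer ((P : Subgroup G) : Set G) ≤ normalizer ((P : Subgroup G) : Set G) :=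
    Subgroup.centralizer_le_normalizer _
  set C' := (centralizer ((P : Subgroup G) : Set G)).subgroupOf (normalizer ((P : Subgroup G) : Set G))
  have hidx : C'.index = e := by
    have h2 := C'.index_mul_card
    rw [Nat.card_congr (subgroupOfEquivOfLe hCN).toEquiv, hN, hC] at h2
    exact Nat.eq_of_mul_eq_mul_right (hC ▸ Nat.card_pos) h2
  have hnormal : C'.Normal := ⟨fun c hc g => by
    rw [mem_subgroupOf, mem_centralizer_iff] at hc ⊢
    intro z hz
    have hz' := (mem_normalizer_iff''.mp g.2 z).mp hz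
    have h2 := hc _ hz'
    push_cast
    calc z * ((g : G) * (c : G) * (g : G)⁻¹) = (g : G) * (((g : G)⁻¹ * z * g) * c) * (g : G)⁻¹ := by group
      _ = (g : G) * ((c : G) * ((g : G)⁻¹ * z * g)) * (g : G)⁻¹ := by rw [h2]
      _ = (g : G) * c * (g : G)⁻¹ * z := by group⟩
  have htC : (⟨t, htN⟩ : ↥(normalizer ((P : Subgroup G) : Set G))) ∈ C' := by
    rw [← QuotientGroup.eq_one_iff (N := C'), ← orderOf_eq_one_iff]
    have de : orderOf ((⟨t, htN⟩ : ↥(normalizer ((P : Subgroup G) : Set G))) :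
        ↥(normalizer ((P : Subgroup G) : Set G)) ⧸ C') ∣ e := by
      rw [← hidx]; exact orderOf_dvd_natCard _
    have d2 : orderOf ((⟨t, htN⟩ : ↥(normalizer ((P : Subgroup G) : Set G))) :
        ↥(normalizer ((P : Subgroup G) : Set G)) ⧸ C') ∣ 2 := by
      refine (orderOf_map_dvd (QuotientGroup.mk' C') _).trans ?_
      rw [Subgroup.orderOf_mk, hto]
    refine Nat.eq_one_of_dvd_one ?_
    have h := Nat.dvd_gcd de d2
    rwa [(he.coprime_two_right : Nat.Coprime e 2)] at h
  have hxt : Commute F.x t := mem_centralizer_iff.mp htC F.x F.hxP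
  rw [← hxt.eq, mul_inv_cancel_right] at hinv'
  have hx2 : F.x ^ 2 = 1 := by rw [pow_two]; nth_rw 1 [hinv']; rw [inv_mul_cancel]
  have := orderOf_dvd_of_pow_eq_one hx2
  rw [F.hx] at this
  exact hp2 ((Nat.prime_dvd_prime_iff_eq hp.out Nat.prime_two).mp this)

variable [IsSimpleGroup G] (hG : Nat.card G = 443520) [Fact (Nat.Prime 11)]

include hG in
theorem mem_adm_gen {g : G} (hg : orderOf g = 2) {χ : IrrCharacter G} (hne : χ ≠ trivChar G) {k : ℤ}
    (hk : (χ : G → ℂ) g = k) {m : ℕ} (hm : Nat.card (centralizer ({g} : Set G)) < (m + 1) * (m + 1))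
    (hsq : k * k ≤ (Nat.card (centralizer ({g} : Set G)) : ℤ)) :
    k ∈ adm (Nat.card (centralizer ({g} : Set G))) m (charDegree (χ : G → ℂ)) := by
  have hna := M22Eleven.not_comm hG
  have hlt := ValueTools.lt_degree hna hne (fun h => by rw [h, orderOf_one] at hg; omega) hk
  have h4 := ValueTools.mod_four hna χ hg hk
  have hkm : k.natAbs ≤ m := by
    by_contra hc
    have h1 : (m + 1) * (m + 1) ≤ k.natAbs * k.natAbs := Nat.mul_le_mul (by omega) (by omega)
    have h2 : ((k.natAbs * k.natAbs : ℕ) : ℤ) = k * k := by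
      push_cast; rw [← Int.natCast_natAbs, Int.natAbs_mul_self']
    omega
  simp only [adm, List.mem_filter, List.mem_map, List.mem_range, Bool.and_eq_true, decide_eq_true_eq]
  refine ⟨⟨((k - ((charDegree (χ : G → ℂ) % 4 : ℕ) : ℤ)) / 4 + ((m / 4 + 1 : ℕ) : ℤ)).toNat, by omega, by omega⟩,
    ⟨⟨by omega, by omega⟩, hsq⟩, ?_⟩
  have h := degree_dvd_index_mul χ g hk
  rw [index_eq hG] at h
  exact h

include hG in
/-- An involution central in a Sylow 2-subgroup. -/
theorem exists_central (D : Data G) : ∃ t : G, orderOf t = 2 ∧ ∃ C ∈ centralCs,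
    Nat.card (centralizer ({t} : Set G)) = C.1 ∧ C.1 < (C.2 + 1) * (C.2 + 1) := by
  haveI : Fact (Nat.Prime 2) := ⟨Nat.prime_two⟩
  obtain ⟨S⟩ : Nonempty (Sylow 2 G) := inferInstance
  have hScard : Nat.card (S : Subgroup G) = 2 ^ 7 :=
    SimpleTools.card_sylow_subgroup (k := 7) (m := 3465) (by rw [hG]; norm_num) (by norm_num) S
  haveI : Nontrivial ↥(S : Subgroup G) := Finite.one_lt_card_iff_nontrivial.mp (by rw [hScard]; norm_num)
  haveI := S.isPGroup'.center_nontrivial
  obtain ⟨k, hk⟩ := IsPGroup.iff_card.mp (S.isPGroup'.to_subgroup (center ↥(S : Subgroup G)))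
  have hk0 : k ≠ 0 := fun h => by
    have := Finite.one_lt_card (α := ↥(center ↥(S : Subgroup G)))
    rw [hk, h, pow_zero] at this
    omega
  obtain ⟨⟨s, hs⟩, hso⟩ := exists_prime_orderOf_dvd_card' (G := ↥(center ↥(S : Subgroup G))) 2
    (by rw [hk]; exact dvd_pow_self 2 hk0)
  rw [Subgroup.orderOf_mk, ← Subgroup.orderOf_coe] at hso
  refine ⟨(s : G), hso, ?_⟩
  have h128 : 128 ∣ Nat.card (centralizer ({(s : G)} : Set G)) := by
    rw [show 128 = Nat.card (S : Subgroup G) by rw [hScard]; norm_num]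
    exact Subgroup.card_dvd_of_le fun a ha => mem_centralizer_singleton_iff.mpr
      (congrArg Subtype.val (mem_center_iff.mp hs ⟨a, ha⟩))
  have hs1 : (s : G) ≠ 1 := fun h => by rw [h, orderOf_one] at hso; omega
  have h40 := M22Seven.card_centralizer_dvd hG D hs1 (by rw [hso]; norm_num)
  obtain ⟨b, hb⟩ := h128
  have hb315 : b ∣ 315 := Nat.dvd_of_mul_dvd_mul_left (by norm_num : 0 < 128) (by rw [← hb]; exact h40)
  obtain ⟨C, hC, hC', hlt⟩ := central_key b (dvd_315_mem b (Nat.mem_divisors.mpr ⟨hb315, by norm_num⟩))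
  exact ⟨C, hC, by rw [hC', hb], by rw [hC']; exact hlt⟩

/-- The principal 7-block with an automiser of order three. -/
structure Seven (G : Type*) [Group G] [Fintype G] [Fact (Nat.Prime 11)] [Fact (Nat.Prime 7)] where
  P : Sylow 7 G
  F : Frame 7 3 P
  hS : SectionZero F
  k : ℕ
  hk : k ∈ ([1, 8, 15, 64, 120, 960] : List ℕ)
  hN : Nat.card (normalizer ((P : Subgroup G) : Set G)) = 3 * (7 * k)
  hC : Nat.card (centralizer ((P : Subgroup G) : Set G)) = 7 * k
  c55 : IrrCharacter G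
  c2 : IrrCharacter G
  ne : c55 ≠ c2
  hset : F.X' = {c55, c2}
  d55 : charDegree (c55 : G → ℂ) = 55
  s55 : F.sgn c55 = -1
  s2 : F.sgn c2 = 1
  hεy : F.εy = 1
  cases : (charDegree (c2 : G → ℂ) = 99 ∧ ∀ θ ∈ F.Y, charDegree (θ : G → ℂ) = 45) ∨
    (charDegree (c2 : G → ℂ) = 120 ∧ ∀ θ ∈ F.Y, charDegree (θ : G → ℂ) = 66)

include hG in
theorem exists_seven (D : Data G) [Fact (Nat.Prime 7)] : Nonempty (Seven G) := by
  have hna := M22Eleven.not_comm hG
  obtain ⟨P⟩ : Nonempty (Sylow 7 G) := inferInstance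
  obtain ⟨e, k, hN, hC, hcase⟩ := seven_cases hG D P
  obtain ⟨rfl, hk⟩ | ⟨rfl, hk⟩ := hcase
  swap
  · exact (not_six hG D P hk hN hC).elim
  obtain ⟨F, hS⟩ := exists_frame_section (e := 3) (by norm_num) P (card_sylow_seven hG P) (by rw [hN, hC])
  have ht := F.triv_mem (by norm_num) (by norm_num) (by norm_num)
  obtain ⟨θ, hθ⟩ : F.Y.Nonempty := Finset.card_pos.1 (by rw [F.hY]; norm_num)
  have hθne : θ ≠ trivChar G := fun h => Finset.disjoint_left.mp F.hdisj ht (h ▸ hθ)
  obtain ⟨a', b', nab', hset'⟩ := Finset.card_eq_two.mp (show F.X'.card = 2 by have := F.card_X' ht; omega)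
  -- in increasing order
  obtain ⟨a, b, nab, hset, hab⟩ : ∃ a b, a ≠ b ∧ F.X' = {a, b} ∧
      F.sgn a * (charDegree (a : G → ℂ) : ℤ) ≤ F.sgn b * (charDegree (b : G → ℂ) : ℤ) := by
    rcases le_total (F.sgn a' * (charDegree (a' : G → ℂ) : ℤ)) (F.sgn b' * (charDegree (b' : G → ℂ) : ℤ)) with h | h
    · exact ⟨a', b', nab', hset', h⟩
    · exact ⟨b', a', nab'.symm, by rw [hset', Finset.pair_comm], h⟩
  have hXa : a ∈ F.X' := by simp [hset]
  have hXb : b ∈ F.X' := by simp [hset]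
  have hmem : ∀ χ ∈ F.X', F.sgn χ * (charDegree (χ : G → ℂ) : ℤ) ∈ sdegs7 ∧
      sg (F.sgn χ * (charDegree (χ : G → ℂ) : ℤ)) = F.sgn χ ∧
      (F.sgn χ * (charDegree (χ : G → ℂ) : ℤ)).natAbs = charDegree (χ : G → ℂ) := fun χ hχ => by
    obtain ⟨hX, hne⟩ := F.mem_X hχ
    have hp := charDegree_pos χ
    obtain ⟨h1, h6⟩ := sdegs7_key _ (Finset.mem_range.mpr (by have := deg_le hG χ; omega))
      (hG ▸ charDegree_dvd χ) (two_le_degree hG hne) (deg_mod_eleven hG D χ)
    have hmd := F.hmod χ hX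
    rw [Int.ModEq] at hmd
    rcases F.hsgn χ hX with e | e <;> rw [e] at hmd ⊢
    · refine ⟨by rw [one_mul]; exact h1 (by omega), ?_, by simp⟩
      simp only [sg, one_mul]; split_ifs <;> omega
    · refine ⟨by rw [neg_one_mul]; exact h6 (by omega), ?_, by simp⟩
      simp only [sg]; split_ifs <;> omega
  obtain ⟨sa, ga, na⟩ := hmem a hXa
  obtain ⟨sb, gb, nb⟩ := hmem b hXb
  set A := F.sgn a * (charDegree (a : G → ℂ) : ℤ) with hA
  set B := F.sgn b * (charDegree (b : G → ℂ) : ℤ) with hB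
  have hT : 1 + A + B = F.εy * (charDegree (θ : G → ℂ) : ℤ) := by
    rw [F.rel_one ht hθ, hset, Finset.sum_pair nab]
    ring
  have hTn : (1 + A + B).natAbs = charDegree (θ : G → ℂ) := by
    rw [hT]; rcases F.hεy with e | e <;> simp [e]
  have hTs : sg (1 + A + B) = F.εy := by
    have := charDegree_pos θ
    rw [hT]; rcases F.hεy with e | e <;> simp only [sg, e] <;> split_ifs <;> omega
  have hY2 : F.Y.card = 2 := by rw [F.hY]
  have hvalid : valid7 A B = true := by
    simp only [valid7, Bool.and_eq_true, decide_eq_true_eq, hTn]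
    refine ⟨⟨⟨⟨two_le_degree hG hθne, hG ▸ charDegree_dvd θ⟩, ?_⟩, ?_⟩, ?_⟩
    · have h1 := F.hYd θ hθ
      rw [Int.ModEq] at h1
      rw [hT]
      rcases F.hεy with e | e <;> rw [e] at h1 ⊢ <;> omega
    · have h := deg_mod_eleven hG D θ
      simp only [Finset.mem_insert, Finset.mem_singleton] at h
      simp only [List.mem_cons, List.not_mem_nil, or_false]
      exact h
    · have h1 : ∑ η ∈ F.X ∪ F.Y, (charDegree (η : G → ℂ) : ℤ) ^ 2 ≤
          ∑ η : IrrCharacter G, (charDegree (η : G → ℂ) : ℤ) ^ 2 :=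
        Finset.sum_le_sum_of_subset_of_nonneg (Finset.subset_univ _) fun _ _ _ => sq_nonneg _
      rw [Finset.sum_union F.hdisj, ← Finset.add_sum_erase _ _ ht, show F.X.erase (trivChar G) = {a, b} from hset,
        Finset.sum_pair nab,
        Finset.sum_congr rfl (g := fun _ => (charDegree (θ : G → ℂ) : ℤ) ^ 2) fun η hη => by
          rw [F.deg_agree hη hθ],
        Finset.sum_const, hY2, show ∑ η : IrrCharacter G, (charDegree (η : G → ℂ) : ℤ) ^ 2 = 443520 by
          exact_mod_cast (sum_deg_sq (G := G)).trans hG,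
        show charDegree ((trivChar G : IrrCharacter G) : G → ℂ) = 1 by simp [charDegree]] at h1
      simp only [nsmul_eq_mul] at h1
      push_cast at h1
      have hsq : ∀ χ ∈ F.X', F.sgn χ * (charDegree (χ : G → ℂ) : ℤ) * (F.sgn χ * (charDegree (χ : G → ℂ) : ℤ)) =
          (charDegree (χ : G → ℂ) : ℤ) ^ 2 := fun χ hχ => by
        rcases F.hsgn χ (F.mem_X hχ).1 with e | e <;> rw [e] <;> ring
      rw [show A * A = (charDegree (a : G → ℂ) : ℤ) ^ 2 from hsq a hXa,
        show B * B = (charDegree (b : G → ℂ) : ℤ) ^ 2 from hsq b hXb, hT,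
        show F.εy * (charDegree (θ : G → ℂ) : ℤ) * (F.εy * (charDegree (θ : G → ℂ) : ℤ)) =
          (charDegree (θ : G → ℂ) : ℤ) ^ 2 by rcases F.hεy with e | e <;> rw [e] <;> ring]
      linarith
  -- the column at a central involution
  obtain ⟨t, hto, C, hCm, hCt, hlt⟩ := exists_central hG D
  obtain ⟨va, hva⟩ := exists_int_two a hto
  obtain ⟨vb, hvb⟩ := exists_int_two b hto
  obtain ⟨r, hr⟩ := exists_int_two θ hto
  have ht7 : ¬ 7 ∣ orderOf t := by rw [hto]; norm_num
  have hrel := F.rel_split ht hθ t ht7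
  rw [hset, Finset.sum_pair nab, hva, hvb, hr] at hrel
  have hrel' : F.εy * r = 1 + F.sgn a * va + F.sgn b * vb := by
    have : ((F.εy * r : ℤ) : ℂ) = ((1 + F.sgn a * va + F.sgn b * vb : ℤ) : ℂ) := by
      push_cast; linear_combination hrel
    exact_mod_cast this
  have hr' : sg (1 + A + B) * (1 + sg A * va + sg B * vb) = r := by
    rw [hTs, ga, gb, ← hrel', ← mul_assoc]
    rcases F.hεy with e | e <;> simp [e]
  have hcol : 1 + va * va + vb * vb + 2 * (r * r) ≤ (C.1 : ℤ) := by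
    have h2 : ∑ η ∈ F.X ∪ F.Y, ‖(η : G → ℂ) t‖ ^ 2 ≤ (C.1 : ℝ) := by
      rw [← hCt]
      exact (sum_norm_sq_column t).symm ▸
        Finset.sum_le_sum_of_subset_of_nonneg (Finset.subset_univ _) fun _ _ _ => sq_nonneg _
    rw [Finset.sum_union F.hdisj, ← Finset.add_sum_erase _ _ ht, show F.X.erase (trivChar G) = {a, b} from hset,
      Finset.sum_pair nab, hva, hvb, Finset.sum_congr rfl (g := fun _ => ‖((r : ℤ) : ℂ)‖ ^ 2) fun η hη => by
        rw [(F.hagree η hη θ hθ t ht7).trans hr],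
      Finset.sum_const, hY2, trivChar_apply] at h2
    simp only [Complex.norm_intCast, sq_abs, norm_one, one_pow, nsmul_eq_mul] at h2
    have h3 : ((1 + va * va + vb * vb + 2 * (r * r) : ℤ) : ℝ) ≤ ((C.1 : ℤ) : ℝ) := by
      push_cast
      push_cast at h2
      nlinarith
    exact_mod_cast h3
  have hz := blockSum_eq_zero F hS ht7 ht7 hθ fun s hs hsp u htu =>
    no_inverting (by norm_num) F (by decide) hN hC hto hto hs hsp htu
  have hlive : live7 A B = true := by
    simp only [live7, List.any_eq_true]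
    refine ⟨C, hCm, va, ?_, vb, ?_, ?_⟩
    · rw [na, ← hCt]
      exact mem_adm_gen hG hto (F.mem_X hXa).2 hva (by rw [hCt]; exact hlt) (by rw [hCt]; nlinarith)
    · rw [nb, ← hCt]
      exact mem_adm_gen hG hto (F.mem_X hXb).2 hvb (by rw [hCt]; exact hlt) (by rw [hCt]; nlinarith)
    · simp only [tCond7, Bool.and_eq_true, decide_eq_true_eq, hr', hTn]
      refine ⟨⟨⟨⟨ValueTools.mod_four hna θ hto hr,
        ValueTools.lt_degree hna hθne (fun h => by rw [h, orderOf_one] at hto; omega) hr⟩, hcol⟩, ?_⟩, ?_⟩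
      · have h := degree_dvd_index_mul θ t hr
        rwa [index_eq hG, hCt] at h
      · rw [blockSum, ← Finset.add_sum_erase _ _ ht, show F.X.erase (trivChar G) = {a, b} from hset,
          Finset.sum_pair nab, F.sgn_triv ht, trivChar_apply, trivChar_apply, hva, hvb, hr] at hz
        simp only [irr_one_eq] at hz
        apply Int.cast_injective (α := ℂ)
        simp only [quo, na, nb, hTn, ga, gb, hTs, Int.cast_add, Int.cast_sub, Int.cast_mul, Int.cast_natCast,
          Int.cast_ofNat, Int.cast_zero]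
        rw [int_quo hG, int_quo hG, int_quo hG]
        linear_combination (443520 : ℂ) * hz
  have hopt := seven_options A sa B sb hab hvalid hlive
  have hsign : ∀ (s : ℤ) (n : ℕ) (v : ℤ), (s = 1 ∨ s = -1) → s * (n : ℤ) = v →
      (0 < v → s = 1 ∧ (n : ℤ) = v) ∧ (v < 0 → s = -1 ∧ (n : ℤ) = -v) := by
    intro s n v hs h
    rcases hs with rfl | rfl <;> refine ⟨fun h' => ?_, fun h' => ?_⟩ <;> omega
  obtain ⟨hea, heb⟩ | ⟨hea, heb⟩ := hopt
  all_goals
    obtain ⟨hsa, hda⟩ := (hsign _ _ _ (F.hsgn a (F.mem_X hXa).1) hea).2 (by norm_num)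
    obtain ⟨hsb, hdb⟩ := (hsign _ _ _ (F.hsgn b (F.mem_X hXb).1) heb).1 (by norm_num)
    rw [hea, heb] at hT
    have hε : F.εy = 1 := by rcases F.hεy with e | e <;> rw [e] at hT ⊢ <;> omega
    rw [hε] at hT
    refine ⟨⟨P, F, hS, k, hk, hN, hC, a, b, nab, hset, by omega, hsa, hsb, hε, ?_⟩⟩
  · exact Or.inl ⟨by omega, fun η hη => by rw [F.deg_agree hη hθ]; omega⟩
  · exact Or.inr ⟨by omega, fun η hη => by rw [F.deg_agree hη hθ]; omega⟩

end CfsgLib.KGroups.M22SevenPair
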