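import Cfsg.Agent.Lib.KGroups.M22Seven
import Cfsg.Agent.Lib.KGroups.M22CheckNarrow
import Cfsg.Agent.Lib.KGroups.M12Classes

/-!
# No automiser of order six on a Sylow 7-subgroup of a simple group of order 443520

A member shared by the principal blocks for 7 and 11 leaves two blocks, with a centraliser of order 28; the
sum of the values of the character of degree 21 over a Sylow 2-subgroup of the normaliser is then not zero.
-/

set_option autoImplicit false

namespace CfsgLib.KGroups.M22SevenSix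

open Cfsg CfsgLib.Blocks CfsgLib.KGroups.M11Tools CfsgLib.KGroups.M12Tools CfsgLib.KGroups.M12Reps
  CfsgLib.KGroups.M12Local CfsgLib.KGroups.M22Tools CfsgLib.KGroups.M22Frame CfsgLib.KGroups.M22Check
  CfsgLib.KGroups.M22Eleven CfsgLib.KGroups.M22Block CfsgLib.KGroups.M22Seven Subgroup
open CfsgLib.SmallGroups
open scoped Classical

theorem odd_key : ∀ j ∈ Nat.divisors 315, ¬ 7 ∣ j → j ∈ ([1, 3, 5, 9, 15, 45] : List ℕ) := by decide +kernel

theorem sevenCs_key : ∀ c ∈ Finset.range 2881, 14 * c ∣ 40320 →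
    ∃ m ∈ sevenCs, m.1 = 14 * c ∧ 14 * c < (m.2 + 1) * (m.2 + 1) := by decide +kernel

theorem sixKs_key : ∀ k ∈ ([4, 32, 60, 480] : List ℕ),
    (∃ m, (k, m) ∈ sixKs ∧ 7 * k < (m + 1) * (m + 1)) ∧ 42 * k ∣ 20160 ∧ 2 ∣ k := by
  intro k hk
  simp only [List.mem_cons, List.not_mem_nil, or_false] at hk
  rcases hk with rfl | rfl | rfl | rfl
  · exact ⟨⟨5, by decide, by norm_num⟩, by norm_num, by norm_num⟩
  · exact ⟨⟨14, by decide, by norm_num⟩, by norm_num, by norm_num⟩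
  · exact ⟨⟨20, by decide, by norm_num⟩, by norm_num, by norm_num⟩
  · exact ⟨⟨57, by decide, by norm_num⟩, by norm_num, by norm_num⟩

theorem evenCs_key : ∀ a ∈ ([2, 4, 8, 16, 32, 64, 128] : List ℕ),
    ∀ b ∈ ([1, 3, 5, 7, 9, 15, 21, 35, 45, 63, 105, 315] : List ℕ),
      ∃ m ∈ evenCs, m.1 = a * b ∧ a * b < (m.2 + 1) * (m.2 + 1) := by decide +kernel

theorem narrowCs_key : ∀ c ∈ Finset.range 337, 4 * c ∣ 1344 →
    ∃ m ∈ narrowCs, m.1 = 4 * c ∧ 4 * c < (m.2 + 1) * (m.2 + 1) := by decide +kernel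

theorem narrow_facts : ∀ e ∈ narrowList, e.2.1 = 4 ∧ e.1.1 = -120 ∧ e.1.2.1 = -21 ∧ e.2.2.2.2.2.1 = -7 ∧
    e.2.2.2.1 ∣ 1344 ∧
    (e.1.2.2.1 = e.1.2.2.2 → e.2.2.2.2.2.2.1 ≠ e.2.2.2.2.2.2.2) ∧
      e.1.2.2.1 ∈ ([-10, 210] : List ℤ) ∧ e.1.2.2.2 ∈ ([45, 210] : List ℤ) := by decide +kernel

variable {G : Type*} [Group G] [Fintype G] [IsSimpleGroup G] (hG : Nat.card G = 443520) [Fact (Nat.Prime 11)]

include hG in
/-- The values at an element of order four whose square is an involution. -/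
theorem four_congr (χ : IrrCharacter G) {g : G} (hg : orderOf g = 4) {v w : ℤ} (hv : (χ : G → ℂ) g = v)
    (hw : (χ : G → ℂ) (g ^ 2) = w) : (((charDegree (χ : G → ℂ) : ℤ) + w) / 2 - v) % 4 = 0 := by
  obtain ⟨n, ρ, hρ, he⟩ := χ.2
  have hn : Module.finrank ℂ (Fin n → ℂ) = charDegree (χ : G → ℂ) := by
    apply Nat.cast_injective (R := ℂ)
    rw [← irr_one_eq, ← he, Representation.char_one]
  have hg4 : g ^ 4 = 1 := hg ▸ pow_orderOf_eq_one g
  obtain ⟨p, q, r, s, h1, h2, h3, h4⟩ := four_eigen (ρ g) (by rw [← map_pow, hg4, map_one])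
  have e2 : (χ : G → ℂ) g = ((p : ℂ) - q) + ((r : ℂ) - s) * Complex.I := by rw [← he]; exact h2
  have e3 : (χ : G → ℂ) (g ^ 2) = (p : ℂ) + q - r - s := by
    rw [← he]
    show LinearMap.trace ℂ _ (ρ (g ^ 2)) = _
    rw [map_pow]; exact h3
  rw [hv] at e2
  rw [hw] at e3
  have hrs : r = s := by
    have := congrArg Complex.im e2
    simp at this
    exact_mod_cast (show (r : ℝ) = s by linarith)
  subst hrs
  have e2' : v = (p : ℤ) - q := by
    have : (v : ℂ) = ((p : ℤ) - q : ℤ) := by rw [e2]; push_cast; ring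
    exact_mod_cast this
  have e3' : w = (p : ℤ) + q - r - r := by
    have : (w : ℂ) = ((p : ℤ) + q - r - r : ℤ) := by rw [e3]; push_cast; ring
    exact_mod_cast this
  rw [det_eq_one (M22Eleven.not_comm hG) ρ g, mul_assoc, ← mul_pow, show Complex.I * -Complex.I = 1 by
    rw [mul_neg, Complex.I_mul_I, neg_neg], one_pow, mul_one] at h4
  have hq : Even q := neg_one_pow_eq_one_iff_even (by norm_num : (-1 : ℂ) ≠ 1) |>.mp h4.symm
  obtain ⟨c, rfl⟩ := hq
  rw [hn] at h1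
  omega

variable {D : Data G} [Fact (Nat.Prime 7)] {P : Sylow 7 G}

include hG in
/-- A member shared by the principal blocks. -/
theorem exists_common (F : Frame 7 6 P) : ∃ χ : IrrCharacter G, ∃ s : ℤ,
    (χ ∈ D.F.X' ∨ χ ∈ D.F.Y) ∧ (χ : G → ℂ) F.x = s ∧ (s = 1 ∨ s = -1) ∧
      (s - (charDegree (χ : G → ℂ) : ℤ)) % 7 = 0 ∧
      ∀ y : G, orderOf y = 2 → Commute F.x y → ∀ v : ℤ, (χ : G → ℂ) y = v →
        ((charDegree (χ : G → ℂ) : ℤ) - v) % 28 = 0 := by
  obtain ⟨B, s, hB, hsum⟩ := exists_signs F (by norm_num) (by rw [F.hY])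
  obtain ⟨χ, hχB, hχ⟩ : ∃ χ ∈ B, ¬ 11 ∣ charDegree (χ : G → ℂ) := by
    by_contra hcon
    simp only [not_exists, not_and, not_not] at hcon
    have h11 : (11 : ℤ) ∣ ∑ χ ∈ B, s χ * (charDegree (χ : G → ℂ) : ℤ) :=
      Finset.dvd_sum fun χ h => dvd_mul_of_dvd_right (by exact_mod_cast hcon χ h) _
    omega
  obtain ⟨hne, hs, hmd, hval⟩ := hB χ hχB
  refine ⟨χ, s χ, (D.mem_of_not_dvd hG hχ).resolve_left hne, ?_, hs, ?_, fun y hy hxy v hv => ?_⟩
  · have h1 := hval 1 (by norm_num) 1 (Commute.one_right _) (by rw [orderOf_one]; norm_num)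
    rwa [pow_one, mul_one] at h1
  · rw [Int.ModEq] at hmd
    omega
  · obtain ⟨w, hw, h4, h14, -⟩ := member_two F.hx hval (M22Eleven.not_comm hG) (by norm_num) hne hy hxy
    have hvw : v = w := by exact_mod_cast hv.symm.trans hw
    push_cast at h14
    omega

omit [IsSimpleGroup G] in
include hG in
theorem vanish_seven (χ : IrrCharacter G) (hd : 7 ∣ charDegree (χ : G → ℂ)) {g : G} (hg : 7 ∣ orderOf g) :
    (χ : G → ℂ) g = 0 :=
  vanish χ (show Nat.Prime 7 by norm_num) (n := 1) (by rw [hG]; norm_num) (by rw [hG]; norm_num)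
    (by rwa [pow_one]) hg

omit [IsSimpleGroup G] in
include hG in
/-- A degree divisible by 7 gives values divisible by 7 at the elements commuting with one of order 7. -/
theorem value_seven_two (χ : IrrCharacter G) (hd : 7 ∣ charDegree (χ : G → ℂ)) {x y : G} (hx : orderOf x = 7)
    (hy : orderOf y = 2) (hxy : Commute x y) {v : ℤ} (hv : (χ : G → ℂ) y = v) : v % 7 = 0 := by
  have hval : ∀ i, ¬ 7 ∣ i → ∀ u : G, Commute x u → ¬ 7 ∣ orderOf u → (χ : G → ℂ) (x ^ i * u) = ((0 : ℤ) : ℂ) := by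
    intro i hi u hc hu
    rw [Int.cast_zero]
    refine vanish_seven hG χ hd ?_
    have h1 : orderOf (x ^ i) = 7 := by
      rw [orderOf_pow, hx, ((Nat.Prime.coprime_iff_not_dvd (by norm_num)).mpr hi).gcd_eq_one, Nat.div_one]
    rw [(hc.pow_left i).orderOf_mul_eq_mul_orderOf_of_coprime (by
      rw [h1]; exact (Nat.Prime.coprime_iff_not_dvd (by norm_num)).mpr hu), h1]
    exact dvd_mul_right _ _
  obtain ⟨m, hm⟩ := member_twist hx hval hy hxy (by norm_num) (μ := 1) (one_pow 2)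
  simp only [Finset.sum_range_succ, Finset.sum_range_zero, pow_zero, pow_one, irr_one_eq, hv] at hm
  have : ((charDegree (χ : G → ℂ) : ℤ) + v : ℂ) = ((14 * m : ℤ) : ℂ) := by
    push_cast at hm ⊢; linear_combination hm
  have : (charDegree (χ : G → ℂ) : ℤ) + v = 14 * m := by exact_mod_cast this
  omega

omit [IsSimpleGroup G] in
include hG in
theorem value_seven_four (χ : IrrCharacter G) (hd : 7 ∣ charDegree (χ : G → ℂ)) {x g : G} (hx : orderOf x = 7)
    (hg : orderOf g = 4) (hxg : Commute x g) {v w : ℤ} (hv : (χ : G → ℂ) g = v) (hw : (χ : G → ℂ) (g ^ 2) = w) :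
    v % 7 = 0 := by
  have hval : ∀ i, ¬ 7 ∣ i → ∀ u : G, Commute x u → ¬ 7 ∣ orderOf u → (χ : G → ℂ) (x ^ i * u) = ((0 : ℤ) : ℂ) := by
    intro i hi u hc hu
    rw [Int.cast_zero]
    refine vanish_seven hG χ hd ?_
    have h1 : orderOf (x ^ i) = 7 := by
      rw [orderOf_pow, hx, ((Nat.Prime.coprime_iff_not_dvd (by norm_num)).mpr hi).gcd_eq_one, Nat.div_one]
    rw [(hc.pow_left i).orderOf_mul_eq_mul_orderOf_of_coprime (by
      rw [h1]; exact (Nat.Prime.coprime_iff_not_dvd (by norm_num)).mpr hu), h1]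
    exact dvd_mul_right _ _
  have h3 : (χ : G → ℂ) (g ^ 3) = v := pow_value χ g (by rw [hg]; norm_num) hv
  obtain ⟨m, hm⟩ := member_twist hx hval hg hxg (by norm_num) (μ := 1) (one_pow 4)
  obtain ⟨m', hm'⟩ := member_twist hx hval hg hxg (by norm_num) (μ := -1) (by norm_num)
  simp only [Finset.sum_range_succ, Finset.sum_range_zero, pow_zero, pow_one, irr_one_eq, hv, hw, h3] at hm hm'
  norm_num at hm hm'
  have : ((4 * v : ℤ) : ℂ) = ((28 * ((m : ℤ) - m') : ℤ) : ℂ) := by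
    push_cast; linear_combination hm - hm'
  have : 4 * v = 28 * ((m : ℤ) - m') := by exact_mod_cast this
  omega

/-- The common data of the block, the element of order 7 and the values there. -/
theorem six_vals (F : Frame 7 6 P) {k : ℕ} (hCq : Nat.card (centralizer ({F.x} : Set G)) = 7 * k)
    (hNq : Nat.card (normalizer ((zpowers F.x : Subgroup G) : Set G)) = 6 * (7 * k)) (χ : IrrCharacter G) :
    ∃ v : ℤ, (χ : G → ℂ) F.x = v ∧ ∀ j, ¬ 7 ∣ j → (χ : G → ℂ) (F.x ^ j) = v := by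
  have hconj : ∀ j, ¬ 7 ∣ j → IsConj (F.x ^ j) F.x := fun j hj =>
    exists_conj_pow F.hx (by rw [hNq, hCq]) hj
  obtain ⟨v, hv⟩ := exists_int_conj χ (g := F.x) fun j hj => hconj j (by
    rw [F.hx] at hj
    exact (Nat.Prime.coprime_iff_not_dvd (by norm_num)).mp hj.symm)
  exact ⟨v, hv, fun j hj => (M12Classes.value_conj χ (hconj j hj)).trans hv⟩

include hG in
/-- An involution commuting with the element of order 7 and central in a Sylow 2-subgroup of the normaliser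
leaves the cases of the list. -/
theorem central_case (F : Frame 7 6 P) {k : ℕ} (hk : k ∈ ([4, 32, 60, 480] : List ℕ))
    (hCq : Nat.card (centralizer ({F.x} : Set G)) = 7 * k)
    (hNq : Nat.card (normalizer ((zpowers F.x : Subgroup G) : Set G)) = 6 * (7 * k))
    (Q : Quad D) (hQ : (D.sd Q.a, D.sd Q.b, D.sd Q.c, D.sd Q.d) ∈ blocks) (T : Subgroup G)
    (hTN : T ≤ normalizer ((zpowers F.x : Subgroup G) : Set G))
    (hTodd : ¬ 2 ∣ 6 * (7 * k) / Nat.card T)
    {y : G} (hy : orderOf y = 2) (hxy : Commute F.x y) (hyT : ∀ t ∈ T, Commute t y) :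
    ∃ e ∈ narrowList, e.1 = (D.sd Q.a, D.sd Q.b, D.sd Q.c, D.sd Q.d) ∧ e.2.1 = k ∧
      Q.Vals F.x e.2.2.1.1 e.2.2.1.2.1 e.2.2.1.2.2.1 e.2.2.1.2.2.2 ∧
      Nat.card (centralizer ({y} : Set G)) = e.2.2.2.1 ∧
      Q.Vals y e.2.2.2.2.1 e.2.2.2.2.2.1 e.2.2.2.2.2.2.1 e.2.2.2.2.2.2.2 := by
  have hna := M22Eleven.not_comm hG
  obtain ⟨⟨m, hkm, hm⟩, hk20, -⟩ := sixKs_key k hk
  obtain ⟨θ, hθ⟩ : D.F.Y.Nonempty := Finset.card_pos.1 (by rw [D.F.hY]; norm_num)
  have hq11 : ¬ 11 ∣ orderOf F.x := by rw [F.hx]; norm_num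
  have hy11 : ¬ 11 ∣ orderOf y := by rw [hy]; norm_num
  have hx1 : F.x ≠ 1 := fun h => by have := F.hx; rw [h, orderOf_one] at this; omega
  have hIq : (centralizer ({F.x} : Set G)).index = 63360 / k := by
    rw [index_eq hG, hCq, ← Nat.div_div_eq_div_mul]
  -- the values at the element of order 7
  obtain ⟨qa, hqa, hqa'⟩ := six_vals F hCq hNq Q.a
  obtain ⟨qb, hqb, hqb'⟩ := six_vals F hCq hNq Q.b
  obtain ⟨qc, hqc, hqc'⟩ := six_vals F hCq hNq Q.c
  obtain ⟨qd, hqd, hqd'⟩ := six_vals F hCq hNq Q.d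
  have hqv : Q.Vals F.x qa qb qc qd := ⟨hqa, hqb, hqc, hqd⟩
  have hqt := Q.theta_val hqv hq11 hθ
  have hqcol := Q.col_le_int hqv hq11
  rw [hCq] at hqcol
  have hqprop : ∀ (χ : IrrCharacter G) (v : ℤ), χ ≠ trivChar G → (χ : G → ℂ) F.x = v →
      (v - (charDegree (χ : G → ℂ) : ℤ)) % 7 = 0 ∧ 0 ≤ (charDegree (χ : G → ℂ) : ℤ) + 6 * v ∧
        v < (charDegree (χ : G → ℂ) : ℤ) ∧ (charDegree (χ : G → ℂ) : ℤ) ∣ ((63360 / k : ℕ) : ℤ) * v ∧
          (charDegree (χ : G → ℂ) % 7 = 0 → v = 0) := fun χ v hne hv => by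
    obtain ⟨w, hw, hpow⟩ := six_vals F hCq hNq χ
    have hvw : w = v := by exact_mod_cast hw.symm.trans hv
    subst hvw
    obtain ⟨w', hw', c, hc⟩ := exists_int_prime χ (by norm_num : 1 < 7) F.hx fun i hi => by
      rw [hw, hpow i]
      intro h7
      have := Finset.mem_Ico.mp hi
      exact absurd (Nat.le_of_dvd (by omega) h7) (by omega)
    have hww : w' = w := by exact_mod_cast hw'.symm.trans hw
    subst hww
    have hlt := ValueTools.lt_degree hna hne hx1 hw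
    refine ⟨by push_cast at hc; omega, by push_cast at hc; omega, by omega, ?_, fun h7 => ?_⟩
    · have h := degree_dvd_index_mul χ F.x hw
      rwa [hIq] at h
    · have h0 := vanish_seven hG χ (Nat.dvd_of_mod_eq_zero h7) (g := F.x) (by rw [F.hx])
      rw [hw] at h0
      exact_mod_cast h0
  have hqmem : ∀ (χ : IrrCharacter G) (v : ℤ), χ ∈ D.F.X' → (χ : G → ℂ) F.x = v → v * v ≤ ((7 * k : ℕ) : ℤ) →
      v ∈ qAdm k m (D.sd χ).natAbs := fun χ v hχ hv hsq => by
    rw [D.natAbs_sd (D.F.mem_X hχ).1]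
    obtain ⟨h1, h2, h3, h4, h5⟩ := hqprop χ v (D.F.mem_X hχ).2 hv
    have hvm : v.natAbs ≤ m := by
      by_contra hc
      have h6 : (m + 1) * (m + 1) ≤ v.natAbs * v.natAbs := Nat.mul_le_mul (by omega) (by omega)
      have h7 : ((v.natAbs * v.natAbs : ℕ) : ℤ) = v * v := by
        push_cast; rw [← Int.natCast_natAbs, Int.natAbs_mul_self']
      omega
    simp only [qAdm, List.mem_filter, List.mem_map, List.mem_range, Bool.and_eq_true, decide_eq_true_eq]
    exact ⟨⟨(v + m).toNat, by omega, by omega⟩, ⟨⟨⟨⟨h1, h2⟩, h3⟩, hsq⟩, h4⟩, h5⟩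
  have hqs : (qa, qb, qc, qd) ∈ qSols k m (D.sd Q.a) (D.sd Q.b) (D.sd Q.c) (D.sd Q.d) := by
    simp only [qSols, List.mem_flatMap, List.mem_map, List.mem_filter]
    refine ⟨qa, hqmem _ _ Q.mem_a hqa (by nlinarith), qb, hqmem _ _ Q.mem_b hqb (by nlinarith),
      qc, hqmem _ _ Q.mem_c hqc (by nlinarith), qd, ⟨hqmem _ _ Q.mem_d hqd (by nlinarith), ?_⟩, rfl⟩
    simp only [qCond, Bool.and_eq_true, decide_eq_true_eq]
    rw [show (th (D.sd Q.a) (D.sd Q.b) (D.sd Q.c) (D.sd Q.d)).natAbs = charDegree (θ : G → ℂ) from Q.natAbs_T hθ]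
    obtain ⟨h1, h2, h3, h4, h5⟩ := hqprop θ _ (D.theta_ne_triv hG hθ) hqt
    obtain ⟨hp, hd⟩ := Q.pairs_nonneg hG hqv hqv hq11 hq11
    rw [hIq] at hd
    exact ⟨⟨⟨⟨⟨⟨⟨h1, h5⟩, h2⟩, h3⟩, hqcol⟩, h4⟩, hp⟩, hd⟩
  -- the involution
  obtain ⟨za, zb, zc, zd, hzv⟩ := Q.exists_vals_two hG hy
  have hy1 : y ≠ 1 := fun h => by rw [h, orderOf_one] at hy; omega
  set C := Nat.card (centralizer ({y} : Set G)) with hCdef
  have h14 : 14 ∣ C := by
    have h2 : orderOf (F.x * y) = 14 := by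
      rw [hxy.orderOf_mul_eq_mul_orderOf_of_coprime (by rw [F.hx, hy]; norm_num), F.hx, hy]
    rw [← h2]
    exact Subgroup.orderOf_dvd_natCard _
      (mem_centralizer_singleton_iff.mpr ((hxy.mul_left (Commute.refl y))).eq)
  obtain ⟨c, hc⟩ := h14
  have hC40 : C ∣ 40320 := M22Seven.card_centralizer_dvd hG D hy1 hy11
  obtain ⟨⟨C', mz⟩, hCmem, hC', hmz⟩ := sevenCs_key c
    (Finset.mem_range.mpr (by have := Nat.le_of_dvd (by norm_num) (hc ▸ hC40); omega)) (hc ▸ hC40)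
  simp only at hC' hmz
  rw [← hc] at hC' hmz
  subst hC'
  obtain ⟨ha, hb, hc', hd', htc⟩ := Q.inv_column hG hy hzv hmz
  have hzt := Q.theta_val hzv hy11 hθ
  have h7mem : ∀ (χ : IrrCharacter G) (v : ℤ), χ ∈ D.F.X' → (χ : G → ℂ) y = v →
      (D.sd χ).natAbs % 7 = 0 → v % 7 = 0 := fun χ v hχ hv h => by
    rw [D.natAbs_sd (D.F.mem_X hχ).1] at h
    exact value_seven_two hG χ (Nat.dvd_of_mod_eq_zero h) F.hx hy hxy hv
  have hzs : (za, zb, zc, zd) ∈ zSols C mz (D.sd Q.a) (D.sd Q.b) (D.sd Q.c) (D.sd Q.d) := by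
    simp only [zSols, List.mem_flatMap, List.mem_map, List.mem_filter, Bool.and_eq_true, decide_eq_true_eq]
    refine ⟨za, ⟨ha, h7mem _ _ Q.mem_a hzv.1⟩, zb, ⟨hb, h7mem _ _ Q.mem_b hzv.2.1⟩,
      zc, ⟨hc', h7mem _ _ Q.mem_c hzv.2.2.1⟩, zd, ⟨⟨hd', h7mem _ _ Q.mem_d hzv.2.2.2⟩, htc, fun h => ?_⟩, rfl⟩
    rw [show (th (D.sd Q.a) (D.sd Q.b) (D.sd Q.c) (D.sd Q.d)).natAbs = charDegree (θ : G → ℂ) from Q.natAbs_T hθ]
      at h
    exact value_seven_two hG θ (Nat.dvd_of_mod_eq_zero h) F.hx hy hxy hzt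
  -- Sylow's theorem in the centraliser
  set N := normalizer ((zpowers F.x : Subgroup G) : Set G)
  set H := centralizer ({y} : Set G) with hH
  have hTH : T ≤ N ⊓ H := fun t ht => ⟨hTN ht, mem_centralizer_singleton_iff.mpr (hyT t ht).eq⟩
  have hxH : F.x ∈ H := mem_centralizer_singleton_iff.mpr hxy.eq
  set M := Nat.card ↥(N ⊓ H) with hM
  have hMN : M ∣ 6 * (7 * k) := hNq ▸ Subgroup.card_dvd_of_le inf_le_left
  have hMC : M ∣ C := Subgroup.card_dvd_of_le inf_le_right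
  have hTM : Nat.card T ∣ M := Subgroup.card_dvd_of_le hTH
  have h7M : 7 ∣ M := by
    rw [← F.hx]
    exact Subgroup.orderOf_dvd_natCard _ ⟨le_normalizer (mem_zpowers F.x), hxH⟩
  set j := 6 * (7 * k) / M with hj
  have hMpos : 0 < M := Nat.card_pos
  have hjM : j * M = 6 * (7 * k) := Nat.div_mul_cancel hMN
  have hj2 : ¬ 2 ∣ j := fun h => hTodd (by
    obtain ⟨a, ha⟩ := hTM
    rw [← hjM, ha, show j * (Nat.card T * a) = (j * a) * Nat.card T by ring,
      Nat.mul_div_cancel _ Nat.card_pos]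
    exact h.mul_right a)
  have hj7 : ¬ 7 ∣ j := fun h => by
    have h49 : 7 * 7 ∣ 6 * (7 * k) := hjM ▸ Nat.mul_dvd_mul h h7M
    have : 7 ∣ 6 * k := Nat.dvd_of_mul_dvd_mul_left (by norm_num : 0 < 7) (by
      rwa [show 6 * (7 * k) = 7 * (6 * k) by ring] at h49)
    simp only [List.mem_cons, List.not_mem_nil, or_false] at hk
    rcases hk with rfl | rfl | rfl | rfl <;> omega
  have hj315 : j ∣ 315 := by
    have h1 : j ∣ 2 ^ 6 * 315 := (Nat.dvd_of_mul_dvd_mul_right hMpos (by rw [hjM]; exact dvd_mul_right _ M) :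
      j ∣ 6 * (7 * k)) |>.trans (by rw [show 6 * (7 * k) = 42 * k by ring]; exact hk20)
    exact (Nat.Coprime.pow_right 6 ((Nat.Prime.coprime_iff_not_dvd Nat.prime_two).mpr hj2).symm).dvd_of_dvd_mul_left h1
  have hjmem := odd_key j (Nat.mem_divisors.mpr ⟨hj315, by norm_num⟩) hj7
  have hjl : (jList k C).isEmpty = false := by
    rw [List.isEmpty_eq_false_iff_exists_mem]
    refine ⟨j, ?_⟩
    simp only [jList, List.mem_filter, Bool.and_eq_true, decide_eq_true_eq]
    have h42 : 42 * k = j * M := by rw [hjM]; ring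
    have hdiv : 42 * k / j = M := by
      rw [h42, Nat.mul_div_cancel_left]
      exact Nat.pos_of_ne_zero fun h => hj2 (h ▸ dvd_zero 2)
    refine ⟨hjmem, ⟨⟨Nat.mod_eq_zero_of_dvd ⟨M, h42⟩ ▸ rfl, by rw [hdiv]; exact Nat.mod_eq_zero_of_dvd hMC⟩, ?_⟩⟩
    -- the number of Sylow 7-subgroups of the centraliser
    obtain ⟨R, hR⟩ := (IsPGroup.of_card (n := 1) (by rw [Nat.card_zpowers, F.hx, pow_one]) :
      IsPGroup 7 ↥(zpowers F.x)).exists_le_sylow
    have hReq : zpowers F.x = (R : Subgroup G) :=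
      Subgroup.eq_of_le_of_card_ge hR (by rw [card_sylow_seven hG R, Nat.card_zpowers, F.hx])
    have hRH : (R : Subgroup G) ≤ H := hReq ▸ zpowers_le.mpr hxH
    have hNR : Nat.card ↥(normalizer (((R.subtype hRH : Sylow 7 ↥H) : Subgroup ↥H) : Set ↥H)) = M := by
      have : normalizer (((R.subtype hRH : Sylow 7 ↥H) : Subgroup ↥H) : Set ↥H) = N.subgroupOf H := by
        rw [show N = normalizer ((R : Subgroup G) : Set G) by rw [← hReq]]
        exact (Subgroup.subgroupOf_normalizer_eq hRH).symm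
      rw [this, ← Subgroup.inf_subgroupOf_right, Nat.card_congr (subgroupOfEquivOfLe inf_le_right).toEquiv]
    have hcount : Nat.card (Sylow 7 ↥H) * M = C := by
      rw [← hNR]; exact SimpleTools.card_normalizer_mul _
    have hmod := card_sylow_modEq_one 7 ↥H
    rw [Nat.ModEq] at hmod
    rw [h42, ← hcount, mul_comm j M, Nat.mul_div_mul_right]
    · rw [Nat.mul_div_cancel _ hMpos]; exact hmod
    · exact Nat.pos_of_ne_zero fun h => hj2 (h ▸ dvd_zero 2)
  -- the search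
  have hnar := List.all_eq_true.mp six_narrow _ hQ
  simp only [narrowOk, List.all_eq_true, Bool.or_eq_true, Bool.not_eq_true', List.mem_filter] at hnar
  have h1 := hnar (k, m) hkm _ hqs
  obtain ⟨χ, s, hχ, hχq, hs, hs7, h28⟩ := exists_common (D := D) hG F
  have hchoice : ∀ (d : ℕ) (vq vz : ℤ), charDegree (χ : G → ℂ) = d → (χ : G → ℂ) F.x = vq →
      (χ : G → ℂ) y = vz → vq.natAbs = 1 ∧ common d vq vz = true := fun d vq vz hd hq hz => by
    have hsq : vq = s := by exact_mod_cast hq.symm.trans hχq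
    subst hsq
    have hn : vq.natAbs = 1 := by rcases hs with rfl | rfl <;> rfl
    refine ⟨hn, ?_⟩
    simp only [common, Bool.and_eq_true, decide_eq_true_eq]
    exact ⟨⟨hn, hd ▸ hs7⟩, hd ▸ h28 y hy hxy vz hz⟩
  have hsome : ∃ i : Fin 5,
      (![qa, qb, qc, qd, tval (D.sd Q.a) (D.sd Q.b) (D.sd Q.c) (D.sd Q.d) qa qb qc qd] i).natAbs = 1 ∧
        common (![(D.sd Q.a).natAbs, (D.sd Q.b).natAbs, (D.sd Q.c).natAbs, (D.sd Q.d).natAbs,
          (th (D.sd Q.a) (D.sd Q.b) (D.sd Q.c) (D.sd Q.d)).natAbs] i)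
          (![qa, qb, qc, qd, tval (D.sd Q.a) (D.sd Q.b) (D.sd Q.c) (D.sd Q.d) qa qb qc qd] i)
          (![za, zb, zc, zd, tval (D.sd Q.a) (D.sd Q.b) (D.sd Q.c) (D.sd Q.d) za zb zc zd] i) = true := by
    have hnat : ∀ η ∈ D.F.X', (D.sd η).natAbs = charDegree (η : G → ℂ) := fun η h =>
      D.natAbs_sd (D.F.mem_X h).1
    rcases hχ with hχ | hχ
    · rw [Q.hset] at hχ
      simp only [Finset.mem_insert, Finset.mem_singleton] at hχ
      rcases hχ with rfl | rfl | rfl | rfl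
      · exact ⟨0, hchoice _ _ _ (hnat _ Q.mem_a).symm hqa hzv.1⟩
      · exact ⟨1, hchoice _ _ _ (hnat _ Q.mem_b).symm hqb hzv.2.1⟩
      · exact ⟨2, hchoice _ _ _ (hnat _ Q.mem_c).symm hqc hzv.2.2.1⟩
      · exact ⟨3, hchoice _ _ _ (hnat _ Q.mem_d).symm hqd hzv.2.2.2⟩
    · exact ⟨4, hchoice _ _ _ (Q.natAbs_T hχ).symm (Q.theta_val hqv hq11 hχ) (Q.theta_val hzv hy11 hχ)⟩
  rcases h1 with h1 | h1
  · exfalso
    simp only [Bool.or_eq_false_iff, decide_eq_false_iff_not] at h1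
    obtain ⟨i, hi, -⟩ := hsome
    fin_cases i <;> simp_all
  have h2 := h1 (C, mz) ⟨hCmem, by rw [hjl]⟩ _ hzs
  rcases h2 with h2 | h2
  · exfalso
    simp only [Bool.or_eq_false_iff] at h2
    obtain ⟨i, -, hi⟩ := hsome
    fin_cases i <;> simp_all
  refine ⟨_, of_decide_eq_true h2, rfl, rfl, hqv, rfl, hzv⟩

include hG in
/-- The automiser of a Sylow 7-subgroup has order three. -/
theorem not_six (D : Data G) (P : Sylow 7 G) {k : ℕ} (hk : k ∈ ([4, 32, 60, 480] : List ℕ))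
    (hN : Nat.card (normalizer ((P : Subgroup G) : Set G)) = 6 * (7 * k))
    (hC : Nat.card (centralizer ((P : Subgroup G) : Set G)) = 7 * k) : False := by
  have hna := M22Eleven.not_comm hG
  haveI : Fact (Nat.Prime 2) := ⟨Nat.prime_two⟩
  obtain ⟨F, -⟩ := exists_frame_section (e := 6) (by norm_num) P (card_sylow_seven hG P) (by rw [hN, hC])
  have hCq : Nat.card (centralizer ({F.x} : Set G)) = 7 * k :=
    (card_centralizer_gen hG P F.hzp).trans hC
  have hNq : Nat.card (normalizer ((zpowers F.x : Subgroup G) : Set G)) = 6 * (7 * k) := by rw [F.hzp, hN]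
  obtain ⟨Q, hQ⟩ := exists_block hG D
  obtain ⟨-, -, hk2⟩ := sixKs_key k hk
  set N := normalizer ((zpowers F.x : Subgroup G) : Set G)
  set C := centralizer ({F.x} : Set G)
  have hCN : C ≤ N := by
    refine le_trans (le_of_eq ?_) (Subgroup.centralizer_le_normalizer _)
    rw [zpowers_eq_closure, centralizer_closure]
  haveI hCn : (C.subgroupOf N).Normal := ⟨fun c hc g => by
    rw [mem_subgroupOf, mem_centralizer_singleton_iff] at hc ⊢
    obtain ⟨i, hi⟩ := mem_zpowers_iff.mp ((mem_normalizer_iff''.mp g.2 F.x).mp (mem_zpowers F.x))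
    push_cast
    calc (g : G) * (c : G) * (g : G)⁻¹ * F.x = (g : G) * ((c : G) * ((g : G)⁻¹ * F.x * g)) * (g : G)⁻¹ := by group
      _ = (g : G) * (((g : G)⁻¹ * F.x * g) * c) * (g : G)⁻¹ := by
        rw [← hi, ((show Commute (c : G) F.x from hc).zpow_right i).eq]
      _ = F.x * ((g : G) * c * (g : G)⁻¹) := by group⟩
  obtain ⟨S⟩ : Nonempty (Sylow 2 ↥N) := inferInstance
  set T : Subgroup G := (S : Subgroup ↥N).map N.subtype with hTdef
  have hTN : T ≤ N := Subgroup.map_subtype_le _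
  have hTcard : Nat.card T = Nat.card (S : Subgroup ↥N) := Subgroup.card_map_of_injective N.subtype_injective
  have hTodd : ¬ 2 ∣ 6 * (7 * k) / Nat.card T := by
    have h := S.not_dvd_index
    have h2 := (S : Subgroup ↥N).index_mul_card
    rw [hNq] at h2
    rw [hTcard, ← h2, Nat.mul_div_cancel _ Nat.card_pos]
    exact h
  -- the part centralising the element of order 7
  set K : Subgroup G := T ⊓ C
  have hK2 : 2 ∣ Nat.card ↥K := by
    set f : ↥(S : Subgroup ↥N) →* ↥N ⧸ C.subgroupOf N :=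
      (QuotientGroup.mk' (C.subgroupOf N)).comp (S : Subgroup ↥N).subtype
    have hrange : Nat.card f.range ∣ 6 := by
      refine (Subgroup.card_subgroup_dvd_card _).trans (dvd_of_eq ?_)
      have h := (C.subgroupOf N).index_mul_card
      rw [Nat.card_congr (subgroupOfEquivOfLe hCN).toEquiv, hNq, hCq] at h
      exact Nat.eq_of_mul_eq_mul_right (show 0 < 7 * k from hCq ▸ Nat.card_pos) h
    have hker : Nat.card f.ker = Nat.card ↥K := by
      refine Nat.card_congr ⟨fun s => ⟨((s.1 : ↥N) : G), ⟨⟨s.1.1, s.1.2, rfl⟩, ?_⟩⟩,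
        fun a => ⟨⟨⟨a.1, hTN a.2.1⟩, ?_⟩, ?_⟩, fun s => rfl, fun a => rfl⟩
      · have := s.2
        rw [MonoidHom.mem_ker] at this
        exact mem_subgroupOf.mp ((QuotientGroup.eq_one_iff _).mp this)
      · obtain ⟨b, hb, hb'⟩ := a.2.1
        rwa [show (⟨a.1, hTN a.2.1⟩ : ↥N) = b from Subtype.ext hb'.symm]
      · rw [MonoidHom.mem_ker]
        exact (QuotientGroup.eq_one_iff _).mpr (mem_subgroupOf.mpr a.2.2)
    have hprod := f.ker.index_mul_card
    rw [Subgroup.index_ker, hker] at hprod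
    have h4 : 4 ∣ Nat.card ↥(S : Subgroup ↥N) := by
      have h4' : 2 ^ 2 ∣ Nat.card ↥N := by
        rw [hNq]; obtain ⟨c, rfl⟩ := hk2; exact ⟨21 * c, by ring⟩
      have := S.pow_dvd_card_of_pow_dvd_card h4'
      simpa using this
    rw [← hprod] at h4
    by_contra hodd
    have h4r : 4 ∣ Nat.card f.range :=
      (Nat.Coprime.pow_left 2 ((Nat.Prime.coprime_iff_not_dvd Nat.prime_two).mpr hodd)).dvd_of_dvd_mul_right h4
    have := Nat.dvd_gcd h4r (dvd_refl 4)
    exact absurd (h4r.trans hrange) (by norm_num)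
  -- an involution of K central in T
  obtain ⟨z, hz, hzx, hzT⟩ : ∃ z : G, orderOf z = 2 ∧ Commute F.x z ∧ ∀ t ∈ T, Commute t z := by
    haveI : Group.IsNilpotent ↥(S : Subgroup ↥N) := S.isPGroup'.isNilpotent
    set K' : Subgroup ↥(S : Subgroup ↥N) := (C.subgroupOf N).subgroupOf (S : Subgroup ↥N)
    have hK' : K' ≠ ⊥ := fun h => by
      obtain ⟨⟨a, haT, haC⟩, ha⟩ := exists_prime_orderOf_dvd_card' 2 hK2
      rw [← Subgroup.orderOf_coe] at ha
      obtain ⟨b, hb, rfl⟩ := haT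
      have hmem : (⟨b, hb⟩ : ↥(S : Subgroup ↥N)) ∈ K' := haC
      rw [h, mem_bot] at hmem
      have : b = 1 := congrArg Subtype.val hmem
      subst this
      simp at ha
    have hZ := CfsgLib.Solvable.FrattiniFitting.inf_center_ne_bot K' hK'
    have h2 : 2 ∣ Nat.card ↥(K' ⊓ center ↥(S : Subgroup ↥N)) := by
      obtain ⟨j, hj⟩ := IsPGroup.iff_card.mp (S.isPGroup'.to_subgroup (K' ⊓ center ↥(S : Subgroup ↥N)))
      rw [hj]
      refine dvd_pow_self 2 fun h0 => hZ ?_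
      rw [h0, pow_zero] at hj
      exact Subgroup.card_eq_one.mp hj
    obtain ⟨⟨s, hs'⟩, hs⟩ := exists_prime_orderOf_dvd_card' 2 h2
    obtain ⟨hsK, hsZ⟩ := Subgroup.mem_inf.mp hs'
    rw [Subgroup.orderOf_mk, ← Subgroup.orderOf_coe, ← Subgroup.orderOf_coe] at hs
    refine ⟨((s : ↥N) : G), hs,
      (show Commute ((s : ↥N) : G) F.x from mem_centralizer_singleton_iff.mp hsK).symm, fun t ht => ?_⟩
    obtain ⟨b, hb, rfl⟩ := ht
    exact congrArg (fun r : ↥(S : Subgroup ↥N) => ((r : ↥N) : G)) (mem_center_iff.mp hsZ ⟨b, hb⟩)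
  obtain ⟨e, he, hblock, hek, hqv, hCz, hzv⟩ := central_case hG F hk hCq hNq Q hQ T hTN hTodd hz hzx hzT
  obtain ⟨hk4, hea, heb, hez, -, hsep, hec, hed⟩ := narrow_facts e he
  rw [hblock] at hea heb hsep hec hed
  simp only at hea heb hsep hec hed
  obtain rfl : k = 4 := hek.symm.trans hk4
  have hd21 : charDegree (Q.b : G → ℂ) = 21 := by
    rw [← D.natAbs_sd (D.F.mem_X Q.mem_b).1, heb]; rfl
  have hTc : Nat.card T = 8 := by
    rw [hTcard, S.card_eq_multiplicity, hNq, show 6 * (7 * 4) = 2 ^ 3 * 21 by norm_num]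
    rw [Nat.factorization_mul (by norm_num) (by norm_num), Finsupp.add_apply,
      Nat.Prime.factorization_pow Nat.prime_two, Finsupp.single_eq_same,
      Nat.factorization_eq_zero_of_not_dvd (by norm_num : ¬ 2 ∣ 21)]
    rfl
  have hKc : Nat.card ↥K = 4 := by
    have h1 : Nat.card ↥K ∣ 8 := hTc ▸ Subgroup.card_dvd_of_le inf_le_left
    have h2 : Nat.card ↥K ∣ 28 := by
      rw [show 28 = 7 * 4 from rfl, ← hCq]; exact Subgroup.card_dvd_of_le inf_le_right
    have h3 : Nat.card ↥K ∣ 4 := (Nat.dvd_gcd h1 h2).trans (by norm_num)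
    -- the image in the automiser has order at most two
    set f : ↥T →* ↥N ⧸ C.subgroupOf N := (QuotientGroup.mk' (C.subgroupOf N)).comp (Subgroup.inclusion hTN)
    have hker : f.ker = K.subgroupOf T := by
      ext a
      rw [MonoidHom.mem_ker, mem_subgroupOf]
      show ((QuotientGroup.mk (Subgroup.inclusion hTN a) : ↥N ⧸ C.subgroupOf N) = 1) ↔ _
      rw [QuotientGroup.eq_one_iff, mem_subgroupOf]
      exact ⟨fun h => ⟨a.2, h⟩, fun h => h.2⟩
    have hprod := f.ker.index_mul_card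
    rw [Subgroup.index_ker, hker, Nat.card_congr (subgroupOfEquivOfLe (inf_le_left : K ≤ T)).toEquiv, hTc] at hprod
    have h6 : Nat.card f.range ∣ 6 := by
      refine (Subgroup.card_subgroup_dvd_card _).trans (dvd_of_eq ?_)
      have h := (C.subgroupOf N).index_mul_card
      rw [Nat.card_congr (subgroupOfEquivOfLe hCN).toEquiv, hNq, hCq] at h
      exact Nat.eq_of_mul_eq_mul_right (show 0 < 7 * 4 by norm_num) h
    have h8 : Nat.card f.range ∣ 8 := ⟨_, hprod.symm⟩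
    have h2' : Nat.card f.range ∣ 2 := (Nat.dvd_gcd h6 h8).trans (by norm_num)
    have hle := Nat.le_of_dvd (by norm_num) h3
    change Nat.card f.range * Nat.card ↥K = 8 at hprod
    rcases (Nat.dvd_prime Nat.prime_two).mp h2' with h | h <;> rw [h] at hprod <;> omega
  -- rationality
  have hint : ∀ χ ∈ D.F.X', ∀ g : G, ∃ n : ℤ, (χ : G → ℂ) g = n := by
    intro χ hχ g
    refine DegreeTools.Rationality.exists_int_of_fixed (irr_isIntegral χ g) fun σ => ?_
    have hmem := (D.galIrr_mem hG σ hχ).1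
    have hsd : D.sd (DegreeTools.Rationality.galIrr σ χ) = D.sd χ := by
      simp only [Data.sd, (D.galIrr_mem hG σ hχ).2, degree_galIrr]
    obtain ⟨v, hv⟩ := exists_int_two χ hz
    have hv' : (DegreeTools.Rationality.galIrr σ χ : G → ℂ) z = v := by
      rw [DegreeTools.Rationality.galIrr_apply, hv, map_intCast]
    suffices DegreeTools.Rationality.galIrr σ χ = χ by
      conv_rhs => rw [← this]
      rw [DegreeTools.Rationality.galIrr_apply]
    simp only [List.mem_cons, List.not_mem_nil, or_false] at hec hed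
    rw [Q.hset] at hmem hχ
    simp only [Finset.mem_insert, Finset.mem_singleton] at hmem hχ
    have hne : ∀ w : ℤ, (w = e.2.2.2.2.2.2.1 ∧ v = e.2.2.2.2.2.2.2) ∨ (w = e.2.2.2.2.2.2.2 ∧ v = e.2.2.2.2.2.2.1) →
        D.sd Q.c = D.sd Q.d → w ≠ v := by
      rintro w (⟨rfl, rfl⟩ | ⟨rfl, rfl⟩) hcd
      · exact hsep hcd
      · exact (hsep hcd).symm
    rcases hχ with rfl | rfl | rfl | rfl <;> rcases hmem with h | h | h | h <;>
      first
        | exact h
        | (exfalso; rw [h] at hsd; omega)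
        | (exfalso
           rw [h] at hsd hv'
           have e1 : e.2.2.2.2.2.2.1 = v := by exact_mod_cast hzv.2.2.1.symm.trans hv
           have e2 : e.2.2.2.2.2.2.2 = v := by exact_mod_cast hzv.2.2.2.symm.trans hv'
           exact hne _ (Or.inl ⟨e1.symm, e2.symm⟩) hsd.symm rfl)
        | (exfalso
           rw [h] at hsd hv'
           have e1 : e.2.2.2.2.2.2.1 = v := by exact_mod_cast hzv.2.2.1.symm.trans hv'
           have e2 : e.2.2.2.2.2.2.2 = v := by exact_mod_cast hzv.2.2.2.symm.trans hv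
           exact hne _ (Or.inl ⟨e1.symm, e2.symm⟩) hsd rfl)
  -- the values of the character of degree 21
  obtain ⟨θ, hθ⟩ : D.F.Y.Nonempty := Finset.card_pos.1 (by rw [D.F.hY]; norm_num)
  have hinv : ∀ u : G, orderOf u = 2 → ∀ v : ℤ, (Q.b : G → ℂ) u = v →
      v ≤ -3 ∧ (D.sd Q.c = -10 → v ≤ -7) ∧ (v - 21) % 4 = 0 := by
    intro u hu v hv
    obtain ⟨ua, ub, uc, ud, huv⟩ := Q.exists_vals_two hG hu
    have hu1 : u ≠ 1 := fun h => by rw [h, orderOf_one] at hu; omega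
    have h40 := M22Seven.card_centralizer_dvd hG D hu1 (by rw [hu]; norm_num)
    have heven : 2 ∣ Nat.card (centralizer ({u} : Set G)) :=
      hu ▸ Subgroup.orderOf_dvd_natCard _ (mem_centralizer_singleton_iff.mpr rfl)
    obtain ⟨a, b, ha, hb, hab⟩ := Nat.dvd_mul.mp (show Nat.card (centralizer ({u} : Set G)) ∣ 2 ^ 7 * 315 from h40)
    have ha' : a ∈ ([2, 4, 8, 16, 32, 64, 128] : List ℕ) := by
      obtain ⟨i, hi, rfl⟩ := (Nat.dvd_prime_pow Nat.prime_two).mp ha
      interval_cases i <;> simp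
      rw [pow_zero, one_mul] at hab
      subst hab
      have := heven.trans hb
      norm_num at this
    have hb' : b ∈ ([1, 3, 5, 7, 9, 15, 21, 35, 45, 63, 105, 315] : List ℕ) := by
      have key : ∀ b ∈ Nat.divisors 315, b ∈ ([1, 3, 5, 7, 9, 15, 21, 35, 45, 63, 105, 315] : List ℕ) := by
        decide +kernel
      exact key b (Nat.mem_divisors.mpr ⟨hb, by norm_num⟩)
    obtain ⟨⟨Cu, mu⟩, hCu, hCu', hmu⟩ := evenCs_key a ha' b hb'
    simp only at hCu' hmu
    rw [hab] at hCu' hmu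
    subst hCu'
    have h := narrow_invol e he _ hCu (ua, ub, uc, ud) (by rw [hblock]; exact Q.mem_tSols hG hu huv hmu)
      (by rw [hblock]; exact Q.pairs_invol hG hu hz huv hzv)
    rw [hblock] at h
    have hvb : ub = v := by exact_mod_cast huv.2.1.symm.trans hv
    subst hvb
    refine ⟨h.1, h.2, ?_⟩
    have := ValueTools.mod_four hna Q.b hu hv
    rwa [hd21] at this
  have hfour : ∀ g : G, g ∈ T → orderOf g = 4 → g ^ 2 ∈ K → (∀ t ∈ T, Commute t (g ^ 2)) →
      ∀ v : ℤ, (Q.b : G → ℂ) g = v → v = -1 ∨ (v = 3 ∧ D.sd Q.c = -10) := by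
    intro g hgT hg hgK hgc v hv
    have hg2 : orderOf (g ^ 2) = 2 := by rw [orderOf_pow, hg]; rfl
    have hgx : Commute F.x (g ^ 2) :=
      (show Commute (g ^ 2) F.x from mem_centralizer_singleton_iff.mp hgK.2).symm
    obtain ⟨e', he', hblock', -, hqv', hCy, hyv⟩ := central_case hG F hk hCq hNq Q hQ T hTN hTodd hg2 hgx hgc
    obtain ⟨-, -, -, -, hdvd, -, -, -⟩ := narrow_facts e' he'
    obtain ⟨ga, hga⟩ := hint Q.a Q.mem_a g
    obtain ⟨gc, hgc'⟩ := hint Q.c Q.mem_c g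
    obtain ⟨gd, hgd⟩ := hint Q.d Q.mem_d g
    have hgv : Q.Vals g ga v gc gd := ⟨hga, hv, hgc', hgd⟩
    have hg11 : ¬ 11 ∣ orderOf g := by rw [hg]; norm_num
    have hy11 : ¬ 11 ∣ orderOf (g ^ 2) := by rw [hg2]; norm_num
    have hq11 : ¬ 11 ∣ orderOf F.x := by rw [F.hx]; norm_num
    have hCle : Nat.card (centralizer ({g} : Set G)) ∣ e'.2.2.2.1 := by
      rw [← hCy]
      exact Subgroup.card_dvd_of_le fun a ha => mem_centralizer_singleton_iff.mpr
        ((show Commute a g from mem_centralizer_singleton_iff.mp ha).pow_right 2).eq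
    have h4C : 4 ∣ Nat.card (centralizer ({g} : Set G)) :=
      hg ▸ Subgroup.orderOf_dvd_natCard _ (mem_centralizer_singleton_iff.mpr rfl)
    obtain ⟨c, hc⟩ := h4C
    have h1344 : 4 * c ∣ 1344 := hc ▸ hCle.trans hdvd
    obtain ⟨⟨Cg, mg⟩, hCg, hCg', hmg⟩ := narrowCs_key c
      (Finset.mem_range.mpr (by have := Nat.le_of_dvd (by norm_num) h1344; omega)) h1344
    simp only at hCg' hmg
    rw [← hc] at hCg' hmg
    subst hCg'
    have hcol := Q.col_le_int hgv hg11
    have hcand : ∀ (χ : IrrCharacter G) (w vy : ℤ), χ ∈ D.F.X' → (χ : G → ℂ) g = w →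
        (χ : G → ℂ) (g ^ 2) = vy → w * w ≤ (Nat.card (centralizer ({g} : Set G)) : ℤ) →
        w ∈ gCand (Nat.card (centralizer ({g} : Set G))) mg (D.sd χ).natAbs vy := fun χ w vy hχ hw hvy hsq => by
      rw [D.natAbs_sd (D.F.mem_X hχ).1]
      have hwm : w.natAbs ≤ mg := by
        by_contra hcon
        have h6 : (mg + 1) * (mg + 1) ≤ w.natAbs * w.natAbs := Nat.mul_le_mul (by omega) (by omega)
        have h7 : ((w.natAbs * w.natAbs : ℕ) : ℤ) = w * w := by
          push_cast; rw [← Int.natCast_natAbs, Int.natAbs_mul_self']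
        omega
      simp only [gCand, List.mem_filter, List.mem_map, List.mem_range, Bool.and_eq_true, decide_eq_true_eq]
      refine ⟨⟨(w + mg).toNat, by omega, by omega⟩, ⟨four_congr hG χ hg hw hvy, hsq⟩, ?_⟩
      have h := degree_dvd_index_mul χ g hw
      rwa [index_eq hG] at h
    have hall := narrow_four e' he' _ hCg hCle
    simp only [List.all_eq_true, Bool.or_eq_true, Bool.not_eq_true', decide_eq_true_eq] at hall
    rw [hblock'] at hall
    have h := hall ga (hcand _ _ _ Q.mem_a hga hyv.1 (by nlinarith))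
      v (hcand _ _ _ Q.mem_b hv hyv.2.1 (by nlinarith))
      gc (hcand _ _ _ Q.mem_c hgc' hyv.2.2.1 (by nlinarith))
      gd (hcand _ _ _ Q.mem_d hgd hyv.2.2.2 (by nlinarith))
    refine h.resolve_left ?_
    simp only [narrowCond, Bool.not_eq_false, Bool.and_eq_true, decide_eq_true_eq]
    rw [show (th (D.sd Q.a) (D.sd Q.b) (D.sd Q.c) (D.sd Q.d)).natAbs = charDegree (θ : G → ℂ) from Q.natAbs_T hθ]
    obtain ⟨pz, dz⟩ := Q.pairs_nonneg hG hyv hgv hy11 hg11
    obtain ⟨pq, dq⟩ := Q.pairs_nonneg hG hqv' hgv hq11 hg11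
    obtain ⟨pw, dw⟩ := Q.pairs_nonneg hG hgv hgv hg11 hg11
    rw [index_eq hG, index_eq hG, hCy] at dz
    rw [index_eq hG, index_eq hG, hCq] at dq
    rw [index_eq hG] at dw
    have hgt := Q.theta_val hgv hg11 hθ
    have hdt := degree_dvd_index_mul θ g hgt
    rw [index_eq hG] at hdt
    exact ⟨⟨⟨⟨⟨⟨⟨⟨four_congr hG θ hg hgt (Q.theta_val hyv hy11 hθ), hcol⟩, hdt⟩, pz⟩, dz⟩, pq⟩, dq⟩, pw⟩, dw⟩
  -- K has exponent two
  have hK2' : ∀ a ∈ K, a * a = 1 := by
    intro a ha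
    by_contra ha2
    have hord : orderOf (⟨a, ha⟩ : K) ∣ 4 := hKc ▸ orderOf_dvd_natCard _
    rw [Subgroup.orderOf_mk] at hord
    have ho4 : orderOf a = 4 := by
      obtain ⟨i, hi, e'⟩ := (Nat.dvd_prime_pow Nat.prime_two).mp (show orderOf a ∣ 2 ^ 2 by simpa using hord)
      interval_cases i
      · have h1 : orderOf a = 1 := by simpa using e'
        exact absurd (by rw [orderOf_eq_one_iff.mp h1, mul_one]) ha2
      · exact absurd (by rw [← pow_two, ← (show orderOf a = 2 by simpa using e'), pow_orderOf_eq_one]) ha2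
      · simpa using e'
    have heq : zpowers a = K := Subgroup.eq_of_le_of_card_ge (zpowers_le.mpr ha)
      (by rw [hKc, Nat.card_zpowers, ho4])
    -- the square is central in T
    have hgc : ∀ t ∈ T, Commute t (a ^ 2) := fun t ht => by
      have htC : t * a * t⁻¹ ∈ K := ⟨T.mul_mem (T.mul_mem ht ha.1) (T.inv_mem ht),
        mem_subgroupOf.mp (hCn.conj_mem ⟨a, hTN ha.1⟩ (mem_subgroupOf.mpr ha.2) ⟨t, hTN ht⟩)⟩
      rw [← heq, ← mem_powers_iff_mem_zpowers] at htC
      obtain ⟨i, hi⟩ := htC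
      have hodd : i % 2 = 1 := by
        by_contra h
        have h2 : (t * a * t⁻¹) ^ 2 = 1 := by
          rw [← show a ^ i = t * a * t⁻¹ from hi, ← pow_mul, ← pow_mod_orderOf, ho4,
            show i * 2 % 4 = 0 by omega, pow_zero]
        rw [conj_pow, conj_eq_one_iff, pow_two] at h2
        exact ha2 h2
      have h2 : t * a ^ 2 * t⁻¹ = a ^ 2 := by
        rw [← conj_pow, ← show a ^ i = t * a * t⁻¹ from hi, ← pow_mul, ← pow_mod_orderOf, ho4,
          show i * 2 % 4 = 2 by omega]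
      exact mul_inv_eq_iff_eq_mul.mp h2
    obtain ⟨v, hv⟩ := hint Q.b Q.mem_b a
    obtain ⟨w, hw⟩ := hint Q.b Q.mem_b (a ^ 2)
    have h7 := value_seven_four hG Q.b (by rw [hd21]; norm_num) F.hx ho4
      (show Commute a F.x from mem_centralizer_singleton_iff.mp ha.2).symm hv hw
    rcases hfour a ha.1 ho4 (pow_mem ha 2) hgc v hv with h | ⟨h, -⟩ <;> omega
  have hKv : ∀ a ∈ K, a ≠ 1 → (Q.b : G → ℂ) a = (-7 : ℂ) := by
    intro a ha ha1
    have ho : orderOf a = 2 := orderOf_eq_prime (by rw [pow_two, hK2' a ha]) ha1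
    obtain ⟨v, hv⟩ := exists_int_two Q.b ho
    have h7 := value_seven_two hG Q.b (by rw [hd21]; norm_num) F.hx ho
      (show Commute a F.x from mem_centralizer_singleton_iff.mp ha.2).symm hv
    obtain ⟨h3, -, h4⟩ := hinv a ho v hv
    have hlt := ValueTools.lt_degree hna (D.F.mem_X Q.mem_b).2 ha1 hv
    rw [hd21] at hlt
    rw [hv, show v = -7 by omega]
    norm_num
  -- the sum over T
  obtain ⟨n, ρ, hρ, hρe⟩ := (Q.b).2
  have hsum : ∀ A : Subgroup G, ∑ g : A, (Q.b : G → ℂ) g =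
      (Nat.card A : ℂ) * (Module.finrank ℂ (Representation.invariants (ρ.comp A.subtype)) : ℂ) := fun A => by
    rw [← sum_eq_invariants ρ A]
    exact Finset.sum_congr rfl fun g _ => by rw [← hρe]
  set els : Subgroup G → Finset G := fun A => Finset.univ.filter fun g => g ∈ A
  have hels : ∀ A : Subgroup G, ∑ g : A, (Q.b : G → ℂ) g = ∑ g ∈ els A, (Q.b : G → ℂ) g := fun A =>
    (Finset.sum_subtype (els A) (fun g => by simp [els]) (fun g => (Q.b : G → ℂ) g)).symm
  have hecard : ∀ A : Subgroup G, (els A).card = Nat.card A := fun A => by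
    rw [Nat.card_eq_fintype_card, Fintype.card_subtype]
  have hK0 : ∑ g ∈ els K, (Q.b : G → ℂ) g = 0 := by
    have h1 : (1 : G) ∈ els K := by simp [els, K.one_mem]
    rw [← Finset.add_sum_erase _ _ h1, Finset.sum_congr rfl (g := fun _ => (-7 : ℂ)) fun g hg => by
        obtain ⟨hg1, hg⟩ := Finset.mem_erase.mp hg
        exact hKv g (Finset.mem_filter.mp hg).2 hg1,
      Finset.sum_const, Finset.card_erase_of_mem h1, hecard, hKc, irr_one_eq, hd21]
    norm_num
  have hKf : Module.finrank ℂ (Representation.invariants (ρ.comp K.subtype)) = 0 := by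
    have h := (hels K).trans hK0
    rw [hsum K, mul_eq_zero] at h
    exact_mod_cast h.resolve_left (Nat.cast_ne_zero.mpr Nat.card_pos.ne')
  have hT0 : ∑ g ∈ els T, (Q.b : G → ℂ) g = 0 := by
    have hle := mult_mono Q.b (inf_le_left : K ≤ T) (hsum K) (hsum T)
    rw [hKf, Nat.le_zero] at hle
    rw [← hels T, hsum T, hle, Nat.cast_zero, mul_zero]
  set O := els T \ els K with hOdef
  have hKT : els K ⊆ els T := fun g hg => by
    simp only [els, Finset.mem_filter, Finset.mem_univ, true_and] at hg ⊢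
    exact hg.1
  have hOc : O.card = 4 := by rw [hOdef, Finset.card_sdiff_of_subset hKT, hecard, hecard, hKc, hTc]
  have hO0 : ∑ g ∈ O, (Q.b : G → ℂ) g = 0 := by
    rw [← Finset.sum_sdiff hKT, hK0, add_zero] at hT0
    exact hT0
  choose f hf using fun g : G => hint Q.b Q.mem_b g
  have hOmem : ∀ g ∈ O, g ∈ T ∧ g ∉ K := fun g hg => by
    simp only [hOdef, els, Finset.mem_sdiff, Finset.mem_filter, Finset.mem_univ, true_and] at hg
    exact hg
  -- squares lie in K and are central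
  have hidx : (K.subgroupOf T).index = 2 := by
    have h := (K.subgroupOf T).index_mul_card
    rw [Nat.card_congr (subgroupOfEquivOfLe (inf_le_left : K ≤ T)).toEquiv, hKc, hTc] at h
    omega
  have hsq : ∀ g ∈ T, g ^ 2 ∈ K := fun g hg => by
    have := Subgroup.sq_mem_of_index_two hidx (⟨g, hg⟩ : ↥T)
    simpa [mem_subgroupOf] using this
  have hKab : ∀ a ∈ K, ∀ b ∈ K, Commute a b := fun a ha b hb => by
    have h1 : a⁻¹ = a := inv_eq_of_mul_eq_one_right (hK2' a ha)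
    have h2 : b⁻¹ = b := inv_eq_of_mul_eq_one_right (hK2' b hb)
    have h3 : (a * b)⁻¹ = a * b := inv_eq_of_mul_eq_one_right (hK2' _ (mul_mem ha hb))
    rw [mul_inv_rev, h1, h2] at h3
    exact h3.symm
  have hcentral : ∀ g ∈ O, ∀ t ∈ T, Commute t (g ^ 2) := fun g hg t ht => by
    obtain ⟨hgT, hgK⟩ := hOmem g hg
    by_cases htK : t ∈ K
    · exact hKab t htK _ (hsq g hgT)
    · have hmem : t * g⁻¹ ∈ K := by
        have := (Subgroup.mul_mem_iff_of_index_two hidx (a := (⟨t, ht⟩ : ↥T)) (b := ⟨g⁻¹, inv_mem hgT⟩)).mpr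
          (by simp only [mem_subgroupOf, inv_mem_iff]; exact iff_of_false htK hgK)
        simpa [mem_subgroupOf] using this
      have h1 := (hKab _ hmem _ (hsq g hgT)).mul_left ((Commute.refl g).pow_right 2)
      rwa [inv_mul_cancel_right] at h1
  have hvals : ∀ g ∈ O, (orderOf g = 2 ∧ f g ≤ -3 ∧ (D.sd Q.c = -10 → f g ≤ -7) ∧ (f g - 21) % 4 = 0) ∨
      (orderOf g = 4 ∧ (f g = -1 ∨ (f g = 3 ∧ D.sd Q.c = -10))) := fun g hg => by
    obtain ⟨hgT, hgK⟩ := hOmem g hg
    have hg1 : g ≠ 1 := fun h => hgK (h ▸ K.one_mem)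
    by_cases h2 : g ^ 2 = 1
    · exact Or.inl ⟨orderOf_eq_prime h2 hg1, hinv g (orderOf_eq_prime h2 hg1) _ (hf g)⟩
    · have h4 : orderOf g = 4 := by
        haveI : Fact (Nat.Prime 2) := ⟨Nat.prime_two⟩
        refine orderOf_eq_prime_pow (p := 2) (n := 1) (by simpa using h2) ?_
        rw [show 2 ^ (1 + 1) = 2 * 2 from rfl, pow_mul, pow_two]
        exact hK2' _ (hsq g hgT)
      exact Or.inr ⟨h4, hfour g hgT h4 (hsq g hgT) (hcentral g hg) _ (hf g)⟩
  have hfO : ∑ g ∈ O, f g = 0 := by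
    have : ((∑ g ∈ O, f g : ℤ) : ℂ) = ((0 : ℤ) : ℂ) := by
      rw [Int.cast_sum, Finset.sum_congr rfl fun g _ => (hf g).symm, hO0, Int.cast_zero]
    exact_mod_cast this
  obtain ⟨g1, g2, g3, g4, n12, n13, n14, n23, n24, n34, hOset⟩ := Finset.card_eq_four.mp hOc
  rw [hOset, Finset.sum_insert (by simp [n12, n13, n14]), Finset.sum_insert (by simp [n23, n24]),
    Finset.sum_pair n34] at hfO
  -- an element of order four and its inverse
  have hpair : ∀ g ∈ O, orderOf g = 4 → g⁻¹ ∈ O ∧ g⁻¹ ≠ g ∧ f g⁻¹ = f g := fun g hg h4 => by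
    obtain ⟨hgT, hgK⟩ := hOmem g hg
    refine ⟨?_, fun h => ?_, ?_⟩
    · simp only [hOdef, els, Finset.mem_sdiff, Finset.mem_filter, Finset.mem_univ, true_and, inv_mem_iff]
      exact ⟨hgT, hgK⟩
    · have : g * g = 1 := by nth_rw 1 [← h]; exact inv_mul_cancel g
      have := orderOf_dvd_of_pow_eq_one (show g ^ 2 = 1 by rw [pow_two]; exact this)
      rw [h4] at this
      norm_num at this
    · have h3 : g⁻¹ = g ^ 3 := inv_eq_of_mul_eq_one_right
        (by rw [← pow_succ', show 3 + 1 = orderOf g from h4.symm, pow_orderOf_eq_one])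
      have := pow_value Q.b g (j := 3) (by rw [h4]; norm_num) (hf g)
      rw [← h3, hf g⁻¹] at this
      exact_mod_cast this
  have v1 := hvals g1 (by simp [hOset])
  have v2 := hvals g2 (by simp [hOset])
  have v3 := hvals g3 (by simp [hOset])
  have v4 := hvals g4 (by simp [hOset])
  have hthree : ∀ g ∈ O, f g = 3 → ∃ g' ∈ O, g' ≠ g ∧ f g' = 3 := fun g hg h3 => by
    rcases hvals g hg with ⟨-, h, -⟩ | ⟨h4, -⟩
    · omega
    · obtain ⟨a, b, c⟩ := hpair g hg h4
      exact ⟨_, a, b, c.trans h3⟩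
  have t1 := hthree g1 (by simp [hOset])
  have t2 := hthree g2 (by simp [hOset])
  have t3 := hthree g3 (by simp [hOset])
  have t4 := hthree g4 (by simp [hOset])
  simp only [hOset, Finset.mem_insert, Finset.mem_singleton, exists_eq_or_imp, exists_eq_left, ne_eq, n12, n13, n14,
    n23, n24, n34, n12.symm, n13.symm, n14.symm, n23.symm, n24.symm, n34.symm, not_true_eq_false, not_false_eq_true,
    true_and, false_and, false_or, or_false] at t1 t2 t3 t4
  simp only [List.mem_cons, List.not_mem_nil, or_false] at hec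
  have hw : ∀ g, ((orderOf g = 2 ∧ f g ≤ -3 ∧ (D.sd Q.c = -10 → f g ≤ -7) ∧ (f g - 21) % 4 = 0) ∨
      (orderOf g = 4 ∧ (f g = -1 ∨ (f g = 3 ∧ D.sd Q.c = -10)))) →
      (f g ≤ -3 ∧ (D.sd Q.c ≠ -10 ∨ f g ≤ -7) ∧ (f g - 21) % 4 = 0) ∨ f g = -1 ∨ (f g = 3 ∧ D.sd Q.c = -10) := by
    rintro g (⟨-, h1, h2, h3⟩ | ⟨-, h⟩)
    · exact Or.inl ⟨h1, imp_iff_not_or.mp h2, h3⟩
    · exact Or.inr h
  have w1 := hw g1 v1
  have w2 := hw g2 v2
  have w3 := hw g3 v3
  have w4 := hw g4 v4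
  clear v1 v2 v3 v4 hw hvals hthree hpair
  rcases hec with hec | hec <;> simp only [hec] at w1 w2 w3 w4 <;> omega

end CfsgLib.KGroups.M22SevenSix
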