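import Cfsg.Agent.Lib.KGroups.M22SevenPair
import Cfsg.Agent.Lib.KGroups.M22CheckFive

/-!
# The values at an element of order 7 in a simple group of order 443520

With an automiser of order three the values lie in the field of a square root of -7; the searches leave the
self-centralising cases and one block with a centraliser of order 56.
-/

set_option autoImplicit false

namespace CfsgLib.KGroups.M22SevenValues

open Cfsg CfsgLib.Blocks CfsgLib.KGroups.M11Tools CfsgLib.KGroups.M12Tools CfsgLib.KGroups.M12Reps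
  CfsgLib.KGroups.M12Local CfsgLib.KGroups.M22Tools CfsgLib.KGroups.M22Frame CfsgLib.KGroups.M22Check
  CfsgLib.KGroups.M22Eleven CfsgLib.KGroups.M22Block CfsgLib.KGroups.M22Seven CfsgLib.KGroups.M22SevenSix
  CfsgLib.KGroups.M22SevenPair Subgroup
open CfsgLib.SmallGroups
open scoped Classical ComplexConjugate

/-- A primitive seventh root of unity. -/
noncomputable def om : ℂ := Complex.exp (2 * Real.pi * Complex.I / (7 : ℕ))

/-- A square root of -7. -/
noncomputable def delta : ℂ := om + om ^ 2 + om ^ 4 - (om ^ 3 + om ^ 5 + om ^ 6)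

theorem om_prim : IsPrimitiveRoot om 7 := Complex.isPrimitiveRoot_exp 7 (by norm_num)

theorem om_pow : om ^ 7 = 1 := om_prim.pow_eq_one

theorem om_sum : 1 + om + om ^ 2 + om ^ 3 + om ^ 4 + om ^ 5 + om ^ 6 = 0 := by
  have := om_prim.geom_sum_eq_zero (by norm_num)
  simpa [Finset.sum_range_succ, add_assoc] using this

theorem delta_sq : delta * delta = -7 := by
  rw [delta]
  linear_combination om_sum + (om ^ 5 + 2 * om ^ 4 - om ^ 3 + om - 6) * om_pow

theorem delta_int {a b : ℤ} (h : (a : ℂ) + (b : ℂ) * delta = 0) : a = 0 ∧ b = 0 := by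
  have h2 : ((a * a + 7 * (b * b) : ℤ) : ℂ) = ((0 : ℤ) : ℂ) := by
    push_cast
    linear_combination ((a : ℂ) - (b : ℂ) * delta) * h + (b : ℂ) * b * delta_sq
  have h3 : a * a + 7 * (b * b) = 0 := by exact_mod_cast h2
  constructor <;> nlinarith [sq_nonneg a, sq_nonneg b]

theorem delta_ne : delta ≠ 0 := fun h => by
  have := delta_sq
  rw [h, mul_zero] at this
  norm_num at this

theorem sqrt_key : ∀ e ∈ threeKs, e.1 ∈ ([1, 8, 64] : List ℕ) →
    28 * e.1 - 12 < (2 * e.2 + 1) * (2 * e.2 + 1) ∧ 4 * e.1 < (e.2 + 1) * (e.2 + 1) := by decide +kernel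

theorem three_key : ∀ k ∈ ([1, 8, 15, 64, 120, 960] : List ℕ), ¬ 5 ∣ k →
    k ∈ ([1, 8, 64] : List ℕ) ∧ ∃ m, (k, m) ∈ threeKs := by
  intro k hk h5
  simp only [List.mem_cons, List.not_mem_nil, or_false] at hk
  rcases hk with rfl | rfl | rfl | rfl | rfl | rfl
  · exact ⟨by decide, 2, by decide⟩
  · exact ⟨by decide, 7, by decide⟩
  · exact absurd (by norm_num : 5 ∣ 15) h5
  · exact ⟨by decide, 21, by decide⟩
  · exact absurd (by norm_num : 5 ∣ 120) h5
  · exact absurd (by norm_num : 5 ∣ 960) h5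

variable {G : Type*} [Group G] [Fintype G] [IsSimpleGroup G] (hG : Nat.card G = 443520)
  [Fact (Nat.Prime 11)] [Fact (Nat.Prime 7)]

theorem irr_inv (χ : IrrCharacter G) (g : G) : (χ : G → ℂ) g⁻¹ = conj ((χ : G → ℂ) g) := by
  obtain ⟨n, ρ, hρ, he⟩ := χ.2
  rw [← he]
  exact CfsgLib.Char.char_inv_eq_conj ρ g

theorem centralizer_q (S : Seven G) : Nat.card (centralizer ({S.F.x} : Set G)) = 7 * S.k := by
  rw [← centralizer_closure, ← zpowers_eq_closure, S.F.hzp, S.hC]

theorem centralizer_pow (S : Seven G) :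
    centralizer ({S.F.x ^ 3} : Set G) = centralizer ({S.F.x} : Set G) := by
  refine le_antisymm (fun g hg => ?_) (fun g hg => ?_)
  · have h1 := (show Commute g (S.F.x ^ 3) from mem_centralizer_singleton_iff.mp hg).pow_right 5
    rw [← pow_mul, show 3 * 5 = 7 * 2 + 1 from rfl, pow_succ, pow_mul,
      show S.F.x ^ 7 = 1 from by have h := pow_orderOf_eq_one S.F.x; rwa [S.F.hx] at h, one_pow, one_mul] at h1
    exact mem_centralizer_singleton_iff.mpr h1.eq
  · exact mem_centralizer_singleton_iff.mpr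
      ((show Commute g S.F.x from mem_centralizer_singleton_iff.mp hg).pow_right 3).eq

/-- The squares generate the automiser. -/
theorem conj_two (S : Seven G) : IsConj S.F.x (S.F.x ^ 2) ∧ IsConj S.F.x (S.F.x ^ 4) := by
  set q := S.F.x
  have hq : orderOf q = 7 := S.F.hx
  have hq7 : q ^ 7 = 1 := hq ▸ pow_orderOf_eq_one q
  set N := normalizer ((zpowers q : Subgroup G) : Set G)
  set C := centralizer ({q} : Set G)
  have hCN : C ≤ N := by
    refine le_trans (le_of_eq ?_) (Subgroup.centralizer_le_normalizer _)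
    rw [zpowers_eq_closure, centralizer_closure]
  have hNc : Nat.card N = 3 * (7 * S.k) := by
    show Nat.card (normalizer ((zpowers q : Subgroup G) : Set G)) = _
    rw [S.F.hzp, S.hN]
  have hidx : (C.subgroupOf N).index = 3 := by
    have h := (C.subgroupOf N).index_mul_card
    rw [Nat.card_congr (subgroupOfEquivOfLe hCN).toEquiv, hNc, centralizer_q S] at h
    exact Nat.eq_of_mul_eq_mul_right (centralizer_q S ▸ Nat.card_pos) h
  have hnormal : (C.subgroupOf N).Normal := ⟨fun c hc g => by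
    rw [mem_subgroupOf, mem_centralizer_singleton_iff] at hc ⊢
    obtain ⟨i, hi⟩ := mem_zpowers_iff.mp ((mem_normalizer_iff''.mp g.2 q).mp (mem_zpowers q))
    push_cast
    calc (g : G) * (c : G) * (g : G)⁻¹ * q = (g : G) * ((c : G) * ((g : G)⁻¹ * q * g)) * (g : G)⁻¹ := by group
      _ = (g : G) * (((g : G)⁻¹ * q * g) * c) * (g : G)⁻¹ := by
        rw [← hi, ((show Commute (c : G) q from hc).zpow_right i).eq]
      _ = q * ((g : G) * c * (g : G)⁻¹) := by group⟩
  obtain ⟨g, hg⟩ : ∃ g : ↥N, g ∉ C.subgroupOf N := by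
    by_contra hcon
    simp only [not_exists, not_not] at hcon
    rw [(Subgroup.eq_top_iff' _).mpr hcon, Subgroup.index_top] at hidx
    omega
  have h3 : g ^ 3 ∈ C.subgroupOf N := by
    rw [← QuotientGroup.eq_one_iff, QuotientGroup.mk_pow, ← hidx]
    exact pow_card_eq_one'
  have h1 : (g : G) * q * (g : G)⁻¹ ∈ zpowers q := (mem_normalizer_iff.mp g.2 q).mp (mem_zpowers q)
  rw [← mem_powers_iff_mem_zpowers] at h1
  obtain ⟨i, hi⟩ := h1
  have hi' : (g : G) * q * (g : G)⁻¹ = q ^ (i % 7) := by rw [← hq, pow_mod_orderOf]; exact hi.symm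
  have hiter : ∀ n : ℕ, (g : G) ^ n * q * ((g : G) ^ n)⁻¹ = q ^ ((i % 7) ^ n) := by
    intro n
    induction n with
    | zero => simp
    | succ n ih =>
      rw [pow_succ', mul_inv_rev, show (g : G) * (g : G) ^ n * q * (((g : G) ^ n)⁻¹ * (g : G)⁻¹) =
        g * ((g : G) ^ n * q * ((g : G) ^ n)⁻¹) * (g : G)⁻¹ by group, ih, ← conj_pow, hi', ← pow_mul, pow_succ,
        mul_comm]
  have hcube : (i % 7) ^ 3 % 7 = 1 := by
    have h := hiter 3
    have hc : Commute ((g : G) ^ 3) q := by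
      rw [mem_subgroupOf, mem_centralizer_singleton_iff] at h3
      exact_mod_cast h3
    rw [hc.eq, mul_inv_cancel_right] at h
    have h' := pow_injOn_Iio_orderOf (x := q) (show (i % 7) ^ 3 % 7 ∈ Set.Iio (orderOf q) by
      rw [Set.mem_Iio, hq]; exact Nat.mod_lt _ (by norm_num)) (show 1 ∈ Set.Iio (orderOf q) by
      rw [Set.mem_Iio, hq]; norm_num)
    refine h' ?_
    show q ^ ((i % 7) ^ 3 % 7) = q ^ 1
    rw [pow_one]
    conv_rhs => rw [h]
    rw [← hq, pow_mod_orderOf]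
  have hne : i % 7 ≠ 1 := fun e => by
    rw [e, pow_one] at hi'
    exact hg (mem_subgroupOf.mpr (mem_centralizer_singleton_iff.mpr (mul_inv_eq_iff_eq_mul.mp hi')))
  have hlt : i % 7 < 7 := Nat.mod_lt _ (by norm_num)
  have hconj : IsConj q (q ^ (i % 7)) := isConj_iff.mpr ⟨g, hi'⟩
  have hsq : IsConj q (q ^ ((i % 7) ^ 2)) := isConj_iff.mpr ⟨(g : G) ^ 2, hiter 2⟩
  have hcases : i % 7 = 2 ∨ i % 7 = 4 := by interval_cases (i % 7) <;> simp_all
  rcases hcases with e | e <;> rw [e] at hconj hsq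
  · exact ⟨hconj, hsq⟩
  · refine ⟨?_, hconj⟩
    rwa [show (4 : ℕ) ^ 2 = 7 * 2 + 2 from rfl, pow_add, pow_mul, hq7, one_pow, one_mul] at hsq

/-- Twice the value at the element of order 7, in the field of a square root of -7. -/
theorem exists_pr (S : Seven G) (χ : IrrCharacter G) : ∃ P R : ℤ,
    2 * (χ : G → ℂ) S.F.x = (P : ℂ) - (R : ℂ) * delta ∧
      2 * (χ : G → ℂ) (S.F.x ^ 3) = (P : ℂ) + (R : ℂ) * delta ∧ (P - R) % 2 = 0 ∧
      0 ≤ (charDegree (χ : G → ℂ) : ℤ) + 3 * P ∧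
      (R.natAbs : ℤ) * 7 ≤ 2 * (charDegree (χ : G → ℂ) : ℤ) - P ∧
      (P - 2 * (charDegree (χ : G → ℂ) : ℤ)) % 7 = 0 ∧
      ((P * P + 7 * (R * R) : ℤ) : ℝ) = 4 * ‖(χ : G → ℂ) S.F.x‖ ^ 2 := by
  set q := S.F.x
  have hq : orderOf q = 7 := S.F.hx
  obtain ⟨c2, c4⟩ : IsConj q (q ^ 2) ∧ IsConj q (q ^ 4) := conj_two S
  have hc3 : IsConj (q ^ 3) (q ^ 6) ∧ IsConj (q ^ 3) (q ^ 5) := by
    refine ⟨?_, ?_⟩
    · obtain ⟨g, hg⟩ := isConj_iff.mp c2
      exact isConj_iff.mpr ⟨g, by rw [← conj_pow, hg, ← pow_mul]⟩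
    · obtain ⟨g, hg⟩ := isConj_iff.mp c4
      refine isConj_iff.mpr ⟨g, ?_⟩
      rw [← conj_pow, hg, ← pow_mul, ← pow_mod_orderOf q (4 * 3), hq]
  have v2 := (M12Classes.value_conj χ c2).symm
  have v4 := (M12Classes.value_conj χ c4).symm
  have v6 := (M12Classes.value_conj χ hc3.1).symm
  have v5 := (M12Classes.value_conj χ hc3.2).symm
  set α := (χ : G → ℂ) q with hα
  set β := (χ : G → ℂ) (q ^ 3) with hβ
  set d := charDegree (χ : G → ℂ)
  obtain ⟨m0, e0⟩ := twist_nat χ hq (μ := 1) (one_pow 7)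
  obtain ⟨m1, e1⟩ := twist_nat χ hq (μ := om) om_pow
  obtain ⟨m3, e3⟩ := twist_nat χ hq (μ := om ^ 3) (by rw [← pow_mul, mul_comm, pow_mul, om_pow, one_pow])
  simp only [Finset.sum_range_succ, Finset.sum_range_zero, pow_zero, pow_one, irr_one_eq, ← hα, ← hβ, v2, v4, v5,
    v6, one_pow, mul_one, Nat.cast_ofNat] at e0 e1 e3
  have h7 := om_pow
  have hp : α + β = ((2 * (d : ℤ) - 7 * (m1 + m3) : ℤ) : ℂ) := by
    push_cast
    linear_combination (α + β) * om_sum +
      (α * om ^ 5 + β * (om ^ 2 + om + om ^ 8 + om ^ 4 + om ^ 11)) * h7 - e1 - e3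
  have hd : ((m1 : ℂ) - m3) * delta = β - α := by
    have h : (α - β) * delta = 7 * ((m1 : ℂ) - m3) := by
      rw [delta]
      linear_combination e1 - e3 + (α * om ^ 5 + β * (om ^ 2 + om + om ^ 8 + om ^ 4 + om ^ 11)) * h7
    refine mul_left_cancel₀ delta_ne ?_
    linear_combination ((m1 : ℂ) - m3) * delta_sq + h
  refine ⟨2 * (d : ℤ) - 7 * (m1 + m3), (m1 : ℤ) - m3, ?_, ?_, by omega, ?_, by omega, by omega, ?_⟩
  · push_cast at hp ⊢; linear_combination hp + hd
  · push_cast at hp ⊢; linear_combination hp - hd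
  · have h : ((d : ℤ) + 3 * (2 * (d : ℤ) - 7 * (m1 + m3)) : ℂ) = ((7 * m0 : ℤ) : ℂ) := by
      push_cast at hp ⊢; linear_combination e0 - 3 * hp
    have : (d : ℤ) + 3 * (2 * (d : ℤ) - 7 * (m1 + m3)) = 7 * m0 := by exact_mod_cast h
    omega
  · have hinv : β = conj α := by
      rw [hα, ← irr_inv, ← show q ^ 6 = q⁻¹ from (inv_eq_of_mul_eq_one_right (by
        rw [← pow_succ', show 6 + 1 = orderOf q from hq.symm, pow_orderOf_eq_one])).symm]
      exact v6.symm
    apply Complex.ofReal_injective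
    push_cast at hp ⊢
    rw [← Complex.mul_conj', ← hinv]
    linear_combination -((2 * (d : ℂ) - 7 * ((m1 : ℂ) + m3)) + (α + β)) * hp -
      (((m1 : ℂ) - m3) * delta + (β - α)) * hd + ((m1 : ℂ) - m3) * ((m1 : ℂ) - m3) * delta_sq

end CfsgLib.KGroups.M22SevenValues
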