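import Cfsg.Agent.Lib.KGroups.M22Elements
import Cfsg.Agent.Lib.KGroups.M12Point

/-!
# The Sylow 3-normaliser of a simple group of order 443520

The normaliser has order 72; a complement acts regularly on the eight non-identity elements of the
Sylow subgroup.
-/

set_option autoImplicit false

namespace CfsgLib.KGroups.M22Three

open Cfsg CfsgLib.Blocks CfsgLib.KGroups.M22Table CfsgLib.KGroups.M22Elements Subgroup
open CfsgLib.KGroups.M12Classes (card_centralizer_eq)
open CfsgLib.KGroups.M12Point (els mem_els card_els)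
open scoped Classical

variable {G : Type*} [Group G] [Fintype G]

/-- Conjugation preserves commutation. -/
theorem conj_commute (g : G) {x y : G} (h : Commute x y) : Commute (g * x * g⁻¹) (g * y * g⁻¹) :=
  h.map (MulAut.conj g).toMonoidHom

/-- An element mapping a finite subgroup into itself normalises it. -/
theorem mem_normalizer_of_le {H : Subgroup G} {g : G} (hg : ∀ a ∈ H, g * a * g⁻¹ ∈ H) :
    g ∈ normalizer (H : Set G) := by
  rw [mem_normalizer_iff]
  intro a
  refine ⟨hg a, fun h => ?_⟩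
  have hbij : Function.Bijective fun b : H => (⟨g * b * g⁻¹, hg b b.2⟩ : H) :=
    Finite.injective_iff_bijective.mp fun b c hbc => Subtype.ext (by simpa using hbc)
  obtain ⟨⟨b, hb⟩, hb'⟩ := hbij.2 ⟨_, h⟩
  have : b = a := by simpa using congrArg Subtype.val hb'
  exact this ▸ hb

/-- The moved points of an involutory map of a finite set come in pairs. -/
theorem even_moved {α : Type*} (s : Finset α) (σ : α → α) (hs : ∀ x ∈ s, σ x ∈ s) (hσ : ∀ x ∈ s, σ (σ x) = x) :
    Even (s.filter fun x => σ x ≠ x).card := by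
  have h : ∑ _x ∈ s.filter (fun x => σ x ≠ x), (1 : ZMod 2) = 0 := by
    refine Finset.sum_involution (fun x _ => σ x) (fun _ _ => by decide) (fun x hx _ => (Finset.mem_filter.mp hx).2)
      (fun x hx => ?_) fun x hx => hσ x (Finset.mem_filter.mp hx).1
    obtain ⟨h1, h2⟩ := Finset.mem_filter.mp hx
    exact Finset.mem_filter.mpr ⟨hs x h1, fun e => h2 ((e.symm.trans (hσ x h1)))⟩
  rw [Finset.sum_const, nsmul_one, ZMod.natCast_eq_zero_iff] at h
  exact even_iff_two_dvd.mpr h

/-- The centraliser of an involution has no element of order nine times. -/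
theorem not_inv_central (T : Table G) {u : G} (hu : orderOf u = 2) {H : Subgroup G} (hH : 9 ∣ Nat.card H) :
    ¬ H ≤ centralizer ({u} : Set G) := fun h => by
  have h1 := hH.trans (card_dvd_of_le h)
  rw [← card_centralizer_eq (T.inv_conj u hu), T.card_t] at h1
  norm_num at h1

section Sylow

variable [IsSimpleGroup G] (T : Table G) (hG : Nat.card G = 443520) [Fact (Nat.Prime 3)] (P : Sylow 3 G)

include T hG in
theorem sylow_le_pair {x y : G} (hx : x ∈ (P : Subgroup G)) (hx1 : x ≠ 1) (hy : y ∈ (P : Subgroup G))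
    (hy' : y ∉ zpowers x) {H : Subgroup G} (hxH : x ∈ H) (hyH : y ∈ H) : (P : Subgroup G) ≤ H := by
  have hd := card_dvd_of_le (inf_le_left : (P : Subgroup G) ⊓ H ≤ (P : Subgroup G))
  rw [sylow_three_card hG P] at hd
  have h3 : 3 ∣ Nat.card ((P : Subgroup G) ⊓ H : Subgroup G) := by
    have h := orderOf_dvd_natCard _ (show x ∈ (P : Subgroup G) ⊓ H from ⟨hx, hxH⟩)
    rwa [sylow_three_order T hG P hx hx1] at h
  have hne : Nat.card ((P : Subgroup G) ⊓ H : Subgroup G) ≠ 3 := fun e => hy' (by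
    have heq : zpowers x = (P : Subgroup G) ⊓ H :=
      eq_of_le_of_card_ge (zpowers_le.mpr ⟨hx, hxH⟩) (by rw [e, Nat.card_zpowers, sylow_three_order T hG P hx hx1])
    rw [heq]
    exact ⟨hy, hyH⟩)
  have h9 : Nat.card ((P : Subgroup G) ⊓ H : Subgroup G) = 9 := by
    have hle := Nat.le_of_dvd (by norm_num) hd
    interval_cases h : Nat.card ((P : Subgroup G) ⊓ H : Subgroup G) <;> omega
  exact (eq_of_le_of_card_ge inf_le_left (by rw [h9, sylow_three_card hG P])).symm.le.trans inf_le_right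

include T hG in
theorem exists_basis : ∃ x ∈ (P : Subgroup G), x ≠ 1 ∧ ∃ y ∈ (P : Subgroup G), y ∉ zpowers x := by
  have hc := sylow_three_card hG P
  obtain ⟨x, hx, hx1⟩ : ∃ x ∈ (P : Subgroup G), x ≠ 1 :=
    (Subgroup.bot_or_exists_ne_one _).resolve_left fun h => by
      rw [h, Subgroup.card_bot] at hc; norm_num at hc
  refine ⟨x, hx, hx1, ?_⟩
  by_contra h
  push Not at h
  have := card_dvd_of_le (show (P : Subgroup G) ≤ zpowers x from h)
  rw [hc, Nat.card_zpowers, sylow_three_order T hG P hx hx1] at this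
  norm_num at this

include T hG in
theorem mem_of_centralizes {x y : G} (hx : x ∈ (P : Subgroup G)) (hx1 : x ≠ 1) (hy : y ∈ (P : Subgroup G))
    (hy' : y ∉ zpowers x) {c : G} (h1 : Commute c x) (h2 : Commute c y) : c ∈ (P : Subgroup G) := by
  set D := centralizer ({x} : Set G) ⊓ centralizer ({y} : Set G)
  have hcD : c ∈ D := ⟨mem_centralizer_singleton_iff.mpr h1.eq, mem_centralizer_singleton_iff.mpr h2.eq⟩
  have hPD : (P : Subgroup G) ≤ D := fun b hb =>
    ⟨mem_centralizer_singleton_iff.mpr (sylow_three_comm hG P hb hx),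
      mem_centralizer_singleton_iff.mpr (sylow_three_comm hG P hb hy)⟩
  have hd := card_dvd_of_le (inf_le_left : D ≤ centralizer ({x} : Set G))
  rw [card_three T hG (sylow_three_order T hG P hx hx1)] at hd
  have h2' : ¬ 2 ∣ Nat.card D := fun h => by
    have : Fact (Nat.Prime 2) := ⟨Nat.prime_two⟩
    obtain ⟨⟨u, hu⟩, huo⟩ := exists_prime_orderOf_dvd_card' (G := D) 2 h
    rw [Subgroup.orderOf_mk] at huo
    refine not_inv_central T huo (H := (P : Subgroup G)) (by rw [sylow_three_card hG P]) ?_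
    exact sylow_le_pair T hG P hx hx1 hy hy' (mem_centralizer_singleton_iff.mpr (mem_centralizer_singleton_iff.mp hu.1).symm)
      (mem_centralizer_singleton_iff.mpr (mem_centralizer_singleton_iff.mp hu.2).symm)
  have h9 : Nat.card D ≤ 9 := by
    refine Nat.le_of_dvd (by norm_num) (Nat.Coprime.dvd_of_dvd_mul_left (m := 4) ?_ (show Nat.card D ∣ 4 * 9 from hd))
    exact ((Nat.prime_two.coprime_iff_not_dvd.mpr h2').pow_left 2).symm
  rw [eq_of_le_of_card_ge hPD (by rw [sylow_three_card hG P]; exact h9)]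
  exact hcD

include T hG in
theorem not_le_normalizer {x : G} (hx : x ∈ (P : Subgroup G)) (hx1 : x ≠ 1) :
    ¬ centralizer ({x} : Set G) ≤ normalizer ((P : Subgroup G) : Set G) := fun hle => by
  have hc := sylow_three_card hG P
  obtain ⟨y, hy, hy'⟩ : ∃ y ∈ (P : Subgroup G), y ∉ zpowers x := by
    by_contra h
    push Not at h
    have := card_dvd_of_le (show (P : Subgroup G) ≤ zpowers x from h)
    rw [hc, Nat.card_zpowers, sylow_three_order T hG P hx hx1] at this
    norm_num at this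
  set C := els (centralizer ({x} : Set G))
  set f : G → G := fun c => c * y * c⁻¹
  set O := C.image f
  have hC : ∀ c ∈ C, c * x * c⁻¹ = x := fun c hc => by
    rw [mem_els, mem_centralizer_singleton_iff] at hc
    rw [hc, mul_inv_cancel_right]
  have hCmul : ∀ c ∈ C, ∀ d ∈ C, c * d ∈ C ∧ c⁻¹ * d ∈ C ∧ c * d⁻¹ ∈ C := fun c hc d hd => by
    rw [mem_els] at hc hd
    exact ⟨mem_els.mpr (mul_mem hc hd), mem_els.mpr (mul_mem (inv_mem hc) hd), mem_els.mpr (mul_mem hc (inv_mem hd))⟩
  have hOcard : O.card = 4 := by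
    have hfib : ∀ o ∈ O, (C.filter fun c => f c = o).card = 9 := fun o ho => by
      obtain ⟨c₀, hc₀, rfl⟩ := Finset.mem_image.mp ho
      rw [← hc, ← card_els]
      refine Finset.card_bij' (fun c _ => c₀⁻¹ * c) (fun s _ => c₀ * s) (fun c hc' => ?_) (fun s hs => ?_)
        (fun c _ => by simp) fun s _ => by simp
      · obtain ⟨hc1, hc2⟩ := Finset.mem_filter.mp hc'
        refine mem_els.mpr (mem_of_centralizes T hG P hx hx1 hy hy' ?_ ?_)
        · exact mem_centralizer_singleton_iff.mp (mem_els.mp (hCmul c₀ hc₀ c hc1).2.1)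
        · show c₀⁻¹ * c * y = y * (c₀⁻¹ * c)
          calc c₀⁻¹ * c * y = c₀⁻¹ * (c * y * c⁻¹) * c := by group
            _ = c₀⁻¹ * (c₀ * y * c₀⁻¹) * c := by rw [show c * y * c⁻¹ = c₀ * y * c₀⁻¹ from hc2]
            _ = y * (c₀⁻¹ * c) := by group
      · rw [mem_els] at hs
        refine Finset.mem_filter.mpr ⟨(hCmul c₀ hc₀ s (mem_els.mpr (mem_centralizer_singleton_iff.mpr
          (sylow_three_comm hG P hs hx)))).1, ?_⟩
        show c₀ * s * y * (c₀ * s)⁻¹ = c₀ * y * c₀⁻¹
        rw [mul_assoc c₀ s y, sylow_three_comm hG P hs hy]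
        group
    have h := Finset.card_eq_sum_card_fiberwise (f := f) (t := O) (s := C) fun c hc => Finset.mem_image_of_mem f hc
    rw [Finset.sum_congr rfl hfib, Finset.sum_const, smul_eq_mul, card_els,
      card_three T hG (sylow_three_order T hG P hx hx1)] at h
    omega
  have hOsub : ∀ o ∈ O, o ∈ els (P : Subgroup G) \ els (zpowers x) := fun o ho => by
    obtain ⟨c, hc', rfl⟩ := Finset.mem_image.mp ho
    refine Finset.mem_sdiff.mpr ⟨mem_els.mpr ((mem_normalizer_iff.mp (hle (mem_els.mp hc')) y).mp hy), fun h => hy' ?_⟩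
    obtain ⟨k, hk⟩ := mem_zpowers_iff.mp (mem_els.mp h)
    refine mem_zpowers_iff.mpr ⟨k, ?_⟩
    have h2 : (c * x * c⁻¹) ^ k = f c := by rw [hC c hc', hk]
    rw [conj_zpow] at h2
    exact mul_left_cancel (mul_right_cancel h2)
  have hsix : (els (P : Subgroup G) \ els (zpowers x)).card = 6 := by
    rw [Finset.card_sdiff_of_subset fun a ha => mem_els.mpr (zpowers_le.mpr hx (mem_els.mp ha)), card_els, card_els,
      hc, Nat.card_zpowers, sylow_three_order T hG P hx hx1]
  -- the orbit meets its translate, so it contains `y * x`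
  obtain ⟨o, ho, ho'⟩ : ∃ o ∈ O, o * x ∈ O := by
    by_contra h
    push Not at h
    have hdisj : Disjoint O (O.image (· * x)) := Finset.disjoint_left.mpr fun o ho ho' => by
      obtain ⟨p, hp, rfl⟩ := Finset.mem_image.mp ho'
      exact h p hp ho
    have hle' : (O ∪ O.image (· * x)).card ≤ 6 := by
      rw [← hsix]
      refine Finset.card_le_card (Finset.union_subset hOsub fun o ho => ?_)
      obtain ⟨p, hp, rfl⟩ := Finset.mem_image.mp ho
      obtain ⟨hp1, hp2⟩ := Finset.mem_sdiff.mp (hOsub p hp)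
      refine Finset.mem_sdiff.mpr ⟨mem_els.mpr (mul_mem (mem_els.mp hp1) hx), fun h' => hp2 (mem_els.mpr ?_)⟩
      exact (Subgroup.mul_mem_cancel_right _ (mem_zpowers x)).mp (mem_els.mp h')
    rw [Finset.card_union_of_disjoint hdisj, Finset.card_image_of_injective _ (mul_left_injective x), hOcard] at hle'
    omega
  obtain ⟨c, hcC, rfl⟩ := Finset.mem_image.mp ho
  obtain ⟨d, hdC, hd⟩ := Finset.mem_image.mp ho'
  have hyx : c⁻¹ * d ∈ C ∧ f (c⁻¹ * d) = y * x := by
    refine ⟨(hCmul c hcC d hdC).2.1, ?_⟩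
    show c⁻¹ * d * y * (c⁻¹ * d)⁻¹ = y * x
    have hcx : c⁻¹ * x * c = x := by
      have := hC c hcC
      calc c⁻¹ * x * c = c⁻¹ * (c * x * c⁻¹) * c := by rw [this]
        _ = x := by group
    calc c⁻¹ * d * y * (c⁻¹ * d)⁻¹ = c⁻¹ * (d * y * d⁻¹) * c := by group
      _ = c⁻¹ * (c * y * c⁻¹ * x) * c := by rw [show d * y * d⁻¹ = c * y * c⁻¹ * x from hd]
      _ = y * (c⁻¹ * x * c) := by group
      _ = y * x := by rw [hcx]
  have hclosed : ∀ o ∈ O, o * x ∈ O := fun o ho => by
    obtain ⟨e, heC, rfl⟩ := Finset.mem_image.mp ho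
    refine Finset.mem_image.mpr ⟨e * (c⁻¹ * d), (hCmul e heC _ hyx.1).1, ?_⟩
    show e * (c⁻¹ * d) * y * (e * (c⁻¹ * d))⁻¹ = e * y * e⁻¹ * x
    calc e * (c⁻¹ * d) * y * (e * (c⁻¹ * d))⁻¹ = e * f (c⁻¹ * d) * e⁻¹ := by
          show _ = e * (c⁻¹ * d * y * (c⁻¹ * d)⁻¹) * e⁻¹; group
      _ = e * y * e⁻¹ * (e * x * e⁻¹) := by rw [hyx.2]; group
      _ = e * y * e⁻¹ * x := by rw [hC e heC]
  let σ : Equiv.Perm O := Equiv.ofBijective (fun o => ⟨o.1 * x, hclosed o.1 o.2⟩)
    (Finite.injective_iff_bijective.mp fun a b hab => Subtype.ext (mul_right_cancel (congrArg Subtype.val hab)))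
  have hσ : σ ^ 3 ^ 1 = 1 := by
    refine Equiv.ext fun o => Subtype.ext ?_
    show o.1 * x * x * x = o.1
    rw [mul_assoc, mul_assoc, show x * (x * x) = x ^ 3 by rw [pow_succ', pow_two],
      ← sylow_three_order T hG P hx hx1, pow_orderOf_eq_one, mul_one]
  obtain ⟨⟨p, hp⟩, hfix⟩ := Equiv.Perm.exists_fixed_point_of_prime (p := 3)
    (by rw [Fintype.card_coe, hOcard]; norm_num) hσ
  exact hx1 (mul_left_cancel ((congrArg Subtype.val hfix : p * x = p).trans (mul_one p).symm))

include T hG in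
theorem normalizer_card : Nat.card (normalizer ((P : Subgroup G) : Set G)) = 72 ∧
    ∀ x ∈ (P : Subgroup G), x ≠ 1 → ∀ g ∈ normalizer ((P : Subgroup G) : Set G), Commute g x →
      g ∈ (P : Subgroup G) := by
  have hc := sylow_three_card hG P
  set N := normalizer ((P : Subgroup G) : Set G) with hN
  have hPN : (P : Subgroup G) ≤ N := le_normalizer
  have hmul : ∀ x, x ∈ (P : Subgroup G) → x ≠ 1 →
      Nat.card N = 8 * Nat.card (centralizer ({x} : Set G) ⊓ N : Subgroup G) := by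
    intro x hx hx1
    let xN : N := ⟨x, hPN hx⟩
    have hCc : Nat.card (centralizer ({xN} : Set N)) = Nat.card (centralizer ({x} : Set G) ⊓ N : Subgroup G) := by
      rw [← Nat.card_congr (subgroupOfEquivOfLe (inf_le_right : centralizer ({x} : Set G) ⊓ N ≤ N)).toEquiv]
      congr 2
      ext a
      rw [Subgroup.mem_subgroupOf, Subgroup.mem_inf, mem_centralizer_singleton_iff, mem_centralizer_singleton_iff,
        Subtype.ext_iff]
      exact ⟨fun h => ⟨h, a.2⟩, fun h => h.1⟩
    have hiff : ∀ v : N, IsConj v xN ↔ ((v : G) ∈ (P : Subgroup G) ∧ (v : G) ≠ 1) := by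
      intro v
      constructor
      · intro hv
        obtain ⟨c, rfl⟩ := isConj_iff.mp hv.symm
        exact ⟨(mem_normalizer_iff.mp c.2 x).mp hx, fun h => hx1 (conj_eq_one_iff.mp h)⟩
      · rintro ⟨hvP, hv1⟩
        obtain ⟨g, hg⟩ := isConj_iff.mp (three_conj T hG (sylow_three_order T hG P hvP hv1)
          (sylow_three_order T hG P hx hx1))
        have : IsMulCommutative (P : Subgroup G) :=
          IsPGroup.isMulCommutative_of_card_eq_prime_sq (p := 3) (by rw [hc]; rfl)
        obtain ⟨n, hn, hn'⟩ := P.conj_eq_normalizer_conj_of_mem (v : G) g⁻¹ hvP (by rw [inv_inv, hg]; exact hx)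
        rw [inv_inv, hg] at hn'
        exact isConj_iff.mpr ⟨⟨n⁻¹, inv_mem hn⟩, Subtype.ext (by
          show n⁻¹ * (v : G) * n⁻¹⁻¹ = x
          rw [inv_inv, ← hn'])⟩
    have hcl : Nat.card {v : N // IsConj v xN} = 8 := by
      have e : {v : N // IsConj v xN} ≃ {q : ↥(P : Subgroup G) // q ≠ 1} :=
        { toFun := fun v => ⟨⟨v.1, ((hiff v.1).mp v.2).1⟩, fun h => ((hiff v.1).mp v.2).2 (congrArg Subtype.val h)⟩
          invFun := fun q => ⟨⟨q.1, hPN q.1.2⟩, (hiff _).mpr ⟨q.1.2, fun h => q.2 (Subtype.ext h)⟩⟩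
          left_inv := fun v => rfl
          right_inv := fun q => rfl }
      rw [Nat.card_congr e, Nat.card_eq_fintype_card, Fintype.card_subtype_compl, Fintype.card_subtype_eq,
        ← Nat.card_eq_fintype_card, hc]
    have h := (centralizer ({xN} : Set N)).index_mul_card
    rw [← CfsgLib.Char.card_isConj_eq_index, hcl, hCc] at h
    exact h.symm
  have key : ∀ x ∈ (P : Subgroup G), x ≠ 1 →
      Nat.card (centralizer ({x} : Set G) ⊓ N : Subgroup G) = 9 := by
    intro x hx hx1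
    have hC := card_three T hG (sylow_three_order T hG P hx hx1)
    have hd := card_dvd_of_le (inf_le_left : centralizer ({x} : Set G) ⊓ N ≤ centralizer ({x} : Set G))
    have h9 : 9 ∣ Nat.card (centralizer ({x} : Set G) ⊓ N : Subgroup G) := hc ▸ card_dvd_of_le
      (le_inf (fun b hb => mem_centralizer_singleton_iff.mpr (sylow_three_comm hG P hb hx)) hPN)
    rw [hC] at hd
    obtain ⟨m, hm⟩ := h9
    rw [hm] at hd
    have hm4 : m ∣ 4 := Nat.dvd_of_mul_dvd_mul_left (k := 9) (by norm_num) hd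
    have hle := Nat.le_of_dvd (by norm_num) hm4
    interval_cases m
    · norm_num at hm4
    · exact hm
    · exfalso
      have h1 : (normalizer ((P : Subgroup G) : Set G)).index = 3080 := by
        have h := N.index_mul_card
        rw [hG, hmul x hx hx1, hm] at h
        rw [← hN]; omega
      have h2 := card_sylow_modEq_one 3 G
      rw [P.card_eq_index_normalizer] at h2
      change (normalizer ((P : Subgroup G) : Set G)).index ≡ 1 [MOD 3] at h2
      rw [h1] at h2
      norm_num [Nat.ModEq] at h2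
    · norm_num at hm4
    · exfalso
      refine not_le_normalizer T hG P hx hx1 ?_
      rw [← eq_of_le_of_card_ge (inf_le_left : centralizer ({x} : Set G) ⊓ N ≤ centralizer ({x} : Set G))
        (by rw [hm, hC])]
      exact inf_le_right
  obtain ⟨x, hx, hx1, -⟩ := exists_basis T hG P
  refine ⟨by rw [hmul x hx hx1, key x hx hx1], fun x hx hx1 g hg hgx => ?_⟩
  have heq := eq_of_le_of_card_ge (le_inf (fun b hb => mem_centralizer_singleton_iff.mpr
    (sylow_three_comm hG P hb hx)) hPN : (P : Subgroup G) ≤ centralizer ({x} : Set G) ⊓ N)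
    (by rw [key x hx hx1, hc])
  rw [heq]
  exact ⟨mem_centralizer_singleton_iff.mpr hgx.eq, hg⟩

end Sylow

/-- A Sylow 3-subgroup with a complement in its normaliser. -/
structure Loc (G : Type*) [Group G] [Fintype G] where
  P : Subgroup G
  K : Subgroup G
  z : G
  sylow : ∃ (_ : Fact (Nat.Prime 3)) (S : Sylow 3 G), (S : Subgroup G) = P
  hP : Nat.card P = 9
  hK : Nat.card K = 8
  comm : ∀ a ∈ P, ∀ b ∈ P, a * b = b * a
  ord : ∀ a ∈ P, a ≠ 1 → orderOf a = 3
  norm : ∀ k ∈ K, ∀ a ∈ P, k * a * k⁻¹ ∈ P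
  fpf : ∀ k ∈ K, ∀ a ∈ P, Commute k a → k = 1 ∨ a = 1
  hN : Nat.card (normalizer (P : Set G)) = 72
  hz : z ∈ K
  zo : orderOf z = 2
  zuniq : ∀ k ∈ K, orderOf k = 2 → k = z
  zinv : ∀ a ∈ P, z * a * z⁻¹ = a⁻¹

theorem exists_loc [IsSimpleGroup G] (T : Table G) (hG : Nat.card G = 443520) : Nonempty (Loc G) := by
  haveI h3 : Fact (Nat.Prime 3) := ⟨Nat.prime_three⟩
  have : Fact (Nat.Prime 2) := ⟨Nat.prime_two⟩
  obtain ⟨P⟩ : Nonempty (Sylow 3 G) := inferInstance
  obtain ⟨hN, hfix⟩ := normalizer_card T hG P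
  have hc := sylow_three_card hG P
  set N := normalizer ((P : Subgroup G) : Set G)
  obtain ⟨K', hK'⟩ := Sylow.exists_subgroup_card_pow_prime (G := N) 2 (n := 3) (by rw [hN]; norm_num)
  set K := K'.map N.subtype with hKdef
  have hKc : Nat.card K = 8 := by rw [hKdef, Subgroup.card_map_of_injective N.subtype_injective, hK']; rfl
  have hKN : K ≤ N := Subgroup.map_subtype_le K'
  have fpf : ∀ k ∈ K, ∀ a ∈ (P : Subgroup G), Commute k a → k = 1 ∨ a = 1 := fun k hk a ha hka => by
    by_contra h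
    push Not at h
    have h8 := orderOf_dvd_natCard K hk
    have h9 := orderOf_dvd_natCard (P : Subgroup G) (hfix a ha h.2 k (hKN hk) hka)
    rw [hKc] at h8
    rw [hc] at h9
    exact h.1 (orderOf_eq_one_iff.mp (Nat.eq_one_of_dvd_one ((Nat.dvd_gcd h8 h9).trans (by norm_num))))
  have hnorm : ∀ k ∈ K, ∀ a ∈ (P : Subgroup G), k * a * k⁻¹ ∈ (P : Subgroup G) := fun k hk a ha =>
    (mem_normalizer_iff.mp (hKN hk) a).mp ha
  obtain ⟨⟨z, hz⟩, hzo⟩ := exists_prime_orderOf_dvd_card' (G := K) 2 (by rw [hKc]; norm_num)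
  rw [Subgroup.orderOf_mk] at hzo
  have hinv : ∀ k ∈ K, orderOf k = 2 → ∀ a ∈ (P : Subgroup G), k * a * k⁻¹ = a⁻¹ := fun k hk hko a ha => by
    have hk2 : k * k = 1 := by rw [← pow_two, ← hko, pow_orderOf_eq_one]
    have hki : k⁻¹ = k := inv_eq_of_mul_eq_one_right hk2
    have hb := hnorm k hk a ha
    rcases fpf k hk (a * (k * a * k⁻¹)) (mul_mem ha hb) (by
      show k * (a * (k * a * k⁻¹)) = a * (k * a * k⁻¹) * k
      conv_rhs => rw [sylow_three_comm hG P ha hb]
      rw [hki]; group) with e | e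
    · rw [e, orderOf_one] at hko; omega
    · exact (inv_eq_of_mul_eq_one_right e).symm
  refine ⟨⟨P, K, z, ⟨h3, P, rfl⟩, hc, hKc, fun a ha b hb => sylow_three_comm hG P ha hb,
    fun a ha h => sylow_three_order T hG P ha h, hnorm, fpf, hN, hz, hzo, fun k hk hko => ?_, hinv z hz hzo⟩⟩
  obtain ⟨a, ha, ha1, -⟩ := exists_basis T hG P
  have hcomm : Commute (z⁻¹ * k) a := by
    have h1 := hinv z hz hzo a ha
    have h2 := hinv k hk hko a ha
    show z⁻¹ * k * a = a * (z⁻¹ * k)
    calc z⁻¹ * k * a = z⁻¹ * (k * a * k⁻¹) * k := by group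
      _ = z⁻¹ * (z * a * z⁻¹) * k := by rw [h1, h2]
      _ = a * (z⁻¹ * k) := by group
  exact ((fpf _ (mul_mem (inv_mem hz) hk) a ha hcomm).resolve_right ha1 |> inv_mul_eq_one.mp).symm

namespace Loc

variable (L : Loc G)

/-- The normaliser of the Sylow subgroup. -/
def N : Subgroup G := normalizer (L.P : Set G)

theorem K_le : L.K ≤ L.N := fun k hk => mem_normalizer_of_le (L.norm k hk)

theorem P_le : L.P ≤ L.N := le_normalizer

theorem disjoint {g : G} (h1 : g ∈ L.P) (h2 : g ∈ L.K) : g = 1 := by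
  by_contra h
  have := L.hK ▸ orderOf_dvd_natCard L.K h2
  rw [L.ord g h1 h] at this
  norm_num at this

theorem exists_decomp {n : G} (hn : n ∈ L.N) : ∃ s ∈ L.P, ∃ k ∈ L.K, n = s * k := by
  have hinj : Function.Injective fun p : L.P × L.K => (⟨p.1 * p.2, mul_mem (L.P_le p.1.2) (L.K_le p.2.2)⟩ : L.N) := by
    rintro ⟨⟨a, ha⟩, ⟨k, hk⟩⟩ ⟨⟨b, hb⟩, ⟨l, hl⟩⟩ e
    have e' : a * k = b * l := congrArg Subtype.val e
    have h1 : b⁻¹ * a = l * k⁻¹ := by
      calc b⁻¹ * a = b⁻¹ * (a * k) * k⁻¹ := by group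
        _ = l * k⁻¹ := by rw [e']; group
    have h2 := L.disjoint (mul_mem (inv_mem hb) ha) (h1 ▸ mul_mem hl (inv_mem hk))
    rw [h2] at h1
    simp only [Prod.mk.injEq, Subtype.mk.injEq]
    exact ⟨(inv_mul_eq_one.mp h2).symm, (mul_inv_eq_one.mp h1.symm).symm⟩
  have hbij := (Nat.bijective_iff_injective_and_card _).mpr ⟨hinj, by
    rw [Nat.card_prod, L.hP, L.hK]; exact L.hN.symm⟩
  obtain ⟨⟨a, k⟩, e⟩ := hbij.2 ⟨n, hn⟩
  exact ⟨a, a.2, k, k.2, (congrArg Subtype.val e).symm⟩

theorem z_comm {k : G} (hk : k ∈ L.K) : Commute k L.z := by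
  have h := L.zuniq (k * L.z * k⁻¹) (mul_mem (mul_mem hk L.hz) (inv_mem hk))
    (by rw [← L.zo]; exact MulEquiv.orderOf_eq (MulAut.conj k) L.z)
  exact mul_inv_eq_iff_eq_mul.mp h

theorem mem_K_of_comm {n : G} (hn : n ∈ L.N) (hc : Commute n L.z) : n ∈ L.K := by
  obtain ⟨s, hs, k, hk, rfl⟩ := L.exists_decomp hn
  have h1 : Commute s L.z := by
    have := hc.mul_left ((L.z_comm hk).inv_left)
    rwa [mul_inv_cancel_right] at this
  have h2 : s = s⁻¹ := by
    rw [← L.zinv s hs, ← h1.eq, mul_inv_cancel_right]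
  by_cases hs1 : s = 1
  · rw [hs1, one_mul]; exact hk
  · exfalso
    have h3 : s ^ 2 = 1 := by rw [pow_two]; exact eq_inv_iff_mul_eq_one.mp h2
    have := orderOf_dvd_of_pow_eq_one h3
    rw [L.ord s hs hs1] at this
    norm_num at this

theorem orders_K {k : G} (hk : k ∈ L.K) : k = 1 ∨ k = L.z ∨ orderOf k = 4 ∨ orderOf k = 8 := by
  have h := L.hK ▸ orderOf_dvd_natCard L.K hk
  obtain ⟨i, hi, hi'⟩ := (Nat.dvd_prime_pow Nat.prime_two).mp (show orderOf k ∣ 2 ^ 3 by simpa using h)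
  interval_cases i
  · exact Or.inl (orderOf_eq_one_iff.mp (by simpa using hi'))
  · exact Or.inr (Or.inl (L.zuniq k hk (by simpa using hi')))
  · exact Or.inr (Or.inr (Or.inl (by simpa using hi')))
  · exact Or.inr (Or.inr (Or.inr (by simpa using hi')))

theorem sq_eq_z {k : G} (hk : k ∈ L.K) (h : orderOf k = 4) : k * k = L.z :=
  L.zuniq _ (mul_mem hk hk) (by rw [← pow_two, orderOf_pow, h]; rfl)

/-- Either the complement is cyclic or it is a quaternion group. -/
theorem cases : (∃ c ∈ L.K, orderOf c = 8) ∨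
    ((∀ k ∈ L.K, k ≠ 1 → k ≠ L.z → orderOf k = 4) ∧ ∃ a ∈ L.K, ∃ b ∈ L.K, orderOf a = 4 ∧ orderOf b = 4 ∧
      b ∉ zpowers a ∧ b * a * b⁻¹ = a⁻¹ ∧ ∀ k ∈ L.K, k ∈ zpowers a ∨ b⁻¹ * k ∈ zpowers a) := by
  by_cases h8 : ∃ c ∈ L.K, orderOf c = 8
  · exact Or.inl h8
  right
  push Not at h8
  have h4 : ∀ k ∈ L.K, k ≠ 1 → k ≠ L.z → orderOf k = 4 := fun k hk h1 h2 => by
    rcases L.orders_K hk with h | h | h | h
    exacts [absurd h h1, absurd h h2, h, absurd h (h8 k hk)]
  refine ⟨h4, ?_⟩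
  have hz1 : L.z ≠ 1 := fun e => by have := L.zo; rw [e, orderOf_one] at this; omega
  obtain ⟨a, ha, ha'⟩ : ∃ a ∈ L.K, a ∉ ({1, L.z} : Finset G) := by
    by_contra h
    push Not at h
    have hle := Finset.card_le_card (show els L.K ⊆ {1, L.z} from fun x hx => h x (mem_els.mp hx))
    rw [card_els, L.hK] at hle
    exact absurd (hle.trans Finset.card_le_two) (by norm_num)
  simp only [Finset.mem_insert, Finset.mem_singleton, not_or] at ha'
  have hao := h4 a ha ha'.1 ha'.2
  have haz : L.z ∈ zpowers a := L.sq_eq_z ha hao ▸ mul_mem (mem_zpowers a) (mem_zpowers a)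
  have hAK : zpowers a ≤ L.K := zpowers_le.mpr ha
  obtain ⟨b, hb, hb'⟩ : ∃ b ∈ L.K, b ∉ zpowers a := by
    by_contra h
    push Not at h
    have hle := card_dvd_of_le (show L.K ≤ zpowers a from h)
    rw [L.hK, Nat.card_zpowers, hao] at hle
    norm_num at hle
  have hbo := h4 b hb (fun e => hb' (e ▸ one_mem _)) (fun e => hb' (e ▸ haz))
  have hi2 : ((zpowers a).subgroupOf L.K).index = 2 := by
    have h := ((zpowers a).subgroupOf L.K).index_mul_card
    rw [Nat.card_congr (subgroupOfEquivOfLe hAK).toEquiv, L.hK, Nat.card_zpowers, hao] at h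
    omega
  have hcos : ∀ k ∈ L.K, k ∈ zpowers a ∨ b⁻¹ * k ∈ zpowers a := fun k hk => by
    refine or_iff_not_imp_left.mpr fun hka => ?_
    have h := (Subgroup.mul_mem_iff_of_index_two hi2 (a := (⟨b, hb⟩ : L.K)⁻¹) (b := ⟨k, hk⟩)).mpr (by
      rw [Subgroup.inv_mem_iff]
      simp [Subgroup.mem_subgroupOf, hb', hka])
    simpa [Subgroup.mem_subgroupOf] using h
  refine ⟨a, ha, b, hb, hao, hbo, hb', ?_, hcos⟩
  have : ((zpowers a).subgroupOf L.K).Normal := normal_of_index_eq_two hi2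
  have hmem : b * a * b⁻¹ ∈ zpowers a :=
    Subgroup.mem_subgroupOf.mp (this.conj_mem ⟨a, ha⟩ (Subgroup.mem_subgroupOf.mpr (mem_zpowers a)) ⟨b, hb⟩)
  rw [← mem_powers_iff_mem_zpowers] at hmem
  obtain ⟨j, hj : a ^ j = b * a * b⁻¹⟩ := hmem
  have hord : orderOf (a ^ j) = 4 := by rw [hj, ← hao]; exact MulEquiv.orderOf_eq (MulAut.conj b) a
  rw [← pow_mod_orderOf, hao] at hj hord
  have hj4 : j % 4 < 4 := Nat.mod_lt _ (by norm_num)
  interval_cases hjm : j % 4
  · rw [pow_zero, orderOf_one] at hord; omega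
  · exfalso
    rw [pow_one] at hj
    have hc : Commute b a := mul_inv_eq_iff_eq_mul.mp hj.symm
    have h1 : (b * a) * (b * a) = 1 := by
      calc b * a * (b * a) = b * (a * b) * a := by group
        _ = b * b * (a * a) := by rw [← hc.eq]; group
        _ = 1 := by rw [L.sq_eq_z hb hbo, L.sq_eq_z ha hao, ← pow_two, ← L.zo, pow_orderOf_eq_one]
    have hba : b * a ∈ zpowers a := by
      by_cases e : b * a = 1
      · rw [e]; exact one_mem _
      · rw [L.zuniq _ (mul_mem hb ha) (orderOf_eq_prime (by rw [pow_two]; exact h1) e)]; exact haz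
    exact hb' ((Subgroup.mul_mem_cancel_right _ (mem_zpowers a)).mp hba)
  · rw [orderOf_pow, hao] at hord; norm_num at hord
  · rw [← hj]
    exact eq_inv_of_mul_eq_one_left (by rw [← pow_succ, show 3 + 1 = orderOf a from hao.symm, pow_orderOf_eq_one])

end Loc

end CfsgLib.KGroups.M22Three
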