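import Cfsg.Agent.Lib.KGroups.M22Congr
import Cfsg.Agent.Lib.KGroups.M22Search

/-!
# Integral columns and square root counts in a simple group of order 443520
-/

set_option autoImplicit false

namespace CfsgLib.KGroups.M22Values

open Cfsg CfsgLib.Blocks CfsgLib.KGroups.M11Tools CfsgLib.KGroups.M12Tools CfsgLib.KGroups.M12Classes
  CfsgLib.KGroups.M22Table CfsgLib.KGroups.M22Congr CfsgLib.KGroups.M22Search Subgroup
open CfsgLib.SmallGroups
open scoped Classical

variable {G : Type*} [Group G] [Fintype G] (T : Table G)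

theorem gal_degree (σ : ℂ ≃+* ℂ) (i : Fin 12) :
    ∃ j, DegreeTools.Rationality.galIrr σ (T.irr i) = T.irr j ∧ degs j = degs i := by
  refine ⟨T.irr.symm (DegreeTools.Rationality.galIrr σ (T.irr i)), (T.irr.apply_symm_apply _).symm, ?_⟩
  rw [← T.deg, ← T.deg i, T.irr.apply_symm_apply, degree_galIrr]

theorem single_degree : ∀ i ∈ ([0, 1, 4, 5, 6, 7, 8, 11] : List (Fin 12)), ∀ j, degs j = degs i → j = i := by
  decide +kernel

theorem pair_degree : ∀ p ∈ ([(2, 3), (9, 10)] : List (Fin 12 × Fin 12)), ∀ j,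
    degs j = degs p.1 → j = p.1 ∨ j = p.2 := by
  decide +kernel

theorem pair_degree' : ∀ p ∈ ([(2, 3), (9, 10)] : List (Fin 12 × Fin 12)), degs p.2 = degs p.1 ∧ p.1 ≠ p.2 := by
  decide +kernel

theorem int_single {i : Fin 12} (hi : i ∈ ([0, 1, 4, 5, 6, 7, 8, 11] : List (Fin 12))) (g : G) :
    ∃ n : ℤ, (T.irr i : G → ℂ) g = n := by
  obtain ⟨n, hn⟩ := exists_int_sum {T.irr i} (fun σ χ hχ => by
    rw [Finset.mem_singleton] at hχ ⊢
    subst hχ
    obtain ⟨j, hj, hd⟩ := gal_degree T σ i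
    rw [hj, single_degree i hi j hd]) g
  exact ⟨n, by rw [← hn, Finset.sum_singleton]⟩

theorem int_pair_sum {p : Fin 12 × Fin 12} (hp : p ∈ ([(2, 3), (9, 10)] : List (Fin 12 × Fin 12))) (g : G) :
    ∃ n : ℤ, (T.irr p.1 : G → ℂ) g + (T.irr p.2 : G → ℂ) g = n := by
  obtain ⟨n, hn⟩ := exists_int_sum {T.irr p.1, T.irr p.2} (fun σ χ hχ => by
    rw [Finset.mem_insert, Finset.mem_singleton] at hχ ⊢
    rcases hχ with rfl | rfl
    · obtain ⟨j, hj, hd⟩ := gal_degree T σ p.1
      rw [hj]
      rcases pair_degree p hp j hd with rfl | rfl <;> simp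
    · obtain ⟨j, hj, hd⟩ := gal_degree T σ p.2
      rw [hj]
      rcases pair_degree p hp j (hd.trans (pair_degree' p hp).1) with rfl | rfl <;> simp) g
  refine ⟨n, ?_⟩
  rwa [Finset.sum_pair (T.irr.injective.ne (pair_degree' p hp).2)] at hn

theorem int_pair {p : Fin 12 × Fin 12} (hp : p ∈ ([(2, 3), (9, 10)] : List (Fin 12 × Fin 12))) {g : G}
    (heq : (T.irr p.1 : G → ℂ) g = (T.irr p.2 : G → ℂ) g) :
    ∃ n : ℤ, (T.irr p.1 : G → ℂ) g = n ∧ (T.irr p.2 : G → ℂ) g = n := by
  obtain ⟨m, hm⟩ := int_pair_sum T hp g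
  rw [← heq] at hm
  obtain ⟨n, hn⟩ := exists_int_value (T.irr p.1) g (q := (m : ℚ) / 2) (by push_cast; linear_combination hm / 2)
  exact ⟨n, hn, heq ▸ hn⟩

theorem fin_cases_twelve : ∀ i : Fin 12,
    i ∈ ([0, 1, 4, 5, 6, 7, 8, 11] : List (Fin 12)) ∨ i = 2 ∨ i = 3 ∨ i = 9 ∨ i = 10 := by
  decide +kernel

theorem int_all {g : G} (h7 : ¬ 7 ∣ orderOf g) (h11 : ¬ 11 ∣ orderOf g) (i : Fin 12) :
    ∃ n : ℤ, (T.irr i : G → ℂ) g = n := by
  rcases fin_cases_twelve i with h | rfl | rfl | rfl | rfl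
  · exact int_single T h g
  · obtain ⟨n, h1, -⟩ := int_pair T (p := (2, 3)) (by simp) (T.agree_seven g h7); exact ⟨n, h1⟩
  · obtain ⟨n, -, h1⟩ := int_pair T (p := (2, 3)) (by simp) (T.agree_seven g h7); exact ⟨n, h1⟩
  · obtain ⟨n, h1, -⟩ := int_pair T (p := (9, 10)) (by simp) (T.agree_eleven g h11); exact ⟨n, h1⟩
  · obtain ⟨n, -, h1⟩ := int_pair T (p := (9, 10)) (by simp) (T.agree_eleven g h11); exact ⟨n, h1⟩

/-- The column at an element, as integers. -/
noncomputable def col (g : G) : Fin 12 → ℤ := fun i =>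
  if h : ∃ n : ℤ, (T.irr i : G → ℂ) g = n then h.choose else 0

/-- An element of order prime to 385. -/
def Reg (g : G) : Prop := ¬ 5 ∣ orderOf g ∧ ¬ 7 ∣ orderOf g ∧ ¬ 11 ∣ orderOf g

theorem reg_of_dvd {g : G} {n : ℕ} (hn : orderOf g ∣ n) (h5 : ¬ 5 ∣ n) (h7 : ¬ 7 ∣ n) (h11 : ¬ 11 ∣ n) : Reg g :=
  ⟨fun h => h5 (h.trans hn), fun h => h7 (h.trans hn), fun h => h11 (h.trans hn)⟩

theorem reg_pow {g : G} (hg : Reg g) (k : ℕ) : Reg (g ^ k) :=
  reg_of_dvd (orderOf_pow_dvd k) hg.1 hg.2.1 hg.2.2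

variable {T}

theorem col_spec {g : G} (hg : Reg g) (i : Fin 12) : (T.irr i : G → ℂ) g = (col T g i : ℂ) := by
  rw [col, dif_pos (int_all T hg.2.1 hg.2.2 i)]
  exact (int_all T hg.2.1 hg.2.2 i).choose_spec

theorem col_eq {g : G} (hg : Reg g) {i : Fin 12} {k : ℤ} (h : (T.irr i : G → ℂ) g = k) : col T g i = k := by
  exact_mod_cast (col_spec hg i).symm.trans h

theorem col_zero {g : G} (hg : Reg g) : col T g 0 = 1 :=
  col_eq hg (by rw [T.triv, trivChar_apply]; norm_num)

theorem col_one : col T (1 : G) = fun i => (degs i : ℤ) := funext fun i =>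
  col_eq (reg_of_dvd (n := 1) (by rw [orderOf_one]) (by norm_num) (by norm_num) (by norm_num))
    (by rw [irr_one_eq, T.deg]; norm_num)

theorem t_reg : Reg T.t := reg_of_dvd (n := 2) (by rw [T.ht]) (by norm_num) (by norm_num) (by norm_num)

theorem col_t : col T T.t = tcol := funext fun i => col_eq t_reg (T.t_val i)

theorem col_conj {g h : G} (hg : Reg g) (hh : Reg h) (e : IsConj g h) : col T g = col T h :=
  funext fun i => col_eq hg ((value_conj _ e).trans (col_spec hh i))

theorem col_dot {g h : G} (hg : Reg g) (hh : Reg h) (hne : ¬ IsConj g h) : dot (col T g) (col T h) = 0 := by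
  have hf : ∀ χ : IrrCharacter G, (χ : G → ℂ) g = (col T g (T.irr.symm χ) : ℂ) := fun χ => by
    rw [← col_spec hg, T.irr.apply_symm_apply]
  have hf' : ∀ χ : IrrCharacter G, (χ : G → ℂ) h = (col T h (T.irr.symm χ) : ℂ) := fun χ => by
    rw [← col_spec hh, T.irr.apply_symm_apply]
  have h1 := orth_zero hne hf hf'
  rw [T.sum_eq] at h1
  simp only [Equiv.symm_apply_apply] at h1
  exact h1

theorem card_centralizer_col {g : G} (hg : Reg g) :
    (Nat.card (centralizer ({g} : Set G)) : ℤ) = M22Search.sq (col T g) := by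
  have hf : ∀ χ : IrrCharacter G, (χ : G → ℂ) g = (col T g (T.irr.symm χ) : ℂ) := fun χ => by
    rw [← col_spec hg, T.irr.apply_symm_apply]
  have h1 := col_sq hf
  rw [T.sum_eq] at h1
  simp only [Equiv.symm_apply_apply] at h1
  exact h1.symm

theorem conj_of_dot {g h : G} (hg : Reg g) (hh : Reg h) (hne : dot (col T g) (col T h) ≠ 0) : IsConj g h := by
  by_contra hc
  exact hne (col_dot hg hh hc)

theorem conj_of_col {g h : G} (hg : Reg g) (hh : Reg h) (e : col T g = col T h) : IsConj g h :=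
  conj_of_dot hg hh (by
    rw [← e]
    have h1 := card_centralizer_col (T := T) hg
    have h2 : 0 < Nat.card (centralizer ({g} : Set G)) := Nat.card_pos
    simp only [M22Search.sq] at h1
    omega)

/-- An element of order prime to 385, other than the identity and the involutions, has a four-parameter column. -/
theorem col_form {g : G} (hg : Reg g) (h1 : orderOf g ≠ 1) (h2 : orderOf g ≠ 2) :
    col T g = colOf (col T g 1) (col T g 2) (col T g 5) (col T g 7) := by
  have r5 := T.rel_five g hg.1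
  have r7 := T.rel_seven g hg.2.1
  have r11 := T.rel_eleven g hg.2.2
  have a7 := T.agree_seven g hg.2.1
  have a11 := T.agree_eleven g hg.2.2
  simp only [col_spec hg] at r5 r7 r11 a7 a11
  norm_cast at r5 r7 r11 a7 a11
  have o1 := col_dot (T := T) hg (reg_of_dvd (g := (1 : G)) (n := 1) (by rw [orderOf_one]) (by norm_num)
    (by norm_num) (by norm_num)) (not_conj_order (by rw [orderOf_one]; exact h1))
  have ot := col_dot (T := T) hg t_reg (not_conj_order (by rw [T.ht]; exact h2))
  rw [col_one] at o1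
  rw [col_t] at ot
  have h0 := col_zero (T := T) hg
  simp [dot, Fin.sum_univ_succ, degs, tcol] at o1 ot
  funext i
  fin_cases i <;> simp [colOf] <;> omega

/-- The centraliser order divides the group order, prime to the degree where it matters. -/
theorem degree_dvd (hG : Nat.card G = 443520) {g : G} (hg : Reg g) (i : Fin 12) :
    ((degs i : ℕ) : ℤ) ∣ 443520 / M22Search.sq (col T g) * col T g i := by
  have h := degree_dvd_index_mul (T.irr i) g (col_spec hg i)
  rw [T.deg] at h
  have hi := (centralizer ({g} : Set G)).index_mul_card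
  rw [hG] at hi
  rwa [← card_centralizer_col hg, show (443520 : ℤ) / (Nat.card (centralizer ({g} : Set G)) : ℤ) =
    ((centralizer ({g} : Set G)).index : ℤ) from by
      rw [show (443520 : ℤ) = ((centralizer ({g} : Set G)).index : ℤ) *
        (Nat.card (centralizer ({g} : Set G)) : ℤ) by exact_mod_cast hi.symm,
        Int.mul_ediv_cancel _ (Nat.cast_ne_zero.mpr Nat.card_pos.ne')]]

theorem sq_le (v : Fin 12 → ℤ) (i : Fin 12) : v i * v i ≤ M22Search.sq v :=
  Finset.single_le_sum (f := fun j => v j * v j) (fun j _ => mul_self_nonneg (v j)) (Finset.mem_univ i)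

theorem abs_le {x : ℤ} {n : ℕ} (h : x * x < ((n : ℤ) + 1) * ((n : ℤ) + 1)) : -(n : ℤ) ≤ x ∧ x ≤ n :=
  ⟨by by_contra hc; nlinarith, by by_contra hc; nlinarith⟩

theorem mod_two_col {g : G} (hg : Reg g) (i : Fin 12) : (col T g i - col T (g ^ 2) i) % 2 = 0 :=
  mod_two _ g (col_spec hg i) (col_spec (reg_pow hg 2) i)

theorem mod_three_col {g : G} (hg : Reg g) (i : Fin 12) : (col T g i - col T (g ^ 3) i) % 3 = 0 :=
  mod_three _ g (col_spec hg i) (col_spec (reg_pow hg 3) i)

variable (T) [IsSimpleGroup G]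

theorem not_comm (hG : Nat.card G = 443520) : ¬ IsMulCommutative G :=
  SimpleTools.not_comm_of_card (by rw [hG]; norm_num)

/-- The two pairs of conjugate characters are not real. -/
theorem nu_pair {p : Fin 12 × Fin 12} (hp : p ∈ ([(2, 3), (9, 10)] : List (Fin 12 × Fin 12))) {x : G} {n : ℕ}
    (hN : Nat.card (normalizer ((zpowers x : Subgroup G) : Set G)) = n) (hn : ¬ 2 ∣ n) (hx : x ^ 2 ≠ 1)
    (hint : ∀ i, i ≠ p.1 → i ≠ p.2 → ∃ m : ℤ, (T.irr i : G → ℂ) x = m) :
    nu (T.irr p.1) = 0 ∧ nu (T.irr p.2) = 0 := by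
  obtain ⟨χ, hχ⟩ := exists_nonreal (not_conj_inv hN hn hx)
  obtain ⟨i, rfl⟩ := T.irr.surjective χ
  obtain ⟨m, hm⟩ := int_pair_sum T hp x
  have him := congrArg Complex.im hm
  simp at him
  have hi : i = p.1 ∨ i = p.2 := by
    by_contra h
    push Not at h
    obtain ⟨k, hk⟩ := hint i h.1 h.2
    rw [hk] at hχ
    simp at hχ
  refine ⟨(nu_eq_zero_iff _).mpr ⟨x, ?_⟩, (nu_eq_zero_iff _).mpr ⟨x, ?_⟩⟩ <;> rcases hi with rfl | rfl <;>
    intro h0 <;> apply hχ <;> linarith

/-- The Frobenius-Schur indicators. -/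
theorem nu_values (hG : Nat.card G = 443520) : nu (T.irr 2) = 0 ∧ nu (T.irr 3) = 0 ∧ nu (T.irr 9) = 0 ∧
    nu (T.irr 10) = 0 ∧ ∀ i ∈ ([0, 1, 4, 5, 6, 7, 8, 11] : List (Fin 12)), nu (T.irr i) = 1 := by
  haveI : Fact (Nat.Prime 7) := ⟨by norm_num⟩
  haveI : Fact (Nat.Prime 11) := ⟨by norm_num⟩
  obtain ⟨x, hx⟩ := exists_prime_orderOf_dvd_card' (G := G) 7 (by rw [hG]; norm_num)
  obtain ⟨y, hy⟩ := exists_prime_orderOf_dvd_card' (G := G) 11 (by rw [hG]; norm_num)
  obtain ⟨n2, n3⟩ := nu_pair T (p := (2, 3)) (by simp) (T.norm_seven x hx) (by norm_num)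
    (fun e => by have := orderOf_dvd_of_pow_eq_one e; rw [hx] at this; norm_num at this) fun i h2 h3 => by
      rcases fin_cases_twelve i with h | rfl | rfl | rfl | rfl
      · exact int_single T h x
      · exact absurd rfl h2
      · exact absurd rfl h3
      · obtain ⟨m, h1, -⟩ := int_pair T (p := (9, 10)) (by simp) (T.agree_eleven x (by rw [hx]; norm_num))
        exact ⟨m, h1⟩
      · obtain ⟨m, -, h1⟩ := int_pair T (p := (9, 10)) (by simp) (T.agree_eleven x (by rw [hx]; norm_num))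
        exact ⟨m, h1⟩
  obtain ⟨n9, n10⟩ := nu_pair T (p := (9, 10)) (by simp) (T.norm_eleven y hy) (by norm_num)
    (fun e => by have := orderOf_dvd_of_pow_eq_one e; rw [hy] at this; norm_num at this) fun i h2 h3 => by
      rcases fin_cases_twelve i with h | rfl | rfl | rfl | rfl
      · exact int_single T h y
      · obtain ⟨m, h1, -⟩ := int_pair T (p := (2, 3)) (by simp) (T.agree_seven y (by rw [hy]; norm_num))
        exact ⟨m, h1⟩
      · obtain ⟨m, -, h1⟩ := int_pair T (p := (2, 3)) (by simp) (T.agree_seven y (by rw [hy]; norm_num))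
        exact ⟨m, h1⟩
      · exact absurd rfl h2
      · exact absurd rfl h3
  refine ⟨n2, n3, n9, n10, ?_⟩
  have hn : ∀ i, ∃ k : ℤ, nu (T.irr i) = k ∧ k ≤ 1 := fun i => by
    rcases nu_cases (T.irr i) with h | h | h
    · exact ⟨0, by simpa using h, by norm_num⟩
    · exact ⟨1, by simpa using h, le_rfl⟩
    · exact ⟨-1, by simpa using h, by norm_num⟩
  choose k hk hk1 using hn
  have hI : Nat.card {s : G // s * s = 1} = 1156 := by
    have hset : (Finset.univ.filter fun s : G => s * s = 1) =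
        insert 1 (Finset.univ.filter fun s : G => IsConj s T.t) := by
      ext s
      simp only [Finset.mem_filter, Finset.mem_univ, true_and, Finset.mem_insert]
      constructor
      · intro h
        by_cases h1 : s = 1
        · exact Or.inl h1
        · exact Or.inr (T.inv_conj s (orderOf_eq_prime (by rw [pow_two]; exact h) h1)).symm
      · rintro (rfl | h)
        · exact mul_one 1
        · obtain ⟨c, rfl⟩ := isConj_iff.mp h.symm
          rw [show c * T.t * c⁻¹ * (c * T.t * c⁻¹) = c * (T.t * T.t) * c⁻¹ by group, ← pow_two T.t, ← T.ht,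
            pow_orderOf_eq_one]
          group
    rw [Nat.card_eq_fintype_card, Fintype.card_subtype, hset, Finset.card_insert_of_notMem (by
      simp only [Finset.mem_filter, Finset.mem_univ, true_and]
      intro h
      have := T.ht
      rw [isConj_one_right.mp h, orderOf_one] at this
      omega), ← Fintype.card_subtype, ← Nat.card_eq_fintype_card, CfsgLib.Char.card_isConj_eq_index]
    have := (centralizer ({T.t} : Set G)).index_mul_card
    rw [hG, T.card_t] at this
    omega
  have h1 := card_sqrt_eq (1 : G)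
  rw [hI, T.sum_eq, Finset.sum_congr rfl (g := fun i => ((k i * degs i : ℤ) : ℂ)) fun i _ => by
    rw [hk, irr_one_eq, T.deg]; push_cast; rfl, ← Int.cast_sum] at h1
  have h1' : ∑ i, k i * (degs i : ℤ) = 1156 := by exact_mod_cast h1.symm
  have z2 : k 2 = 0 := by exact_mod_cast (hk 2).symm.trans n2
  have z3 : k 3 = 0 := by exact_mod_cast (hk 3).symm.trans n3
  have z9 : k 9 = 0 := by exact_mod_cast (hk 9).symm.trans n9
  have z10 : k 10 = 0 := by exact_mod_cast (hk 10).symm.trans n10
  simp [Fin.sum_univ_succ, degs] at h1'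
  have b0 := hk1 0
  have b1 := hk1 1
  have b4 := hk1 4
  have b5 := hk1 5
  have b6 := hk1 6
  have b7 := hk1 7
  have b8 := hk1 8
  have b11 := hk1 11
  intro i hi
  rw [hk, show k i = 1 by
    simp only [List.mem_cons, List.not_mem_nil, or_false] at hi
    rcases hi with rfl | rfl | rfl | rfl | rfl | rfl | rfl | rfl <;> omega]
  norm_num

/-- The number of square roots of an element of order prime to 385. -/
theorem card_roots (hG : Nat.card G = 443520) {g : G} (hg : Reg g) :
    (Nat.card {s : G // s * s = g} : ℤ) = rootsOf (col T g) := by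
  obtain ⟨n2, n3, n9, n10, h1⟩ := nu_values T hG
  have h := card_sqrt_eq g
  rw [T.sum_eq] at h
  apply Int.cast_injective (α := ℂ)
  rw [Int.cast_natCast, h]
  simp [Fin.sum_univ_succ, rootsOf, col_spec hg, n2, n3, n9, n10, h1]
  ring

end CfsgLib.KGroups.M22Values
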