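import Cfsg.Agent.Lib.KGroups.M22Tools
import Cfsg.Agent.Lib.KGroups.M22Frame

/-!
# Degrees and local data in a simple group of order 10200960

The possible degrees in the principal 23-block, and the principal block data at a self-centralising Sylow
subgroup of prime order.
-/

set_option autoImplicit false

namespace CfsgLib.KGroups.M23Base

open Cfsg CfsgLib.Blocks CfsgLib.KGroups.M11Tools CfsgLib.KGroups.M12Tools CfsgLib.KGroups.M12Local
  CfsgLib.KGroups.M22Tools CfsgLib.KGroups.M22Frame Subgroup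
open CfsgLib.SmallGroups
open scoped Classical

/-- The signed degrees congruent to their sign mod 23. -/
def xdegs : List ℤ := [-22, 24, -45, 70, -160, 231, -252, -528, 576, -896, 990, -1540, 1680]

/-- The degrees congruent to ±11 mod 23. -/
def ydegs : List ℕ := [11, 12, 35, 80, 126, 264, 288, 448, 495, 770, 840, 1760, 1920, 2772]

/-- The signed degrees congruent to their sign mod 11 and to 0, ±1 or ±11 mod 23. -/
def xdegs11 : List ℤ := [12, 23, 45, -230, -252, 276, -483, -736, 1035, 1288, -2760]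

/-- The orders of the Sylow normaliser and centraliser. -/
def NormData (G : Type*) [Group G] (p n c : ℕ) : Prop :=
  ∀ P : Sylow p G, Nat.card (normalizer ((P : Subgroup G) : Set G)) = n ∧
    Nat.card (centralizer ((P : Subgroup G) : Set G)) = c

variable {G : Type*} [Group G] [Fintype G]

/-- The principal block at a self-centralising Sylow subgroup of order `p`. -/
structure LocalData (G : Type*) [Group G] [Fintype G] (p e : ℕ) [Fact p.Prime] where
  P : Sylow p G
  F : Frame p e P
  hS : SectionZero F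
  hP : Nat.card (P : Subgroup G) = p
  hC : Nat.card (centralizer ((P : Subgroup G) : Set G)) = p
  hN : Nat.card (normalizer ((P : Subgroup G) : Set G)) = e * p

variable [IsSimpleGroup G]

theorem exists_localData {p e : ℕ} [Fact p.Prime] (hodd : p ≠ 2) (hP : ∀ P : Sylow p G, Nat.card (P : Subgroup G) = p)
    (h : NormData G p (e * p) p) : Nonempty (LocalData G p e) := by
  obtain ⟨P⟩ : Nonempty (Sylow p G) := inferInstance
  obtain ⟨hN, hC⟩ := h P
  obtain ⟨F, hS⟩ := exists_frame_section (e := e) hodd P (hP P) (by rw [hN, hC])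
  exact ⟨⟨P, F, hS, hP P, hC, hN⟩⟩

variable (hG : Nat.card G = 10200960)

include hG in
theorem not_comm : ¬ IsMulCommutative G :=
  SimpleTools.not_comm_of_card (by rw [hG]; norm_num)

include hG in
theorem card_sylow {p : ℕ} [Fact p.Prime] (hp : p ∈ ([5, 7, 11, 23] : List ℕ)) (P : Sylow p G) :
    Nat.card (P : Subgroup G) = p :=
  (SimpleTools.card_sylow_subgroup (k := 1) (m := 10200960 / p)
    (by rw [hG]; fin_cases hp <;> norm_num) (by fin_cases hp <;> norm_num) P).trans (pow_one _)

omit [IsSimpleGroup G] in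
include hG in
theorem deg_le (χ : IrrCharacter G) : charDegree (χ : G → ℂ) ≤ 3193 := by
  have h : charDegree (χ : G → ℂ) ^ 2 ≤ 10200960 := by
    calc charDegree (χ : G → ℂ) ^ 2 ≤ ∑ η : IrrCharacter G, charDegree (η : G → ℂ) ^ 2 :=
          Finset.single_le_sum (f := fun η : IrrCharacter G => charDegree (η : G → ℂ) ^ 2)
            (fun _ _ => Nat.zero_le _) (Finset.mem_univ χ)
      _ = 10200960 := by rw [sum_deg_sq, hG]
  nlinarith

include hG in
theorem two_le_degree {χ : IrrCharacter G} (hne : χ ≠ trivChar G) : 2 ≤ charDegree (χ : G → ℂ) := by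
  have := charDegree_pos χ
  have : charDegree (χ : G → ℂ) ≠ 1 := fun h => hne (BlockDegrees.eq_trivChar (not_comm hG) χ h)
  omega

theorem degree_key : ∀ a ∈ Finset.range 3194, a ∣ 10200960 → 2 ≤ a →
    (a % 23 = 1 → (a : ℤ) ∈ xdegs) ∧ (a % 23 = 22 → -(a : ℤ) ∈ xdegs) ∧
      (a % 23 = 11 ∨ a % 23 = 12 → a ∈ ydegs) := by
  decide +kernel

include hG in
/-- The degree in the three kinds of residue mod 23. -/
theorem degree_mem {χ : IrrCharacter G} (hne : χ ≠ trivChar G) :
    (charDegree (χ : G → ℂ) % 23 = 1 → (charDegree (χ : G → ℂ) : ℤ) ∈ xdegs) ∧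
      (charDegree (χ : G → ℂ) % 23 = 22 → -(charDegree (χ : G → ℂ) : ℤ) ∈ xdegs) ∧
      (charDegree (χ : G → ℂ) % 23 = 11 ∨ charDegree (χ : G → ℂ) % 23 = 12 → charDegree (χ : G → ℂ) ∈ ydegs) :=
  degree_key _ (Finset.mem_range.mpr (by have := deg_le hG χ; omega)) (hG ▸ charDegree_dvd χ)
    (two_le_degree hG hne)

omit [IsSimpleGroup G] in
include hG in
theorem index_eq (g : G) :
    (centralizer ({g} : Set G)).index = 10200960 / Nat.card (centralizer ({g} : Set G)) := by
  have h := (centralizer ({g} : Set G)).index_mul_card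
  rw [hG] at h
  exact (Nat.div_eq_of_eq_mul_left Nat.card_pos h.symm).symm

include hG in
theorem theta_mem [Fact (Nat.Prime 23)] {P : Sylow 23 G} (F : Frame 23 11 P) {θ : IrrCharacter G} (hθ : θ ∈ F.Y) :
    θ ≠ trivChar G ∧ charDegree (θ : G → ℂ) ∈ ydegs ∧ F.Y.card = 2 := by
  have ht := F.triv_mem (by norm_num) (by norm_num) (by norm_num)
  have hne : θ ≠ trivChar G := fun h => Finset.disjoint_left.mp F.hdisj ht (h ▸ hθ)
  refine ⟨hne, (degree_mem hG hne).2.2 ?_, by rw [F.hY]⟩
  have h1 := F.hYd θ hθ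
  rw [Int.ModEq] at h1
  rcases F.hεy with e | e <;> rw [e] at h1 <;> push_cast at h1 <;> omega

include hG in
theorem signed_mem [Fact (Nat.Prime 23)] {P : Sylow 23 G} {e : ℕ} (F : Frame 23 e P) {χ : IrrCharacter G}
    (h : χ ∈ F.X') : F.sgn χ * (charDegree (χ : G → ℂ) : ℤ) ∈ xdegs := by
  obtain ⟨hX, hne⟩ := F.mem_X h
  have hm := F.hmod χ hX
  rw [Int.ModEq] at hm
  push_cast at hm
  rcases F.hsgn χ hX with e1 | e1 <;> rw [e1] at hm ⊢
  · rw [one_mul]; exact (degree_mem hG hne).1 (by omega)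
  · rw [neg_one_mul]; exact (degree_mem hG hne).2.1 (by omega)

omit [IsSimpleGroup G] in
/-- A member of the principal 23-block with normaliser order 253, and the other degrees. -/
theorem degree_split [Fact (Nat.Prime 23)] (D : LocalData G 23 11) (χ : IrrCharacter G) :
    χ = trivChar G ∨ χ ∈ D.F.X' ∨ χ ∈ D.F.Y ∨ 23 ∣ charDegree (χ : G → ℂ) := by
  by_cases hX : χ ∈ D.F.X
  · by_cases ht : χ = trivChar G
    · exact Or.inl ht
    · exact Or.inr (Or.inl (Finset.mem_erase.mpr ⟨ht, hX⟩))
  · refine Or.inr (Or.inr ?_)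
    by_cases hY : χ ∈ D.F.Y
    · exact Or.inl hY
    · exact Or.inr (M22Tools.rest_dvd D.F (by norm_num) (by norm_num) D.hP D.hC hX hY)

omit [IsSimpleGroup G] in
include hG in
theorem vanish_of_dvd {p : ℕ} (hp : p ∈ ([5, 7, 11, 23] : List ℕ)) {χ : IrrCharacter G}
    (h : p ∣ charDegree (χ : G → ℂ)) {g : G} (hg : p ∣ orderOf g) : (χ : G → ℂ) g = 0 :=
  vanish χ (show p.Prime by fin_cases hp <;> norm_num) (n := 1)
    (by rw [hG]; fin_cases hp <;> norm_num) (by rw [hG]; fin_cases hp <;> norm_num)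
    (by rw [pow_one]; exact h) hg

end CfsgLib.KGroups.M23Base
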