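import Mathlib

/-!
# The search for the principal 23-block of a simple group of order 10200960

Six unknown members from five signed degrees, the exceptional degree, and the values at a central involution.
-/

set_option autoImplicit false

namespace CfsgLib.KGroups.M23Check

/-- The signed sum of the block without the exceptional characters. -/
def ssum (n1 n2 n3 n4 n5 : ℕ) : ℤ :=
  -1881 - 22 * (n1 : ℤ) + 231 * (n2 : ℤ) - 528 * (n3 : ℤ) + 990 * (n4 : ℤ) - 1540 * (n5 : ℤ)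

/-- The exceptional degree. -/
def ydeg (n1 n2 n3 n4 n5 : ℕ) : ℕ := (ssum n1 n2 n3 n4 n5).natAbs

/-- The exceptional sign. -/
def ysgn (n1 n2 n3 n4 n5 : ℕ) : ℤ := if 0 < ssum n1 n2 n3 n4 n5 then 1 else -1

/-- The sum of the squares of the known degrees. -/
def qsum (n1 n2 n3 n4 n5 : ℕ) : ℕ :=
  1 + 4050 + 1605632 + 52900 + 1071225 + 484 * n1 + 53361 * n2 + 278784 * n3 + 980100 * n4 + 2371600 * n5 +
    2 * ydeg n1 n2 n3 n4 n5 ^ 2

/-- The conditions on the degrees. -/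
def optOK (n1 n2 n3 n4 n5 : ℕ) : Bool :=
  decide (n1 + n2 + n3 + n4 + n5 = 6) && decide (1 ≤ n2) &&
    decide (ydeg n1 n2 n3 n4 n5 ∈ [11, 264, 495, 770, 1760, 2772]) &&
    decide (qsum n1 n2 n3 n4 n5 + 2024 ^ 2 ≤ 10200960)

/-- The possible values at a central involution. -/
def al (C : ℕ) (B : ℤ) (v : ℕ) : List ℤ :=
  ((List.range 81).map fun i : ℕ => (i : ℤ) - 40).filter fun x =>
    decide (x.natAbs < v) && decide ((x - v) % 4 = 0) && decide (((10200960 / C : ℕ) : ℤ) * x % (v : ℤ) = 0) &&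
      decide (x * x ≤ B)

/-- Sums and sums of squares of `n` values. -/
def reach (B : ℤ) (l : List ℤ) : ℕ → List (ℤ × ℤ)
  | 0 => [(0, 0)]
  | n + 1 => (((reach B l n).flatMap fun p => l.map fun x => (p.1 + x, p.2 + x * x)).filter
      fun p => decide (p.2 ≤ B)).eraseDups

/-- The bound on the values outside the known part. -/
def bud (C : ℕ) (a b d : ℤ) : ℤ := (C : ℤ) - 1 - a * a - b * b - 484 - d * d

/-- The conditions at a central involution and the wanted conclusion. -/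
def leaf (C : ℕ) (a b d : ℤ) (n1 n2 n3 n4 n5 : ℕ) (p1 p2 p3 p4 p5 : ℤ × ℤ) : Bool :=
  let B := bud C a b d
  let y := ydeg n1 n2 n3 n4 n5
  let e := ysgn n1 n2 n3 n4 n5
  let x := e * (1 - a - b - p1.1 + p2.1 - p3.1 + p4.1 - p5.1)
  let Q := p1.2 + p2.2 + p3.2 + p4.2 + p5.2 + 2 * (x * x)
  let D := 1 + 45 * (a + b) + 5060 + 1035 * d + 22 * p1.1 + 231 * p2.1 + 528 * p3.1 + 990 * p4.1 +
    1540 * p5.1 + 2 * (y : ℤ) * x
  !(decide (Q ≤ B) && decide (x ∈ al C B y) &&
      decide (110880 - (a * a + b * b) * 2464 - p1.2 * 5040 + p2.2 * 480 - p3.2 * 210 + p4.2 * 112 - p5.2 * 72 -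
        e * (x * x) * ((110880 / y : ℕ) : ℤ) = 0) &&
      decide (D * D ≤ (10200960 - (qsum n1 n2 n3 n4 n5 : ℤ)) * (B - Q))) ||
    (decide (n1 = 1) && decide (n3 = 0) && decide (y = 770) && decide (p1.1 = 6))

/-- The complete search. -/
def search (C : ℕ) (a b d : ℤ) : Bool :=
  let B := bud C a b d
  (List.range 7).all fun n1 => (List.range 7).all fun n2 => (List.range 7).all fun n3 => (List.range 7).all fun n4 =>
    (List.range 7).all fun n5 => !optOK n1 n2 n3 n4 n5 ||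
      (reach B (al C B 22) n1).all fun p1 => (reach B (al C B 231) n2).all fun p2 =>
        (reach B (al C B 528) n3).all fun p3 => (reach B (al C B 990) n4).all fun p4 =>
          (reach B (al C B 1540) n5).all fun p5 => leaf C a b d n1 n2 n3 n4 n5 p1 p2 p3 p4 p5

set_option maxRecDepth 100000 in
set_option maxHeartbeats 2000000 in
theorem search_large : search 2688 (-3) (-3) 27 = true := by decide +kernel

set_option maxRecDepth 100000 in
set_option maxHeartbeats 2000000 in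
theorem search_small : search 896 (-3) 5 19 = true := by decide +kernel

theorem mem_al {C : ℕ} {B x : ℤ} {v : ℕ} (hB : B ≤ 1600) (h1 : x.natAbs < v) (h2 : (x - v) % 4 = 0)
    (h3 : (v : ℤ) ∣ ((10200960 / C : ℕ) : ℤ) * x) (h4 : x * x ≤ B) : x ∈ al C B v := by
  have h40 : -40 ≤ x ∧ x ≤ 40 := by constructor <;> nlinarith
  simp only [al, List.mem_filter, List.mem_map, List.mem_range, Bool.and_eq_true, decide_eq_true_eq]
  exact ⟨⟨(x + 40).toNat, by omega, by omega⟩, ⟨⟨h1, h2⟩, Int.emod_eq_zero_of_dvd h3⟩, h4⟩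

theorem mem_reach {α : Type*} [DecidableEq α] (s : Finset α) (f : α → ℤ) {B : ℤ} {l : List ℤ}
    (h : ∀ c ∈ s, f c ∈ l) (hB : ∑ c ∈ s, f c * f c ≤ B) :
    (∑ c ∈ s, f c, ∑ c ∈ s, f c * f c) ∈ reach B l s.card := by
  induction s using Finset.induction_on with
  | empty => simp [reach]
  | insert a s ha ih =>
    rw [Finset.sum_insert ha] at hB
    have hB' : ∑ c ∈ s, f c * f c ≤ B := by nlinarith [mul_self_nonneg (f a)]
    rw [Finset.card_insert_of_notMem ha, Finset.sum_insert ha, Finset.sum_insert ha, reach]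
    rw [List.mem_eraseDups, List.mem_filter, List.mem_flatMap]
    refine ⟨⟨_, ih (fun c hc => h c (Finset.mem_insert_of_mem hc)) hB', ?_⟩, ?_⟩
    · exact List.mem_map.mpr ⟨f a, h a (Finset.mem_insert_self a s), by simp only [Prod.mk.injEq]; constructor <;> ring⟩
    · simpa using hB

/-- The outcome of the search. -/
theorem unique {C : ℕ} {a b d : ℤ} (hs : search C a b d = true) {n1 n2 n3 n4 n5 : ℕ}
    (hn : n1 + n2 + n3 + n4 + n5 = 6) (hn2 : 1 ≤ n2)
    (hy : ydeg n1 n2 n3 n4 n5 ∈ [11, 264, 495, 770, 1760, 2772])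
    (hq : qsum n1 n2 n3 n4 n5 + 2024 ^ 2 ≤ 10200960) {p1 p2 p3 p4 p5 : ℤ × ℤ}
    (m1 : p1 ∈ reach (bud C a b d) (al C (bud C a b d) 22) n1)
    (m2 : p2 ∈ reach (bud C a b d) (al C (bud C a b d) 231) n2)
    (m3 : p3 ∈ reach (bud C a b d) (al C (bud C a b d) 528) n3)
    (m4 : p4 ∈ reach (bud C a b d) (al C (bud C a b d) 990) n4)
    (m5 : p5 ∈ reach (bud C a b d) (al C (bud C a b d) 1540) n5)
    {x : ℤ} (hx : x = ysgn n1 n2 n3 n4 n5 * (1 - a - b - p1.1 + p2.1 - p3.1 + p4.1 - p5.1))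
    (hQ : p1.2 + p2.2 + p3.2 + p4.2 + p5.2 + 2 * (x * x) ≤ bud C a b d)
    (hxm : x ∈ al C (bud C a b d) (ydeg n1 n2 n3 n4 n5))
    (hW : 110880 - (a * a + b * b) * 2464 - p1.2 * 5040 + p2.2 * 480 - p3.2 * 210 + p4.2 * 112 - p5.2 * 72 -
      ysgn n1 n2 n3 n4 n5 * (x * x) * ((110880 / ydeg n1 n2 n3 n4 n5 : ℕ) : ℤ) = 0)
    (hD : (1 + 45 * (a + b) + 5060 + 1035 * d + 22 * p1.1 + 231 * p2.1 + 528 * p3.1 + 990 * p4.1 +
        1540 * p5.1 + 2 * (ydeg n1 n2 n3 n4 n5 : ℤ) * x) ^ 2 ≤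
      (10200960 - (qsum n1 n2 n3 n4 n5 : ℤ)) *
        (bud C a b d - (p1.2 + p2.2 + p3.2 + p4.2 + p5.2 + 2 * (x * x)))) :
    n1 = 1 ∧ n3 = 0 ∧ ydeg n1 n2 n3 n4 n5 = 770 ∧ p1.1 = 6 := by
  simp only [search, List.all_eq_true, List.mem_range] at hs
  have h := hs n1 (by omega) n2 (by omega) n3 (by omega) n4 (by omega) n5 (by omega)
  rw [show optOK n1 n2 n3 n4 n5 = true by simp only [optOK, hn, hn2, hy, hq, decide_true, Bool.and_self]] at h
  simp only [Bool.not_true, Bool.false_or, List.all_eq_true] at h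
  have h' := h p1 m1 p2 m2 p3 m3 p4 m4 p5 m5
  subst hx
  rw [pow_two] at hD
  simp only [leaf, Bool.or_eq_true, Bool.and_eq_true, decide_eq_true_eq, Bool.not_eq_true'] at h'
  rcases h' with h' | h'
  · simp only [hQ, hxm, hW, hD, decide_true, Bool.and_self] at h'
    exact absurd h' (by decide)
  · exact ⟨h'.1.1.1, h'.1.1.2, h'.1.2, h'.2⟩

end CfsgLib.KGroups.M23Check
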