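import Cfsg.Agent.Lib.KGroups.M23Base
import Cfsg.Agent.Lib.KGroups.M23Check
import Cfsg.Agent.Lib.KGroups.M11Tools

/-!
# The principal 23-block of a simple group of order 10200960

From the principal 11-block and the values at a central involution: a single character of degree 22, and no
other degree up to 252 than 45, 230 and 231.
-/

set_option autoImplicit false

namespace CfsgLib.KGroups.M23Block

open Cfsg CfsgLib.Blocks CfsgLib.KGroups.M11Tools CfsgLib.KGroups.M12Tools CfsgLib.KGroups.M12Local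
  CfsgLib.KGroups.M22Tools CfsgLib.KGroups.M22Frame CfsgLib.KGroups.M23Base CfsgLib.KGroups.M23Check Subgroup
open CfsgLib.SmallGroups
open scoped Classical

theorem five_key : ∀ v ∈ xdegs, 11 ∣ v.natAbs → v ∈ ([-22, 231, -528, 990, -1540] : List ℤ) := by decide +kernel

theorem ydeg_key : ∀ y ∈ ydegs, 11 ∣ y → y ∈ ([11, 264, 495, 770, 1760, 2772] : List ℕ) := by decide +kernel

theorem ydeg_dvd : ∀ y ∈ ([11, 264, 495, 770, 1760, 2772] : List ℕ), y ∣ 110880 := by decide +kernel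

/-- The known part of the principal 11-block and a central involution. -/
structure Input (G : Type*) [Group G] [Fintype G] where
  a : IrrCharacter G
  b : IrrCharacter G
  c : IrrCharacter G
  d : IrrCharacter G
  u : IrrCharacter G
  w : IrrCharacter G
  nab : a ≠ b
  nuw : u ≠ w
  da : charDegree (a : G → ℂ) = 45
  db : charDegree (b : G → ℂ) = 45
  dc : charDegree (c : G → ℂ) = 230
  dd : charDegree (d : G → ℂ) = 1035
  du : charDegree (u : G → ℂ) = 896
  dw : charDegree (w : G → ℂ) = 896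
  cases : ∀ χ : IrrCharacter G, ¬ 11 ∣ charDegree (χ : G → ℂ) →
    χ = trivChar G ∨ χ = a ∨ χ = b ∨ χ = c ∨ χ = d ∨ χ = u ∨ χ = w
  e : IrrCharacter G
  de : charDegree (e : G → ℂ) = 231
  z : IrrCharacter G
  dz : charDegree (z : G → ℂ) = 2024
  t : G
  ht : orderOf t = 2
  C : ℕ
  hC : Nat.card (centralizer ({t} : Set G)) = C
  va : ℤ
  vb : ℤ
  vd : ℤ
  ha : (a : G → ℂ) t = va
  hb : (b : G → ℂ) t = vb
  hc : (c : G → ℂ) t = 22
  hd : (d : G → ℂ) t = vd
  hu : (u : G → ℂ) t = 0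
  hw : (w : G → ℂ) t = 0
  hcase : (C = 2688 ∧ va = -3 ∧ vb = -3 ∧ vd = 27) ∨ (C = 896 ∧ va = -3 ∧ vb = 5 ∧ vd = 19)

variable {G : Type*} [Group G] [Fintype G] [Fact (Nat.Prime 23)]

/-- The members of the principal 23-block of a given signed degree outside the known four. -/
noncomputable def part (D : LocalData G 23 11) (I : Input G) (v : ℤ) : Finset (IrrCharacter G) :=
  (D.F.X' \ {I.a, I.b, I.u, I.w}).filter fun χ => D.F.sgn χ * (charDegree (χ : G → ℂ) : ℤ) = v

variable [IsSimpleGroup G] (hG : Nat.card G = 10200960) (D : LocalData G 23 11) (I : Input G)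

omit [IsSimpleGroup G] in
theorem triv_memX : trivChar G ∈ D.F.X := D.F.triv_mem (by norm_num) (by norm_num) (by norm_num)

omit [IsSimpleGroup G] in
/-- A degree congruent to -1 puts a character into `X'` with sign -1. -/
theorem mem_neg {χ : IrrCharacter G} (h : charDegree (χ : G → ℂ) % 23 = 22) :
    χ ∈ D.F.X' ∧ D.F.sgn χ = -1 := by
  rcases degree_split D χ with e | e | e | e
  · rw [e, show charDegree ((trivChar G : IrrCharacter G) : G → ℂ) = 1 by simp [charDegree]] at h; omega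
  · have hm := D.F.hmod χ (D.F.mem_X e).1
    rw [Int.ModEq] at hm
    refine ⟨e, (D.F.hsgn χ (D.F.mem_X e).1).resolve_left fun h1 => ?_⟩
    rw [h1] at hm; push_cast at hm; omega
  · have hm := D.F.hYd χ e
    rw [Int.ModEq] at hm
    rcases D.F.hεy with h1 | h1 <;> rw [h1] at hm <;> push_cast at hm <;> omega
  · omega

include hG in
theorem mem_known : I.a ∈ D.F.X' ∧ I.b ∈ D.F.X' ∧ I.u ∈ D.F.X' ∧ I.w ∈ D.F.X' ∧
    D.F.sgn I.a = -1 ∧ D.F.sgn I.b = -1 ∧ D.F.sgn I.u = -1 ∧ D.F.sgn I.w = -1 :=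
  ⟨(mem_neg D (by rw [I.da])).1, (mem_neg D (by rw [I.db])).1, (mem_neg D (by rw [I.du])).1,
    (mem_neg D (by rw [I.dw])).1, (mem_neg D (by rw [I.da])).2, (mem_neg D (by rw [I.db])).2,
    (mem_neg D (by rw [I.du])).2, (mem_neg D (by rw [I.dw])).2⟩

include hG in
/-- The other members have one of five signed degrees. -/
theorem sd_mem {χ : IrrCharacter G} (h : χ ∈ D.F.X' \ {I.a, I.b, I.u, I.w}) :
    D.F.sgn χ * (charDegree (χ : G → ℂ) : ℤ) ∈ ([-22, 231, -528, 990, -1540] : List ℤ) := by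
  simp only [Finset.mem_sdiff, Finset.mem_insert, Finset.mem_singleton, not_or] at h
  obtain ⟨hX, na, nb, nu, nw⟩ := h
  have hm := D.F.hmod χ (D.F.mem_X hX).1
  rw [Int.ModEq] at hm
  refine five_key _ (signed_mem hG D.F hX) ?_
  have habs : (D.F.sgn χ * (charDegree (χ : G → ℂ) : ℤ)).natAbs = charDegree (χ : G → ℂ) := by
    rcases D.F.hsgn χ (D.F.mem_X hX).1 with e | e <;> simp [e]
  rw [habs]
  by_contra h11
  rcases I.cases χ h11 with e | e | e | e | e | e | e
  · exact (D.F.mem_X hX).2 e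
  · exact na e
  · exact nb e
  · rw [e, I.dc] at hm
    rcases D.F.hsgn χ (D.F.mem_X hX).1 with h1 | h1 <;> rw [← e, h1] at hm <;> norm_num at hm
  · rw [e, I.dd] at hm
    rcases D.F.hsgn χ (D.F.mem_X hX).1 with h1 | h1 <;> rw [← e, h1] at hm <;> norm_num at hm
  · exact nu e
  · exact nw e

include hG in
/-- A sum over `X`. -/
theorem sum_X {M : Type*} [AddCommGroup M] (g : IrrCharacter G → M) :
    ∑ χ ∈ D.F.X, g χ = g (trivChar G) + g I.a + g I.b + g I.u + g I.w + ∑ χ ∈ part D I (-22), g χ +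
      ∑ χ ∈ part D I 231, g χ + ∑ χ ∈ part D I (-528), g χ + ∑ χ ∈ part D I 990, g χ +
      ∑ χ ∈ part D I (-1540), g χ := by
  obtain ⟨ha, hb, hu, hw, -⟩ := mem_known hG D I
  have hsub : ({I.a, I.b, I.u, I.w} : Finset (IrrCharacter G)) ⊆ D.F.X' := by
    simp [Finset.insert_subset_iff, ha, hb, hu, hw]
  have h1 : ∀ {x y : IrrCharacter G}, charDegree (x : G → ℂ) = 45 → charDegree (y : G → ℂ) = 896 → x ≠ y :=
    fun hx hy e => by rw [e, hy] at hx; omega
  rw [← Finset.add_sum_erase _ _ (triv_memX D), show D.F.X.erase (trivChar G) = D.F.X' from rfl,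
    ← Finset.sum_sdiff hsub,
    Finset.sum_insert (by simp [I.nab, h1 I.da I.du, h1 I.da I.dw]),
    Finset.sum_insert (by simp [h1 I.db I.du, h1 I.db I.dw]), Finset.sum_pair I.nuw,
    ← Finset.sum_fiberwise_of_maps_to (t := ([-22, 231, -528, 990, -1540] : List ℤ).toFinset)
      (g := fun χ => D.F.sgn χ * (charDegree (χ : G → ℂ) : ℤ))
      (fun χ hχ => List.mem_toFinset.mpr (sd_mem hG D I hχ))]
  simp only [List.toFinset_cons, List.toFinset_nil, insert_empty_eq, part]
  rw [Finset.sum_insert (by norm_num), Finset.sum_insert (by norm_num), Finset.sum_insert (by norm_num),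
    Finset.sum_insert (by norm_num), Finset.sum_singleton]
  abel

omit [IsSimpleGroup G] in
theorem part_deg {v : ℤ} {χ : IrrCharacter G} (h : χ ∈ part D I v) :
    charDegree (χ : G → ℂ) = v.natAbs ∧ D.F.sgn χ * (v.natAbs : ℤ) = v := by
  obtain ⟨h1, h2⟩ := Finset.mem_filter.mp h
  have hX := (D.F.mem_X (Finset.mem_sdiff.mp h1).1).1
  have habs : charDegree (χ : G → ℂ) = v.natAbs := by
    rw [← h2]; rcases D.F.hsgn χ hX with e | e <;> simp [e]
  exact ⟨habs, by rw [← habs]; exact h2⟩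

omit [IsSimpleGroup G] in
theorem part_sgn {v : ℤ} {χ : IrrCharacter G} (h : χ ∈ part D I v) :
    D.F.sgn χ = if 0 < v then 1 else -1 := by
  obtain ⟨h1, h2⟩ := part_deg D I h
  have hp := charDegree_pos χ
  rw [h1] at hp
  rcases D.F.hsgn χ (D.F.mem_X (Finset.mem_sdiff.mp (Finset.mem_filter.mp h).1).1).1 with e | e <;>
    rw [e] at h2 ⊢ <;> split_ifs <;> omega

omit [IsSimpleGroup G] in
theorem part_congr {M : Type*} [AddCommMonoid M] (h : ℤ → ℕ → IrrCharacter G → M) (v : ℤ) :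
    ∑ χ ∈ part D I v, h (D.F.sgn χ) (charDegree (χ : G → ℂ)) χ =
      ∑ χ ∈ part D I v, h (if 0 < v then 1 else -1) v.natAbs χ :=
  Finset.sum_congr rfl fun χ hχ => by rw [part_sgn D I hχ, (part_deg D I hχ).1]

include hG I in
theorem theta_deg {θ : IrrCharacter G} (hθ : θ ∈ D.F.Y) :
    charDegree (θ : G → ℂ) ∈ ([11, 264, 495, 770, 1760, 2772] : List ℕ) := by
  obtain ⟨hne, hy, -⟩ := theta_mem hG D.F hθ
  refine ydeg_key _ hy (by_contra fun h11 => ?_)
  obtain ⟨ha, hb, hu, hw, -⟩ := mem_known hG D I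
  have hX : ∀ {η : IrrCharacter G}, η ∈ D.F.X' → θ ≠ η := fun hη e =>
    Finset.disjoint_left.mp D.F.hdisj (D.F.mem_X hη).1 (e ▸ hθ)
  rcases I.cases θ h11 with e | e | e | e | e | e | e
  · exact hne e
  · exact hX ha e
  · exact hX hb e
  · rw [e, I.dc] at hy; simp [ydegs] at hy
  · rw [e, I.dd] at hy; simp [ydegs] at hy
  · exact hX hu e
  · exact hX hw e

omit [IsSimpleGroup G] in
theorem dvd_not_mem {χ : IrrCharacter G} (h : 23 ∣ charDegree (χ : G → ℂ)) : χ ∉ D.F.X ∪ D.F.Y := fun hm => by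
  rcases Finset.mem_union.mp hm with hm | hm
  · have h1 := D.F.hmod χ hm
    rw [Int.ModEq] at h1
    rcases D.F.hsgn χ hm with e | e <;> rw [e] at h1 <;> push_cast at h1 <;> omega
  · have h1 := D.F.hYd χ hm
    rw [Int.ModEq] at h1
    rcases D.F.hεy with e | e <;> rw [e] at h1 <;> push_cast at h1 <;> omega

omit [IsSimpleGroup G] in
/-- Nothing on the section of `x` is a product of two involutions. -/
theorem blockSum_zero {θ : IrrCharacter G} (hθ : θ ∈ D.F.Y) : blockSum D.F I.t I.t θ = 0 := by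
  have ht : ¬ 23 ∣ orderOf I.t := by rw [I.ht]; norm_num
  refine blockSum_eq_zero D.F D.hS ht ht hθ fun s hcs hs a hat hb => ?_
  have hs1 : s = 1 := by
    have hcard : Nat.card (centralizer ({D.F.x} : Set G)) = 23 := by
      rw [← centralizer_closure, ← zpowers_eq_closure, D.F.hzp, D.hC]
    have h := hcard ▸ Subgroup.orderOf_dvd_natCard (centralizer ({D.F.x} : Set G))
      (mem_centralizer_singleton_iff.mpr hcs.symm.eq)
    rcases (Nat.dvd_prime (by norm_num : (23 : ℕ).Prime)).mp h with e | e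
    · exact orderOf_eq_one_iff.mp e
    · exact absurd (e ▸ dvd_refl _) hs
  rw [hs1, mul_one] at hb
  obtain ⟨hao, hinv⟩ := exists_inverting I.ht I.ht hat hb
  rw [inv_inv] at hinv
  have hmem : a ∈ normalizer ((D.P : Subgroup G) : Set G) := by
    rw [← D.F.hzp]
    refine mem_normalizer_iff_map_conj_eq.mpr ?_
    rw [MonoidHom.map_zpowers]
    show zpowers (a * D.F.x * a⁻¹) = _
    rw [show a * D.F.x * a⁻¹ = (a * D.F.x⁻¹ * a⁻¹)⁻¹ by group, hinv, zpowers_inv]
  have h1 : orderOf a ∣ 253 := by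
    have h2 := D.hN ▸ Subgroup.orderOf_dvd_natCard _ hmem
    exact h2
  rw [hao] at h1
  norm_num at h1

omit [Fact (Nat.Prime 23)] in
theorem case_bound {C : ℕ} {va vb vd : ℤ}
    (h : (C = 2688 ∧ va = -3 ∧ vb = -3 ∧ vd = 27) ∨ (C = 896 ∧ va = -3 ∧ vb = 5 ∧ vd = 19)) :
    search C va vb vd = true ∧ bud C va vb vd ≤ 1600 := by
  rcases h with ⟨rfl, rfl, rfl, rfl⟩ | ⟨rfl, rfl, rfl, rfl⟩
  · exact ⟨search_large, by decide +kernel⟩
  · exact ⟨search_small, by decide +kernel⟩

include hG in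
/-- The single character of degree 22 takes the value 6 at the central involution. -/
theorem exists_twentytwo_part : ∃ χ : IrrCharacter G, part D I (-22) = {χ} ∧ (χ : G → ℂ) I.t = 6 ∧
    part D I (-528) = ∅ ∧ ∀ θ ∈ D.F.Y, charDegree (θ : G → ℂ) = 770 := by
  have hna := M23Base.not_comm hG
  have htX := triv_memX D
  choose f hf using fun χ : IrrCharacter G => exists_int_two χ I.ht
  obtain ⟨-, -, -, -, sa, sb, su, sw⟩ := mem_known hG D I
  have fa : f I.a = I.va := Int.cast_injective ((hf I.a).symm.trans I.ha)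
  have fb : f I.b = I.vb := Int.cast_injective ((hf I.b).symm.trans I.hb)
  have fd : f I.d = I.vd := Int.cast_injective ((hf I.d).symm.trans I.hd)
  have fc : f I.c = 22 := Int.cast_injective ((hf I.c).symm.trans (by simpa using I.hc))
  have fu : f I.u = 0 := Int.cast_injective ((hf I.u).symm.trans (by simpa using I.hu))
  have fw : f I.w = 0 := Int.cast_injective ((hf I.w).symm.trans (by simpa using I.hw))
  have f1 : f (trivChar G) = 1 := Int.cast_injective ((hf _).symm.trans (by rw [trivChar_apply]; simp))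
  have d1 : charDegree ((trivChar G : IrrCharacter G) : G → ℂ) = 1 := by simp [charDegree]
  obtain ⟨θ, hθ⟩ : D.F.Y.Nonempty := Finset.card_pos.1 (by rw [D.F.hY]; norm_num)
  have hy := theta_deg hG D I hθ
  have hY2 : D.F.Y.card = 2 := by rw [D.F.hY]
  have ht23 : ¬ 23 ∣ orderOf I.t := by rw [I.ht]; norm_num
  have ht1 : I.t ≠ 1 := fun e => by
    have := I.ht
    rw [e, orderOf_one] at this
    omega
  -- the degrees
  have hS := rel_degree D.F hθ
  rw [sum_X hG D I, part_congr D I (fun s k _ => s * (k : ℤ)) (-22), part_congr D I (fun s k _ => s * (k : ℤ)) 231,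
    part_congr D I (fun s k _ => s * (k : ℤ)) (-528), part_congr D I (fun s k _ => s * (k : ℤ)) 990,
    part_congr D I (fun s k _ => s * (k : ℤ)) (-1540), D.F.sgn_triv htX, sa, sb, su, sw, d1, I.da, I.db, I.du, I.dw]
    at hS
  norm_num [Finset.sum_const] at hS
  set n1 := (part D I (-22)).card with hn1
  set n2 := (part D I 231).card with hn2
  set n3 := (part D I (-528)).card with hn3
  set n4 := (part D I 990).card with hn4
  set n5 := (part D I (-1540)).card with hn5
  have hss : ssum n1 n2 n3 n4 n5 = D.F.εy * (charDegree (θ : G → ℂ) : ℤ) := by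
    rw [hS, ssum]; ring
  have hydeg : ydeg n1 n2 n3 n4 n5 = charDegree (θ : G → ℂ) := by
    rw [ydeg, hss]; rcases D.F.hεy with e | e <;> simp [e]
  have hysgn : ysgn n1 n2 n3 n4 n5 = D.F.εy := by
    have hp := charDegree_pos θ
    rw [ysgn, hss]
    rcases D.F.hεy with e | e <;> rw [e] <;> split_ifs <;> omega
  have hnum : n1 + n2 + n3 + n4 + n5 = 6 := by
    have h := sum_X hG D I (fun _ => (1 : ℤ))
    simp only [Finset.sum_const, D.F.hX, nsmul_eq_mul, mul_one] at h
    omega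
  have he : I.e ∈ part D I 231 := by
    have h23 : charDegree (I.e : G → ℂ) % 23 = 1 := by rw [I.de]
    rcases degree_split D I.e with e | e | e | e
    · have := I.de; rw [e, d1] at this; omega
    · have hm := D.F.hmod I.e (D.F.mem_X e).1
      rw [Int.ModEq, I.de] at hm
      have hne : ∀ {η : IrrCharacter G}, charDegree (η : G → ℂ) ≠ 231 → I.e ≠ η := fun h e' => h (e' ▸ I.de)
      refine Finset.mem_filter.mpr ⟨Finset.mem_sdiff.mpr ⟨e, ?_⟩, ?_⟩
      · simp [hne (η := I.a) (by rw [I.da]; norm_num), hne (η := I.b) (by rw [I.db]; norm_num),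
          hne (η := I.u) (by rw [I.du]; norm_num), hne (η := I.w) (by rw [I.dw]; norm_num)]
      · rcases D.F.hsgn I.e (D.F.mem_X e).1 with h1 | h1 <;> rw [h1] at hm ⊢
        · rw [I.de]; rfl
        · norm_num at hm
    · have h := theta_deg hG D I e
      rw [I.de] at h; simp at h
    · rw [I.de] at e; norm_num at e
  have hn2' : 1 ≤ n2 := Finset.card_pos.mpr ⟨_, he⟩
  -- the known part
  set K := D.F.X ∪ D.F.Y ∪ {I.c, I.d} with hK
  have hcdX : Disjoint (D.F.X ∪ D.F.Y) {I.c, I.d} := Finset.disjoint_right.mpr fun η hη => by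
    simp only [Finset.mem_insert, Finset.mem_singleton] at hη
    rcases hη with rfl | rfl
    · exact dvd_not_mem D (by rw [I.dc]; norm_num)
    · exact dvd_not_mem D (by rw [I.dd]; norm_num)
  have hcd : I.c ≠ I.d := fun e => by have := I.dc; rw [e, I.dd] at this; omega
  have sum_K : ∀ g : IrrCharacter G → ℤ, (∀ η ∈ D.F.Y, g η = g θ) →
      ∑ χ ∈ K, g χ = ∑ χ ∈ D.F.X, g χ + 2 * g θ + g I.c + g I.d := fun g hg => by
    rw [hK, Finset.sum_union hcdX, Finset.sum_union D.F.hdisj, Finset.sum_pair hcd, Finset.sum_congr rfl hg,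
      Finset.sum_const, hY2, nsmul_eq_mul]
    push_cast; ring
  have hfY : ∀ η ∈ D.F.Y, f η = f θ := fun η hη =>
    Int.cast_injective ((hf η).symm.trans ((D.F.hagree η hη θ hθ _ ht23).trans (hf θ)))
  have hdY : ∀ η ∈ D.F.Y, charDegree (η : G → ℂ) = charDegree (θ : G → ℂ) := fun η hη => D.F.deg_agree hη hθ
  have hKsq := sum_K (fun χ => f χ * f χ) fun η hη => by simp only [hfY η hη]
  rw [sum_X hG D I] at hKsq
  simp only [fa, fb, fu, fw, f1, fc, fd] at hKsq
  have hKdf := sum_K (fun χ => (charDegree (χ : G → ℂ) : ℤ) * f χ) fun η hη => by simp only [hfY η hη, hdY η hη]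
  rw [sum_X hG D I, part_congr D I (fun _ k χ => (k : ℤ) * f χ) (-22), part_congr D I (fun _ k χ => (k : ℤ) * f χ) 231,
    part_congr D I (fun _ k χ => (k : ℤ) * f χ) (-528), part_congr D I (fun _ k χ => (k : ℤ) * f χ) 990,
    part_congr D I (fun _ k χ => (k : ℤ) * f χ) (-1540)] at hKdf
  simp only [fa, fb, fu, fw, f1, fc, fd, d1, I.da, I.db, I.dc, I.dd, I.du, I.dw, ← Finset.mul_sum] at hKdf
  norm_num at hKdf
  have hKd := sum_K (fun χ => (charDegree (χ : G → ℂ) : ℤ) ^ 2) fun η hη => by simp only [hdY η hη]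
  rw [sum_X hG D I, part_congr D I (fun _ k _ => (k : ℤ) ^ 2) (-22), part_congr D I (fun _ k _ => (k : ℤ) ^ 2) 231,
    part_congr D I (fun _ k _ => (k : ℤ) ^ 2) (-528), part_congr D I (fun _ k _ => (k : ℤ) ^ 2) 990,
    part_congr D I (fun _ k _ => (k : ℤ) ^ 2) (-1540)] at hKd
  simp only [d1, I.da, I.db, I.dc, I.dd, I.du, I.dw] at hKd
  norm_num [Finset.sum_const] at hKd
  -- the whole column
  have hN : ∑ χ : IrrCharacter G, (charDegree (χ : G → ℂ) : ℤ) ^ 2 = 10200960 := by
    exact_mod_cast hG ▸ sum_deg_sq (G := G)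
  have hcolsq : ∑ χ : IrrCharacter G, f χ * f χ = (I.C : ℤ) := by
    have h := sum_norm_sq_column I.t
    simp only [hf, Complex.norm_intCast, sq_abs, I.hC] at h
    have : ((∑ χ : IrrCharacter G, f χ * f χ : ℤ) : ℝ) = ((I.C : ℤ) : ℝ) := by
      push_cast; simpa only [pow_two] using h
    exact_mod_cast this
  have hcoldf : ∑ χ : IrrCharacter G, (charDegree (χ : G → ℂ) : ℤ) * f χ = 0 := by
    have h := sum_deg_mul ht1
    simp only [hf] at h
    exact_mod_cast h
  have hcs := Finset.sum_mul_sq_le_sq_mul_sq (Finset.univ \ K) (fun χ => (charDegree (χ : G → ℂ) : ℤ)) f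
  have e1 := Finset.sum_sdiff (Finset.subset_univ K) (f := fun χ : IrrCharacter G => f χ * f χ)
  have e2 := Finset.sum_sdiff (Finset.subset_univ K) (f := fun χ : IrrCharacter G => (charDegree (χ : G → ℂ) : ℤ) * f χ)
  have e3 := Finset.sum_sdiff (Finset.subset_univ K) (f := fun χ : IrrCharacter G => (charDegree (χ : G → ℂ) : ℤ) ^ 2)
  have hzK : I.z ∈ Finset.univ \ K := by
    refine Finset.mem_sdiff.mpr ⟨Finset.mem_univ _, fun h => ?_⟩
    rcases Finset.mem_union.mp h with h | h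
    · exact dvd_not_mem D (by rw [I.dz]; norm_num) h
    · simp only [Finset.mem_insert, Finset.mem_singleton] at h
      rcases h with h | h <;> have := I.dz <;> rw [h] at this <;> simp [I.dc, I.dd] at this
  have hz : (2024 : ℤ) ^ 2 ≤ ∑ χ ∈ Finset.univ \ K, (charDegree (χ : G → ℂ) : ℤ) ^ 2 := by
    have h := Finset.single_le_sum (s := Finset.univ \ K) (f := fun χ : IrrCharacter G => (charDegree (χ : G → ℂ) : ℤ) ^ 2)
      (fun _ _ => sq_nonneg _) hzK
    simpa [I.dz] using h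
  have hq : ((qsum n1 n2 n3 n4 n5 : ℕ) : ℤ) = ∑ χ ∈ K, (charDegree (χ : G → ℂ) : ℤ) ^ 2 := by
    rw [hKd, qsum, hydeg]; push_cast; ring
  have hq' : qsum n1 n2 n3 n4 n5 + 2024 ^ 2 ≤ 10200960 := by
    have : ((qsum n1 n2 n3 n4 n5 + 2024 ^ 2 : ℕ) : ℤ) ≤ 10200960 := by push_cast; linarith
    exact_mod_cast this
  -- the values
  have hU : D.F.εy * f θ = ∑ χ ∈ D.F.X, D.F.sgn χ * f χ := by
    have h := D.F.hrel θ hθ I.t ht23
    simp only [hf] at h
    exact_mod_cast h
  rw [sum_X hG D I, part_congr D I (fun s _ χ => s * f χ) (-22), part_congr D I (fun s _ χ => s * f χ) 231,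
    part_congr D I (fun s _ χ => s * f χ) (-528), part_congr D I (fun s _ χ => s * f χ) 990,
    part_congr D I (fun s _ χ => s * f χ) (-1540), D.F.sgn_triv htX, sa, sb, su, sw, fa, fb, fu, fw, f1] at hU
  norm_num [← Finset.mul_sum] at hU
  obtain ⟨hsearch, hbud⟩ := case_bound I.hcase
  have hB : bud I.C I.va I.vb I.vd = (I.C : ℤ) - 1 - I.va * I.va - I.vb * I.vb - 484 - I.vd * I.vd := rfl
  have hQ : ∑ χ ∈ part D I (-22), f χ * f χ + ∑ χ ∈ part D I 231, f χ * f χ + ∑ χ ∈ part D I (-528), f χ * f χ +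
      ∑ χ ∈ part D I 990, f χ * f χ + ∑ χ ∈ part D I (-1540), f χ * f χ + 2 * (f θ * f θ) ≤
      bud I.C I.va I.vb I.vd := by
    have : 0 ≤ ∑ χ ∈ Finset.univ \ K, f χ * f χ := Finset.sum_nonneg fun χ _ => mul_self_nonneg _
    rw [hB]; linarith
  have hnn : ∀ v, 0 ≤ ∑ χ ∈ part D I v, f χ * f χ := fun v => Finset.sum_nonneg fun χ _ => mul_self_nonneg _
  have hθsq : 0 ≤ f θ * f θ := mul_self_nonneg _
  have hal : ∀ χ : IrrCharacter G, χ ≠ trivChar G → f χ * f χ ≤ bud I.C I.va I.vb I.vd →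
      f χ ∈ al I.C (bud I.C I.va I.vb I.vd) (charDegree (χ : G → ℂ)) := fun χ hne hle => by
    refine mem_al hbud (ValueTools.lt_degree hna hne ht1 (hf χ)) (ValueTools.mod_four hna χ I.ht (hf χ)) ?_ hle
    have h := degree_dvd_index_mul χ I.t (hf χ)
    rw [index_eq hG, I.hC] at h
    exact h
  have hmem : ∀ (v : ℤ) (k : ℕ), v.natAbs = k → ∑ χ ∈ part D I v, f χ * f χ ≤ bud I.C I.va I.vb I.vd →
      (∑ χ ∈ part D I v, f χ, ∑ χ ∈ part D I v, f χ * f χ) ∈
        reach (bud I.C I.va I.vb I.vd) (al I.C (bud I.C I.va I.vb I.vd) k) (part D I v).card := by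
    intro v k hk hle
    refine mem_reach _ f (fun χ hχ => ?_) hle
    rw [← hk, ← (part_deg D I hχ).1]
    refine hal χ (D.F.mem_X (Finset.mem_sdiff.mp (Finset.mem_filter.mp hχ).1).1).2 (le_trans ?_ hle)
    exact Finset.single_le_sum (f := fun η => f η * f η) (fun η _ => mul_self_nonneg _) hχ
  have := hnn (-22); have := hnn 231; have := hnn (-528); have := hnn 990; have := hnn (-1540)
  have hW := blockSum_zero D I hθ
  rw [blockSum] at hW
  simp only [hf, irr_one_eq] at hW
  rw [sum_X hG D I, part_congr D I (fun s k χ => (s : ℂ) * ((f χ : ℂ) * (f χ : ℂ) / (k : ℂ))) (-22),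
    part_congr D I (fun s k χ => (s : ℂ) * ((f χ : ℂ) * (f χ : ℂ) / (k : ℂ))) 231,
    part_congr D I (fun s k χ => (s : ℂ) * ((f χ : ℂ) * (f χ : ℂ) / (k : ℂ))) (-528),
    part_congr D I (fun s k χ => (s : ℂ) * ((f χ : ℂ) * (f χ : ℂ) / (k : ℂ))) 990,
    part_congr D I (fun s k χ => (s : ℂ) * ((f χ : ℂ) * (f χ : ℂ) / (k : ℂ))) (-1540),
    D.F.sgn_triv htX, sa, sb, su, sw, fa, fb, fu, fw, f1, d1, I.da, I.db] at hW
  norm_num at hW
  simp only [← Finset.sum_div, ← Int.cast_mul, ← Int.cast_sum] at hW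
  have hW' : 110880 - (I.va * I.va + I.vb * I.vb) * 2464 - (∑ χ ∈ part D I (-22), f χ * f χ) * 5040 +
      (∑ χ ∈ part D I 231, f χ * f χ) * 480 - (∑ χ ∈ part D I (-528), f χ * f χ) * 210 +
      (∑ χ ∈ part D I 990, f χ * f χ) * 112 - (∑ χ ∈ part D I (-1540), f χ * f χ) * 72 -
      D.F.εy * (f θ * f θ) * ((110880 / charDegree (θ : G → ℂ) : ℕ) : ℤ) = 0 := by
    apply Int.cast_injective (α := ℂ)
    simp only [Int.cast_sub, Int.cast_add, Int.cast_mul, Int.cast_natCast,
      Nat.cast_div (ydeg_dvd _ hy) (Nat.cast_ne_zero.mpr (charDegree_pos θ).ne' : (charDegree (θ : G → ℂ) : ℂ) ≠ 0)]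
    push_cast at hW ⊢
    linear_combination 110880 * hW
  have hxe : f θ = ysgn n1 n2 n3 n4 n5 * (1 - I.va - I.vb - ∑ χ ∈ part D I (-22), f χ + ∑ χ ∈ part D I 231, f χ -
      ∑ χ ∈ part D I (-528), f χ + ∑ χ ∈ part D I 990, f χ - ∑ χ ∈ part D I (-1540), f χ) := by
    rw [hysgn]
    rcases D.F.hεy with e | e <;> rw [e] at hU ⊢ <;> linarith
  obtain ⟨r1, r3, ry, r6⟩ := M23Check.unique hsearch hnum hn2' (hydeg ▸ hy) hq'
    (p1 := (_, _)) (p2 := (_, _)) (p3 := (_, _)) (p4 := (_, _)) (p5 := (_, _))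
    (hmem (-22) 22 rfl (by linarith)) (hmem 231 231 rfl (by linarith)) (hmem (-528) 528 rfl (by linarith))
    (hmem 990 990 rfl (by linarith)) (hmem (-1540) 1540 rfl (by linarith)) hxe hQ
    (by rw [hydeg]; exact hal θ (theta_mem hG D.F hθ).1 (by linarith)) (by rw [hydeg, hysgn]; exact hW') (by
      rw [hydeg, hq, hB]
      dsimp only
      have hR1 : ∑ χ ∈ Finset.univ \ K, (charDegree (χ : G → ℂ) : ℤ) ^ 2 =
          10200960 - ∑ χ ∈ K, (charDegree (χ : G → ℂ) : ℤ) ^ 2 := by linarith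
      have hR2 : ∑ χ ∈ Finset.univ \ K, f χ ^ 2 = (I.C : ℤ) - ∑ χ ∈ K, f χ * f χ := by
        simp only [pow_two]; linarith
      rw [hR1, hR2, show ∑ χ ∈ Finset.univ \ K, (charDegree (χ : G → ℂ) : ℤ) * f χ =
        -∑ χ ∈ K, (charDegree (χ : G → ℂ) : ℤ) * f χ by linarith, neg_sq] at hcs
      refine le_trans (le_of_eq ?_) (le_trans hcs (le_of_eq ?_))
      · rw [hKdf]; ring
      · rw [hKsq]; ring)
  obtain ⟨χ, hχ⟩ := Finset.card_eq_one.mp (hn1 ▸ r1)
  refine ⟨χ, hχ, ?_, Finset.card_eq_zero.mp (hn3 ▸ r3), fun η hη => by rw [hdY η hη, ← hydeg, ry]⟩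
  rw [hχ, Finset.sum_singleton] at r6
  rw [hf χ]; exact_mod_cast r6

include hG D in
/-- The degree data for the point stabiliser. -/
theorem exists_twentytwo : ∃ χ : IrrCharacter G, charDegree (χ : G → ℂ) = 22 ∧
    (∀ η : IrrCharacter G, charDegree (η : G → ℂ) = 22 → η = χ) ∧
    (∀ η : IrrCharacter G, charDegree (η : G → ℂ) ≤ 252 →
      charDegree (η : G → ℂ) ∈ ([1, 22, 45, 230, 231] : List ℕ)) ∧
    (χ : G → ℂ) I.t = 6 ∧ ∀ η : IrrCharacter G, charDegree (η : G → ℂ) = 230 → (η : G → ℂ) I.t = 22 := by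
  obtain ⟨χ, hp, hv, h528, hY⟩ := exists_twentytwo_part hG D I
  have hχ : χ ∈ part D I (-22) := hp ▸ Finset.mem_singleton_self χ
  have d1 : charDegree ((trivChar G : IrrCharacter G) : G → ℂ) = 1 := by simp [charDegree]
  have hin : ∀ η : IrrCharacter G, η = trivChar G ∨ charDegree (η : G → ℂ) = 45 ∨
      charDegree (η : G → ℂ) = 896 ∨ charDegree (η : G → ℂ) = 230 ∨ charDegree (η : G → ℂ) = 1035 ∨
      η ∈ part D I (-22) ∨ η ∈ part D I 231 ∨ η ∈ part D I (-528) ∨ η ∈ part D I 990 ∨ η ∈ part D I (-1540) ∨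
      η ∈ D.F.Y ∨ 253 ∣ charDegree (η : G → ℂ) := by
    intro η
    by_cases h11 : 11 ∣ charDegree (η : G → ℂ)
    · rcases degree_split D η with e | e | e | e
      · exact Or.inl e
      · have hmem : η ∈ D.F.X' \ {I.a, I.b, I.u, I.w} := by
          refine Finset.mem_sdiff.mpr ⟨e, fun h => ?_⟩
          simp only [Finset.mem_insert, Finset.mem_singleton] at h
          rcases h with h | h | h | h <;> rw [h] at h11 <;> simp [I.da, I.db, I.du, I.dw] at h11
        have hv := sd_mem hG D I hmem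
        simp only [List.mem_cons, List.not_mem_nil, or_false] at hv
        have mp : ∀ {v : ℤ}, D.F.sgn η * (charDegree (η : G → ℂ) : ℤ) = v → η ∈ part D I v :=
          fun h => Finset.mem_filter.mpr ⟨hmem, h⟩
        rcases hv with h | h | h | h | h <;> simp [mp h]
      · simp [e]
      · exact Or.inr (Or.inr (Or.inr (Or.inr (Or.inr (Or.inr (Or.inr (Or.inr (Or.inr (Or.inr (Or.inr
          (Nat.Coprime.mul_dvd_of_dvd_of_dvd (by norm_num : Nat.Coprime 11 23) h11 e)))))))))))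
    · rcases I.cases η h11 with e | e | e | e | e | e | e <;> simp [e, I.da, I.db, I.dc, I.dd, I.du, I.dw]
  refine ⟨χ, (part_deg D I hχ).1, fun η hη => ?_, fun η hη => ?_, hv, fun η hη => ?_⟩
  · rcases hin η with h | h | h | h | h | h | h | h | h | h | h | h
    · rw [h, d1] at hη; omega
    all_goals first
      | omega
      | (rw [hp, Finset.mem_singleton] at h; exact h)
      | (have h' := (part_deg D I h).1; omega)
      | (have h' := hY η h; omega)
  · simp only [List.mem_cons, List.not_mem_nil, or_false]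
    rcases hin η with h | h | h | h | h | h | h | h | h | h | h | h
    · rw [h, d1]; omega
    all_goals first
      | omega
      | (have h' := (part_deg D I h).1; omega)
      | (have h' := hY η h; omega)
      | (have h' := Nat.le_of_dvd (charDegree_pos η) h; omega)
  · rcases I.cases η (by rw [hη]; norm_num) with e | e | e | e | e | e | e
    · rw [e, d1] at hη; omega
    · rw [e, I.da] at hη; omega
    · rw [e, I.db] at hη; omega
    · rw [e]; exact I.hc
    · rw [e, I.dd] at hη; omega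
    · rw [e, I.du] at hη; omega
    · rw [e, I.dw] at hη; omega

end CfsgLib.KGroups.M23Block
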