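import Mathlib

/-!
# Finite searches for the principal 5- and 11-blocks of a simple group of order 10200960

A signed degree is the degree times the sign of the value on a generator of the Sylow subgroup.
-/

set_option autoImplicit false

namespace CfsgLib.KGroups.M23CheckFive

/-- The degrees with residues allowed by the principal 23- and 11-blocks. -/
def degOK : List ℕ :=
  [11, 12, 22, 23, 45, 115, 126, 138, 160, 230, 231, 252, 253, 264, 276, 368, 483, 495, 506, 528, 644, 736, 759, 770,
    896, 990, 1012, 1035, 1265, 1288, 1380, 1518, 1540, 1656, 1760, 1771, 1920, 2024, 2277, 2415, 2530, 2760, 2772,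
    2898, 3036]

theorem degOK_key : ∀ a ∈ Finset.range 3194, a ∣ 10200960 → 2 ≤ a → a % 23 ∈ ([0, 1, 22, 11, 12] : List ℕ) →
    a % 11 ∈ ([0, 1, 10, 5, 6] : List ℕ) → a ∈ degOK := by
  decide +kernel

/-- The signed degrees congruent to one modulo five. -/
def s5 : List ℤ := [-2024, -759, -644, -264, 11, 126, 231, 276, 506, 736, 896, 1656, 1771, 3036]

/-- The signed degrees congruent to one modulo eleven. -/
def s11 : List ℤ := [12, 23, 45, -230, -252, 276, -483, -736, 1035, 1288, -2760]

theorem s5_key : ∀ a ∈ degOK, (a % 5 = 1 → (a : ℤ) ∈ s5) ∧ (a % 5 = 4 → -(a : ℤ) ∈ s5) := by decide +kernel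

theorem s11_key : ∀ a ∈ degOK, (a % 11 = 1 → (a : ℤ) ∈ s11) ∧ (a % 11 = 10 → -(a : ℤ) ∈ s11) := by decide +kernel

/-- Two degrees cannot occur together. -/
def clash (a b : ℕ) : Bool :=
  !decide (a = b) && (decide (a % 23 = 11 ∨ a % 23 = 12) && decide (b % 23 = 11 ∨ b % 23 = 12) ||
    decide (a % 11 = 5 ∨ a % 11 = 6) && decide (b % 11 = 5 ∨ b % 11 = 6))

/-- The four sorted signed degrees of the principal 5-block. -/
def quads : List (ℤ × ℤ × ℤ × ℤ) :=
  [(-2024, 126, 126, 1771), (-2024, 231, 896, 896), (-759, 11, 11, 736), (-759, 126, 126, 506)]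

/-- The four degrees are among the listed ones or two of them clash. -/
def quadOK (a b c d : ℤ) : Bool :=
  clash a.natAbs b.natAbs || clash a.natAbs c.natAbs || clash a.natAbs d.natAbs || clash b.natAbs c.natAbs ||
    clash b.natAbs d.natAbs || clash c.natAbs d.natAbs || quads.contains (a, b, c, d)

theorem quad_all : (s5.all fun a => s5.all fun b => s5.all fun c => s5.all fun d =>
    !(decide (a ≤ b) && decide (b ≤ c) && decide (c ≤ d) && decide (a + b + c + d = -1)) || quadOK a b c d) = true := by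
  decide +kernel

theorem quad_search {a b c d : ℤ} (ha : a ∈ s5) (hb : b ∈ s5) (hc : c ∈ s5) (hd : d ∈ s5) (hab : a ≤ b)
    (hbc : b ≤ c) (hcd : c ≤ d) (hs : a + b + c + d = -1)
    (hcl : ∀ x ∈ [a, b, c, d], ∀ y ∈ [a, b, c, d], clash x.natAbs y.natAbs = false) : (a, b, c, d) ∈ quads := by
  have h := quad_all
  simp only [List.all_eq_true] at h
  have h' := h a ha b hb c hc d hd
  simp [quadOK, hab, hbc, hcd, hs, hcl] at h'
  exact h'

theorem pair_search : ∀ s ∈ s5, (1 + s) % 5 = 2 → (1 + s).natAbs ∈ degOK →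
    clash s.natAbs (1 + s).natAbs = true := by
  decide +kernel

theorem eleven_all : (s11.all fun a => s11.all fun b => s11.all fun c => s11.all fun d =>
    !(decide (a ≤ b) && decide (b ≤ c) && decide (c ≤ d)) ||
      ((!decide (1 + a + b + c + d = 126) || decide (a = 12)) &&
        (!decide (1 + a + b + c + d = 896) || decide ((a, b, c, d) = (-230, 45, 45, 1035)) ||
          decide ((a, b, c, d) = (-483, 45, 45, 1288))))) = true := by
  decide +kernel

theorem eleven_search {a b c d : ℤ} (ha : a ∈ s11) (hb : b ∈ s11) (hc : c ∈ s11) (hd : d ∈ s11) (hab : a ≤ b)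
    (hbc : b ≤ c) (hcd : c ≤ d) :
    (1 + a + b + c + d = 126 → a = 12) ∧ (1 + a + b + c + d = 896 →
      (a, b, c, d) = (-230, 45, 45, 1035) ∨ (a, b, c, d) = (-483, 45, 45, 1288)) := by
  have h := eleven_all
  simp only [List.all_eq_true] at h
  have h' := h a ha b hb c hc d hd
  simp [hab, hbc, hcd] at h'
  refine ⟨fun e => (h'.1.resolve_left fun n => n e), fun e => ?_⟩
  rcases h'.2 with (n | n) | n
  · exact absurd e n
  · exact Or.inl (by simp [n])
  · exact Or.inr (by simp [n])

/-- The centraliser orders of a central involution, with square roots. -/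
def centrals : List (ℕ × ℕ) :=
  [(128, 11), (384, 19), (640, 25), (896, 29), (1152, 33), (1920, 43), (2688, 51), (4480, 66), (5760, 75),
    (8064, 89), (13440, 115), (40320, 200)]

theorem centrals_key : ∀ m ∈ Nat.divisors 315, ∃ C ∈ centrals, C.1 = 128 * m ∧ C.1 < (C.2 + 1) * (C.2 + 1) := by
  decide +kernel

/-- The admissible values: `r` bounds the square root of the centraliser order `C`. -/
def adm (C r d : ℕ) : List ℤ :=
  ((List.range (r / 2 + 2)).map fun (i : ℕ) =>
      ((d % 4 : ℕ) : ℤ) + 4 * ((i : ℤ) - ((r / 4 + 1 : ℕ) : ℤ))).filter fun v =>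
    decide (-(d : ℤ) < v) && decide (v < (d : ℤ)) && decide (v * v ≤ (C : ℤ)) &&
      decide ((d : ℤ) ∣ ((10200960 / C : ℕ) : ℤ) * v)

/-- The value of the exceptional characters. -/
def tval (u v w x : ℤ) : ℤ := 1 + u + v - w + x

/-- The class equation at an element of order eleven, times the group order. -/
def pairEq (D3 D4 : ℕ) (u v w x : ℤ) : Bool :=
  decide (10200960 + 226688 * (u * u + v * v) - ((10200960 / D3 : ℕ) : ℤ) * (w * w) +
    ((10200960 / D4 : ℕ) : ℤ) * (x * x) - 11385 * (tval u v w x * tval u v w x) = 0)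

/-- The conditions at a central involution. -/
def tCond (C D3 D4 : ℕ) (u v w x : ℤ) : Bool :=
  pairEq D3 D4 u v w x &&
    decide (1 + u * u + v * v + w * w + x * x + 2 * (tval u v w x * tval u v w x) ≤ (C : ℤ)) &&
      decide (tval u v w x % 4 = 0) && decide ((896 : ℤ) ∣ ((10200960 / C : ℕ) : ℤ) * tval u v w x)

/-- The values are those of a known case. -/
def known (C D3 : ℕ) (u v w x : ℤ) : Bool :=
  decide (D3 = 230 ∧ ((C = 2688 ∧ u = -3 ∧ v = -3 ∧ w = 22 ∧ x = 27) ∨
    (C = 896 ∧ ((u = -3 ∧ v = 5) ∨ (u = 5 ∧ v = -3)) ∧ w = 22 ∧ x = 19)))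

/-- All the admissible values at a central involution satisfying the conditions are known. -/
def searchOK (D3 D4 : ℕ) (C : ℕ × ℕ) : Bool :=
  (adm C.1 C.2 45).all fun u => (adm C.1 C.2 45).all fun v => (adm C.1 C.2 D3).all fun w =>
    (adm C.1 C.2 D4).all fun x => !(tCond C.1 D3 D4 u v w x) || known C.1 D3 u v w x

theorem search_first : (centrals.all fun C => searchOK 230 1035 C) = true := by decide +kernel

theorem search_second : (centrals.all fun C => searchOK 483 1288 C) = true := by decide +kernel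

theorem central_search {D3 D4 : ℕ} (hD : (D3 = 230 ∧ D4 = 1035) ∨ (D3 = 483 ∧ D4 = 1288)) {C : ℕ × ℕ}
    (hC : C ∈ centrals) {u v w x : ℤ} (hu : u ∈ adm C.1 C.2 45) (hv : v ∈ adm C.1 C.2 45)
    (hw : w ∈ adm C.1 C.2 D3) (hx : x ∈ adm C.1 C.2 D4) (h : tCond C.1 D3 D4 u v w x = true) :
    D3 = 230 ∧ ((C.1 = 2688 ∧ u = -3 ∧ v = -3 ∧ w = 22 ∧ x = 27) ∨
      (C.1 = 896 ∧ ((u = -3 ∧ v = 5) ∨ (u = 5 ∧ v = -3)) ∧ w = 22 ∧ x = 19)) := by
  have h' : searchOK D3 D4 C = true := by
    rcases hD with ⟨rfl, rfl⟩ | ⟨rfl, rfl⟩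
    · exact List.all_eq_true.mp search_first C hC
    · exact List.all_eq_true.mp search_second C hC
  simp only [searchOK, List.all_eq_true] at h'
  have h2 := h' u hu v hv w hw x hx
  simp only [h, Bool.not_true, Bool.false_or, known, decide_eq_true_eq] at h2
  exact h2

end CfsgLib.KGroups.M23CheckFive
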