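import Cfsg.Agent.Lib.KGroups.M22Frame

/-!
# Eigenvalue multiplicities of an element commuting with a generator

Multiplicities divisible by a number prime to the order of the element force a large degree, and twisted sums
of a sum of characters which is constant on the products with an element of prime order.
-/

set_option autoImplicit false

namespace CfsgLib.KGroups.M23Eigen

open Cfsg CfsgLib.Blocks CfsgLib.KGroups.M11Tools CfsgLib.KGroups.M11Local CfsgLib.KGroups.M12Tools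
  CfsgLib.KGroups.M12Reps CfsgLib.KGroups.M12Local CfsgLib.KGroups.M22Tools CfsgLib.KGroups.M22Frame Subgroup
open CfsgLib.SmallGroups
open scoped Classical

variable {G : Type*} [Group G] [Fintype G]

/-- If the multiplicity of each eigenvalue other than 1 is divisible by `n`, the degree is at least `2 n`. -/
theorem two_mul_le [IsSimpleGroup G] (hna : ¬ IsMulCommutative G) {χ : IrrCharacter G} (hne : χ ≠ trivChar G)
    {v : G} {r n : ℕ} (hr : r.Prime) (hv : orderOf v = r) (hrn : ¬ r ∣ n)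
    (h : ∀ ν : ℂ, ν ^ r = 1 → ν ≠ 1 →
      ∃ m : ℕ, ∑ j ∈ Finset.range r, (χ : G → ℂ) (v ^ j) * ν ^ j = ((r * (n * m) : ℕ) : ℂ)) :
    2 * n ≤ charDegree (χ : G → ℂ) := by
  obtain ⟨m0, ρ, hρ, he⟩ := χ.2
  have hf : ρ v ^ r = 1 := by rw [← map_pow, ← hv, pow_orderOf_eq_one, map_one]
  obtain ⟨b, μ, hb⟩ := CfsgLib.Char.exists_eigenbasis_of_pow_eq_one (ρ v) hr.ne_zero hf
  have hn : Module.finrank ℂ (Fin m0 → ℂ) = charDegree (χ : G → ℂ) := by
    apply Nat.cast_injective (R := ℂ)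
    rw [← irr_one_eq, ← he, Representation.char_one]
  have hpow : ∀ (k : ℕ) i, (ρ v ^ k) (b i) = μ i ^ k • b i := fun k i => by
    induction k with
    | zero => simp
    | succ k ih => rw [pow_succ, Module.End.mul_apply, (hb i).1, map_smul, ih, smul_smul, pow_succ']
  have hval : ∀ k : ℕ, (χ : G → ℂ) (v ^ k) = ∑ i, μ i ^ k := fun k => by
    rw [← CfsgLib.Char.trace_eq_sum_of_eigen _ b _ (hpow k), ← he, ← map_pow]; rfl
  have hdvd : ∀ a, μ a ≠ 1 → n ∣ (Finset.univ.filter fun i => μ i = μ a).card := fun a ha => by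
    obtain ⟨m, hm⟩ := h (μ a)⁻¹ (by rw [inv_pow, (hb a).2, inv_one]) fun e => ha (inv_eq_one.mp e)
    have h1 := sum_twist μ (fun i => (hb i).2) (hb a).2
    simp only [← hval] at h1
    rw [hm] at h1
    refine ⟨m, ?_⟩
    have h2 : r * (n * m) = r * (Finset.univ.filter fun i => μ i = μ a).card := by exact_mod_cast h1
    exact (Nat.eq_of_mul_eq_mul_left hr.pos h2).symm
  obtain ⟨a, ha⟩ : ∃ a, μ a ≠ 1 := by
    by_contra hall
    simp only [not_exists, not_not] at hall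
    have hv1 : v ≠ 1 := fun e => hr.ne_one (by rw [← hv, e, orderOf_one])
    have h1 := norm_lt hna χ (fun e => hne (BlockDegrees.eq_trivChar hna χ e)) hv1
    have h2 := hval 1
    simp only [pow_one, hall, Finset.sum_const, Finset.card_univ, Fintype.card_fin, nsmul_eq_mul, mul_one] at h2
    rw [h2, hn, Complex.norm_natCast] at h1
    exact lt_irrefl _ h1
  set A : ℂ → ℕ := fun c => (Finset.univ.filter fun i => μ i = c).card with hA
  have hpos : ∀ c, μ c ≠ 1 → n ≤ A (μ c) := fun c hc =>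
    Nat.le_of_dvd (Finset.card_pos.mpr ⟨c, by simp⟩) (hdvd c hc)
  have hcard : (Finset.univ : Finset (Fin (Module.finrank ℂ (Fin m0 → ℂ)))).card = charDegree (χ : G → ℂ) := by
    rw [Finset.card_univ, Fintype.card_fin, hn]
  by_contra hlt
  have hone : ∀ c, μ c ≠ 1 → μ c = μ a := fun c hc => by
    by_contra hca
    have h1 : A (μ c) + A (μ a) ≤ (Finset.univ : Finset (Fin (Module.finrank ℂ (Fin m0 → ℂ)))).card := by
      rw [hA, ← Finset.card_union_of_disjoint (Finset.disjoint_filter.mpr fun i _ e e' => hca (e.symm.trans e'))]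
      exact Finset.card_le_card (Finset.subset_univ _)
    have := hpos c hc
    have := hpos a ha
    omega
  have hAn : A (μ a) = n := by
    obtain ⟨q, hq⟩ := hdvd a ha
    have h1 : A (μ a) ≤ (Finset.univ : Finset (Fin (Module.finrank ℂ (Fin m0 → ℂ)))).card :=
      Finset.card_le_card (Finset.subset_univ _)
    have h2 : 0 < A (μ a) := Finset.card_pos.mpr ⟨a, by simp⟩
    change A (μ a) = n * q at hq
    rcases q with - | - | q
    · omega
    · omega
    · have h3 : 2 * n ≤ n * (q + 1 + 1) := by rw [mul_comm n]; exact Nat.mul_le_mul_right n (by omega)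
      omega
  have hdet : ∏ i, μ i = 1 := by
    have h1 := det_eq_one hna ρ v
    rwa [← LinearMap.det_toMatrix b, show LinearMap.toMatrix b b (ρ v) = Matrix.diagonal μ by
      ext i j
      by_cases hij : i = j
      · subst hij; simp [LinearMap.toMatrix_apply, (hb i).1]
      · simp [LinearMap.toMatrix_apply, (hb j).1, hij], Matrix.det_diagonal] at h1
  have hrest : ∏ i ∈ Finset.univ.filter (fun i => ¬ μ i = μ a), μ i = 1 := Finset.prod_eq_one fun i hi =>
    by_contra fun hi' => (Finset.mem_filter.mp hi).2 (hone i hi')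
  rw [← Finset.prod_filter_mul_prod_filter_not Finset.univ (fun i => μ i = μ a), hrest, mul_one,
    Finset.prod_congr rfl (g := fun _ => μ a) fun i hi => (Finset.mem_filter.mp hi).2, Finset.prod_const,
    show (Finset.univ.filter fun i => μ i = μ a).card = n from hAn] at hdet
  refine hrn ?_
  have hord : orderOf (μ a) = r := by
    have : Fact r.Prime := ⟨hr⟩
    exact orderOf_eq_prime (hb a).2 ha
  exact hord ▸ orderOf_dvd_of_pow_eq_one hdet

/-- A constant sum of characters on the products with an element `x` of order `p`. -/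
theorem twist_const_sum (S : Finset (IrrCharacter G)) {x v : G} {p n : ℕ} (hp : p.Prime) (hx : orderOf x = p)
    (hv : orderOf v = n) (hxv : Commute x v) (hpn : ¬ p ∣ n) {s : ℂ}
    (hval : ∀ i j : ℕ, ¬ p ∣ i → ∑ χ ∈ S, (χ : G → ℂ) (x ^ i * v ^ j) = s) {μ : ℂ} (hμ : μ ^ n = 1) :
    ∃ m : ℕ, ∑ χ ∈ S, ∑ j ∈ Finset.range n, (χ : G → ℂ) (v ^ j) * μ ^ j +
      ((p : ℂ) - 1) * s * ∑ j ∈ Finset.range n, μ ^ j = (p * n : ℂ) * m := by
  have : Fact p.Prime := ⟨hp⟩
  have hn : 0 < n := hv ▸ orderOf_pos v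
  have hcop : Nat.Coprime p n := (hp.coprime_iff_not_dvd).mpr hpn
  have hord : orderOf (x * v) = p * n := by
    rw [hxv.orderOf_mul_eq_mul_orderOf_of_coprime (by rw [hx, hv]; exact hcop), hx, hv]
  choose m hm using fun χ : IrrCharacter G =>
    twist_nat χ hord (μ := μ) (by rw [mul_comm, pow_mul, hμ, one_pow])
  refine ⟨∑ χ ∈ S, m χ, ?_⟩
  have hsum : ∑ i ∈ Finset.range (p * n), ∑ χ ∈ S, (χ : G → ℂ) ((x * v) ^ i) * μ ^ i =
      (p * n : ℂ) * ((∑ χ ∈ S, m χ : ℕ) : ℂ) := by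
    rw [Finset.sum_comm, Finset.sum_congr rfl fun χ _ => hm χ, ← Finset.mul_sum]
    push_cast; rfl
  rw [← hsum]
  have hterm : ∀ i ∈ Finset.range (p * n), ∑ χ ∈ S, (χ : G → ℂ) ((x * v) ^ i) * μ ^ i =
      if p ∣ i then ∑ χ ∈ S, (χ : G → ℂ) (v ^ (i % n)) * μ ^ (i % n) else s * μ ^ (i % n) := by
    intro i _
    rw [← Finset.sum_mul, hxv.mul_pow, show v ^ i = v ^ (i % n) by rw [← hv, pow_mod_orderOf],
      show μ ^ i = μ ^ (i % n) from pow_eq_pow_mod i hμ]
    split_ifs with h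
    · obtain ⟨c, rfl⟩ := h
      rw [pow_mul, show x ^ p = 1 from hx ▸ pow_orderOf_eq_one x, one_pow, Finset.sum_mul]
      simp only [one_mul]
    · rw [hval i _ h]
  rw [Finset.sum_congr rfl hterm]
  have key : ∀ f : ℕ → ℕ → ℂ, ∑ i ∈ Finset.range (p * n), f (i % p) (i % n) =
      ∑ a ∈ Finset.range p, ∑ b ∈ Finset.range n, f a b := by
    intro f
    rw [← Finset.sum_product']
    refine Finset.sum_bij (fun i _ => (i % p, i % n)) (fun i _ => ?_) (fun i hi j hj h => ?_) (fun ab hab => ?_)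
      fun i _ => rfl
    · simp [Nat.mod_lt _ hp.pos, Nat.mod_lt _ hn]
    · rw [Finset.mem_range] at hi hj
      simp only [Prod.mk.injEq] at h
      have : i ≡ j [MOD p * n] := (Nat.modEq_and_modEq_iff_modEq_mul hcop).mp ⟨h.1, h.2⟩
      exact this.eq_of_lt_of_lt hi hj
    · simp only [Finset.mem_product, Finset.mem_range] at hab
      obtain ⟨c, hc1, hc2⟩ := Nat.chineseRemainder hcop ab.1 ab.2
      refine ⟨c % (p * n), Finset.mem_range.mpr (Nat.mod_lt _ (Nat.mul_pos hp.pos hn)), ?_⟩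
      rw [Nat.mod_mul_right_mod, Nat.mod_mul_left_mod, (show c % p = ab.1 % p from hc1).trans (Nat.mod_eq_of_lt hab.1),
        (show c % n = ab.2 % n from hc2).trans (Nat.mod_eq_of_lt hab.2)]
  have h := key fun a b => if a = 0 then ∑ χ ∈ S, (χ : G → ℂ) (v ^ b) * μ ^ b else s * μ ^ b
  rw [show ∑ a ∈ Finset.range p, ∑ b ∈ Finset.range n,
      (if a = 0 then ∑ χ ∈ S, (χ : G → ℂ) (v ^ b) * μ ^ b else s * μ ^ b) =
      ∑ χ ∈ S, ∑ j ∈ Finset.range n, (χ : G → ℂ) (v ^ j) * μ ^ j + ((p : ℂ) - 1) * s * ∑ j ∈ Finset.range n, μ ^ j by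
    obtain ⟨p', rfl⟩ : ∃ p', p = p' + 1 := ⟨p - 1, by have := hp.pos; omega⟩
    rw [Finset.sum_range_succ', add_comm, Finset.sum_comm (s := S)]
    simp [Finset.mul_sum, Finset.sum_const, mul_assoc]] at h
  rw [← h]
  refine Finset.sum_congr rfl fun i _ => ?_
  simp only [Nat.dvd_iff_mod_eq_zero]

/-- A constant value on the products with `x` makes the multiplicities of the nontrivial eigenvalues
divisible by `p`. -/
theorem twist_dvd (χ : IrrCharacter G) {x v : G} {p r : ℕ} (hp : p.Prime) (hx : orderOf x = p)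
    (hr : r.Prime) (hv : orderOf v = r) (hxv : Commute x v) (hpr : p ≠ r) {s : ℂ}
    (hval : ∀ i j : ℕ, ¬ p ∣ i → (χ : G → ℂ) (x ^ i * v ^ j) = s) {ν : ℂ} (hν : ν ^ r = 1) (h1 : ν ≠ 1) :
    ∃ m : ℕ, ∑ j ∈ Finset.range r, (χ : G → ℂ) (v ^ j) * ν ^ j = ((r * (p * m) : ℕ) : ℂ) := by
  obtain ⟨m, hm⟩ := twist_const χ hp hx hv hxv
    (fun h => hpr ((Nat.prime_dvd_prime_iff_eq hp hr).mp h)) hval hν
  rw [sum_root_pow hν, if_neg h1, mul_zero, add_zero] at hm
  exact ⟨m, by rw [hm]; push_cast; ring⟩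

/-- The same for the exceptional characters, when `p` is prime to their number. -/
theorem twist_theta {p e : ℕ} [Fact p.Prime] {P : Sylow p G} (F : Frame p e P) {θ : IrrCharacter G}
    (hθ : θ ∈ F.Y) (hY : ¬ p ∣ F.Y.card) {v : G} {r : ℕ} (hr : r.Prime) (hv : orderOf v = r)
    (hxv : Commute F.x v) (hpr : p ≠ r) {ν : ℂ} (hν : ν ^ r = 1) (h1 : ν ≠ 1) :
    ∃ m : ℕ, ∑ j ∈ Finset.range r, (θ : G → ℂ) (v ^ j) * ν ^ j = ((r * (p * m) : ℕ) : ℂ) := by
  have hp : p.Prime := Fact.out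
  have hreg : ∀ j : ℕ, ¬ p ∣ orderOf (v ^ j) := fun j h =>
    hpr ((Nat.prime_dvd_prime_iff_eq hp hr).mp (hv ▸ h.trans (orderOf_pow_dvd j)))
  obtain ⟨M, hM⟩ := twist_const_sum F.Y hp F.hx hv hxv (fun h => hpr ((Nat.prime_dvd_prime_iff_eq hp hr).mp h))
    (fun i j hi => sum_theta F ⟨θ, hθ⟩ hi (hxv.pow_right j) (hreg j)) hν
  obtain ⟨c, hc⟩ := twist_nat θ hv hν
  rw [sum_root_pow hν, if_neg h1, mul_zero, add_zero,
    Finset.sum_congr rfl (g := fun _ => (r : ℂ) * c) fun η hη => by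
      rw [← hc]; exact Finset.sum_congr rfl fun j _ => by rw [F.hagree η hη θ hθ _ (hreg j)],
    Finset.sum_const, nsmul_eq_mul] at hM
  have h2 : r * (F.Y.card * c) = r * (p * M) := by
    have : ((r * (F.Y.card * c) : ℕ) : ℂ) = ((r * (p * M) : ℕ) : ℂ) := by
      push_cast; linear_combination hM
    exact_mod_cast this
  have h3 : p ∣ F.Y.card * c := ⟨M, Nat.eq_of_mul_eq_mul_left hr.pos h2⟩
  obtain ⟨m, rfl⟩ := (hp.dvd_mul.mp h3).resolve_left hY
  exact ⟨m, by rw [hc]; push_cast; ring⟩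

omit [Fintype G] in
/-- Two divisibilities at once. -/
theorem twist_mul (χ : IrrCharacter G) {v : G} {r a b : ℕ} (hr : r.Prime) (hab : Nat.Coprime a b) {ν : ℂ}
    (ha : ∃ m : ℕ, ∑ j ∈ Finset.range r, (χ : G → ℂ) (v ^ j) * ν ^ j = ((r * (a * m) : ℕ) : ℂ))
    (hb : ∃ m : ℕ, ∑ j ∈ Finset.range r, (χ : G → ℂ) (v ^ j) * ν ^ j = ((r * (b * m) : ℕ) : ℂ)) :
    ∃ m : ℕ, ∑ j ∈ Finset.range r, (χ : G → ℂ) (v ^ j) * ν ^ j = ((r * (a * b * m) : ℕ) : ℂ) := by
  obtain ⟨m, hm⟩ := ha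
  obtain ⟨k, hk⟩ := hb
  have h1 : a * m = b * k := Nat.eq_of_mul_eq_mul_left hr.pos (by exact_mod_cast hm.symm.trans hk)
  obtain ⟨q, rfl⟩ : b ∣ m := hab.symm.dvd_of_dvd_mul_left ⟨k, h1⟩
  exact ⟨q, by rw [hm, mul_assoc a b q]⟩

end CfsgLib.KGroups.M23Eigen
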