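import Cfsg.Agent.Lib.KGroups.ElevenOrders.Check

/-!
# Searches for the Sylow 11-normaliser in a simple group of order 10200960

The possible degrees in a principal 7-block, and the values at an involution for the surviving options.
-/

set_option autoImplicit false

namespace CfsgLib.KGroups.M23ElevenCheck

/-- The divisors of 20160. -/
def divsA : List ℕ :=
  [1, 2, 3, 4, 5, 6, 7, 8, 9, 10, 12, 14, 15, 16, 18, 20, 21, 24, 28, 30, 32, 35, 36, 40, 42,
  45, 48, 56, 60, 63, 64, 70, 72, 80, 84, 90, 96, 105, 112, 120, 126, 140, 144, 160, 168, 180,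
  192, 210, 224, 240, 252, 280, 288, 315, 320, 336, 360, 420, 448, 480, 504, 560, 576, 630, 672,
  720, 840, 960, 1008, 1120, 1260, 1344, 1440, 1680, 2016, 2240, 2520, 2880, 3360, 4032, 5040,
  6720, 10080, 20160]

/-- The divisors of 3465. -/
def divsB : List ℕ :=
  [1, 3, 5, 7, 9, 11, 15, 21, 33, 35, 45, 55, 63, 77, 99, 105, 165, 231, 315, 385, 495, 693, 1155,
  3465]

theorem divsA_key : ∀ m ∈ List.range 143, m ∣ 20160 → m ∈ divsA ∧ 20160 / m ∈ divsA := by decide +kernel

theorem divsB_key : ∀ m ∈ List.range 60, m ∣ 3465 → m ∈ divsB ∧ 3465 / m ∈ divsB := by decide +kernel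

/-- A list holding the small divisors with their cofactors holds all divisors. -/
theorem mem_of_key {n r : ℕ} {L : List ℕ} (hn : n < r * r)
    (key : ∀ m ∈ List.range r, m ∣ n → m ∈ L ∧ n / m ∈ L) {m : ℕ} (hm : m ∣ n) (hn0 : n ≠ 0) : m ∈ L := by
  by_cases h : m < r
  · exact (key m (List.mem_range.mpr h) hm).1
  · obtain ⟨c, rfl⟩ := hm
    have hc : c < r := by
      by_contra h'
      exact absurd hn (Nat.not_lt.mpr (Nat.mul_le_mul (Nat.le_of_not_lt h) (Nat.le_of_not_lt h')))
    have hc0 : 0 < c := Nat.pos_of_ne_zero fun e => hn0 (by rw [e, mul_zero])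
    have := (key c (List.mem_range.mpr hc) (dvd_mul_left c m)).2
    rwa [Nat.mul_div_cancel _ hc0] at this

theorem divsA_complete {m : ℕ} (h : m ∣ 20160) : m ∈ divsA :=
  mem_of_key (by norm_num) divsA_key h (by norm_num)

theorem divsB_complete {m : ℕ} (h : m ∣ 3465) : m ∈ divsB :=
  mem_of_key (by norm_num) divsB_key h (by norm_num)

theorem index_key : ∀ k ∈ Nat.divisors 315, ∀ e ∈ ([2, 5, 10] : List ℕ), (e * k) % 11 = 5 →
    e * k ∣ 927360 → (e = 5 ∧ k = 1) ∨ (e = 2 ∧ k = 63) := by
  decide +kernel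

/-- The degrees allowed by the principal 23-block. -/
def okDegs : List ℕ :=
  (List.range 3194).filter fun d : ℕ => decide (2 ≤ d) && decide (10200960 % d = 0) &&
    decide (d % 23 ∈ ([0, 1, 22, 11, 12] : List ℕ))

/-- The degrees allowed by the principal 23-block, listed. -/
def okList : List ℕ :=
  [11, 12, 22, 23, 24, 35, 45, 46, 69, 70, 80, 92, 115, 126, 138, 160,
   161, 184, 207, 230, 231, 252, 253, 264, 276, 288, 322, 345, 368, 414, 448, 460,
   483, 495, 506, 528, 552, 576, 644, 690, 736, 759, 770, 805, 828, 840, 896, 920,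
   966, 990, 1012, 1035, 1104, 1265, 1288, 1380, 1449, 1472, 1518, 1540, 1610, 1656, 1680, 1760,
   1771, 1840, 1920, 1932, 2024, 2070, 2208, 2277, 2415, 2530, 2576, 2760, 2772, 2898, 2944, 3036]

theorem okDegs_eq : okDegs = okList := by decide +kernel

/-- The signed degrees congruent to their sign mod 7. -/
def xdegs : List ℤ := [22, -69, 92, -160, -230, 253, 288, 414, -552, 736, -1035, 1380, -1518, -1840, 2024]

theorem xdegs_complete : ∀ d ∈ okList, (d % 7 = 1 → (d : ℤ) ∈ xdegs) ∧ (d % 7 = 6 → -(d : ℤ) ∈ xdegs) := by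
  decide +kernel

theorem two_key : ∀ a ∈ xdegs, (1 + a).natAbs ∈ okList → (1 + a - 2) % 7 = 0 →
    1 + a.natAbs ^ 2 + 3 * (1 + a).natAbs ^ 2 ≤ 10200960 → a = 22 := by
  decide +kernel

/-- The four surviving pairs. -/
def options : List (ℤ × ℤ) := [(-69, 92), (-230, 253), (253, 736), (-1035, 2024)]

theorem three_key : ∀ a ∈ xdegs, ∀ b ∈ xdegs, (1 + a + b).natAbs ∈ okList → (1 + a + b - 3) % 7 = 0 →
    1 + a.natAbs ^ 2 + b.natAbs ^ 2 + 2 * (1 + a + b).natAbs ^ 2 ≤ 10200960 →
    a = 22 ∨ b = 22 ∨ (a, b) ∈ options ∨ (b, a) ∈ options := by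
  decide +kernel

theorem residue_key : ∀ a ∈ xdegs, a ≠ 22 → a % 23 ∈ ([0, 1, 12] : List ℤ) := by decide +kernel

theorem six_key : ∀ l ∈ ElevenOrders.combs [0, 1, 12] 6, (1 + l.sum) % 23 ≠ 0 := by decide +kernel

/-- The candidates for a value at an involution of a character of degree `d`. -/
def baseVals (eleven : Bool) (d : ℕ) : List ℤ :=
  (((List.range 1331).map fun i : ℕ => (i : ℤ) - 665).filter fun a => decide ((a - d) % 4 = 0) &&
    decide (a.natAbs < d) && (!eleven || decide (d % 11 ≠ 0) || decide (a % 11 = 0)))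

/-- The candidates compatible with a centraliser order. -/
def valsAt (L : List ℤ) (d C : ℕ) : List ℤ :=
  L.filter fun a => decide (a * a ≤ (C : ℤ)) && decide (((10200960 / C : ℕ) : ℤ) * a % (d : ℤ) = 0) &&
    (decide (C % 7 ≠ 0) || decide ((a - (d : ℤ)) % 7 = 0))

/-- No values at an involution for one option and one centraliser order. -/
def pairKill (C : ℕ) (d₁ d₂ : ℤ) (A B : List ℤ) : Bool :=
  A.all fun a => B.all fun c =>
    let s₁ := if d₁ < 0 then (-1 : ℤ) else 1
    let s₂ := if d₂ < 0 then (-1 : ℤ) else 1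
    let z := 1 + s₁ * a + s₂ * c
    let b := 1 + d₁ + d₂
    !(decide (1 + a * a + c * c + 2 * (z * z) ≤ (C : ℤ)) &&
      decide (d₁ * d₂ * b + a * a * d₂ * b + c * c * d₁ * b - z * z * d₁ * d₂ = 0))

/-- No values at an involution for one option over a list of centraliser orders. -/
def optionKill (eleven : Bool) (m : ℕ) (L : List ℕ) (o : ℤ × ℤ) : Bool :=
  let A₀ := baseVals eleven o.1.natAbs
  let B₀ := baseVals eleven o.2.natAbs
  L.all fun c => pairKill (m * c) o.1 o.2 (valsAt A₀ o.1.natAbs (m * c)) (valsAt B₀ o.2.natAbs (m * c))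

theorem kill_even : ∀ o ∈ options, optionKill true 22 divsA o = true := by decide +kernel

theorem kill_odd : optionKill false 128 divsB (-69, 92) = true := by decide +kernel

end CfsgLib.KGroups.M23ElevenCheck
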