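import Cfsg.Agent.Lib.KGroups.M23Base
import Cfsg.Agent.Lib.KGroups.M23ElevenCheck

/-!
# The Sylow 11-normaliser in a simple group of order 10200960

An element of order two or seven centralising a Sylow 11-subgroup contradicts the principal 7-block.
-/

set_option autoImplicit false

namespace CfsgLib.KGroups.M23Eleven

open Cfsg CfsgLib.Blocks CfsgLib.KGroups.M11Tools CfsgLib.KGroups.M12Tools CfsgLib.KGroups.M12Local
  CfsgLib.KGroups.M22Tools CfsgLib.KGroups.M22Frame CfsgLib.KGroups.M23ElevenCheck Subgroup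
open CfsgLib.KGroups.M23Base hiding xdegs
open CfsgLib.SmallGroups
open scoped Classical

variable {G : Type*} [Group G] [Fintype G] [IsSimpleGroup G] (hG : Nat.card G = 10200960)
  (h23 : NormData G 23 253 23)

omit [IsSimpleGroup G] in
/-- An element commuting with an element of prime order commutes with a conjugate of any generator. -/
theorem exists_conj_commuting {p : ℕ} [Fact p.Prime] {P : Sylow p G} {x : G}
    (hP : Nat.card (P : Subgroup G) = p) (hzp : zpowers x = (P : Subgroup G)) {h z : G} (hh : orderOf h = p)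
    (hc : Commute h z) : ∃ g : G, Commute x (g * z * g⁻¹) := by
  obtain ⟨R, hR⟩ := (IsPGroup.of_card (n := 1) (G := ↥(zpowers h))
    (by rw [Nat.card_zpowers, hh, pow_one])).exists_le_sylow
  obtain ⟨g, hg⟩ := MulAction.exists_smul_eq G R P
  refine ⟨g, ?_⟩
  have hmem : g * h * g⁻¹ ∈ (P : Subgroup G) := by
    rw [← hg]
    exact mem_map.mpr ⟨h, hR (mem_zpowers h), rfl⟩
  have heq : zpowers (g * h * g⁻¹) = (P : Subgroup G) := by
    refine Subgroup.eq_of_le_of_card_ge (zpowers_le.mpr hmem) ?_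
    rw [hP, Nat.card_zpowers]
    exact le_of_eq (hh.symm.trans (MulEquiv.orderOf_eq (MulAut.conj g) h).symm)
  have hx : x ∈ zpowers (g * h * g⁻¹) := by rw [heq, ← hzp]; exact mem_zpowers x
  obtain ⟨i, rfl⟩ := hx
  exact (hc.map (MulAut.conj g).toMonoidHom).zpow_left i

include hG h23

/-- An element centralising a Sylow 23-subgroup lies in it. -/
theorem not_dvd_centralizer {g : G} (hg1 : g ≠ 1) (hg : ¬ 23 ∣ orderOf g) :
    ¬ 23 ∣ Nat.card (centralizer ({g} : Set G)) := fun h => by
  haveI : Fact (Nat.Prime 23) := ⟨by norm_num⟩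
  obtain ⟨⟨w, hwC⟩, hw⟩ := exists_prime_orderOf_dvd_card' 23 h
  rw [Subgroup.orderOf_mk] at hw
  obtain ⟨R, hR⟩ := (IsPGroup.of_card (n := 1) (G := ↥(zpowers w))
    (by rw [Nat.card_zpowers, hw, pow_one])).exists_le_sylow
  have hReq : zpowers w = (R : Subgroup G) := Subgroup.eq_of_le_of_card_ge hR
    (by rw [Nat.card_zpowers, hw, card_sylow hG (by simp) R])
  have hgR : g ∈ centralizer ((R : Subgroup G) : Set G) := mem_centralizer_iff.mpr fun b hb => by
    obtain ⟨i, rfl⟩ := (hReq.symm ▸ hb : b ∈ zpowers w)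
    exact (show Commute w g from mem_centralizer_singleton_iff.mp hwC).zpow_left i
  have h1 := Subgroup.orderOf_dvd_natCard _ hgR
  rw [(h23 R).2] at h1
  rcases (Nat.dvd_prime (by norm_num : Nat.Prime 23)).mp h1 with e | e
  · exact hg1 (orderOf_eq_one_iff.mp e)
  · exact hg (dvd_of_eq e.symm)

/-- Every non-trivial degree is in the list. -/
theorem degree_ok {χ : IrrCharacter G} (hne : χ ≠ trivChar G) : charDegree (χ : G → ℂ) ∈ okList := by
  haveI : Fact (Nat.Prime 23) := ⟨by norm_num⟩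
  obtain ⟨D⟩ := exists_localData (G := G) (p := 23) (e := 11) (by norm_num) (card_sylow hG (by simp)) h23
  set d := charDegree (χ : G → ℂ) with hd
  have hres : d % 23 ∈ ([0, 1, 22, 11, 12] : List ℕ) := by
    simp only [List.mem_cons, List.not_mem_nil, or_false]
    rcases degree_split D χ with h | h | h | h
    · exact absurd h hne
    · have hX := (D.F.mem_X h).1
      have hm := D.F.hmod χ hX
      rw [Int.ModEq] at hm
      rcases D.F.hsgn χ hX with e | e <;> rw [e] at hm <;> push_cast at hm <;> omega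
    · have hm := D.F.hYd χ h
      rw [Int.ModEq] at hm
      rcases D.F.hεy with e | e <;> rw [e] at hm <;> push_cast at hm <;> omega
    · omega
  rw [← okDegs_eq, okDegs, List.mem_filter, List.mem_range]
  refine ⟨by have := deg_le hG χ; omega, ?_⟩
  simp only [Bool.and_eq_true, decide_eq_true_iff]
  exact ⟨⟨two_le_degree hG hne, Nat.mod_eq_zero_of_dvd (hG ▸ charDegree_dvd χ)⟩, hres⟩

omit h23

omit [IsSimpleGroup G] in
/-- A degree divisible by eleven at an involution commuting with an element of order eleven. -/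
theorem eleven_val {χ : IrrCharacter G} (hd : 11 ∣ charDegree (χ : G → ℂ)) {y u : G} (hy : orderOf y = 11)
    (hu : orderOf u = 2) (hc : Commute y u) {v : ℤ} (hv : (χ : G → ℂ) u = v) :
    (22 : ℤ) ∣ (charDegree (χ : G → ℂ) : ℤ) - v := by
  have h11 : Nat.Prime 11 := by norm_num
  have hzero : ∀ i j : ℕ, ¬ 11 ∣ i → (χ : G → ℂ) (y ^ i * u ^ j) = (0 : ℂ) := fun i j hi => by
    refine vanish_of_dvd hG (p := 11) (by simp) hd ?_
    have h1 : orderOf (y ^ i) = 11 := by
      rw [orderOf_pow, hy, ((h11.coprime_iff_not_dvd).mpr hi).gcd_eq_one, Nat.div_one]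
    rw [(hc.pow_pow i j).orderOf_mul_eq_mul_orderOf_of_coprime (by
      rw [h1]; exact h11.coprime_iff_not_dvd.mpr
        fun h => absurd (Nat.le_of_dvd two_pos (h.trans (hu ▸ orderOf_pow_dvd j))) (by norm_num)), h1]
    exact dvd_mul_right _ _
  obtain ⟨m, hm⟩ := twist_const χ h11 hy hu hc (by norm_num) hzero (μ := -1) (by norm_num)
  simp only [Finset.sum_range_succ, Finset.sum_range_zero, pow_zero, pow_one, irr_one_eq, hv] at hm
  refine ⟨m, ?_⟩
  have : ((charDegree (χ : G → ℂ) : ℤ) - v : ℂ) = ((22 * m : ℤ) : ℂ) := by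
    push_cast at hm ⊢; linear_combination hm
  exact_mod_cast this

/-- No degree 22 beside an involution commuting with an element of order eleven. -/
theorem no_degree_22 {χ : IrrCharacter G} (hne : χ ≠ trivChar G) (hd : charDegree (χ : G → ℂ) = 22) {y u : G}
    (hy : orderOf y = 11) (hu : orderOf u = 2) (hc : Commute y u) : False := by
  obtain ⟨v, hv⟩ := exists_int_two χ hu
  obtain ⟨m, hm⟩ := eleven_val hG (by rw [hd]; norm_num) hy hu hc hv
  have h4 := ValueTools.mod_four (not_comm hG) χ hu hv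
  have hlt := ValueTools.lt_degree (not_comm hG) hne (fun h => by rw [h, orderOf_one] at hu; omega) hv
  rw [hd] at hm h4 hlt
  push_cast at hm h4
  omega

include h23

/-- The principal 7-block. -/
theorem seven_cases [Fact (Nat.Prime 7)] {R : Sylow 7 G} {e : ℕ} (he : e = 2 ∨ e = 3 ∨ e = 6) (F : Frame 7 e R) :
    (∃ χ : IrrCharacter G, χ ≠ trivChar G ∧ charDegree (χ : G → ℂ) = 22 ∧
      ∀ u : G, Commute F.x u → ¬ 7 ∣ orderOf u → (χ : G → ℂ) (F.x * u) ≠ 0) ∨
    (e = 3 ∧ ∃ a b : IrrCharacter G, a ≠ b ∧ F.X' = {a, b} ∧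
      (F.sgn a * (charDegree (a : G → ℂ) : ℤ), F.sgn b * (charDegree (b : G → ℂ) : ℤ)) ∈ options) := by
  have hX : ∀ χ ∈ F.X', F.sgn χ * (charDegree (χ : G → ℂ) : ℤ) ∈ xdegs := fun χ h => by
    obtain ⟨hX, hne⟩ := F.mem_X h
    have hm := F.hmod χ hX
    rw [Int.ModEq] at hm
    have hc := xdegs_complete _ (degree_ok hG h23 hne)
    rcases F.hsgn χ hX with e1 | e1 <;> rw [e1] at hm ⊢ <;> push_cast at hm
    · rw [one_mul]; exact hc.1 (by omega)
    · rw [neg_one_mul]; exact hc.2 (by omega)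
  have hmember : ∀ χ ∈ F.X', F.sgn χ * (charDegree (χ : G → ℂ) : ℤ) = 22 →
      ∃ χ : IrrCharacter G, χ ≠ trivChar G ∧ charDegree (χ : G → ℂ) = 22 ∧
        ∀ u : G, Commute F.x u → ¬ 7 ∣ orderOf u → (χ : G → ℂ) (F.x * u) ≠ 0 := fun χ h h22 => by
    obtain ⟨hX, hne⟩ := F.mem_X h
    refine ⟨χ, hne, by rcases F.hsgn χ hX with e1 | e1 <;> rw [e1] at h22 <;> omega, fun u hc hu => ?_⟩
    have hv := F.hval χ hX 1 (by norm_num) u hc hu
    rw [pow_one] at hv
    rw [hv]
    rcases F.hsgn χ hX with e1 | e1 <;> rw [e1] <;> norm_num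
  obtain ⟨θ, hθ⟩ : F.Y.Nonempty := Finset.card_pos.1 (by rw [F.hY]; rcases he with rfl | rfl | rfl <;> norm_num)
  rcases he with rfl | rfl | rfl
  · -- two automorphisms
    left
    have ht := F.triv_mem (by norm_num) (by norm_num) (by norm_num)
    obtain ⟨a, ha⟩ := Finset.card_eq_one.mp (show F.X'.card = 1 by have := F.card_X' ht; omega)
    have haX : a ∈ F.X' := by rw [ha]; exact Finset.mem_singleton_self a
    have hr := F.rel_one ht hθ
    rw [ha, Finset.sum_singleton] at hr
    have hθne : θ ≠ trivChar G := fun h => Finset.disjoint_left.mp F.hdisj ht (h ▸ hθ)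
    have habs : (1 + F.sgn a * (charDegree (a : G → ℂ) : ℤ)).natAbs = charDegree (θ : G → ℂ) := by
      rw [← hr]; rcases F.hεy with e1 | e1 <;> simp [e1]
    refine hmember a haX (two_key _ (hX a haX) (habs ▸ degree_ok hG h23 hθne) ?_ ?_)
    · have h1 := F.hYd θ hθ
      rw [Int.ModEq] at h1
      rw [← hr]
      rcases F.hεy with e1 | e1 <;> rw [e1] at h1 ⊢ <;> push_cast at h1 ⊢ <;> omega
    · have h1 : ∑ η ∈ F.X ∪ F.Y, charDegree (η : G → ℂ) ^ 2 ≤ 10200960 := by
        rw [← hG, ← sum_deg_sq]; exact Finset.sum_le_sum_of_subset (Finset.subset_univ _)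
      rw [Finset.sum_union F.hdisj, ← Finset.add_sum_erase _ _ ht, show F.X.erase (trivChar G) = {a} from ha,
        Finset.sum_singleton, Finset.sum_congr (s₂ := F.Y) rfl (g := fun _ => charDegree (θ : G → ℂ) ^ 2)
          (fun η hη => by rw [F.deg_agree hη hθ]), Finset.sum_const, F.hY, smul_eq_mul] at h1
      rw [habs]
      rcases F.hsgn a (F.mem_X haX).1 with e1 | e1 <;> simpa [e1, charDegree] using h1
  · -- three automorphisms
    have ht := F.triv_mem (by norm_num) (by norm_num) (by norm_num)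
    obtain ⟨a, b, hab, hset⟩ := Finset.card_eq_two.mp (show F.X'.card = 2 by have := F.card_X' ht; omega)
    have haX : a ∈ F.X' := by rw [hset]; simp
    have hbX : b ∈ F.X' := by rw [hset]; simp
    have hr := F.rel_one ht hθ
    rw [hset, Finset.sum_pair hab, ← add_assoc] at hr
    have hθne : θ ≠ trivChar G := fun h => Finset.disjoint_left.mp F.hdisj ht (h ▸ hθ)
    have habs : (1 + F.sgn a * (charDegree (a : G → ℂ) : ℤ) + F.sgn b * (charDegree (b : G → ℂ) : ℤ)).natAbs =
        charDegree (θ : G → ℂ) := by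
      rw [← hr]; rcases F.hεy with e1 | e1 <;> simp [e1]
    rcases three_key _ (hX a haX) _ (hX b hbX) (habs ▸ degree_ok hG h23 hθne) (by
        have h1 := F.hYd θ hθ
        rw [Int.ModEq] at h1
        rw [← hr]
        rcases F.hεy with e1 | e1 <;> rw [e1] at h1 ⊢ <;> push_cast at h1 ⊢ <;> omega) (by
        have h1 : ∑ η ∈ F.X ∪ F.Y, charDegree (η : G → ℂ) ^ 2 ≤ 10200960 := by
          rw [← hG, ← sum_deg_sq]; exact Finset.sum_le_sum_of_subset (Finset.subset_univ _)
        rw [Finset.sum_union F.hdisj, ← Finset.add_sum_erase _ _ ht,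
          show F.X.erase (trivChar G) = {a, b} from hset, Finset.sum_pair hab,
          Finset.sum_congr (s₂ := F.Y) rfl (g := fun _ => charDegree (θ : G → ℂ) ^ 2)
            (fun η hη => by rw [F.deg_agree hη hθ]), Finset.sum_const, F.hY, smul_eq_mul] at h1
        rw [habs]
        rcases F.hsgn a (F.mem_X haX).1 with e1 | e1 <;> rcases F.hsgn b (F.mem_X hbX).1 with e2 | e2 <;>
          simpa [e1, e2, charDegree, add_assoc] using h1) with h | h | h | h
    · exact Or.inl (hmember a haX h)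
    · exact Or.inl (hmember b hbX h)
    · exact Or.inr ⟨rfl, a, b, hab, hset, h⟩
    · exact Or.inr ⟨rfl, b, a, hab.symm, hset.trans (Finset.pair_comm a b), h⟩
  · -- six automorphisms
    left
    have hY1 : F.Y.card = 1 := by rw [F.hY]
    let σ : IrrCharacter G → ℤ := fun χ => if χ ∈ F.X then F.sgn χ else -F.εy
    have hσ : ∀ χ ∈ F.X ∪ F.Y, (σ χ = 1 ∨ σ χ = -1) ∧
        (charDegree (χ : G → ℂ) : ℤ) ≡ σ χ [ZMOD (7 : ℕ)] ∧
        ∀ i, ¬ 7 ∣ i → ∀ u : G, Commute F.x u → ¬ 7 ∣ orderOf u → (χ : G → ℂ) (F.x ^ i * u) = (σ χ : ℂ) := by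
      intro χ hχ
      by_cases hXc : χ ∈ F.X
      · simp only [σ, if_pos hXc]; exact ⟨F.hsgn χ hXc, F.hmod χ hXc, F.hval χ hXc⟩
      · have hY : χ ∈ F.Y := (Finset.mem_union.mp hχ).resolve_left hXc
        simp only [σ, if_neg hXc]
        refine ⟨by rcases F.hεy with e | e <;> rw [e] <;> norm_num, ?_, fun i hi u hc hu => ?_⟩
        · have h := F.hYd χ hY
          rw [Int.ModEq] at h ⊢
          rcases F.hεy with e | e <;> rw [e] at h ⊢ <;> push_cast at h ⊢ <;> omega
        · rw [single_val F hY1 hY hi hc hu]; push_cast; rfl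
    have htU : trivChar G ∈ F.X ∪ F.Y := Finset.mem_union.mpr F.htriv
    have hσ1 : σ (trivChar G) = 1 := by
      have h := (hσ _ htU).2.2 1 (by norm_num) 1 (Commute.one_right _) (by rw [orderOf_one]; norm_num)
      rw [trivChar_apply] at h
      exact_mod_cast h.symm
    set S := (F.X ∪ F.Y).erase (trivChar G) with hS
    have hScard : S.card = 6 := by
      rw [hS, Finset.card_erase_of_mem htU, Finset.card_union_of_disjoint F.hdisj, F.hX, F.hY]
    by_contra hnone
    have hres : ∀ χ ∈ S, σ χ * (charDegree (χ : G → ℂ) : ℤ) % 23 ∈ ([0, 1, 12] : List ℤ) := fun χ hχ => by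
      obtain ⟨hne, hU⟩ := Finset.mem_erase.mp hχ
      obtain ⟨hs, hm, hv⟩ := hσ χ hU
      have hc := xdegs_complete _ (degree_ok hG h23 hne)
      rw [Int.ModEq] at hm
      refine residue_key _ ?_ fun h22 => hnone ⟨χ, hne, ?_, fun u huc hu => ?_⟩
      · rcases hs with e1 | e1 <;> rw [e1] at hm ⊢ <;> push_cast at hm
        · rw [one_mul]; exact hc.1 (by omega)
        · rw [neg_one_mul]; exact hc.2 (by omega)
      · rcases hs with e1 | e1 <;> rw [e1] at h22 <;> omega
      · have h := hv 1 (by norm_num) u huc hu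
        rw [pow_one] at h
        rw [h]
        rcases hs with e1 | e1 <;> rw [e1] <;> norm_num
    obtain ⟨l, hl, hl'⟩ := ElevenOrders.combs_complete [0, 1, 12] 6
      (S.val.map fun χ : IrrCharacter G => σ χ * (charDegree (χ : G → ℂ) : ℤ) % 23)
      (by rw [Multiset.card_map]; exact hScard) (fun a ha => by
        obtain ⟨χ, hχ, rfl⟩ := Multiset.mem_map.mp ha
        exact hres χ hχ)
    refine six_key l hl ?_
    have hsum : l.sum = ∑ χ ∈ S, σ χ * (charDegree (χ : G → ℂ) : ℤ) % 23 := by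
      rw [← Multiset.sum_coe, hl']; rfl
    have hrel : 1 + ∑ χ ∈ S, σ χ * (charDegree (χ : G → ℂ) : ℤ) = 0 := by
      have h : ∑ χ ∈ F.X ∪ F.Y, σ χ * (charDegree (χ : G → ℂ) : ℤ) = 0 := by
        obtain ⟨η, hη⟩ := Finset.card_eq_one.mp hY1
        have hr1 := F.hrel η (hη ▸ Finset.mem_singleton_self η) 1 (by rw [orderOf_one]; norm_num)
        simp only [irr_one_eq] at hr1
        have hr2 : F.εy * (charDegree (η : G → ℂ) : ℤ) = ∑ χ ∈ F.X, F.sgn χ * (charDegree (χ : G → ℂ) : ℤ) := by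
          exact_mod_cast hr1
        rw [Finset.sum_union F.hdisj, hη, Finset.sum_singleton,
          Finset.sum_congr rfl (g := fun χ : IrrCharacter G => F.sgn χ * (charDegree (χ : G → ℂ) : ℤ))
            fun χ hχ => by simp only [σ, if_pos hχ], ← hr2]
        simp only [σ, if_neg (Finset.disjoint_right.mp F.hdisj (hη ▸ Finset.mem_singleton_self η))]
        ring
      rw [← Finset.add_sum_erase _ _ htU, hσ1] at h
      simpa [hS, charDegree] using h
    rw [hsum, Int.add_emod, ← Finset.sum_int_mod, ← Int.add_emod, hrel, Int.zero_emod]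

omit h23 in
/-- An involution of a normaliser inducing three automorphisms cannot invert. -/
theorem no_inverting [Fact (Nat.Prime 7)] {R : Sylow 7 G} (F : Frame 7 3 R)
    (hN : Nat.card (normalizer ((R : Subgroup G) : Set G)) = 3 * Nat.card (centralizer ((R : Subgroup G) : Set G)))
    {t : G} (ht : orderOf t = 2) (hinv : t * F.x * t⁻¹ = F.x⁻¹) : False := by
  have htN : t ∈ normalizer ((R : Subgroup G) : Set G) := by
    rw [← F.hzp]
    refine mem_normalizer_iff_map_conj_eq.mpr ?_
    rw [MonoidHom.map_zpowers]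
    show zpowers (t * F.x * t⁻¹) = _
    rw [hinv, zpowers_inv]
  set φ := normalizerMonoidHom (R : Subgroup G) with hφ
  have hrange : Nat.card φ.range = 3 := by
    rw [← index_ker, hφ, normalizerMonoidHom_ker]
    have h := ((centralizer ((R : Subgroup G) : Set G)).subgroupOf
      (normalizer ((R : Subgroup G) : Set G))).index_mul_card
    rw [Nat.card_congr (subgroupOfEquivOfLe (Subgroup.centralizer_le_normalizer _)).toEquiv, hN] at h
    exact Nat.eq_of_mul_eq_mul_right Nat.card_pos h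
  have hone : φ ⟨t, htN⟩ = 1 := by
    rw [← orderOf_eq_one_iff]
    have d2 : orderOf (φ ⟨t, htN⟩) ∣ 2 := (orderOf_map_dvd φ _).trans (by rw [Subgroup.orderOf_mk, ht])
    have d3 : orderOf (φ ⟨t, htN⟩) ∣ 3 :=
      hrange ▸ Subgroup.orderOf_dvd_natCard φ.range ⟨_, rfl⟩
    exact Nat.eq_one_of_dvd_one (by simpa using Nat.dvd_gcd d2 d3)
  have hker : (⟨t, htN⟩ : normalizer ((R : Subgroup G) : Set G)) ∈ φ.ker := hone
  rw [hφ, normalizerMonoidHom_ker] at hker
  have hc : F.x * t = t * F.x := mem_centralizer_iff.mp (mem_subgroupOf.mp hker) F.x F.hxP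
  have hx2 : F.x ^ 2 = 1 := by
    rw [pow_two]
    nth_rw 2 [show F.x = t * F.x * t⁻¹ by rw [← hc, mul_inv_cancel_right]]
    rw [hinv, mul_inv_cancel]
  have := orderOf_dvd_of_pow_eq_one hx2
  rw [F.hx] at this
  norm_num at this

omit h23 in
/-- An option leaves no values at an involution. -/
theorem option_false [Fact (Nat.Prime 7)] {R : Sylow 7 G} (hR : Nat.card (R : Subgroup G) = 7) (F : Frame 7 3 R)
    (hS : SectionZero F)
    (hN : Nat.card (normalizer ((R : Subgroup G) : Set G)) = 3 * Nat.card (centralizer ((R : Subgroup G) : Set G)))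
    {a b : IrrCharacter G} (hab : a ≠ b) (hset : F.X' = {a, b})
    (hopt : (F.sgn a * (charDegree (a : G → ℂ) : ℤ), F.sgn b * (charDegree (b : G → ℂ) : ℤ)) ∈ options)
    {u : G} (hu : orderOf u = 2) {eleven : Bool} {m : ℕ} {L : List ℕ}
    (helev : eleven = true → ∀ (χ : IrrCharacter G) (v : ℤ), (χ : G → ℂ) u = v →
      11 ∣ charDegree (χ : G → ℂ) → (11 : ℤ) ∣ v)
    {c : ℕ} (hc : c ∈ L) (hC : Nat.card (centralizer ({u} : Set G)) = m * c) (hbound : m * c ≤ 443520)
    (hkill : optionKill eleven m L (F.sgn a * (charDegree (a : G → ℂ) : ℤ),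
      F.sgn b * (charDegree (b : G → ℂ) : ℤ)) = true) : False := by
  have hna := not_comm hG
  have hu1 : u ≠ 1 := fun h => by rw [h, orderOf_one] at hu; omega
  have ht := F.triv_mem (by norm_num) (by norm_num) (by norm_num)
  have haX : a ∈ F.X' := by rw [hset]; simp
  have hbX : b ∈ F.X' := by rw [hset]; simp
  obtain ⟨θ, hθ⟩ : F.Y.Nonempty := Finset.card_pos.1 (by rw [F.hY]; norm_num)
  have hY2 : F.Y.card = 2 := by rw [F.hY]
  obtain ⟨va, hva⟩ := exists_int_two a hu
  obtain ⟨vb, hvb⟩ := exists_int_two b hu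
  obtain ⟨vθ, hvθ⟩ := exists_int_two θ hu
  set C := Nat.card (centralizer ({u} : Set G)) with hCdef
  have hu7 : ¬ 7 ∣ orderOf u := by rw [hu]; norm_num
  have hmem : ∀ χ ∈ F.X', ∀ v : ℤ, (χ : G → ℂ) u = v → (v * v ≤ (C : ℤ)) →
      v ∈ valsAt (baseVals eleven (F.sgn χ * (charDegree (χ : G → ℂ) : ℤ)).natAbs)
        (F.sgn χ * (charDegree (χ : G → ℂ) : ℤ)).natAbs C := by
    intro χ hχ v hv hvC
    obtain ⟨hXc, hne⟩ := F.mem_X hχ
    have hd : (F.sgn χ * (charDegree (χ : G → ℂ) : ℤ)).natAbs = charDegree (χ : G → ℂ) := by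
      rcases F.hsgn χ hXc with e | e <;> simp [e]
    rw [hd]
    have h4 := ValueTools.mod_four hna χ hu hv
    have hlt := ValueTools.lt_degree hna hne hu1 hv
    have hdvd := degree_dvd_index_mul χ u hv
    rw [index_eq hG u, ← hCdef] at hdvd
    have hv665 : v.natAbs ≤ 665 := by
      by_contra h
      have hC' : C ≤ 443520 := by rw [hC]; exact hbound
      have h1 : v * v = (v.natAbs : ℤ) * v.natAbs := (Int.natAbs_mul_self' v).symm
      nlinarith [show (443520 : ℤ) ≥ C by exact_mod_cast hC',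
        show (666 : ℤ) ≤ v.natAbs by exact_mod_cast (Nat.lt_of_not_le h)]
    simp only [valsAt, List.mem_filter, baseVals, List.mem_map, List.mem_range, Bool.and_eq_true,
      Bool.or_eq_true, decide_eq_true_iff, Bool.not_eq_true']
    refine ⟨⟨⟨(v + 665).toNat, by omega, by omega⟩, ⟨⟨h4, hlt⟩, ?_⟩⟩, ⟨hvC, Int.emod_eq_zero_of_dvd hdvd⟩, ?_⟩
    · by_cases he : eleven = true
      · by_cases h11 : 11 ∣ charDegree (χ : G → ℂ)
        · exact Or.inr (Int.emod_eq_zero_of_dvd (helev he χ v hv h11))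
        · exact Or.inl (Or.inr fun h0 => h11 (Nat.dvd_of_mod_eq_zero h0))
      · exact Or.inl (Or.inl (by simpa using he))
    · by_cases h7 : C % 7 = 0
      · right
        haveI : Fact (Nat.Prime 7) := ⟨by norm_num⟩
        obtain ⟨⟨h, hhC⟩, hh⟩ := exists_prime_orderOf_dvd_card' 7
          (hCdef ▸ Nat.dvd_of_mod_eq_zero h7 : 7 ∣ Nat.card (centralizer ({u} : Set G)))
        rw [Subgroup.orderOf_mk] at hh
        obtain ⟨g, hg⟩ := exists_conj_commuting hR F.hzp hh
          (mem_centralizer_singleton_iff.mp hhC : Commute h u)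
        obtain ⟨w, hw, -, h14, -⟩ := member_two F.hx (F.hval χ hXc) hna (by norm_num) hne
          (z := g * u * g⁻¹) (by rw [← hu]; exact MulEquiv.orderOf_eq (MulAut.conj g) u) hg
        rw [irr_conj_apply, hv] at hw
        have : v = w := by exact_mod_cast hw
        subst this
        push_cast at h14
        omega
      · exact Or.inl h7
  have hrel := F.rel_split ht hθ u hu7
  rw [hset, Finset.sum_pair hab, hva, hvb, hvθ] at hrel
  have hrel' : F.εy * vθ = 1 + F.sgn a * va + F.sgn b * vb := by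
    have : ((F.εy * vθ : ℤ) : ℂ) = ((1 + F.sgn a * va + F.sgn b * vb : ℤ) : ℂ) := by
      push_cast; linear_combination hrel
    exact_mod_cast this
  have hcol : 1 + va * va + vb * vb + 2 * (vθ * vθ) ≤ (C : ℤ) := by
    have h2 : ∑ η ∈ F.X ∪ F.Y, ‖(η : G → ℂ) u‖ ^ 2 ≤ (C : ℝ) := by
      rw [hCdef]
      exact (sum_norm_sq_column u).symm ▸
        Finset.sum_le_sum_of_subset_of_nonneg (Finset.subset_univ _) fun _ _ _ => sq_nonneg _
    rw [Finset.sum_union F.hdisj, ← Finset.add_sum_erase _ _ ht,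
      show F.X.erase (trivChar G) = {a, b} from hset, Finset.sum_pair hab,
      hva, hvb, Finset.sum_congr rfl (g := fun _ => ‖((vθ : ℤ) : ℂ)‖ ^ 2) fun η hη => by
        rw [(F.hagree η hη θ hθ u hu7).trans hvθ],
      Finset.sum_const, hY2, trivChar_apply] at h2
    simp only [Complex.norm_intCast, sq_abs, norm_one, one_pow, nsmul_eq_mul] at h2
    have h3 : ((1 + va * va + vb * vb + 2 * (vθ * vθ) : ℤ) : ℝ) ≤ (((C : ℕ) : ℤ) : ℝ) := by
      push_cast
      push_cast at h2
      nlinarith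
    exact_mod_cast h3
  have hA := hmem a haX va hva (by nlinarith [mul_self_nonneg vb, mul_self_nonneg vθ])
  have hB := hmem b hbX vb hvb (by nlinarith [mul_self_nonneg va, mul_self_nonneg vθ])
  -- no two involutions multiply into the section
  have hz := blockSum_eq_zero F hS hu7 hu7 hθ fun s hs hs7 t htu hb => by
    obtain ⟨hto, hinv⟩ := exists_inverting hu hu htu hb
    obtain ⟨n, hn1, hn0⟩ := Nat.chineseRemainder
      (((Nat.Prime.coprime_iff_not_dvd (by norm_num : Nat.Prime 7)).mpr hs7)) 1 0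
    have hpow : (F.x * s) ^ n = F.x := by
      rw [hs.mul_pow, ← pow_mod_orderOf F.x, F.hx, hn1, ← pow_mod_orderOf s, hn0]
      simp
    refine no_inverting hG F hN hto ?_
    have h2 := congrArg (fun y : G => y ^ n) hinv
    simp only [conj_pow, inv_pow, inv_inv, hpow] at h2
    calc t * F.x * t⁻¹ = (t * F.x⁻¹ * t⁻¹)⁻¹ := by group
      _ = _ := by rw [h2]
  rw [blockSum, ← Finset.add_sum_erase _ _ ht, show F.X.erase (trivChar G) = {a, b} from hset,
    Finset.sum_pair hab, F.sgn_triv ht, trivChar_apply, trivChar_apply, hva, hvb, hvθ] at hz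
  simp only [irr_one_eq] at hz
  have hk := List.all_eq_true.mp hkill c hc
  rw [← hC] at hk
  simp only [pairKill, List.all_eq_true] at hk
  have hk' := hk va hA vb hB
  have hsa : (if F.sgn a * (charDegree (a : G → ℂ) : ℤ) < 0 then (-1 : ℤ) else 1) = F.sgn a := by
    have := charDegree_pos a
    rcases F.hsgn a (F.mem_X haX).1 with e | e <;> rw [e] <;> split_ifs <;> omega
  have hsb : (if F.sgn b * (charDegree (b : G → ℂ) : ℤ) < 0 then (-1 : ℤ) else 1) = F.sgn b := by
    have := charDegree_pos b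
    rcases F.hsgn b (F.mem_X hbX).1 with e | e <;> rw [e] <;> split_ifs <;> omega
  have hr1 : 1 + F.sgn a * (charDegree (a : G → ℂ) : ℤ) + F.sgn b * (charDegree (b : G → ℂ) : ℤ) =
      F.εy * (charDegree (θ : G → ℂ) : ℤ) := by
    rw [F.rel_one ht hθ, hset, Finset.sum_pair hab]; ring
  rw [hsa, hsb, ← hrel', hr1] at hk'
  simp only [Bool.not_eq_true', Bool.and_eq_false_iff, decide_eq_false_iff_not] at hk'
  rcases hk' with h | h
  · refine h ?_
    have : F.εy * vθ * (F.εy * vθ) = vθ * vθ := by rcases F.hεy with e | e <;> rw [e] <;> ring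
    rw [this]; exact hcol
  · refine h (Int.cast_injective (α := ℂ) ?_)
    push_cast
    have ha0 : (charDegree (a : G → ℂ) : ℂ) ≠ 0 := Nat.cast_ne_zero.mpr (charDegree_pos a).ne'
    have hb0 : (charDegree (b : G → ℂ) : ℂ) ≠ 0 := Nat.cast_ne_zero.mpr (charDegree_pos b).ne'
    have hθ0 : (charDegree (θ : G → ℂ) : ℂ) ≠ 0 := Nat.cast_ne_zero.mpr (charDegree_pos θ).ne'
    field_simp at hz
    rcases F.hsgn a (F.mem_X haX).1 with e1 | e1 <;> rcases F.hsgn b (F.mem_X hbX).1 with e2 | e2 <;>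
      rcases F.hεy with e3 | e3 <;> rw [e1, e2, e3] at hz ⊢ <;> push_cast at hz ⊢ <;>
      first
        | linear_combination hz
        | linear_combination -hz

/-- The Sylow 11-normaliser. -/
theorem normalizer_eleven : NormData G 11 55 11 := by
  intro P
  haveI : Fact (Nat.Prime 11) := ⟨by norm_num⟩
  haveI : Fact (Nat.Prime 7) := ⟨by norm_num⟩
  haveI : Fact (Nat.Prime 2) := ⟨by norm_num⟩
  have hna := not_comm hG
  have hP := card_sylow hG (p := 11) (by simp) P
  obtain ⟨e, k, he1, he, hN, hC⟩ := LocalTools.exists_e hna P hP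
  have hmul := SimpleTools.card_normalizer_mul P
  rw [hG, hN] at hmul
  have hmod : Nat.card (Sylow 11 G) % 11 = 1 := card_sylow_modEq_one 11 G
  have hm : Nat.card (Sylow 11 G) * (e * k) = 927360 := by
    refine Nat.eq_of_mul_eq_mul_left (show 0 < 11 by norm_num) ?_
    rw [show (11 : ℕ) * 927360 = 10200960 by norm_num, ← hmul]; ring
  have hek5 : (e * k) % 11 = 5 := by
    have h1 := congrArg (· % 11) hm
    simp only [Nat.mul_mod _ (e * k), hmod, one_mul, Nat.mod_mod] at h1
    exact h1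
  have hekd : e * k ∣ 927360 := ⟨_, (mul_comm _ _).trans hm |>.symm⟩
  obtain ⟨y, hyP, hy, hzy⟩ := PrimeOrder.exists_generator P hP
  have hy1 : y ≠ 1 := fun h => by rw [h, orderOf_one] at hy; omega
  have hCle : centralizer ((P : Subgroup G) : Set G) ≤ centralizer ({y} : Set G) := fun g hg =>
    mem_centralizer_singleton_iff.mpr (mem_centralizer_iff.mp hg y hyP).symm
  have hcomm : ∀ g ∈ centralizer ((P : Subgroup G) : Set G), Commute y g := fun g hg =>
    mem_centralizer_iff.mp hg y hyP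
  have h40 : k ∣ 40320 := by
    have hk : k ∣ 23 * 40320 := by
      have := (dvd_mul_left k e).trans hekd
      simpa using this
    refine (Nat.Coprime.dvd_of_dvd_mul_left ?_ hk)
    refine ((Nat.Prime.coprime_iff_not_dvd (by norm_num)).mpr fun h => ?_).symm
    refine not_dvd_centralizer hG h23 hy1 (by rw [hy]; norm_num) ?_
    exact (hC ▸ h.mul_left 11 : 23 ∣ Nat.card (centralizer ((P : Subgroup G) : Set G))).trans
      (Subgroup.card_dvd_of_le hCle)
  obtain ⟨R⟩ : Nonempty (Sylow 7 G) := inferInstance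
  have hR := card_sylow hG (p := 7) (by simp) R
  obtain ⟨e7, k7, he71, he7, hN7, hC7⟩ := LocalTools.exists_e hna R hR
  have he7' : e7 = 2 ∨ e7 = 3 ∨ e7 = 6 := by
    have := Nat.le_of_dvd (by norm_num) he7
    interval_cases e7 <;> omega
  have hN7' : Nat.card (normalizer ((R : Subgroup G) : Set G)) =
      e7 * Nat.card (centralizer ((R : Subgroup G) : Set G)) := by rw [hN7, hC7]
  obtain ⟨F, hS⟩ := exists_frame_section (e := e7) (by norm_num) R hR hN7'
  have hcases := seven_cases hG h23 he7' F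
  by_cases h2 : 2 ∣ k
  · -- an involution in the centraliser
    exfalso
    obtain ⟨⟨u, huC⟩, hu⟩ := exists_prime_orderOf_dvd_card' (G := ↥(centralizer ((P : Subgroup G) : Set G))) 2
      (hC ▸ h2.mul_left 11)
    rw [Subgroup.orderOf_mk] at hu
    have hyu := hcomm u huC
    have hu1 : u ≠ 1 := fun h => by rw [h, orderOf_one] at hu; omega
    rcases hcases with ⟨χ, hne, hd, -⟩ | ⟨rfl, a, b, hab, hset, hopt⟩
    · exact no_degree_22 hG hne hd hy hu hyu
    have h22 : 22 ∣ Nat.card (centralizer ({u} : Set G)) := by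
      have h2 : orderOf (y * u) = 22 := by
        rw [hyu.orderOf_mul_eq_mul_orderOf_of_coprime (by rw [hy, hu]; norm_num), hy, hu]
      rw [← h2]
      exact Subgroup.orderOf_dvd_natCard _
        (mem_centralizer_singleton_iff.mpr ((hyu.mul_left (Commute.refl u))).eq)
    obtain ⟨c, hc⟩ := h22
    have hcd : c ∣ 20160 := by
      have h1 : 22 * c ∣ 10200960 := hc ▸ hG ▸ card_subgroup_dvd_card _
      have h3 : c ∣ 23 * 20160 := Nat.dvd_of_mul_dvd_mul_left (by norm_num : 0 < 22) (by simpa using h1)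
      refine (Nat.Coprime.dvd_of_dvd_mul_left ?_ h3)
      refine ((Nat.Prime.coprime_iff_not_dvd (by norm_num)).mpr fun h => ?_).symm
      exact not_dvd_centralizer hG h23 hu1 (by rw [hu]; norm_num) (hc ▸ h.mul_left 22)
    exact option_false hG hR F hS hN7' hab hset hopt hu (eleven := true) (L := divsA)
      (fun _ χ v hv h11 => by
        have h1 := eleven_val hG h11 hy hu hyu hv
        have h11' : (11 : ℤ) ∣ (charDegree (χ : G → ℂ) : ℤ) := by exact_mod_cast h11
        have := dvd_sub h11' ((by norm_num : (11 : ℤ) ∣ 22).trans h1)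
        simpa using this)
      (divsA_complete hcd) hc (by have := Nat.le_of_dvd (by norm_num) hcd; omega) (kill_even _ hopt)
  have hk315 : k ∣ 315 := by
    refine Nat.Coprime.dvd_of_dvd_mul_left ?_ (show k ∣ 128 * 315 from h40)
    rw [show (128 : ℕ) = 2 ^ 7 from rfl]
    exact (Nat.Coprime.pow_left 7 ((Nat.Prime.coprime_iff_not_dvd Nat.prime_two).mpr h2)).symm
  have hee : e ∈ ([2, 5, 10] : List ℕ) := by
    have := Nat.le_of_dvd (by norm_num) he
    interval_cases e <;> simp_all
  rcases index_key k (Nat.mem_divisors.mpr ⟨hk315, by norm_num⟩) e hee hek5 hekd with ⟨rfl, rfl⟩ | ⟨rfl, rfl⟩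
  · exact ⟨by rw [hN], by rw [hC]⟩
  exfalso
  obtain ⟨⟨h, hhC⟩, hh⟩ := exists_prime_orderOf_dvd_card' (G := ↥(centralizer ((P : Subgroup G) : Set G))) 7
    (hC ▸ by norm_num)
  rw [Subgroup.orderOf_mk] at hh
  obtain ⟨g, hg⟩ := exists_conj_commuting hR F.hzp hh (hcomm h hhC).symm
  have hgy : orderOf (g * y * g⁻¹) = 11 := hy ▸ MulEquiv.orderOf_eq (MulAut.conj g) y
  have hgy7 : ¬ 7 ∣ orderOf (g * y * g⁻¹) := by rw [hgy]; norm_num
  have hvan : ∀ χ : IrrCharacter G, 11 ∣ charDegree (χ : G → ℂ) → (χ : G → ℂ) (F.x * (g * y * g⁻¹)) = 0 :=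
    fun χ hd => vanish_of_dvd hG (p := 11) (by simp) hd (by
      rw [hg.orderOf_mul_eq_mul_orderOf_of_coprime (by rw [F.hx, hgy]; norm_num), hgy]
      exact dvd_mul_left _ _)
  rcases hcases with ⟨χ, -, hd, hne0⟩ | ⟨rfl, a, b, hab, hset, hopt⟩
  · exact hne0 _ hg hgy7 (hvan χ (by rw [hd]; norm_num))
  have hno : ∀ χ ∈ F.X', ¬ 11 ∣ charDegree (χ : G → ℂ) := fun χ hχ hd => by
    obtain ⟨hX, -⟩ := F.mem_X hχ
    have hv := F.hval χ hX 1 (by norm_num) _ hg hgy7
    rw [pow_one, hvan χ hd] at hv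
    rcases F.hsgn χ hX with e1 | e1 <;> rw [e1] at hv <;> norm_num at hv
  have hone : (F.sgn a * (charDegree (a : G → ℂ) : ℤ), F.sgn b * (charDegree (b : G → ℂ) : ℤ)) =
      ((-69 : ℤ), (92 : ℤ)) := by
    have h1 := hno b (by rw [hset]; simp)
    have h3 := hno a (by rw [hset]; simp)
    simp only [options, List.mem_cons, List.not_mem_nil, or_false, Prod.mk.injEq] at hopt
    rw [Prod.mk.injEq]
    have hsb : F.sgn b = 1 ∨ F.sgn b = -1 := F.hsgn b (F.mem_X (by rw [hset]; simp)).1
    have hsa : F.sgn a = 1 ∨ F.sgn a = -1 := F.hsgn a (F.mem_X (by rw [hset]; simp)).1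
    rcases hsa with e1 | e1 <;> rcases hsb with e2 | e2 <;> rw [e1, e2] at hopt ⊢ <;> omega
  -- a central involution of a Sylow 2-subgroup
  obtain ⟨S⟩ : Nonempty (Sylow 2 G) := inferInstance
  have hScard : Nat.card (S : Subgroup G) = 2 ^ 7 :=
    SimpleTools.card_sylow_subgroup (k := 7) (m := 79695) (by rw [hG]; norm_num) (by norm_num) S
  haveI : Nontrivial ↥(S : Subgroup G) := Finite.one_lt_card_iff_nontrivial.mp (by rw [hScard]; norm_num)
  have hZ : Nontrivial (center ↥(S : Subgroup G)) := S.isPGroup'.center_nontrivial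
  have h2Z : 2 ∣ Nat.card (center ↥(S : Subgroup G)) := by
    obtain ⟨j, hj⟩ := (S.isPGroup'.to_subgroup (center ↥(S : Subgroup G))).card_eq_or_dvd |>.elim
      (fun h => absurd h (Nat.ne_of_gt Finite.one_lt_card)) id
    exact ⟨j, hj⟩
  obtain ⟨⟨⟨t, htS⟩, htZ⟩, ht⟩ := exists_prime_orderOf_dvd_card' 2 h2Z
  rw [Subgroup.orderOf_mk, Subgroup.orderOf_mk] at ht
  have hle : (S : Subgroup G) ≤ centralizer ({t} : Set G) := fun s hs =>
    mem_centralizer_singleton_iff.mpr
      (congrArg Subtype.val (mem_center_iff.mp htZ (⟨s, hs⟩ : ↥(S : Subgroup G))))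
  have hd128 := Subgroup.card_dvd_of_le hle
  rw [hScard] at hd128
  obtain ⟨c, hc⟩ := hd128
  have ht1 : t ≠ 1 := fun h => by rw [h, orderOf_one] at ht; omega
  have hcd : c ∣ 3465 := by
    have h1 : 2 ^ 7 * c ∣ 10200960 := hc ▸ hG ▸ card_subgroup_dvd_card _
    have h3 : c ∣ 23 * 3465 := Nat.dvd_of_mul_dvd_mul_left (by norm_num : 0 < 128) (by simpa using h1)
    refine (Nat.Coprime.dvd_of_dvd_mul_left ?_ h3)
    refine ((Nat.Prime.coprime_iff_not_dvd (by norm_num)).mpr fun h => ?_).symm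
    exact not_dvd_centralizer hG h23 ht1 (by rw [ht]; norm_num) (hc ▸ h.mul_left _)
  exact option_false hG hR F hS hN7' hab hset hopt ht (eleven := false) (L := divsB)
    (fun h => Bool.noConfusion h) (divsB_complete hcd) hc (by have := Nat.le_of_dvd (by norm_num) hcd; omega)
    (by rw [hone]; exact kill_odd)

end CfsgLib.KGroups.M23Eleven
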