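import Cfsg.Agent.Lib.KGroups.M23FiveBlock

/-!
# The principal 11-block of a simple group of order 10200960, with the values at a central involution
-/

set_option autoImplicit false

namespace CfsgLib.KGroups.M23Five

open Cfsg CfsgLib.Blocks CfsgLib.KGroups.M11Tools CfsgLib.KGroups.M12Tools CfsgLib.KGroups.M12Local
  CfsgLib.KGroups.M22Tools CfsgLib.KGroups.M22Frame CfsgLib.KGroups.M23Base CfsgLib.KGroups.M23CheckFive
  CfsgLib.KGroups.M23FiveBlock Subgroup
open CfsgLib.SmallGroups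
open scoped Classical

/-- The principal 11-block of `M23`. -/
structure Eleven (G : Type*) [Group G] [Fintype G] [Fact (Nat.Prime 11)] where
  D : LocalData G 11 5
  a : IrrCharacter G
  b : IrrCharacter G
  c : IrrCharacter G
  d : IrrCharacter G
  nab : a ≠ b
  nac : a ≠ c
  nad : a ≠ d
  nbc : b ≠ c
  nbd : b ≠ d
  ncd : c ≠ d
  hset : D.F.X' = {a, b, c, d}
  da : charDegree (a : G → ℂ) = 45
  db : charDegree (b : G → ℂ) = 45
  dc : charDegree (c : G → ℂ) = 230
  dd : charDegree (d : G → ℂ) = 1035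
  sa : D.F.sgn a = 1
  sb : D.F.sgn b = 1
  sc : D.F.sgn c = -1
  sd : D.F.sgn d = 1
  dθ : ∀ θ ∈ D.F.Y, charDegree (θ : G → ℂ) = 896
  hεy : D.F.εy = 1

variable {G : Type*} [Group G] [Fintype G] [IsSimpleGroup G] [Fact (Nat.Prime 11)]
  (hG : Nat.card G = 10200960)

omit [IsSimpleGroup G] in
/-- The centraliser of an element of prime order with a self-centralising Sylow subgroup. -/
theorem card_centralizer_prime {p n : ℕ} [hp : Fact p.Prime] (h : NormData G p n p)
    (hP : ∀ P : Sylow p G, Nat.card (P : Subgroup G) = p) {x : G} (hx : orderOf x = p) :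
    Nat.card (centralizer ({x} : Set G)) = p := by
  obtain ⟨P, hxP⟩ := (IsPGroup.of_card (n := 1) (by rw [Nat.card_zpowers, hx, pow_one]) :
    IsPGroup p ↥(zpowers x)).exists_le_sylow
  have he : zpowers x = (P : Subgroup G) :=
    Subgroup.eq_of_le_of_card_ge hxP (by rw [hP P, Nat.card_zpowers, hx])
  rw [← centralizer_closure, ← zpowers_eq_closure, he]
  exact (h P).2

include hG in
/-- An involution central in a Sylow 2-subgroup. -/
theorem exists_central [Fact (Nat.Prime 23)] (h23 : NormData G 23 253 23) (h11 : NormData G 11 55 11) :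
    ∃ t : G, orderOf t = 2 ∧ ∃ C ∈ centrals, Nat.card (centralizer ({t} : Set G)) = C.1 ∧
      C.1 < (C.2 + 1) * (C.2 + 1) := by
  haveI : Fact (Nat.Prime 2) := ⟨Nat.prime_two⟩
  obtain ⟨S⟩ : Nonempty (Sylow 2 G) := inferInstance
  have hScard : Nat.card (S : Subgroup G) = 2 ^ 7 :=
    SimpleTools.card_sylow_subgroup (k := 7) (m := 79695) (by rw [hG]; norm_num) (by norm_num) S
  haveI : Nontrivial ↥(S : Subgroup G) := Finite.one_lt_card_iff_nontrivial.mp (by rw [hScard]; norm_num)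
  haveI := S.isPGroup'.center_nontrivial
  obtain ⟨k, hk⟩ := IsPGroup.iff_card.mp (S.isPGroup'.to_subgroup (center ↥(S : Subgroup G)))
  have hk0 : k ≠ 0 := fun h => by
    have := Finite.one_lt_card (α := ↥(center ↥(S : Subgroup G)))
    rw [hk, h, pow_zero] at this
    omega
  obtain ⟨⟨s, hs⟩, hso⟩ := exists_prime_orderOf_dvd_card' (G := ↥(center ↥(S : Subgroup G))) 2
    (by rw [hk]; exact dvd_pow_self 2 hk0)
  rw [Subgroup.orderOf_mk, ← Subgroup.orderOf_coe] at hso
  refine ⟨(s : G), hso, ?_⟩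
  have h128 : 128 ∣ Nat.card (centralizer ({(s : G)} : Set G)) := by
    rw [show 128 = Nat.card (S : Subgroup G) by rw [hScard]; norm_num]
    exact Subgroup.card_dvd_of_le fun a ha => mem_centralizer_singleton_iff.mpr
      (congrArg Subtype.val (mem_center_iff.mp hs ⟨a, ha⟩))
  obtain ⟨m, hm⟩ := h128
  have hnd : ∀ {p n : ℕ} [Fact p.Prime], p ∈ ([5, 7, 11, 23] : List ℕ) → p ≠ 2 → NormData G p n p →
      ¬ p ∣ Nat.card (centralizer ({(s : G)} : Set G)) := fun {p n} _ hp hp2 h hd => by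
    obtain ⟨⟨x, hxC⟩, hx⟩ := exists_prime_orderOf_dvd_card' p hd
    rw [Subgroup.orderOf_mk] at hx
    have hsC : (s : G) ∈ centralizer ({x} : Set G) :=
      mem_centralizer_singleton_iff.mpr (mem_centralizer_singleton_iff.mp hxC).symm
    have h1 := Subgroup.orderOf_dvd_natCard _ hsC
    rw [card_centralizer_prime h (card_sylow hG hp) hx, hso] at h1
    exact hp2 ((Nat.prime_dvd_prime_iff_eq Nat.prime_two Fact.out).mp h1).symm
  have h11' : ¬ 11 ∣ m := fun h => hnd (p := 11) (by norm_num) (by norm_num) h11 (hm ▸ h.mul_left 128)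
  have h23' : ¬ 23 ∣ m := fun h => hnd (p := 23) (by norm_num) (by norm_num) h23 (hm ▸ h.mul_left 128)
  have hdvd : m ∣ 315 * (11 * 23) := by
    have h := card_subgroup_dvd_card (centralizer ({(s : G)} : Set G))
    rw [hG, hm] at h
    exact Nat.dvd_of_mul_dvd_mul_left (k := 128) (by norm_num) h
  have hcop : Nat.Coprime m (11 * 23) := Nat.Coprime.mul_right
    (((by norm_num : Nat.Prime 11).coprime_iff_not_dvd).mpr h11').symm
    (((by norm_num : Nat.Prime 23).coprime_iff_not_dvd).mpr h23').symm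
  obtain ⟨C, hC, hC1, hC2⟩ := centrals_key m
    (Nat.mem_divisors.mpr ⟨hcop.dvd_of_dvd_mul_right hdvd, by norm_num⟩)
  exact ⟨C, hC, by rw [hm, hC1], hC2⟩

include hG in
theorem mem_adm {g : G} (hg : orderOf g = 2) {χ : IrrCharacter G} (hne : χ ≠ trivChar G) {k : ℤ}
    (hk : (χ : G → ℂ) g = k) {C r : ℕ} (hC : Nat.card (centralizer ({g} : Set G)) = C) (hr : C < (r + 1) * (r + 1))
    (hsq : k * k ≤ (C : ℤ)) : k ∈ adm C r (charDegree (χ : G → ℂ)) := by
  have hna := M23Base.not_comm hG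
  have hlt := ValueTools.lt_degree hna hne (fun h => by rw [h, orderOf_one] at hg; omega) hk
  have h4 := ValueTools.mod_four hna χ hg hk
  have hkm : k.natAbs ≤ r := by
    by_contra hc
    have h1 : (r + 1) * (r + 1) ≤ k.natAbs * k.natAbs := Nat.mul_le_mul (by omega) (by omega)
    have h2 : ((k.natAbs * k.natAbs : ℕ) : ℤ) = k * k := by
      push_cast; rw [← Int.natCast_natAbs, Int.natAbs_mul_self']
    omega
  simp only [adm, List.mem_filter, List.mem_map, List.mem_range, Bool.and_eq_true, decide_eq_true_eq]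
  refine ⟨⟨((k - ((charDegree (χ : G → ℂ) % 4 : ℕ) : ℤ)) / 4 + ((r / 4 + 1 : ℕ) : ℤ)).toNat, by omega, by omega⟩,
    ⟨⟨by omega, by omega⟩, hsq⟩, ?_⟩
  have h := degree_dvd_index_mul χ g hk
  rw [M23Base.index_eq hG, hC] at h
  exact h

omit [IsSimpleGroup G] in
/-- No involution inverts a generator of the Sylow 11-subgroup. -/
theorem not_inverted (D : LocalData G 11 5) {t : G} (ht : orderOf t = 2) {s : G} (hs : Commute D.F.x s)
    (hs11 : ¬ 11 ∣ orderOf s) {a : G} (hat : IsConj t a) : ¬ IsConj t (a⁻¹ * (D.F.x * s)⁻¹) := by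
  intro hb
  have hsC : s ∈ centralizer ((D.P : Subgroup G) : Set G) := by
    rw [← D.F.hzp, zpowers_eq_closure, centralizer_closure, mem_centralizer_singleton_iff]
    exact hs.eq.symm
  have h1 := Subgroup.orderOf_dvd_natCard _ hsC
  rw [D.hC] at h1
  have hs1 : s = 1 := orderOf_eq_one_iff.mp
    (((Nat.dvd_prime (by norm_num)).mp h1).resolve_right fun e => hs11 (e ▸ dvd_rfl))
  rw [hs1, mul_one] at hb
  obtain ⟨hao, hinv⟩ := exists_inverting ht ht hat hb
  rw [inv_inv] at hinv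
  have hmem : a ∈ normalizer ((D.P : Subgroup G) : Set G) := by
    rw [← D.F.hzp]
    refine mem_normalizer_iff_map_conj_eq.mpr ?_
    rw [MonoidHom.map_zpowers]
    show zpowers (a * D.F.x * a⁻¹) = _
    rw [show a * D.F.x * a⁻¹ = (a * D.F.x⁻¹ * a⁻¹)⁻¹ by group, hinv, zpowers_inv]
  have h2 := Subgroup.orderOf_dvd_natCard _ hmem
  rw [D.hN, hao] at h2
  norm_num at h2

set_option maxHeartbeats 1600000 in
include hG in
/-- The principal 11-block, with two more degrees and the values at a central involution. -/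
theorem exists_eleven (h23 : NormData G 23 253 23) (h11 : NormData G 11 55 11) :
    ∃ E : Eleven G, (∃ χ : IrrCharacter G, charDegree (χ : G → ℂ) = 231) ∧
      (∃ χ : IrrCharacter G, charDegree (χ : G → ℂ) = 2024) ∧
      ∃ t : G, orderOf t = 2 ∧
        ((Nat.card (centralizer ({t} : Set G)) = 2688 ∧ (E.a : G → ℂ) t = -3 ∧ (E.b : G → ℂ) t = -3 ∧
            (E.c : G → ℂ) t = 22 ∧ (E.d : G → ℂ) t = 27 ∧ ∀ θ ∈ E.D.F.Y, (θ : G → ℂ) t = 0) ∨
          (Nat.card (centralizer ({t} : Set G)) = 896 ∧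
            (((E.a : G → ℂ) t = -3 ∧ (E.b : G → ℂ) t = 5) ∨ ((E.a : G → ℂ) t = 5 ∧ (E.b : G → ℂ) t = -3)) ∧
            (E.c : G → ℂ) t = 22 ∧ (E.d : G → ℂ) t = 19 ∧ ∀ θ ∈ E.D.F.Y, (θ : G → ℂ) t = 0)) := by
  haveI : Fact (Nat.Prime 23) := ⟨by norm_num⟩
  obtain ⟨D23⟩ := exists_localData (p := 23) (e := 11) (by norm_num) (card_sylow hG (by norm_num)) h23
  obtain ⟨D⟩ := exists_localData (p := 11) (e := 5) (by norm_num) (card_sylow hG (by norm_num)) h11
  have ht : trivChar G ∈ D.F.X := D.F.triv_mem (by norm_num) (by norm_num) (by norm_num)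
  obtain ⟨p, q, r, s, npq, npr, nps, nqr, nqs, nrs, hset, h1, h2, h3⟩ :=
    exists_sorted (show D.F.X'.card = 4 by have := D.F.card_X' ht; omega)
      (fun χ => D.F.sgn χ * (charDegree (χ : G → ℂ) : ℤ))
  have hmem : ∀ χ ∈ D.F.X', D.F.sgn χ * (charDegree (χ : G → ℂ) : ℤ) ∈ s11 := fun χ hχ => by
    obtain ⟨hX, hne⟩ := D.F.mem_X hχ
    have hm := D.F.hmod χ hX
    rw [Int.ModEq] at hm
    push_cast at hm
    have hk := s11_key _ (deg_mem hG D23 D hne)
    rcases D.F.hsgn χ hX with e | e <;> rw [e] at hm ⊢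
    · rw [one_mul]; exact hk.1 (by omega)
    · rw [neg_one_mul]; exact hk.2 (by omega)
  have habs : ∀ χ ∈ D.F.X', ∀ z : ℤ, D.F.sgn χ * (charDegree (χ : G → ℂ) : ℤ) = z →
      charDegree (χ : G → ℂ) = z.natAbs ∧ (0 < z → D.F.sgn χ = 1) ∧ (z < 0 → D.F.sgn χ = -1) := fun χ hχ z hz => by
    subst hz
    rcases D.F.hsgn χ (D.F.mem_X hχ).1 with e | e <;> simp [e]
  have hsrch := eleven_search (hmem p (by simp [hset])) (hmem q (by simp [hset])) (hmem r (by simp [hset]))
    (hmem s (by simp [hset])) h1 h2 h3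
  have hT : ∀ θ ∈ D.F.Y, D.F.εy * (charDegree (θ : G → ℂ) : ℤ) =
      1 + D.F.sgn p * (charDegree (p : G → ℂ) : ℤ) + D.F.sgn q * (charDegree (q : G → ℂ) : ℤ) +
        D.F.sgn r * (charDegree (r : G → ℂ) : ℤ) + D.F.sgn s * (charDegree (s : G → ℂ) : ℤ) := fun θ hθ => by
    rw [D.F.rel_one ht hθ, hset, Finset.sum_insert (by simp [npq, npr, nps]),
      Finset.sum_insert (by simp [nqr, nqs]), Finset.sum_pair nrs]
    ring
  have heY : ∀ θ ∈ D.F.Y, charDegree (θ : G → ℂ) % 11 = 5 → D.F.εy = 1 := fun θ hθ h5 => by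
    have hy := D.F.hYd θ hθ
    rw [Int.ModEq] at hy
    push_cast at hy
    rcases D.F.hεy with e | e
    · exact e
    · rw [e] at hy; omega
  rcases five_cases hG D23 D with ⟨χ, hχ⟩ | ⟨h231, ⟨η, hη⟩, h2024⟩
  · exfalso
    have hY : χ ∈ D.F.Y := mem_Y11 D (by rw [hχ]; norm_num)
    have h := hT χ hY
    rw [hχ, heY χ hY (by rw [hχ])] at h
    have hp12 := hsrch.1 (by push_cast at h; linarith)
    have hc := no_clash D23 D p χ
    rw [(habs p (by simp [hset]) 12 hp12).1, hχ] at hc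
    revert hc
    decide
  · have hY : η ∈ D.F.Y := mem_Y11 D (by rw [hη]; norm_num)
    have hεy := heY η hY (by rw [hη])
    have h896 : ∀ θ ∈ D.F.Y, charDegree (θ : G → ℂ) = 896 := fun θ hθ => (D.F.deg_agree hθ hY).trans hη
    have h := hT η hY
    rw [hη, hεy] at h
    have hopts := hsrch.2 (by push_cast at h; linarith)
    obtain ⟨D3, D4, hD, ep, eq, er, es⟩ : ∃ D3 D4 : ℕ, ((D3 = 230 ∧ D4 = 1035) ∨ (D3 = 483 ∧ D4 = 1288)) ∧
        D.F.sgn p * (charDegree (p : G → ℂ) : ℤ) = -(D3 : ℤ) ∧ D.F.sgn q * (charDegree (q : G → ℂ) : ℤ) = 45 ∧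
        D.F.sgn r * (charDegree (r : G → ℂ) : ℤ) = 45 ∧ D.F.sgn s * (charDegree (s : G → ℂ) : ℤ) = (D4 : ℤ) := by
      simp only [Prod.mk.injEq] at hopts
      rcases hopts with ⟨a1, a2, a3, a4⟩ | ⟨a1, a2, a3, a4⟩
      · exact ⟨230, 1035, Or.inl ⟨rfl, rfl⟩, a1, a2, a3, a4⟩
      · exact ⟨483, 1288, Or.inr ⟨rfl, rfl⟩, a1, a2, a3, a4⟩
    obtain ⟨dp, -, sp⟩ := habs p (by simp [hset]) _ ep
    obtain ⟨dq, sq', -⟩ := habs q (by simp [hset]) _ eq
    obtain ⟨dr, sr, -⟩ := habs r (by simp [hset]) _ er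
    obtain ⟨ds, ss, -⟩ := habs s (by simp [hset]) _ es
    have hpos : 0 < D3 ∧ 0 < D4 := by rcases hD with ⟨rfl, rfl⟩ | ⟨rfl, rfl⟩ <;> norm_num
    replace dp : charDegree (p : G → ℂ) = D3 := by simpa using dp
    replace dq : charDegree (q : G → ℂ) = 45 := by simpa using dq
    replace dr : charDegree (r : G → ℂ) = 45 := by simpa using dr
    replace ds : charDegree (s : G → ℂ) = D4 := by simpa using ds
    have gp : D.F.sgn p = -1 := sp (by omega)
    have gq : D.F.sgn q = 1 := sq' (by norm_num)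
    have gr : D.F.sgn r = 1 := sr (by norm_num)
    have gs : D.F.sgn s = 1 := ss (by omega)
    have hset' : D.F.X' = {q, r, p, s} := by
      rw [hset, Finset.insert_comm p q, Finset.insert_comm p r]
    -- values at a central involution
    obtain ⟨t, hto, C, hC, hCt, hlt⟩ := exists_central hG h23 h11
    have ht11 : ¬ 11 ∣ orderOf t := by rw [hto]; norm_num
    obtain ⟨u, hu⟩ := exists_int_two q hto
    obtain ⟨v, hv⟩ := exists_int_two r hto
    obtain ⟨w, hw⟩ := exists_int_two p hto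
    obtain ⟨x, hx⟩ := exists_int_two s hto
    have hne : ∀ χ ∈ D.F.X', χ ≠ trivChar G := fun χ hχ => (D.F.mem_X hχ).2
    have hθv : ∀ θ ∈ D.F.Y, (θ : G → ℂ) t = (tval u v w x : ℂ) := fun θ hθ => by
      have hr := D.F.rel_split ht hθ t ht11
      rw [hset', Finset.sum_insert (by simp [nqr, npq.symm, nqs]),
        Finset.sum_insert (by simp [npr.symm, nrs]), Finset.sum_pair nps, hu, hv, hw, hx, gp, gq, gr, gs, hεy] at hr
      push_cast at hr
      rw [tval]; push_cast
      linear_combination hr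
    have hY2 : D.F.Y.card = 2 := by rw [D.F.hY]
    have hcol : 1 + u * u + v * v + w * w + x * x + 2 * (tval u v w x * tval u v w x) ≤ (C.1 : ℤ) := by
      have h : ∑ χ ∈ D.F.X ∪ D.F.Y, ‖(χ : G → ℂ) t‖ ^ 2 ≤ (C.1 : ℝ) := by
        rw [← hCt, ← sum_norm_sq_column t]
        exact Finset.sum_le_sum_of_subset_of_nonneg (Finset.subset_univ _) fun _ _ _ => sq_nonneg _
      rw [Finset.sum_union D.F.hdisj, ← Finset.add_sum_erase _ _ ht,
        show D.F.X.erase (trivChar G) = {q, r, p, s} from hset', Finset.sum_insert (by simp [nqr, npq.symm, nqs]),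
        Finset.sum_insert (by simp [npr.symm, nrs]), Finset.sum_pair nps, hu, hv, hw, hx,
        Finset.sum_congr (s₁ := D.F.Y) rfl (g := fun _ => ‖((tval u v w x : ℤ) : ℂ)‖ ^ 2) fun θ hθ => by
          rw [hθv θ hθ],
        Finset.sum_const, hY2, trivChar_apply] at h
      simp only [Complex.norm_intCast, sq_abs, norm_one, one_pow, nsmul_eq_mul] at h
      have h' : ((1 + u * u + v * v + w * w + x * x + 2 * (tval u v w x * tval u v w x) : ℤ) : ℝ) ≤ ((C.1 : ℤ) : ℝ) := by
        push_cast at h ⊢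
        linarith
      exact_mod_cast h'
    have hsq : ∀ z : ℤ, 0 ≤ z * z := fun z => mul_self_nonneg z
    have := hsq u; have := hsq v; have := hsq w; have := hsq x; have := hsq (tval u v w x)
    have hu' := mem_adm hG hto (hne q (by simp [hset])) hu hCt hlt (by linarith)
    have hv' := mem_adm hG hto (hne r (by simp [hset])) hv hCt hlt (by linarith)
    have hw' := mem_adm hG hto (hne p (by simp [hset])) hw hCt hlt (by linarith)
    have hx' := mem_adm hG hto (hne s (by simp [hset])) hx hCt hlt (by linarith)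
    rw [dq] at hu'
    rw [dr] at hv'
    rw [dp] at hw'
    rw [ds] at hx'
    have hz := blockSum_eq_zero D.F D.hS ht11 ht11 hY fun y hy hy' a ha => not_inverted D hto hy hy' ha
    have hcond : tCond C.1 D3 D4 u v w x = true := by
      simp only [tCond, pairEq, Bool.and_eq_true, decide_eq_true_eq]
      refine ⟨⟨⟨?_, hcol⟩, ?_⟩, ?_⟩
      · rw [blockSum, ← Finset.add_sum_erase _ _ ht, show D.F.X.erase (trivChar G) = {q, r, p, s} from hset',
          Finset.sum_insert (by simp [nqr, npq.symm, nqs]), Finset.sum_insert (by simp [npr.symm, nrs]),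
          Finset.sum_pair nps, D.F.sgn_triv ht, gp, gq, gr, gs, hεy, trivChar_apply, trivChar_apply, hu, hv, hw, hx,
          hθv η hY] at hz
        simp only [irr_one_eq, dp, dq, dr, ds, hη] at hz
        apply Int.cast_injective (α := ℂ)
        rcases hD with ⟨rfl, rfl⟩ | ⟨rfl, rfl⟩ <;>
          (norm_num
           push_cast at hz
           linear_combination (10200960 : ℂ) * hz)
      · have h4 := ValueTools.mod_four (M23Base.not_comm hG) η hto (hθv η hY)
        rw [hη] at h4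
        push_cast at h4
        omega
      · have h := degree_dvd_index_mul η t (hθv η hY)
        rw [hη, M23Base.index_eq hG, hCt] at h
        exact h
    obtain ⟨h230, hcases⟩ := central_search hD hC hu' hv' hw' hx' hcond
    have h1035 : D4 = 1035 := by omega
    refine ⟨⟨D, q, r, p, s, nqr, npq.symm, nqs, npr.symm, nrs, nps, hset', dq, dr, dp.trans h230, ds.trans h1035,
      gq, gr, gp, gs, h896, hεy⟩, h231, h2024, t, hto, ?_⟩
    rcases hcases with ⟨hc, rfl, rfl, rfl, rfl⟩ | ⟨hc, huv, rfl, rfl⟩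
    · refine Or.inl ⟨hCt.trans hc, ?_, ?_, ?_, ?_, fun θ hθ => ?_⟩
      · simpa using hu
      · simpa using hv
      · simpa using hw
      · simpa using hx
      · rw [hθv θ hθ]; norm_num [tval]
    · refine Or.inr ⟨hCt.trans hc, ?_, ?_, ?_, fun θ hθ => ?_⟩
      · rcases huv with ⟨rfl, rfl⟩ | ⟨rfl, rfl⟩
        · exact Or.inl ⟨by simpa using hu, by simpa using hv⟩
        · exact Or.inr ⟨by simpa using hu, by simpa using hv⟩
      · simpa using hw
      · simpa using hx
      · rw [hθv θ hθ]; rcases huv with ⟨rfl, rfl⟩ | ⟨rfl, rfl⟩ <;> norm_num [tval]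

end CfsgLib.KGroups.M23Five
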