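import Cfsg.Agent.Lib.KGroups.M23Base
import Cfsg.Agent.Lib.KGroups.M23CheckFive
import Cfsg.Agent.Lib.Char.DegPMinusTwo.Avg
import Cfsg.Agent.Lib.SmallGroups.LocalTools

/-!
# The principal 5-block of a simple group of order 10200960

Its degrees contain 126, or are those of `M23`.
-/

set_option autoImplicit false

namespace CfsgLib.KGroups.M23FiveBlock

open Cfsg CfsgLib.Blocks CfsgLib.KGroups.M11Tools CfsgLib.KGroups.M12Tools CfsgLib.KGroups.M12Local
  CfsgLib.KGroups.M22Tools CfsgLib.KGroups.M22Frame CfsgLib.KGroups.M23Base CfsgLib.KGroups.M23CheckFive Subgroup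
open CfsgLib.SmallGroups
open scoped Classical

variable {G : Type*} [Group G] [Fintype G] [IsSimpleGroup G] [Fact (Nat.Prime 23)] [Fact (Nat.Prime 11)]
  (hG : Nat.card G = 10200960) (D23 : LocalData G 23 11) (D11 : LocalData G 11 5)

omit [IsSimpleGroup G] [Fact (Nat.Prime 23)] in
/-- A member of the principal 11-block, and the other degrees. -/
theorem split_eleven (χ : IrrCharacter G) :
    χ = trivChar G ∨ χ ∈ D11.F.X' ∨ χ ∈ D11.F.Y ∨ 11 ∣ charDegree (χ : G → ℂ) := by
  by_cases hX : χ ∈ D11.F.X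
  · by_cases ht : χ = trivChar G
    · exact Or.inl ht
    · exact Or.inr (Or.inl (Finset.mem_erase.mpr ⟨ht, hX⟩))
  · refine Or.inr (Or.inr ?_)
    by_cases hY : χ ∈ D11.F.Y
    · exact Or.inl hY
    · exact Or.inr (M22Tools.rest_dvd D11.F (by norm_num) (by norm_num) D11.hP D11.hC hX hY)

include hG D23 D11 in
theorem deg_mem {χ : IrrCharacter G} (hne : χ ≠ trivChar G) : charDegree (χ : G → ℂ) ∈ degOK := by
  refine degOK_key _ (Finset.mem_range.mpr (by have := deg_le hG χ; omega)) (hG ▸ charDegree_dvd χ)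
    (two_le_degree hG hne) ?_ ?_
  · simp only [List.mem_cons, List.not_mem_nil, or_false]
    rcases degree_split D23 χ with h | h | h | h
    · exact absurd h hne
    · have hm := D23.F.hmod χ (D23.F.mem_X h).1
      rw [Int.ModEq] at hm
      rcases D23.F.hsgn χ (D23.F.mem_X h).1 with e | e <;> rw [e] at hm <;> push_cast at hm <;> omega
    · have hm := D23.F.hYd χ h
      rw [Int.ModEq] at hm
      rcases D23.F.hεy with e | e <;> rw [e] at hm <;> push_cast at hm <;> omega
    · omega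
  · simp only [List.mem_cons, List.not_mem_nil, or_false]
    rcases split_eleven D11 χ with h | h | h | h
    · exact absurd h hne
    · have hm := D11.F.hmod χ (D11.F.mem_X h).1
      rw [Int.ModEq] at hm
      rcases D11.F.hsgn χ (D11.F.mem_X h).1 with e | e <;> rw [e] at hm <;> push_cast at hm <;> omega
    · have hm := D11.F.hYd χ h
      rw [Int.ModEq] at hm
      rcases D11.F.hεy with e | e <;> rw [e] at hm <;> push_cast at hm <;> omega
    · omega

omit [IsSimpleGroup G] [Fact (Nat.Prime 11)] in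
theorem mem_Y23 {χ : IrrCharacter G}
    (h : charDegree (χ : G → ℂ) % 23 = 11 ∨ charDegree (χ : G → ℂ) % 23 = 12) : χ ∈ D23.F.Y := by
  rcases degree_split D23 χ with e | e | e | e
  · exfalso
    rw [e, show charDegree ((trivChar G : IrrCharacter G) : G → ℂ) = 1 by simp [charDegree]] at h
    omega
  · exfalso
    have hm := D23.F.hmod χ (D23.F.mem_X e).1
    rw [Int.ModEq] at hm
    rcases D23.F.hsgn χ (D23.F.mem_X e).1 with e' | e' <;> rw [e'] at hm <;> push_cast at hm <;> omega
  · exact e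
  · exfalso; omega

omit [IsSimpleGroup G] [Fact (Nat.Prime 23)] in
theorem mem_Y11 {χ : IrrCharacter G}
    (h : charDegree (χ : G → ℂ) % 11 = 5 ∨ charDegree (χ : G → ℂ) % 11 = 6) : χ ∈ D11.F.Y := by
  rcases split_eleven D11 χ with e | e | e | e
  · exfalso
    rw [e, show charDegree ((trivChar G : IrrCharacter G) : G → ℂ) = 1 by simp [charDegree]] at h
    omega
  · exfalso
    have hm := D11.F.hmod χ (D11.F.mem_X e).1
    rw [Int.ModEq] at hm
    rcases D11.F.hsgn χ (D11.F.mem_X e).1 with e' | e' <;> rw [e'] at hm <;> push_cast at hm <;> omega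
  · exact e
  · exfalso; omega

omit [IsSimpleGroup G] in
include D23 D11 in
/-- The exceptional degrees are unique. -/
theorem no_clash (χ η : IrrCharacter G) :
    clash (charDegree (χ : G → ℂ)) (charDegree (η : G → ℂ)) = false := by
  by_contra h
  rw [Bool.not_eq_false, clash] at h
  simp only [Bool.and_eq_true, Bool.not_eq_true', decide_eq_false_iff_not, Bool.or_eq_true, decide_eq_true_eq] at h
  rcases h.2 with h' | h'
  · exact h.1 (D23.F.deg_agree (mem_Y23 D23 h'.1) (mem_Y23 D23 h'.2))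
  · exact h.1 (D11.F.deg_agree (mem_Y11 D11 h'.1) (mem_Y11 D11 h'.2))

omit [IsSimpleGroup G] [Fact (Nat.Prime 11)] in
/-- At most two characters have degree 11. -/
theorem two_elevens {a b c : IrrCharacter G} (hab : a ≠ b) (hac : a ≠ c) (hbc : b ≠ c)
    (ha : charDegree (a : G → ℂ) = 11) (hb : charDegree (b : G → ℂ) = 11) (hc : charDegree (c : G → ℂ) = 11)
    (D : LocalData G 23 11) : False := by
  have hsub : ({a, b, c} : Finset (IrrCharacter G)) ⊆ D.F.Y := by
    intro x hx
    simp only [Finset.mem_insert, Finset.mem_singleton] at hx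
    exact mem_Y23 D (by rcases hx with rfl | rfl | rfl <;> omega)
  have h := Finset.card_le_card hsub
  rw [D.F.hY, Finset.card_eq_three.mpr ⟨a, b, c, hab, hac, hbc, rfl⟩] at h
  norm_num at h

section Five

variable [Fact (Nat.Prime 5)] {P : Sylow 5 G}

/-- The value on the sections. -/
noncomputable def sval (F : Frame 5 4 P) (χ : IrrCharacter G) : ℤ := if χ ∈ F.X then F.sgn χ else -F.εy

omit [IsSimpleGroup G] [Fact (Nat.Prime 23)] [Fact (Nat.Prime 11)] in
theorem sval_val (F : Frame 5 4 P) {χ : IrrCharacter G} (h : χ ∈ F.X ∪ F.Y) {i : ℕ} (hi : ¬ 5 ∣ i) {u : G}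
    (hc : Commute F.x u) (hu : ¬ 5 ∣ orderOf u) : (χ : G → ℂ) (F.x ^ i * u) = (sval F χ : ℂ) := by
  rw [sval]
  split_ifs with hX
  · exact F.hval χ hX i hi u hc hu
  · push_cast
    exact single_val F (by rw [F.hY]) ((Finset.mem_union.mp h).resolve_left hX) hi hc hu

omit [IsSimpleGroup G] [Fact (Nat.Prime 23)] [Fact (Nat.Prime 11)] in
theorem sval_triv (F : Frame 5 4 P) : sval F (trivChar G) = 1 := by
  have h := sval_val F (χ := trivChar G) (Finset.mem_union.mpr F.htriv) (i := 1) (by norm_num) (u := 1)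
    (Commute.one_right _) (by rw [orderOf_one]; norm_num)
  rw [trivChar_apply] at h
  exact_mod_cast h.symm

omit [IsSimpleGroup G] [Fact (Nat.Prime 23)] [Fact (Nat.Prime 11)] in
theorem sval_mod (F : Frame 5 4 P) {χ : IrrCharacter G} (h : χ ∈ F.X ∪ F.Y) :
    (sval F χ = 1 ∨ sval F χ = -1) ∧ (sval F χ * (charDegree (χ : G → ℂ) : ℤ)) % 5 = 1 := by
  rw [sval]
  split_ifs with hX
  · have hm := F.hmod χ hX
    rw [Int.ModEq] at hm
    push_cast at hm
    rcases F.hsgn χ hX with e | e <;> rw [e] at hm ⊢ <;> exact ⟨by norm_num, by omega⟩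
  · have hm := F.hYd χ ((Finset.mem_union.mp h).resolve_left hX)
    rw [Int.ModEq] at hm
    push_cast at hm
    rcases F.hεy with e | e <;> rw [e] at hm ⊢ <;> exact ⟨by norm_num, by omega⟩

include hG D23 D11 in
/-- The four signed degrees of the principal 5-block. -/
theorem exists_quad (F : Frame 5 4 P) :
    ∃ a b c d : IrrCharacter G, a ≠ b ∧ a ≠ c ∧ a ≠ d ∧ b ≠ c ∧ b ≠ d ∧ c ≠ d ∧
      (F.X ∪ F.Y).erase (trivChar G) = {a, b, c, d} ∧
      (sval F a * (charDegree (a : G → ℂ) : ℤ), sval F b * (charDegree (b : G → ℂ) : ℤ),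
        sval F c * (charDegree (c : G → ℂ) : ℤ), sval F d * (charDegree (d : G → ℂ) : ℤ)) ∈ quads := by
  have ht : trivChar G ∈ F.X ∪ F.Y := Finset.mem_union.mpr F.htriv
  obtain ⟨a, b, c, d, nab, nac, nad, nbc, nbd, ncd, hset, h1, h2, h3⟩ :=
    exists_sorted (s := (F.X ∪ F.Y).erase (trivChar G)) (by
      rw [Finset.card_erase_of_mem ht, Finset.card_union_of_disjoint F.hdisj, F.hX, F.hY])
      (fun χ => sval F χ * (charDegree (χ : G → ℂ) : ℤ))
  refine ⟨a, b, c, d, nab, nac, nad, nbc, nbd, ncd, hset, ?_⟩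
  have hmem : ∀ χ ∈ (F.X ∪ F.Y).erase (trivChar G),
      sval F χ * (charDegree (χ : G → ℂ) : ℤ) ∈ s5 := fun χ hχ => by
    obtain ⟨hne, hχ'⟩ := Finset.mem_erase.mp hχ
    obtain ⟨hs, hm⟩ := sval_mod F hχ'
    have hk := s5_key _ (deg_mem hG D23 D11 hne)
    rcases hs with e | e <;> rw [e] at hm ⊢
    · rw [one_mul] at hm ⊢; exact hk.1 (by omega)
    · rw [neg_one_mul] at hm ⊢; exact hk.2 (by omega)
  have hsum : ∑ χ ∈ (F.X ∪ F.Y).erase (trivChar G), sval F χ * (charDegree (χ : G → ℂ) : ℤ) = -1 := by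
    obtain ⟨θ, hθ⟩ : F.Y.Nonempty := Finset.card_pos.1 (by rw [F.hY]; norm_num)
    have hY1 : F.Y = {θ} := (Finset.eq_singleton_iff_unique_mem.mpr ⟨hθ, fun η hη =>
      Finset.card_le_one.mp (by rw [F.hY]) η hη θ hθ⟩)
    have hθX : θ ∉ F.X := fun h => Finset.disjoint_left.mp F.hdisj h hθ
    have hall : ∑ χ ∈ F.X ∪ F.Y, sval F χ * (charDegree (χ : G → ℂ) : ℤ) = 0 := by
      rw [Finset.sum_union F.hdisj, hY1, Finset.sum_singleton,
        Finset.sum_congr rfl (g := fun χ => F.sgn χ * (charDegree (χ : G → ℂ) : ℤ))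
          fun χ hχ => by rw [sval, if_pos hχ], ← rel_degree F hθ, sval, if_neg hθX]
      ring
    rw [← Finset.add_sum_erase _ _ ht, sval_triv,
      show charDegree ((trivChar G : IrrCharacter G) : G → ℂ) = 1 by simp [charDegree]] at hall
    push_cast at hall
    linarith
  rw [hset, Finset.sum_insert (by simp [nab, nac, nad]), Finset.sum_insert (by simp [nbc, nbd]),
    Finset.sum_pair ncd] at hsum
  refine quad_search (hmem a (by simp [hset])) (hmem b (by simp [hset])) (hmem c (by simp [hset]))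
    (hmem d (by simp [hset])) h1 h2 h3 (by linarith) fun x hx y hy => ?_
  have habs : ∀ χ ∈ (F.X ∪ F.Y).erase (trivChar G),
      (sval F χ * (charDegree (χ : G → ℂ) : ℤ)).natAbs = charDegree (χ : G → ℂ) := fun χ hχ => by
    rcases (sval_mod F (Finset.mem_erase.mp hχ).2).1 with e | e <;> simp [e]
  have hrep : ∀ x ∈ [sval F a * (charDegree (a : G → ℂ) : ℤ), sval F b * (charDegree (b : G → ℂ) : ℤ),
      sval F c * (charDegree (c : G → ℂ) : ℤ), sval F d * (charDegree (d : G → ℂ) : ℤ)],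
      ∃ χ : IrrCharacter G, x.natAbs = charDegree (χ : G → ℂ) := fun x hx => by
    simp only [List.mem_cons, List.not_mem_nil, or_false] at hx
    rcases hx with rfl | rfl | rfl | rfl
    exacts [⟨a, habs a (by simp [hset])⟩, ⟨b, habs b (by simp [hset])⟩, ⟨c, habs c (by simp [hset])⟩,
      ⟨d, habs d (by simp [hset])⟩]
  obtain ⟨χ, hχ⟩ := hrep x hx
  obtain ⟨η, hη⟩ := hrep y hy
  rw [hχ, hη]
  exact no_clash D23 D11 χ η

include hG D23 D11 in
/-- The alternating square of a member of degree 11 has no constituents. -/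
theorem no_elevens (F : Frame 5 4 P) (hS : SectionZero F) {a b c d : IrrCharacter G} (nbc : b ≠ c)
    (hset : (F.X ∪ F.Y).erase (trivChar G) = {a, b, c, d})
    (hv : (sval F a * (charDegree (a : G → ℂ) : ℤ), sval F b * (charDegree (b : G → ℂ) : ℤ),
      sval F c * (charDegree (c : G → ℂ) : ℤ), sval F d * (charDegree (d : G → ℂ) : ℤ)) = (-759, 11, 11, 736)) :
    False := by
  simp only [Prod.mk.injEq] at hv
  obtain ⟨va, vb, vc, vd⟩ := hv
  have hm : ∀ χ ∈ ({a, b, c, d} : Finset (IrrCharacter G)), χ ∈ F.X ∪ F.Y := fun χ hχ =>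
    (Finset.mem_erase.mp (hset ▸ hχ)).2
  have hdeg : ∀ χ ∈ ({a, b, c, d} : Finset (IrrCharacter G)), ∀ z : ℤ,
      sval F χ * (charDegree (χ : G → ℂ) : ℤ) = z →
        charDegree (χ : G → ℂ) = z.natAbs ∧ (0 < z → sval F χ = 1) := fun χ hχ z hz => by
    rcases (sval_mod F (hm χ hχ)).1 with e | e <;> subst hz <;> simp [e]
  obtain ⟨db, sb⟩ := hdeg b (by simp) 11 vb
  obtain ⟨dc, sc⟩ := hdeg c (by simp) 11 vc
  obtain ⟨da, -⟩ := hdeg a (by simp) (-759) va
  obtain ⟨dd, -⟩ := hdeg d (by simp) 736 vd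
  norm_num at db dc da dd
  set α : G → ℂ := fun g => ((b : G → ℂ) g * (b : G → ℂ) g - (b : G → ℂ) (g * g)) / 2 with hα
  have hch : IsCharacter G α := CfsgLib.Char.DegPMinusTwo.isCharacter_altSquare (CfsgLib.Char.isCharacter_irr b)
  obtain ⟨m, -, hexp⟩ := CfsgLib.Char.IsCharacter.exists_multiplicity hch
  have h55 : ∑ φ, m φ * charDegree (φ : G → ℂ) = 55 := by
    have h := hexp 1
    simp only [hα, mul_one, irr_one_eq, db] at h
    norm_num at h
    exact_mod_cast h.symm
  have hle : ∀ φ : IrrCharacter G, m φ ≠ 0 → charDegree (φ : G → ℂ) ≤ 55 := fun φ hφ => by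
    have := Finset.single_le_sum (f := fun φ : IrrCharacter G => m φ * charDegree (φ : G → ℂ))
      (fun _ _ => Nat.zero_le _) (Finset.mem_univ φ)
    rw [h55] at this
    exact le_trans (Nat.le_mul_of_pos_left _ (Nat.pos_of_ne_zero hφ)) this
  -- the block constituents
  set S : Finset ↥(centralizer ({F.x} : Set G)) := Finset.univ.filter fun s => IsPRegular 5 s with hSdef
  have hS1 : 0 < S.card := Finset.card_pos.mpr ⟨1, by
    rw [hSdef]
    exact Finset.mem_filter.mpr ⟨Finset.mem_univ _, by rw [IsPRegular, orderOf_one]; norm_num⟩⟩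
  have hzero : ∀ s ∈ S, α (F.x * (s : G)) = 0 := fun s hs => by
    have hc : Commute F.x (s : G) := (mem_centralizer_singleton_iff.mp s.2).symm
    have hs' : ¬ 5 ∣ orderOf (s : G) := by
      rw [Subgroup.orderOf_coe]; exact (Finset.mem_filter.mp hs).2
    have h1 := sval_val F (hm b (by simp)) (i := 1) (by norm_num) hc hs'
    have h2 := sval_val F (hm b (by simp)) (i := 2) (by norm_num) (u := (s : G) * s) (hc.mul_right hc)
      (fun h => hs' (h.trans (by rw [← pow_two]; exact orderOf_pow_dvd 2)))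
    rw [pow_one, sb (by norm_num)] at h1
    rw [sb (by norm_num)] at h2
    simp only [hα]
    rw [show F.x * (s : G) * (F.x * s) = F.x ^ 2 * (s * s) by rw [pow_two, hc.symm.mul_mul_mul_comm], h1, h2]
    norm_num
  have hblock : ∑ φ ∈ F.X ∪ F.Y, (m φ : ℤ) * sval F φ = 0 := by
    have hsum : ∑ φ : IrrCharacter G, (m φ : ℂ) * ∑ s ∈ S, (φ : G → ℂ) (F.x * (s : G)) = 0 := by
      simp only [Finset.mul_sum]
      rw [Finset.sum_comm, Finset.sum_eq_zero fun s hs => (hexp _).symm.trans (hzero s hs)]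
    rw [← Finset.sum_sdiff (Finset.subset_univ (F.X ∪ F.Y)), Finset.sum_eq_zero (s := Finset.univ \ (F.X ∪ F.Y))
      fun φ hφ => by
        rw [Finset.mem_sdiff, Finset.mem_union, not_or] at hφ
        rw [hS φ hφ.2.1 hφ.2.2 F.x F.hx, mul_zero], zero_add,
      Finset.sum_congr rfl (g := fun φ => (S.card : ℂ) * ((((m φ : ℤ) * sval F φ : ℤ)) : ℂ)) fun φ hφ => by
        rw [Finset.sum_congr rfl (g := fun _ => (sval F φ : ℂ)) fun s hs => by
          have h := sval_val F hφ (i := 1) (by norm_num) (mem_centralizer_singleton_iff.mp s.2).symm (by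
            rw [Subgroup.orderOf_coe]; exact (Finset.mem_filter.mp hs).2)
          rwa [pow_one] at h, Finset.sum_const, nsmul_eq_mul]
        push_cast; ring, ← Finset.mul_sum, ← Int.cast_sum, mul_eq_zero] at hsum
    exact_mod_cast hsum.resolve_left (Nat.cast_ne_zero.mpr hS1.ne')
  rw [← Finset.add_sum_erase _ _ (Finset.mem_union.mpr F.htriv), hset, sval_triv] at hblock
  have hout : ∀ φ : IrrCharacter G, φ ∈ ({a, b, c, d} : Finset (IrrCharacter G)) → φ ≠ b → φ ≠ c → m φ = 0 :=
    fun φ hφ h1 h2 => by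
      by_contra h
      have := hle φ h
      simp only [Finset.mem_insert, Finset.mem_singleton] at hφ
      rcases hφ with e | e | e | e <;> first | exact h1 e | exact h2 e | (rw [e] at this; omega)
  rw [← Finset.sum_subset (show ({b, c} : Finset (IrrCharacter G)) ⊆ {a, b, c, d} by
    intro x hx; simp only [Finset.mem_insert, Finset.mem_singleton] at hx ⊢; tauto)
    (fun φ hφ hφ' => by
      simp only [Finset.mem_insert, Finset.mem_singleton, not_or] at hφ'
      rw [hout φ hφ hφ'.1 hφ'.2]; simp), Finset.sum_pair nbc, sb (by norm_num), sc (by norm_num)] at hblock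
  simp only [mul_one] at hblock
  -- the other constituents have degree 22, 23 or 45
  have hrest : ∀ φ : IrrCharacter G, ∃ u w : ℕ, m φ * charDegree (φ : G → ℂ) = 22 * u + 23 * w := fun φ => by
    by_cases hφ : m φ = 0
    · exact ⟨0, 0, by simp [hφ]⟩
    have hne : φ ≠ trivChar G := fun e => hφ (by rw [e]; omega)
    have hb : φ ≠ b := fun e => hφ (by rw [e]; omega)
    have hcne : φ ≠ c := fun e => hφ (by rw [e]; omega)
    have h11 : charDegree (φ : G → ℂ) ≠ 11 := fun h => two_elevens hb hcne nbc h db dc D23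
    have h12 : charDegree (φ : G → ℂ) ≠ 12 := fun h => by
      have := no_clash D23 D11 φ b
      rw [h, db] at this
      revert this
      decide
    have hd := hle φ hφ
    have hsmall : ∀ k ∈ degOK, k ≤ 55 → k = 11 ∨ k = 12 ∨ k = 22 ∨ k = 23 ∨ k = 45 := by decide +kernel
    rcases hsmall _ (deg_mem hG D23 D11 hne) hd with h | h | h | h | h
    · exact absurd h h11
    · exact absurd h h12
    · exact ⟨m φ, 0, by rw [h]; ring⟩
    · exact ⟨0, m φ, by rw [h]; ring⟩
    · exact ⟨m φ, m φ, by rw [h]; ring⟩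
  choose u w huw using hrest
  rw [Finset.sum_congr rfl fun φ _ => huw φ, Finset.sum_add_distrib, ← Finset.mul_sum, ← Finset.mul_sum] at h55
  omega

end Five

include hG D23 D11 in
/-- The principal 5-block has a character of degree 126, or those of degrees 231, 896 and 2024. -/
theorem five_cases : (∃ χ : IrrCharacter G, charDegree (χ : G → ℂ) = 126) ∨
    ((∃ χ : IrrCharacter G, charDegree (χ : G → ℂ) = 231) ∧ (∃ χ : IrrCharacter G, charDegree (χ : G → ℂ) = 896) ∧
      ∃ χ : IrrCharacter G, charDegree (χ : G → ℂ) = 2024) := by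
  have : Fact (Nat.Prime 5) := ⟨by norm_num⟩
  obtain ⟨P⟩ : Nonempty (Sylow 5 G) := inferInstance
  have hP := card_sylow hG (by norm_num) P
  obtain ⟨e, k, he1, he, hN, hC⟩ := LocalTools.exists_e (not_comm hG) P hP
  have he4 : e = 2 ∨ e = 4 := by
    have := Nat.le_of_dvd (by norm_num) he
    interval_cases e <;> simp_all
  obtain ⟨F, hS⟩ := exists_frame_section (e := e) (by norm_num) P hP (by rw [hN, hC])
  rcases he4 with rfl | rfl
  · exfalso
    have ht := F.triv_mem (by norm_num) (by norm_num) (by norm_num)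
    have hc := F.card_X' ht
    obtain ⟨χ, hχ⟩ := Finset.card_eq_one.mp (show F.X'.card = 1 by omega)
    have hχm : χ ∈ F.X' := hχ ▸ Finset.mem_singleton_self χ
    obtain ⟨θ, hθ⟩ : F.Y.Nonempty := Finset.card_pos.1 (by rw [F.hY]; norm_num)
    have hθne : θ ≠ trivChar G := fun e => Finset.disjoint_left.mp F.hdisj ht (e ▸ hθ)
    have hr := F.rel_one ht hθ
    rw [hχ, Finset.sum_singleton] at hr
    have hk := s5_key _ (deg_mem hG D23 D11 (F.mem_X hχm).2)
    have hm := F.hmod χ (F.mem_X hχm).1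
    have hy := F.hYd θ hθ
    have hθd := deg_mem hG D23 D11 hθne
    rw [Int.ModEq] at hm hy
    push_cast at hm hy
    have hs : F.sgn χ * (charDegree (χ : G → ℂ) : ℤ) ∈ s5 ∧
        (F.sgn χ * (charDegree (χ : G → ℂ) : ℤ)).natAbs = charDegree (χ : G → ℂ) := by
      rcases F.hsgn χ (F.mem_X hχm).1 with e | e <;> rw [e] at hm ⊢
      · rw [one_mul]; exact ⟨hk.1 (by omega), rfl⟩
      · rw [neg_one_mul]; exact ⟨hk.2 (by omega), by simp⟩
    have hθs : (1 + F.sgn χ * (charDegree (χ : G → ℂ) : ℤ)).natAbs = charDegree (θ : G → ℂ) ∧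
        (1 + F.sgn χ * (charDegree (χ : G → ℂ) : ℤ)) % 5 = 2 := by
      rw [← hr]
      rcases F.hεy with e | e <;> rw [e] at hy ⊢
      · exact ⟨by simp, by omega⟩
      · exact ⟨by simp, by omega⟩
    have h := pair_search _ hs.1 hθs.2 (hθs.1 ▸ hθd)
    rw [hs.2, hθs.1, no_clash D23 D11 χ θ] at h
    exact Bool.false_ne_true h
  · obtain ⟨a, b, c, d, nab, nac, nad, nbc, nbd, ncd, hset, hq⟩ := exists_quad hG D23 D11 F
    have habs : ∀ χ ∈ (F.X ∪ F.Y).erase (trivChar G), ∀ z : ℤ,
        sval F χ * (charDegree (χ : G → ℂ) : ℤ) = z → charDegree (χ : G → ℂ) = z.natAbs := fun χ hχ z hz => by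
      subst hz
      rcases (sval_mod F (Finset.mem_erase.mp hχ).2).1 with e | e <;> simp [e]
    have ma : a ∈ (F.X ∪ F.Y).erase (trivChar G) := by simp [hset]
    have mb : b ∈ (F.X ∪ F.Y).erase (trivChar G) := by simp [hset]
    have mc : c ∈ (F.X ∪ F.Y).erase (trivChar G) := by simp [hset]
    simp only [quads, List.mem_cons, List.not_mem_nil, or_false, Prod.mk.injEq] at hq
    rcases hq with ⟨-, eb, -, -⟩ | ⟨ea, eb, ec, -⟩ | h | ⟨-, eb, -, -⟩
    · exact Or.inl ⟨b, habs b mb _ eb⟩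
    · exact Or.inr ⟨⟨b, habs b mb _ eb⟩, ⟨c, habs c mc _ ec⟩, ⟨a, habs a ma _ ea⟩⟩
    · exact (no_elevens hG D23 D11 F hS nbc hset (by simp only [Prod.mk.injEq]; exact h)).elim
    · exact Or.inl ⟨b, habs b mb _ eb⟩

end CfsgLib.KGroups.M23FiveBlock
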