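import Cfsg.Agent.Lib.KGroups.MathieuIdent.Deg23
import Cfsg.Agent.S0675

/-!
# A simple group of order 10200960 with a subgroup of index 23 is `M23`
-/

set_option autoImplicit false
open scoped Pointwise

namespace CfsgLib.KGroups.M23Ident

open Cfsg CfsgLib.KGroups.MathieuIdent

variable {G α : Type*} [Group G] [Finite G] [MulAction G α] [Fintype α] [DecidableEq α]

/-- The heptads: seven-element fixed point sets of subgroups of order 16. -/
def heptads (G α : Type*) [Group G] [MulAction G α] : Set (Finset α) :=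
  {B | B.card = 7 ∧ ∃ P : Subgroup G, Nat.card P = 16 ∧ ∀ z, z ∈ B ↔ ∀ g ∈ P, g • z = z}

theorem isSteiner (S : Is23 G α) : IsSteinerSystem 4 7 (heptads G α) := by
  refine ⟨fun b hb => hb.1, fun s hs => ?_⟩
  obtain ⟨a, b, c, d, hab, hac, had, hbc, hbd, hcd, rfl⟩ := Finset.card_eq_four.mp hs
  obtain ⟨P, hP, hfix, huniq, B, hB, hBP⟩ := S.exists_heptad hab hac had hbc hbd hcd
  refine ⟨B, ⟨⟨hB, P, hP, hBP⟩, ?_⟩, ?_⟩
  · intro z hz
    rw [hBP]
    intro g hg
    obtain ⟨h1, h2, h3, h4⟩ := hfix g hg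
    simp only [Finset.mem_insert, Finset.mem_singleton] at hz
    rcases hz with rfl | rfl | rfl | rfl
    exacts [h1, h2, h3, h4]
  · rintro B' ⟨⟨-, P', hP', hB'P⟩, hsub⟩
    have e : P' = P := huniq P' hP' fun g hg =>
      ⟨(hB'P a).mp (hsub (by simp)) g hg, (hB'P b).mp (hsub (by simp)) g hg,
        (hB'P c).mp (hsub (by simp)) g hg, (hB'P d).mp (hsub (by simp)) g hg⟩
    subst e
    exact Finset.ext fun z => (hB'P z).trans (hBP z).symm

theorem smul_mem_heptads (g : G) {B : Finset α} (hB : B ∈ heptads G α) :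
    B.image (g • ·) ∈ heptads G α := by
  obtain ⟨h7, P, hP, hBP⟩ := hB
  refine ⟨by rw [Finset.card_image_of_injective _ (MulAction.injective g), h7],
    P.map (MulAut.conj g).toMonoidHom, by rw [Subgroup.card_map_of_injective (MulAut.conj g).injective, hP],
    fun z => ?_⟩
  rw [Finset.mem_image]
  constructor
  · rintro ⟨w, hw, rfl⟩ _ ⟨h, hh, rfl⟩
    show (g * h * g⁻¹) • g • w = g • w
    rw [mul_smul, inv_smul_smul, mul_smul, (hBP w).mp hw h hh]
  · intro hz
    refine ⟨g⁻¹ • z, (hBP _).mpr fun h hh => ?_, smul_inv_smul g z⟩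
    have : (g * h * g⁻¹) • z = z := hz _ ⟨h, hh, rfl⟩
    rw [mul_smul, mul_smul] at this
    exact eq_inv_smul_iff.mpr this

/-- The group is the whole automorphism group of its heptads. -/
theorem exists_equiv (S : Is23 G α) : Nonempty (G ≃* ↥(setSystemAut (heptads G α))) := by
  have := S.fs
  let f : G →* ↥(setSystemAut (heptads G α)) := (MulAction.toPermHom G α).codRestrict _ fun g =>
    SmallGroups.SteinerCode.mem_aut_of_forall fun b hb => smul_mem_heptads g hb
  have hf : Function.Injective f := fun g h e => eq_of_smul_eq_smul (α := α) fun x =>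
    Equiv.ext_iff.mp (congrArg Subtype.val e) x
  obtain ⟨⟨-, hcard⟩, -⟩ := SmallGroups.SteinerCode.aut23 S.card (isSteiner S)
  have hsurj : f.range = ⊤ := Subgroup.eq_top_of_card_eq _ (by
    rw [hcard, ← Nat.card_congr (MonoidHom.ofInjective hf).toEquiv, S.order])
  exact ⟨(MonoidHom.ofInjective hf).trans ((MulEquiv.subgroupCongr hsurj).trans Subgroup.topEquiv)⟩

/-- Two such groups are isomorphic. -/
theorem nonempty_mulEquiv {G' β : Type*} [Group G'] [Finite G'] [MulAction G' β] [Fintype β] [DecidableEq β]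
    (S : Is23 G α) (S' : Is23 G' β) : Nonempty (G ≃* G') := by
  obtain ⟨e⟩ := exists_equiv S
  obtain ⟨e'⟩ := exists_equiv S'
  obtain ⟨ι⟩ := M22Ident.autIso (SmallGroups.SteinerCode.iso23 S.card S'.card (isSteiner S) (isSteiner S'))
  exact ⟨(e.trans ι).trans e'.symm⟩

/-- The concrete group. -/
abbrev T23 : Subgroup M24 := MulAction.stabilizer M24 (none : GolayPt)

/-- Its twenty-three points. -/
abbrev Pts : Type := {x : GolayPt // x ≠ none}

instance instActPts : MulAction ↥T23 Pts where
  smul g x := ⟨(g : M24) • (x : GolayPt), fun e => x.2 (smul_left_cancel (g : M24) (e.trans g.2.symm))⟩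
  one_smul x := Subtype.ext (one_smul _ (x : GolayPt))
  mul_smul g h x := Subtype.ext (mul_smul (g : M24) h (x : GolayPt))

theorem is23_T23 : Is23 ↥T23 Pts := by
  refine ⟨?_, SmallGroups.MathieuSimple.card_stab_point _, ⟨fun {g h} e => ?_⟩, ?_⟩
  · decide +kernel
  · refine Subtype.ext (Subtype.ext (Equiv.ext fun x => ?_))
    by_cases hx : x = none
    · rw [hx]; exact g.2.trans h.2.symm
    · exact congrArg Subtype.val (e ⟨x, hx⟩)
  · refine MulAction.is_two_pretransitive_iff.mpr fun {a b c d} hab hcd => ?_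
    have mk : ∀ a b : Pts, a ≠ b → Function.Injective ![none, (a : GolayPt), (b : GolayPt)] := by
      intro a b hab
      have ha := a.2
      have hb := b.2
      have hab' : (a : GolayPt) ≠ b := fun e => hab (Subtype.ext e)
      intro i j e
      fin_cases i <;> fin_cases j <;> first | rfl | (exfalso; simp_all [eq_comm])
    obtain ⟨g, hg⟩ := SmallGroups.MathieuSimple.exists_map_of_le (show 3 ≤ 5 by norm_num)
      ⟨_, mk a b hab⟩ ⟨_, mk c d hcd⟩
    exact ⟨⟨g, hg 0⟩, Subtype.ext (hg 1), Subtype.ext (hg 2)⟩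

theorem equivM23 : Nonempty (↥T23 ≃* ↥Spor.M23) :=
  ⟨{ toFun := fun g => ⟨((g : M24) : Equiv.Perm GolayPt), ⟨(g : M24).2, g.2⟩⟩
     invFun := fun g => ⟨⟨g.1, g.2.1⟩, g.2.2⟩
     left_inv := fun _ => rfl
     right_inv := fun _ => rfl
     map_mul' := fun _ _ => rfl }⟩

/-- Recognition of `M23` from a doubly transitive action. -/
theorem isoM23_of_is23 (S : Is23 G α) : Spor.IsoM23 G := by
  obtain ⟨e⟩ := nonempty_mulEquiv S is23_T23
  obtain ⟨e'⟩ := equivM23
  exact ⟨e.trans e'⟩

/-- A simple group of order 10200960 with a subgroup of index 23 is `M23`. -/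
theorem isoM23 {G : Type*} [Group G] [Finite G] [IsSimpleGroup G] (hG : Nat.card G = 10200960)
    (H : Subgroup G) (hH : H.index = 23) : Spor.IsoM23 G := by
  classical
  cases nonempty_fintype (G ⧸ H)
  have hc : Fintype.card (G ⧸ H) = 23 := by rw [← Nat.card_eq_fintype_card, ← Subgroup.index_eq_card, hH]
  set φ := MulAction.toPermHom G (G ⧸ H)
  have hbot : φ.ker = ⊥ := by
    refine ((inferInstance : φ.ker.Normal)).eq_bot_or_eq_top.resolve_right fun ht => ?_
    have : H = ⊤ := eq_top_iff.mpr fun x _ => by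
      have hx := Equiv.ext_iff.mp (show φ x = 1 from ht.ge (Subgroup.mem_top x)) ((1 : G) : G ⧸ H)
      rw [MulAction.toPermHom_apply, MulAction.toPerm_apply, MulAction.Quotient.smul_coe, smul_eq_mul,
        mul_one, Equiv.Perm.one_apply, QuotientGroup.eq, mul_one] at hx
      exact inv_mem_iff.mp hx
    rw [this, Subgroup.index_top] at hH
    omega
  have hinj : Function.Injective φ := (MonoidHom.ker_eq_bot_iff _).mp hbot
  have htr : MulAction.IsPretransitive φ.range (G ⧸ H) :=
    ⟨fun u v => by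
      obtain ⟨k, hk⟩ := MulAction.exists_smul_eq G u v
      exact ⟨⟨φ k, k, rfl⟩, hk⟩⟩
  have h2 : MulAction.IsMultiplyPretransitive G (G ⧸ H) 2 := by
    rcases Cfsg.Agent.S0675.result (by rw [hc]; norm_num) φ.range with hs | h
    · exfalso
      have : Group.IsSolvable G :=
        solvable_of_solvable_injective (f := φ.rangeRestrict) (fun u v e => hinj (congrArg Subtype.val e))
      have hcomm := IsSimpleGroup.comm_iff_isSolvable.mpr this
      let _ : CommGroup G := { (inferInstance : Group G) with mul_comm := hcomm }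
      have hp := IsSimpleGroup.prime_card (α := G)
      rw [hG] at hp
      norm_num at hp
    · refine MulAction.is_two_pretransitive_iff.mpr fun {a b c d} hab hcd => ?_
      obtain ⟨⟨_, k, rfl⟩, h1, h2⟩ :=
        (MulAction.is_two_pretransitive_iff (G := φ.range) (α := G ⧸ H)).mp h hab hcd
      exact ⟨k, h1, h2⟩
  exact isoM23_of_is23 (α := G ⧸ H) ⟨hc, hG, ⟨fun {g h} e => hinj (Equiv.ext e)⟩, h2⟩

end CfsgLib.KGroups.M23Ident
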