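import Cfsg.Agent.Lib.KGroups.M23Base
import Cfsg.Agent.Lib.KGroups.AlgebraPoint
import Cfsg.Agent.Lib.DegreeTools.FeitFour.Basic

/-!
# A subgroup of index 23 from the character of degree 22 of a simple group of order 10200960

The alternating square is irreducible of degree 231 and the symmetric square is `1 + χ + η` with `η` of
degree 230, so the indicator is one and the fourth moment is four.
-/

set_option autoImplicit false

namespace CfsgLib.KGroups.M23Point

open Cfsg CfsgLib CfsgLib.Blocks CfsgLib.KGroups.M12Tools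
open CfsgLib.SmallGroups
open scoped Classical ComplexConjugate

variable {G : Type*} [Group G] [Fintype G]

/-- The small degrees in a character of degree at most 252 add up to its degree. -/
theorem counts (hsmall : ∀ η : IrrCharacter G, charDegree (η : G → ℂ) ≤ 252 →
      charDegree (η : G → ℂ) ∈ ([1, 22, 45, 230, 231] : List ℕ))
    (m : IrrCharacter G → ℕ) {n : ℕ} (hn : n ≤ 253) (h1 : 1 ≤ n)
    (hsum : ∑ η, m η * charDegree (η : G → ℂ) = n) (hne : ∀ η, m η ≠ 0 → charDegree (η : G → ℂ) ≠ 253) :
    n = ∑ η ∈ Finset.univ.filter (fun η : IrrCharacter G => charDegree (η : G → ℂ) = 1), m η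
      + 22 * ∑ η ∈ Finset.univ.filter (fun η : IrrCharacter G => charDegree (η : G → ℂ) = 22), m η
      + 45 * ∑ η ∈ Finset.univ.filter (fun η : IrrCharacter G => charDegree (η : G → ℂ) = 45), m η
      + 230 * ∑ η ∈ Finset.univ.filter (fun η : IrrCharacter G => charDegree (η : G → ℂ) = 230), m η
      + 231 * ∑ η ∈ Finset.univ.filter (fun η : IrrCharacter G => charDegree (η : G → ℂ) = 231), m η := by
  have key : ∀ η, m η * charDegree (η : G → ℂ) =
      (if charDegree (η : G → ℂ) = 1 then m η else 0) + 22 * (if charDegree (η : G → ℂ) = 22 then m η else 0)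
      + 45 * (if charDegree (η : G → ℂ) = 45 then m η else 0)
      + 230 * (if charDegree (η : G → ℂ) = 230 then m η else 0)
      + 231 * (if charDegree (η : G → ℂ) = 231 then m η else 0) := by
    intro η
    by_cases hm : m η = 0
    · simp [hm]
    · have hle : charDegree (η : G → ℂ) ≤ n := hsum ▸ (Nat.le_mul_of_pos_left _ (Nat.pos_of_ne_zero hm)).trans
        (Finset.single_le_sum (f := fun η : IrrCharacter G => m η * charDegree (η : G → ℂ))
          (fun _ _ => Nat.zero_le _) (Finset.mem_univ η))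
      have hmem := hsmall η (by have := hne η hm; omega)
      simp only [List.mem_cons, List.not_mem_nil, or_false] at hmem
      rcases hmem with e | e | e | e | e <;> simp [e, mul_comm]
  rw [← hsum, Finset.sum_congr rfl fun η _ => key η]
  simp only [Finset.sum_filter, Finset.mul_sum, Finset.sum_add_distrib]

/-- The two partitions of 231. -/
theorem split231 {a b c d e : ℕ} (ha : a ≤ 1) (h : 231 = a + 22 * b + 45 * c + 230 * d + 231 * e) :
    (a = 1 ∧ b = 0 ∧ c = 0 ∧ d = 1 ∧ e = 0) ∨ (a = 0 ∧ b = 0 ∧ c = 0 ∧ d = 0 ∧ e = 1) := by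
  have : c ≤ 5 := by omega
  have : d ≤ 1 := by omega
  interval_cases c <;> interval_cases d <;> omega

/-- The partition of 253. -/
theorem split253 {b c d e : ℕ} (h : 253 = 1 + 22 * b + 45 * c + 230 * d + 231 * e) :
    b = 1 ∧ c = 0 ∧ d = 1 ∧ e = 0 := by
  have : c ≤ 5 := by omega
  have : d ≤ 1 := by omega
  interval_cases c <;> interval_cases d <;> omega

variable [IsSimpleGroup G]

/-- The subgroup of index 23. -/
theorem exists_index_twentythree (hG : Nat.card G = 10200960) {chi : IrrCharacter G}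
    (hd : charDegree (chi : G → ℂ) = 22)
    (huniq : ∀ eta : IrrCharacter G, charDegree (eta : G → ℂ) = 22 → eta = chi)
    (hsmall : ∀ eta : IrrCharacter G, charDegree (eta : G → ℂ) ≤ 252 →
      charDegree (eta : G → ℂ) ∈ ([1, 22, 45, 230, 231] : List ℕ))
    {t : G} (ht : orderOf t = 2) (hchi : (chi : G → ℂ) t = 6)
    (h230 : ∀ eta : IrrCharacter G, charDegree (eta : G → ℂ) = 230 → (eta : G → ℂ) t = 22) :
    ∃ H : Subgroup G, H.index = 23 := by
  have h22 : (chi : G → ℂ) 1 = 22 := by rw [irr_one_eq, hd]; norm_num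
  have hN : (Nat.card G : ℂ) ≠ 0 := Nat.cast_ne_zero.mpr Nat.card_pos.ne'
  have htt : (chi : G → ℂ) (t * t) = 22 := by
    rw [← pow_two, ← ht, pow_orderOf_eq_one, h22]
  -- the character is real
  have hreal : ∀ g, conj ((chi : G → ℂ) g) = (chi : G → ℂ) g := fun g => by
    have e := huniq (DegreeTools.Rationality.galIrr (starRingAut : ℂ ≃+* ℂ) chi)
      (by rw [degree_galIrr, hd])
    have := congrArg (fun c : IrrCharacter G => (c : G → ℂ) g) e
    simpa [DegreeTools.Rationality.galIrr_apply] using this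
  have htwo : ∑ g, (chi : G → ℂ) g * (chi : G → ℂ) g = (Nat.card G : ℂ) := by
    have h := CfsgLib.Char.classInner_irr_self chi.2
    rw [classInner, inv_mul_eq_iff_eq_mul₀ hN, mul_one] at h
    rw [← h]
    exact Finset.sum_congr rfl fun g _ => by rw [hreal]
  have hone : ∀ f : G → ℂ, classInner f (trivChar G : G → ℂ) = (Nat.card G : ℂ)⁻¹ * ∑ g, f g := fun f => by
    simp [classInner]
  have htriv1 : ∀ η : IrrCharacter G, charDegree (η : G → ℂ) = 1 ↔ η = trivChar G := fun η =>
    ⟨fun h => BlockDegrees.eq_trivChar (M23Base.not_comm hG) η h, fun h => by subst h; simp [charDegree]⟩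
  have hfilt1 : (Finset.univ.filter fun η : IrrCharacter G => charDegree (η : G → ℂ) = 1) = {trivChar G} := by
    ext η; simp [htriv1]
  have hfilt22 : (Finset.univ.filter fun η : IrrCharacter G => charDegree (η : G → ℂ) = 22) = {chi} := by
    ext η; simpa using ⟨huniq η, fun h => h ▸ hd⟩
  -- the alternating and symmetric squares
  set A : G → ℂ := fun g => ((chi : G → ℂ) g * (chi : G → ℂ) g - (chi : G → ℂ) (g * g)) / 2 with hA
  set S : G → ℂ := fun g => ((chi : G → ℂ) g * (chi : G → ℂ) g + (chi : G → ℂ) (g * g)) / 2 with hS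
  have hAc : IsCharacter G A := Char.DegPMinusTwo.isCharacter_altSquare (CfsgLib.Char.isCharacter_irr chi)
  have hSc : IsCharacter G S := DegreeTools.FeitFour.isCharacter_symSquare (CfsgLib.Char.isCharacter_irr chi)
  obtain ⟨a, haI, haX⟩ := Char.IsCharacter.exists_multiplicity hAc
  obtain ⟨s, hsI, hsX⟩ := Char.IsCharacter.exists_multiplicity hSc
  have hdeg : ∀ (m : IrrCharacter G → ℕ) (f : G → ℂ) (n : ℕ),
      (∀ g, f g = ∑ η : IrrCharacter G, (m η : ℂ) * (η : G → ℂ) g) → f 1 = (n : ℂ) →
      ∑ η, m η * charDegree (η : G → ℂ) = n := by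
    intro m f n hX h1
    rw [hX] at h1
    simp only [irr_one_eq] at h1
    exact_mod_cast h1
  have hAd := hdeg a A 231 haX (by simp only [hA, mul_one, h22]; norm_num)
  have hSd := hdeg s S 253 hsX (by simp only [hS, mul_one, h22]; norm_num)
  have hsum1 : (a (trivChar G) : ℂ) + s (trivChar G) = 1 := by
    rw [← haI, ← hsI, hone, hone, ← mul_add, ← Finset.sum_add_distrib,
      Finset.sum_congr rfl fun g _ => show A g + S g = (chi : G → ℂ) g * (chi : G → ℂ) g by simp only [hA, hS]; ring, htwo,
      inv_mul_cancel₀ hN]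
  have hsum1' : a (trivChar G) + s (trivChar G) = 1 := by exact_mod_cast hsum1
  have hzero : ∀ (m : IrrCharacter G → ℕ) (k : ℕ),
      ∑ η ∈ Finset.univ.filter (fun η : IrrCharacter G => charDegree (η : G → ℂ) = k), m η = 0 →
      ∀ η : IrrCharacter G, charDegree (η : G → ℂ) = k → m η = 0 := fun m k h η hk =>
    Finset.sum_eq_zero_iff.mp h η (Finset.mem_filter.mpr ⟨Finset.mem_univ _, hk⟩)
  have hsingle : ∀ (m : IrrCharacter G → ℕ) (k : ℕ),
      ∑ η ∈ Finset.univ.filter (fun η : IrrCharacter G => charDegree (η : G → ℂ) = k), m η = 1 →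
      ∃ η₀ : IrrCharacter G, charDegree (η₀ : G → ℂ) = k ∧ m η₀ = 1 ∧
        ∀ η : IrrCharacter G, charDegree (η : G → ℂ) = k → η ≠ η₀ → m η = 0 := by
    intro m k h
    obtain ⟨η₀, hη₀, hm⟩ := Finset.exists_ne_zero_of_sum_ne_zero (by rw [h]; exact one_ne_zero :
      ∑ η ∈ Finset.univ.filter (fun η : IrrCharacter G => charDegree (η : G → ℂ) = k), m η ≠ 0)
    rw [← Finset.add_sum_erase _ _ hη₀] at h
    refine ⟨η₀, (Finset.mem_filter.mp hη₀).2, by omega, fun η hk hne => ?_⟩
    exact Finset.sum_eq_zero_iff.mp (by omega :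
      ∑ x ∈ (Finset.univ.filter fun η : IrrCharacter G => charDegree (η : G → ℂ) = k).erase η₀, m x = 0) η
      (Finset.mem_erase.mpr ⟨hne, Finset.mem_filter.mpr ⟨Finset.mem_univ _, hk⟩⟩)
  -- the alternating square
  have cA := counts hsmall a (show 231 ≤ 253 by norm_num) (by norm_num) hAd fun η hm h => by
    have := Finset.single_le_sum (f := fun η : IrrCharacter G => a η * charDegree (η : G → ℂ))
      (fun _ _ => Nat.zero_le _) (Finset.mem_univ η)
    rw [hAd] at this
    have := Nat.le_mul_of_pos_left (charDegree (η : G → ℂ)) (Nat.pos_of_ne_zero hm)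
    omega
  rw [hfilt1, hfilt22, Finset.sum_singleton, Finset.sum_singleton] at cA
  set A45 := ∑ η ∈ Finset.univ.filter (fun η : IrrCharacter G => charDegree (η : G → ℂ) = 45), a η with hA45
  set A230 := ∑ η ∈ Finset.univ.filter (fun η : IrrCharacter G => charDegree (η : G → ℂ) = 230), a η with hA230
  set A231 := ∑ η ∈ Finset.univ.filter (fun η : IrrCharacter G => charDegree (η : G → ℂ) = 231), a η with hA231
  have hle : ∀ (m : IrrCharacter G → ℕ) (n : ℕ), ∑ η, m η * charDegree (η : G → ℂ) = n → ∀ η, m η ≠ 0 →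
      charDegree (η : G → ℂ) ≤ n := fun m n h η hm =>
    h ▸ (Nat.le_mul_of_pos_left _ (Nat.pos_of_ne_zero hm)).trans
      (Finset.single_le_sum (f := fun η : IrrCharacter G => m η * charDegree (η : G → ℂ))
        (fun _ _ => Nat.zero_le _) (Finset.mem_univ η))
  have a0 : a (trivChar G) = 0 := by
    by_contra h
    have hE : a (trivChar G) = 1 ∧ a chi = 0 ∧ A45 = 0 ∧ A230 = 1 ∧ A231 = 0 :=
      (split231 (by omega) cA).resolve_right (fun hh => h hh.1)
    obtain ⟨ha1, ha22, ha45, ha230, ha231⟩ := hE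
    obtain ⟨η₀, hη₀, hm₀, hrest⟩ := hsingle a 230 ha230
    have h7 : A t = 7 := by simp only [hA, hchi, htt]; norm_num
    rw [haX, Finset.sum_eq_add (trivChar G) η₀ (fun e => by
        have := (htriv1 _).mpr e.symm; omega) ?_ (by simp) (by simp), ha1, hm₀, h230 η₀ hη₀] at h7
    · simp only [Nat.cast_one, one_mul, trivChar_apply] at h7
      norm_num at h7
    · intro η _ hη
      have hη0 : a η = 0 := by
        by_contra hne
        have hmem := hsmall η (by have := hle a 231 hAd η hne; omega)
        simp only [List.mem_cons, List.not_mem_nil, or_false] at hmem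
        rcases hmem with e | e | e | e | e
        · exact hη.1 ((htriv1 η).mp e)
        · exact hne (huniq η e ▸ ha22)
        · exact hne (hzero a 45 (hA45 ▸ ha45) η e)
        · exact hne (hrest η e hη.2)
        · exact hne (hzero a 231 (hA231 ▸ ha231) η e)
      rw [hη0, Nat.cast_zero, zero_mul]
  have hE : a chi = 0 ∧ A45 = 0 ∧ A230 = 0 ∧ A231 = 1 :=
    ((split231 (by omega) cA).resolve_left (fun hh => absurd (hh.1 ▸ a0) one_ne_zero)).2
  obtain ⟨η₁, hη₁, hm₁, hrest₁⟩ := hsingle a 231 hE.2.2.2
  have hAsupp : ∀ η, η ≠ η₁ → a η = 0 := fun η hη => by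
    by_contra hne
    have hmem := hsmall η (by have := hle a 231 hAd η hne; omega)
    simp only [List.mem_cons, List.not_mem_nil, or_false] at hmem
    rcases hmem with e | e | e | e | e
    · exact hne ((htriv1 η).mp e ▸ a0)
    · exact hne (huniq η e ▸ hE.1)
    · exact hne (hzero a 45 (hA45 ▸ hE.2.1) η e)
    · exact hne (hzero a 230 (hA230 ▸ hE.2.2.1) η e)
    · exact hne (hrest₁ η e hη)
  -- the symmetric square
  have s1 : s (trivChar G) = 1 := by omega
  have hs253 : ∀ η, s η ≠ 0 → charDegree (η : G → ℂ) ≠ 253 := fun η hm h => by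
    have hne : η ≠ trivChar G := fun e => by have := (htriv1 η).mpr e; omega
    have h2 : s (trivChar G) * charDegree (trivChar G : G → ℂ) + s η * charDegree (η : G → ℂ) ≤ 253 := by
      rw [← hSd, ← Finset.sum_pair (f := fun η : IrrCharacter G => s η * charDegree (η : G → ℂ)) hne.symm]
      exact Finset.sum_le_sum_of_subset (Finset.subset_univ _)
    rw [s1, h, (htriv1 _).mpr rfl] at h2
    have := Nat.pos_of_ne_zero hm
    omega
  have cS := counts hsmall s le_rfl (by norm_num) hSd hs253
  rw [hfilt1, hfilt22, Finset.sum_singleton, Finset.sum_singleton, s1] at cS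
  set S45 := ∑ η ∈ Finset.univ.filter (fun η : IrrCharacter G => charDegree (η : G → ℂ) = 45), s η with hS45
  set S230 := ∑ η ∈ Finset.univ.filter (fun η : IrrCharacter G => charDegree (η : G → ℂ) = 230), s η with hS230
  set S231 := ∑ η ∈ Finset.univ.filter (fun η : IrrCharacter G => charDegree (η : G → ℂ) = 231), s η with hS231
  have hF : s chi = 1 ∧ S45 = 0 ∧ S230 = 1 ∧ S231 = 0 := split253 cS
  obtain ⟨η₀, hη₀, hm₀, hrest₀⟩ := hsingle s 230 hF.2.2.1
  have hSsupp : ∀ η, η ≠ trivChar G → η ≠ chi → η ≠ η₀ → s η = 0 := fun η h1 h2 h3 => by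
    by_contra hne
    have hmem := hsmall η (by have := hle s 253 hSd η hne; have := hs253 η hne; omega)
    simp only [List.mem_cons, List.not_mem_nil, or_false] at hmem
    rcases hmem with e | e | e | e | e
    · exact h1 ((htriv1 η).mp e)
    · exact h2 (huniq η e)
    · exact hne (hzero s 45 (hS45 ▸ hF.2.1) η e)
    · exact hne (hrest₀ η e h3)
    · exact hne (hzero s 231 (hS231 ▸ hF.2.2.2) η e)
  -- the three moments
  have hnu : ∑ g : G, (chi : G → ℂ) (g * g) = (Nat.card G : ℂ) := by
    have h := haI (trivChar G)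
    rw [hone, a0, Nat.cast_zero] at h
    have h' := (mul_eq_zero.mp h).resolve_left (inv_ne_zero hN)
    simp only [hA] at h'
    rw [← Finset.sum_div, Finset.sum_sub_distrib, htwo, div_eq_zero_iff, sub_eq_zero] at h'
    exact (h'.resolve_right two_ne_zero).symm
  have hsym : ∑ g : G, ((chi : G → ℂ) g ^ 2 + (chi : G → ℂ) (g * g)) * (chi : G → ℂ) g ≠ 0 := by
    have h := hsI chi
    rw [hF.1, Nat.cast_one, classInner, inv_mul_eq_iff_eq_mul₀ hN, mul_one] at h
    rw [show ∑ g : G, ((chi : G → ℂ) g ^ 2 + (chi : G → ℂ) (g * g)) * (chi : G → ℂ) g = 2 * ∑ g : G, S g * conj ((chi : G → ℂ) g) from by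
      rw [Finset.mul_sum]
      exact Finset.sum_congr rfl fun g _ => by simp only [hS, hreal]; ring, h]
    exact mul_ne_zero two_ne_zero hN
  have hfour : ∑ g : G, (chi : G → ℂ) g ^ 4 = 4 * (Nat.card G : ℂ) := by
    have hd1 : η₁ ≠ trivChar G := fun e => by have := (htriv1 η₁).mpr e; omega
    have hd2 : η₁ ≠ chi := fun e => by subst e; omega
    have hd3 : η₁ ≠ η₀ := fun e => by subst e; omega
    have hd4 : η₀ ≠ trivChar G := fun e => by have := (htriv1 η₀).mpr e; omega
    have hd5 : η₀ ≠ chi := fun e => by subst e; omega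
    have hd6 : chi ≠ trivChar G := fun e => by have := (htriv1 chi).mpr e; omega
    have hval : ∀ η : IrrCharacter G, classInner (A + S) (η : G → ℂ) =
        if η ∈ ({trivChar G, chi, η₀, η₁} : Finset (IrrCharacter G)) then 1 else 0 := by
      intro η
      rw [CfsgLib.Char.classInner_add_left, haI, hsI]
      simp only [Finset.mem_insert, Finset.mem_singleton]
      by_cases e1 : η = η₁
      · subst e1
        rw [hm₁, hSsupp η hd1 hd2 hd3]
        simp
      · rw [hAsupp η e1]
        by_cases e2 : η = trivChar G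
        · subst e2; rw [s1]; simp
        by_cases e3 : η = chi
        · subst e3; rw [hF.1]; simp
        by_cases e4 : η = η₀
        · subst e4; rw [hm₀]; simp
        rw [hSsupp η e2 e3 e4]
        simp [e1, e2, e3, e4]
    have hAS : classInner (A + S) (A + S) = 4 := by
      rw [CfsgLib.Char.classInner_eq_sum_irr
        (CfsgLib.Char.IsCharacter.isClassFunction (CfsgLib.Char.IsCharacter.add hAc hSc))]
      simp only [← CfsgLib.Char.classInner_conj_symm (A + S), hval, apply_ite conj, map_one, map_zero,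
        mul_ite, mul_one, mul_zero, ← ite_and, and_self, Finset.sum_ite_mem, Finset.univ_inter,
        Finset.sum_const, nsmul_eq_mul]
      rw [Finset.card_insert_of_notMem (by simp [hd6.symm, hd4.symm, hd1.symm]),
        Finset.card_insert_of_notMem (by simp [hd5.symm, hd2.symm]), Finset.card_pair hd3.symm]
      norm_num
    rw [classInner, inv_mul_eq_iff_eq_mul₀ hN] at hAS
    rw [show ∑ g : G, (chi : G → ℂ) g ^ 4 = ∑ g : G, (A + S) g * conj ((A + S) g) from
      Finset.sum_congr rfl fun g _ => by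
        rw [show (A + S) g = (chi : G → ℂ) g * (chi : G → ℂ) g by simp only [hA, hS, Pi.add_apply]; ring, map_mul, hreal]
        ring, hAS]
    ring
  exact AlgebraPoint.exists_index_of_character chi 22 hd (by norm_num) hreal hnu hsym hfour

end CfsgLib.KGroups.M23Point
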