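import Cfsg.Agent.Lib.KGroups.M23Sylow
import Cfsg.Agent.Lib.KGroups.M23Eleven
import Cfsg.Agent.Lib.KGroups.M23Five
import Cfsg.Agent.Lib.KGroups.M23Block
import Cfsg.Agent.Lib.KGroups.M23Point
import Cfsg.Agent.Lib.KGroups.M23Ident
import Cfsg.Agent.Lib.Recognition.CountSimple
import Cfsg.Agent.Lib.SmallGroups.MathieuSimple

/-!
# A simple group of order 10200960 is `M23`, also by element order counts
-/

set_option autoImplicit false

namespace CfsgLib.KGroups.M23Order

open Cfsg CfsgLib.Blocks CfsgLib.KGroups.M12Local CfsgLib.KGroups.M23Base Subgroup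
open CfsgLib.SmallGroups
open scoped Classical

theorem isoM23 {G : Type*} [Group G] [Finite G] [IsSimpleGroup G] (hG : Nat.card G = 10200960) :
    Spor.IsoM23 G := by
  cases nonempty_fintype G
  have : Fact (Nat.Prime 23) := ⟨by norm_num⟩
  have : Fact (Nat.Prime 11) := ⟨by norm_num⟩
  have h23 := M23Sylow.normalizer_twentythree hG
  have h11 := M23Eleven.normalizer_eleven hG h23
  obtain ⟨D⟩ := exists_localData (p := 23) (e := 11) (by norm_num) (card_sylow hG (by norm_num)) h23
  obtain ⟨E, ⟨e, de⟩, ⟨z, dz⟩, t, ht, hv⟩ := M23Five.exists_eleven hG h23 h11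
  obtain ⟨u, w, huw, hY⟩ := Finset.card_eq_two.mp (show E.D.F.Y.card = 2 by rw [E.D.F.hY])
  have hu : u ∈ E.D.F.Y := by simp [hY]
  have hw : w ∈ E.D.F.Y := by simp [hY]
  have hcases : ∀ χ : IrrCharacter G, ¬ 11 ∣ charDegree (χ : G → ℂ) → χ = trivChar G ∨ χ = E.a ∨ χ = E.b ∨
      χ = E.c ∨ χ = E.d ∨ χ = u ∨ χ = w := by
    intro χ h
    by_cases hX : χ ∈ E.D.F.X
    · by_cases ht : χ = trivChar G
      · exact Or.inl ht
      · have hm : χ ∈ E.D.F.X' := Finset.mem_erase.mpr ⟨ht, hX⟩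
        simp only [E.hset, Finset.mem_insert, Finset.mem_singleton] at hm
        rcases hm with e | e | e | e <;> simp [e]
    · by_cases hYm : χ ∈ E.D.F.Y
      · simp only [hY, Finset.mem_insert, Finset.mem_singleton] at hYm
        rcases hYm with e | e <;> simp [e]
      · exact absurd (M22Tools.rest_dvd E.D.F (by norm_num) (by norm_num) E.D.hP E.D.hC hX hYm) h
  have mk : ∀ (a b : IrrCharacter G) (va vb vd : ℤ) (C : ℕ), a ≠ b → charDegree (a : G → ℂ) = 45 →
      charDegree (b : G → ℂ) = 45 → (∀ χ : IrrCharacter G, χ = E.a ∨ χ = E.b → χ = a ∨ χ = b) →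
      Nat.card (centralizer ({t} : Set G)) = C → (a : G → ℂ) t = va → (b : G → ℂ) t = vb →
      (E.c : G → ℂ) t = 22 → (E.d : G → ℂ) t = vd → (∀ θ ∈ E.D.F.Y, (θ : G → ℂ) t = 0) →
      ((C = 2688 ∧ va = -3 ∧ vb = -3 ∧ vd = 27) ∨ (C = 896 ∧ va = -3 ∧ vb = 5 ∧ vd = 19)) →
      Spor.IsoM23 G := by
    intro a b va vb vd C hab hda hdb hsub hC ha hb hc hd hθ hcase
    obtain ⟨χ, hχ, huniq, hsmall, h6, h230⟩ := M23Block.exists_twentytwo hG D
      { a := a, b := b, c := E.c, d := E.d, u := u, w := w, nab := hab, nuw := huw, da := hda, db := hdb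
        dc := E.dc, dd := E.dd, du := E.dθ u hu, dw := E.dθ w hw
        cases := fun χ h => by
          rcases hcases χ h with e | e | e | e | e | e | e
          · exact Or.inl e
          · rcases hsub χ (Or.inl e) with e' | e' <;> simp [e']
          · rcases hsub χ (Or.inr e) with e' | e' <;> simp [e']
          all_goals simp [e]
        e := e, de := de, z := z, dz := dz, t := t, ht := ht, C := C, hC := hC, va := va, vb := vb, vd := vd
        ha := ha, hb := hb, hc := hc, hd := hd, hu := hθ u hu, hw := hθ w hw, hcase := hcase }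
    obtain ⟨H, hH⟩ := M23Point.exists_index_twentythree hG hχ huniq hsmall ht h6 h230
    exact M23Ident.isoM23 hG H hH
  rcases hv with ⟨hC, ha, hb, hc, hd, hθ⟩ | ⟨hC, hab, hc, hd, hθ⟩
  · exact mk E.a E.b (-3) (-3) 27 2688 E.nab E.da E.db (fun χ h => h) hC (by exact_mod_cast ha)
      (by exact_mod_cast hb) hc (by exact_mod_cast hd) hθ (Or.inl ⟨rfl, rfl, rfl, rfl⟩)
  · rcases hab with ⟨ha, hb⟩ | ⟨ha, hb⟩
    · exact mk E.a E.b (-3) 5 19 896 E.nab E.da E.db (fun χ h => h) hC (by exact_mod_cast ha)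
        (by exact_mod_cast hb) hc (by exact_mod_cast hd) hθ (Or.inr ⟨rfl, rfl, rfl, rfl⟩)
    · exact mk E.b E.a (-3) 5 19 896 E.nab.symm E.db E.da (fun χ h => h.symm) hC (by exact_mod_cast hb)
        (by exact_mod_cast ha) hc (by exact_mod_cast hd) hθ (Or.inr ⟨rfl, rfl, rfl, rfl⟩)

theorem simple_card : IsSimpleGroup Cfsg.Spor.M23 ∧ Nat.card Cfsg.Spor.M23 = 10200960 := by
  have : IsSimpleGroup ↥M23Ident.T23 := MathieuSimple.isSimple_M23 none
  obtain ⟨e⟩ := M23Ident.equivM23
  exact ⟨MathieuSimple.isSimpleGroup_congr' e,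
    (Nat.card_congr e.toEquiv).symm.trans (MathieuSimple.card_stab_point none)⟩

/-- In a simple group of order 10200960 the elements of order 23 are self-centralising. -/
theorem centralizer_twentythree {M : Type*} [Group M] [Fintype M] [IsSimpleGroup M]
    (hM : Nat.card M = 10200960) {y : M} (hy : orderOf y = 23) :
    Nat.card ↥(centralizer ({y} : Set M)) = 23 := by
  have : Fact (Nat.Prime 23) := ⟨by norm_num⟩
  obtain ⟨P, hP⟩ := (IsPGroup.of_card (n := 1) (by rw [Nat.card_zpowers, hy, pow_one]) :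
    IsPGroup 23 ↥(zpowers y)).exists_le_sylow
  have he : zpowers y = (P : Subgroup M) := Subgroup.eq_of_le_of_card_ge hP
    (by rw [card_sylow hM (by norm_num) P, Nat.card_zpowers, hy])
  rw [← CfsgLib.Recognition.CountSimple.centralizer_coe_zpowers, he]
  exact (M23Sylow.normalizer_twentythree hM P).2

/-- The counts of `M23` force simplicity. -/
theorem isSimple_of_nse {G : Type*} [Group G] [Finite G] (hcard : Nat.card G = Nat.card ↥Cfsg.Spor.M23)
    (hnse : {c : ℕ | 0 < c ∧ ∃ n : ℕ, c = Nat.card {g : G // orderOf g = n}} =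
      {c : ℕ | 0 < c ∧ ∃ n : ℕ, c = Nat.card {g : ↥Cfsg.Spor.M23 // orderOf g = n}}) :
    IsSimpleGroup G ∧ Nat.card G = 10200960 := by
  obtain ⟨hs, hM⟩ := simple_card
  have : Fact (Nat.Prime 23) := ⟨by norm_num⟩
  cases nonempty_fintype ↥Cfsg.Spor.M23
  refine ⟨?_, hcard.trans hM⟩
  refine CfsgLib.Recognition.CountSimple.isSimple (p := 23) (m := 443520) (by rw [hcard, hM]) (by rw [hM])
    (by norm_num) (by norm_num) (by norm_num) (fun y hy => centralizer_twentythree hM hy) hnse ?_ ?_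
  · have h := card_sylow_modEq_one 23 ↥Cfsg.Spor.M23
    obtain ⟨P⟩ := (inferInstance : Nonempty (Sylow 23 ↥Cfsg.Spor.M23))
    have h2 : Nat.card (Sylow 23 ↥Cfsg.Spor.M23) =
        (normalizer ((P : Subgroup ↥Cfsg.Spor.M23) : Set ↥Cfsg.Spor.M23)).index := P.card_eq_index_normalizer
    have h3 := (normalizer ((P : Subgroup ↥Cfsg.Spor.M23) : Set ↥Cfsg.Spor.M23)).index_mul_card
    rw [← h2, (M23Sylow.normalizer_twentythree hM P).1, hM] at h3
    omega
  · intro q j hq hj hdvd h1
    have hq11 : q ≤ 11 := by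
      have h := Nat.dvd_trans (dvd_pow_self q (by omega : j ≠ 0)) hdvd
      rcases (Nat.Prime.dvd_mul hq).mp (show q ∣ 2 ^ 7 * (3 ^ 2 * (5 * (7 * 11))) by norm_num; exact h) with h | h
      · have := (Nat.prime_dvd_prime_iff_eq hq Nat.prime_two).mp (hq.dvd_of_dvd_pow h); omega
      rcases (Nat.Prime.dvd_mul hq).mp h with h | h
      · have := (Nat.prime_dvd_prime_iff_eq hq Nat.prime_three).mp (hq.dvd_of_dvd_pow h); omega
      rcases (Nat.Prime.dvd_mul hq).mp h with h | h
      · have := (Nat.prime_dvd_prime_iff_eq hq Nat.prime_five).mp h; omega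
      rcases (Nat.Prime.dvd_mul hq).mp h with h | h
      · have := (Nat.prime_dvd_prime_iff_eq hq (by norm_num : Nat.Prime 7)).mp h; omega
      · have := (Nat.prime_dvd_prime_iff_eq hq (by norm_num : Nat.Prime 11)).mp h; omega
    have hj19 : j < 19 := by
      by_contra hj'
      have := Nat.le_of_dvd (by norm_num) hdvd
      have h19 : 2 ^ 19 ≤ q ^ j :=
        (Nat.pow_le_pow_left hq.two_le 19).trans (Nat.pow_le_pow_right hq.pos (by omega))
      omega
    have key : ∀ q ∈ Finset.range 12, ∀ j ∈ Finset.range 19, 2 ≤ q → 1 ≤ j → q ^ j ∣ 443520 → q ^ j % 23 ≠ 1 := by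
      decide +kernel
    exact key q (Finset.mem_range.mpr (by omega)) j (Finset.mem_range.mpr hj19) hq.two_le hj hdvd h1

end CfsgLib.KGroups.M23Order
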