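import Cfsg.Agent.Lib.KGroups.M23Base
import Cfsg.Agent.Lib.KGroups.M23Eigen
import Cfsg.Agent.Lib.SmallGroups.SelfNormalFixed

/-!
# The Sylow 23-normaliser of a simple group of order 10200960

A centraliser larger than the Sylow subgroup gives an element of prime order whose multiplicities in an odd
character of the principal block are too large.
-/

set_option autoImplicit false

namespace CfsgLib.KGroups.M23Sylow

open Cfsg CfsgLib.Blocks CfsgLib.KGroups.M11Tools CfsgLib.KGroups.M12Tools CfsgLib.KGroups.M12Local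
  CfsgLib.KGroups.M22Tools CfsgLib.KGroups.M22Frame CfsgLib.KGroups.M23Base CfsgLib.KGroups.M23Eigen Subgroup
open CfsgLib.SmallGroups
open scoped Classical

theorem cases_key : ∀ e ∈ Nat.divisors 22, e ≠ 1 → ∀ a ∈ Nat.divisors 128, ∀ b ∈ Nat.divisors 3465,
    e * (a * b) % 23 = 11 → 443520 % (e * (a * b)) = 0 → e * (a * b) ≠ 443520 →
    (e = 11 ∧ a * b = 1) ∨ (e = 2 ∧ a * b ≠ 1) ∨
      ((e = 11 ∨ e = 22) ∧ a * b ∈ ([24, 70, 576, 1680, 12, 35, 288, 840] : List ℕ)) := by
  decide +kernel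

theorem odd_key : ∀ a ∈ xdegs, a % 2 ≠ 0 → a.natAbs < 46 ∨ (11 ∣ a.natAbs ∧ a.natAbs < 506) := by decide +kernel

theorem odd_key' : ∀ a ∈ ydegs, a % 2 ≠ 0 → a < 46 ∨ (11 ∣ a ∧ a < 506) := by decide +kernel

theorem two_key : ∀ a ∈ xdegs, (1 + a).natAbs ∣ 10200960 → 11 * ((1 + a).natAbs) ^ 2 ≤ 10200960 →
    a.natAbs < 46 := by
  decide +kernel

variable {G : Type*} [Group G] [Fintype G] [IsSimpleGroup G] (hG : Nat.card G = 10200960) [Fact (Nat.Prime 23)]

omit [IsSimpleGroup G] [Fact (Nat.Prime 23)] in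
/-- An element of prime order in the centraliser fixed by an element of order 11 of the normaliser. -/
theorem exists_pair (P : Sylow 23 G) (hP : Nat.card (P : Subgroup G) = 23) {k : ℕ}
    (hC : Nat.card (centralizer ((P : Subgroup G) : Set G)) = 23 * k) (hk11 : ¬ 11 ∣ k)
    (h11 : 11 ∣ Nat.card (normalizer ((P : Subgroup G) : Set G))) {p a : ℕ} (hp : p.Prime) (hp23 : p ≠ 23)
    (h1 : p ^ a ∣ k) (h2 : ¬ p ^ (a + 1) ∣ k) (h3 : p ^ a % 11 ≠ 1) :
    ∃ (v y : G) (r : ℕ), r.Prime ∧ r ≠ 23 ∧ r ≠ 11 ∧ orderOf v = r ∧ orderOf y = 11 ∧ Commute y v ∧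
      v ∈ centralizer ((P : Subgroup G) : Set G) := by
  have : Fact (Nat.Prime 11) := ⟨by norm_num⟩
  set C := centralizer ((P : Subgroup G) : Set G) with hCdef
  set N := normalizer ((P : Subgroup G) : Set G) with hNdef
  set H : Subgroup ↥N := C.subgroupOf N with hHdef
  have hH : H.Normal := by
    rw [hHdef, hCdef, hNdef, ← normalizerMonoidHom_ker]
    exact MonoidHom.normal_ker _
  have hcard : Nat.card H = 23 * k := by
    rw [Nat.card_congr (subgroupOfEquivOfLe (Subgroup.centralizer_le_normalizer _)).toEquiv, hC]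
  obtain ⟨y, hy⟩ := exists_prime_orderOf_dvd_card' (G := ↥N) 11 h11
  have hyG : orderOf (y : G) = 11 := by rw [orderOf_coe]; exact hy
  have hyC : (y : G) ∉ C := fun h => by
    have h' := Subgroup.orderOf_dvd_natCard C h
    rw [hyG, hC] at h'
    rcases (Nat.Prime.dvd_mul (by norm_num)).mp h' with h'' | h''
    · norm_num at h''
    · exact hk11 h''
  obtain ⟨m, hm, hm1⟩ : ∃ m : H, MulAut.conjNormal (H := H) y m = m ∧ m ≠ 1 := by
    by_contra hall
    simp only [not_exists, not_and, not_not] at hall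
    have h := SelfNormalFixed.sylow_mod (q := 11) (f := MulAut.conjNormal (H := H) y)
      (by rw [← map_pow, ← hy, pow_orderOf_eq_one, map_one]) hall hp
    have hk0 : 23 * k ≠ 0 := hcard ▸ Nat.card_pos.ne'
    have hf : (23 * k).factorization p = a := by
      have hcop : ∀ b, Nat.Coprime (p ^ b) 23 := fun b =>
        Nat.Coprime.pow_left _ ((Nat.coprime_primes hp (by norm_num)).mpr hp23)
      refine le_antisymm ?_ ((hp.pow_dvd_iff_le_factorization hk0).mp (h1.mul_left 23))
      by_contra hlt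
      exact h2 ((hcop _).dvd_of_dvd_mul_left ((hp.pow_dvd_iff_le_factorization hk0).mpr (by omega)))
    rw [hcard, hf] at h
    exact h3 h
  have hcomm : Commute (y : G) ((m : ↥N) : G) := by
    have h := congrArg (fun z : H => ((z : ↥N) : G)) hm
    simp only [MulAut.conjNormal_apply] at h
    push_cast at h
    exact mul_inv_eq_iff_eq_mul.mp h
  have hmC : ((m : ↥N) : G) ∈ C := m.2
  set o := orderOf ((m : ↥N) : G) with ho
  have ho1 : o ≠ 1 := fun e => hm1 (Subtype.ext (Subtype.ext (orderOf_eq_one_iff.mp e)))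
  obtain ⟨r, hr, hro⟩ := Nat.exists_prime_and_dvd ho1
  set v := ((m : ↥N) : G) ^ (o / r) with hvdef
  have hv : orderOf v = r := orderOf_pow_orderOf_div (orderOf_pos _).ne' hro
  have hvC : v ∈ C := pow_mem hmC _
  have hrk : r ∣ 23 * k := hC ▸ hv ▸ Subgroup.orderOf_dvd_natCard C hvC
  have hr23 : r ≠ 23 := by
    rintro rfl
    have hpg : IsPGroup 23 ↥(zpowers v) := IsPGroup.of_card (n := 1) (by rw [Nat.card_zpowers, hv, pow_one])
    have hle : zpowers v ≤ (P : Subgroup G) := by
      have h := hpg.inf_normalizer_sylow P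
      have h' : zpowers v ≤ normalizer (P : Set G) :=
        zpowers_le.mpr (Subgroup.centralizer_le_normalizer _ hvC)
      exact ((inf_eq_left.mpr h').symm.trans h).le.trans inf_le_right
    have heq : zpowers v = (P : Subgroup G) :=
      Subgroup.eq_of_le_of_card_ge hle (by rw [Nat.card_zpowers, hv, hP])
    refine hyC ?_
    rw [hCdef, ← heq, zpowers_eq_closure, centralizer_closure, mem_centralizer_singleton_iff]
    exact (hcomm.pow_right _).eq
  refine ⟨v, y, r, hr, hr23, ?_, hv, hyG, hcomm.pow_right _, hvC⟩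
  rintro rfl
  rcases (Nat.Prime.dvd_mul hr).mp hrk with h | h
  · norm_num at h
  · exact hk11 h

omit [IsSimpleGroup G] in
/-- The multiplicities of the nontrivial eigenvalues in the principal block are divisible by 23. -/
theorem twist_block {P : Sylow 23 G} {e : ℕ} (F : Frame 23 e P) (he : ¬ 23 ∣ 22 / e) {χ : IrrCharacter G}
    (h : χ ∈ F.X ∪ F.Y) {v : G} {r : ℕ} (hr : r.Prime) (hr23 : r ≠ 23) (hv : orderOf v = r)
    (hxv : Commute F.x v) {ν : ℂ} (hν : ν ^ r = 1) (h1 : ν ≠ 1) :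
    ∃ m : ℕ, ∑ j ∈ Finset.range r, (χ : G → ℂ) (v ^ j) * ν ^ j = ((r * (23 * m) : ℕ) : ℂ) := by
  rcases Finset.mem_union.mp h with h | h
  · exact twist_dvd χ (by norm_num) F.hx hr hv hxv hr23.symm (fun i j hi => F.hval χ h i hi _
      (hxv.pow_right j) fun hd => hr23.symm ((Nat.prime_dvd_prime_iff_eq (by norm_num) hr).mp
        (hv ▸ hd.trans (orderOf_pow_dvd j)))) hν h1
  · exact twist_theta F h (by rw [F.hY]; exact he) hr hv hxv hr23.symm hν h1

include hG in
theorem not_two {P : Sylow 23 G} (F : Frame 23 2 P) {k : ℕ} (hk : k ≠ 1) (hk23 : ¬ 23 ∣ k)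
    (hC : Nat.card (centralizer ((P : Subgroup G) : Set G)) = 23 * k) : False := by
  have hna := M23Base.not_comm hG
  obtain ⟨r, hr, hrk⟩ := Nat.exists_prime_and_dvd hk
  have : Fact r.Prime := ⟨hr⟩
  obtain ⟨⟨v, hvC⟩, hv⟩ := exists_prime_orderOf_dvd_card' (G := ↥(centralizer ((P : Subgroup G) : Set G))) r
    (hC ▸ hrk.mul_left 23)
  rw [Subgroup.orderOf_mk] at hv
  have hr23 : r ≠ 23 := fun e => hk23 (e ▸ hrk)
  have hxv : Commute F.x v := mem_centralizer_iff.mp hvC F.x F.hxP
  have ht := F.triv_mem (by norm_num) (by norm_num) (by norm_num)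
  obtain ⟨χ, hχ⟩ := Finset.card_eq_one.mp (show F.X'.card = 1 by have := F.card_X' ht; omega)
  obtain ⟨θ, hθ⟩ : F.Y.Nonempty := Finset.card_pos.1 (by rw [F.hY]; norm_num)
  have hmem : χ ∈ F.X' := by rw [hχ]; exact Finset.mem_singleton_self χ
  have hm := F.mem_X hmem
  have hr1 := F.rel_one ht hθ
  rw [hχ, Finset.sum_singleton] at hr1
  have hθd : (1 + F.sgn χ * (charDegree (χ : G → ℂ) : ℤ)).natAbs = charDegree (θ : G → ℂ) := by
    rw [← hr1, Int.natAbs_mul, Int.natAbs_natCast]
    rcases F.hεy with e | e <;> simp [e]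
  have hsum : 11 * charDegree (θ : G → ℂ) ^ 2 ≤ 10200960 := by
    calc 11 * charDegree (θ : G → ℂ) ^ 2 = ∑ η ∈ F.Y, charDegree (η : G → ℂ) ^ 2 := by
          rw [Finset.sum_congr rfl (g := fun _ => charDegree (θ : G → ℂ) ^ 2) fun η hη => by
            rw [F.deg_agree hη hθ], Finset.sum_const, F.hY, smul_eq_mul]
      _ ≤ ∑ η : IrrCharacter G, charDegree (η : G → ℂ) ^ 2 :=
          Finset.sum_le_sum_of_subset (Finset.subset_univ _)
      _ = 10200960 := by rw [sum_deg_sq, hG]
  have hlt : (F.sgn χ * (charDegree (χ : G → ℂ) : ℤ)).natAbs < 46 :=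
    two_key _ (signed_mem hG F hmem) (hθd ▸ hG ▸ charDegree_dvd θ) (hθd ▸ hsum)
  have hd : charDegree (χ : G → ℂ) < 46 := by
    rcases F.hsgn χ hm.1 with e | e <;> rw [e] at hlt <;> simpa using hlt
  have := two_mul_le hna hm.2 (n := 23) hr hv (fun h => hr23 ((Nat.prime_dvd_prime_iff_eq hr (by norm_num)).mp h))
    fun ν hν h1 => twist_block F (by norm_num) (Finset.mem_union_left _ hm.1) hr hr23 hv hxv hν h1
  omega

include hG in
theorem not_eleven {P : Sylow 23 G} {e : ℕ} (F : Frame 23 e P) (he : e = 11 ∨ e = 22) {v y : G} {r : ℕ}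
    (hr : r.Prime) (hr23 : r ≠ 23) (hr11 : r ≠ 11) (hv : orderOf v = r) (hy : orderOf y = 11)
    (hyv : Commute y v) (hxv : Commute F.x v) : False := by
  have hna := M23Base.not_comm hG
  obtain ⟨θ, hθ⟩ : F.Y.Nonempty := Finset.card_pos.1 (by rw [F.hY]; rcases he with rfl | rfl <;> norm_num)
  obtain ⟨χ, hχ, hne, hodd⟩ : ∃ χ ∈ F.X ∪ F.Y, χ ≠ trivChar G ∧ charDegree (χ : G → ℂ) % 2 ≠ 0 := by
    by_contra hall
    simp only [not_exists, not_and, not_not] at hall
    have htd : charDegree ((trivChar G : IrrCharacter G) : G → ℂ) = 1 := by simp [charDegree]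
    have hθ2 := congrArg (fun z : ℤ => z % 2) (rel_degree F hθ)
    have hrest : ∀ S : Finset (IrrCharacter G), S ⊆ F.X → trivChar G ∉ S →
        (2 : ℤ) ∣ ∑ χ ∈ S, F.sgn χ * (charDegree (χ : G → ℂ) : ℤ) := fun S hS hnt =>
      Finset.dvd_sum fun χ hχ => dvd_mul_of_dvd_right (Int.dvd_of_emod_eq_zero (by
        have := hall χ (Finset.mem_union_left _ (hS hχ)) fun e => hnt (e ▸ hχ)
        omega)) _
    rcases F.htriv with ht | ht
    · have hne : θ ≠ trivChar G := fun h => Finset.disjoint_left.mp F.hdisj ht (h ▸ hθ)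
      have h1 := hall θ (Finset.mem_union_right _ hθ) hne
      have h2 := hrest (F.X.erase (trivChar G)) (Finset.erase_subset _ _) (Finset.notMem_erase _ _)
      rw [← Finset.add_sum_erase _ _ ht, htd] at hθ2
      rcases F.hεy with e1 | e1 <;> rw [e1] at hθ2 <;>
        rcases F.hsgn _ ht with e2 | e2 <;> rw [e2] at hθ2 <;> push_cast at hθ2 <;> omega
    · have h1 := F.deg_agree hθ ht
      rw [htd] at h1
      have h2 := hrest F.X le_rfl (Finset.disjoint_right.mp F.hdisj ht)
      rw [h1] at hθ2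
      rcases F.hεy with e1 | e1 <;> rw [e1] at hθ2 <;> push_cast at hθ2 <;> omega
  obtain ⟨k1, k22, k11⟩ := degree_mem hG hne
  have hcases : charDegree (χ : G → ℂ) < 46 ∨
      (11 ∣ charDegree (χ : G → ℂ) ∧ charDegree (χ : G → ℂ) < 506) := by
    have h23 : charDegree (χ : G → ℂ) % 23 = 1 ∨ charDegree (χ : G → ℂ) % 23 = 22 ∨
        charDegree (χ : G → ℂ) % 23 = 11 ∨ charDegree (χ : G → ℂ) % 23 = 12 := by
      rcases Finset.mem_union.mp hχ with h | h
      · have hm := F.hmod χ h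
        rw [Int.ModEq] at hm
        rcases F.hsgn χ h with e1 | e1 <;> rw [e1] at hm <;> push_cast at hm <;> omega
      · have hm := F.hYd χ h
        rw [Int.ModEq] at hm
        rcases F.hεy with e1 | e1 <;> rw [e1] at hm <;> rcases he with rfl | rfl <;> push_cast at hm <;> omega
    rcases h23 with h | h | h | h
    · simpa using odd_key _ (k1 h) (by omega)
    · simpa using odd_key _ (k22 h) (by omega)
    · exact odd_key' _ (k11 (Or.inl h)) hodd
    · exact odd_key' _ (k11 (Or.inr h)) hodd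
  have he' : ¬ 23 ∣ 22 / e := by rcases he with rfl | rfl <;> norm_num
  have hdiv : ∀ {q : ℕ}, q.Prime → r ≠ q → ¬ r ∣ q := fun hq hne h => hne ((Nat.prime_dvd_prime_iff_eq hr hq).mp h)
  rcases hcases with hd | ⟨h11, hd⟩
  · have := two_mul_le hna hne (n := 23) hr hv (hdiv (by norm_num) hr23)
      fun ν hν h1 => twist_block F he' hχ hr hr23 hv hxv hν h1
    omega
  · have := two_mul_le hna hne (n := 23 * 11) hr hv
      (fun h => (hr.dvd_mul.mp h).elim (hdiv (by norm_num) hr23) (hdiv (by norm_num) hr11))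
      fun ν hν h1 => twist_mul χ hr (by norm_num) (twist_block F he' hχ hr hr23 hv hxv hν h1)
        (twist_dvd χ (s := 0) (by norm_num) hy hr hv hyv hr11.symm (fun i j hi => by
          refine vanish_of_dvd hG (by norm_num) h11 ?_
          have h1 : orderOf (y ^ i) = 11 := by
            rw [orderOf_pow, hy, ((Nat.Prime.coprime_iff_not_dvd (by norm_num)).mpr hi).gcd_eq_one, Nat.div_one]
          rw [(hyv.pow_pow i j).orderOf_mul_eq_mul_orderOf_of_coprime, h1]
          · exact dvd_mul_right _ _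
          · rw [h1]
            exact Nat.Coprime.coprime_dvd_right (hv ▸ orderOf_pow_dvd j)
              ((Nat.coprime_primes (by norm_num) hr).mpr hr11.symm)) hν h1)
    omega

include hG in
/-- The Sylow 23-normaliser. -/
theorem normalizer_twentythree : NormData G 23 253 23 := by
  intro P
  have hna := M23Base.not_comm hG
  have hP := card_sylow hG (by norm_num) P
  obtain ⟨e, k, he1, he, hN, hC⟩ := LocalTools.exists_e hna P hP
  have hne1 := SimpleTools.card_sylow_ne_one (p := 23) hna (by rw [hG]; norm_num)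
  have hn : Nat.card (Sylow 23 G) % 23 = 1 := card_sylow_modEq_one 23 G
  have hmul : Nat.card (Sylow 23 G) * Nat.card (normalizer ((P : Subgroup G) : Set G)) = Nat.card G :=
    SimpleTools.card_normalizer_mul P
  rw [hG, hN] at hmul
  have hmul' : Nat.card (Sylow 23 G) * (e * k) = 443520 := by linarith
  have hk0 : k ∣ 128 * 3465 := ⟨Nat.card (Sylow 23 G) * e, by linarith⟩
  obtain ⟨a, b, ha, hb, rfl⟩ := exists_dvd_and_dvd_of_dvd_mul hk0
  have hmod : e * (a * b) % 23 = 11 := by
    have := congrArg (fun z => z % 23) hmul'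
    rw [Nat.mul_mod, hn, one_mul, Nat.mod_mod] at this
    omega
  have hne : e * (a * b) ≠ 443520 := fun h => hne1 (by
    rw [h] at hmul'
    exact Nat.eq_of_mul_eq_mul_right (by norm_num : 0 < 443520) (by linarith))
  have hcases := cases_key e (Nat.mem_divisors.mpr ⟨he, by norm_num⟩) he1 a
    (Nat.mem_divisors.mpr ⟨ha, by norm_num⟩) b (Nat.mem_divisors.mpr ⟨hb, by norm_num⟩) hmod
    (Nat.mod_eq_zero_of_dvd ⟨Nat.card (Sylow 23 G), by linarith⟩) hne
  obtain ⟨F, -⟩ := exists_frame_section (e := e) (by norm_num) P hP (by rw [hN, hC])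
  rcases hcases with ⟨rfl, h1⟩ | ⟨rfl, hk⟩ | ⟨he2, hk⟩
  · exact ⟨by rw [hN, h1], by rw [hC, h1]⟩
  · refine (not_two hG F hk (fun h => ?_) hC).elim
    have := h.trans hk0
    norm_num at this
  · have h11 : ¬ 11 ∣ a * b := by
      intro h
      simp only [List.mem_cons, List.not_mem_nil, or_false] at hk
      rcases hk with h' | h' | h' | h' | h' | h' | h' | h' <;> rw [h'] at h <;> norm_num at h
    have hN11 : 11 ∣ Nat.card (normalizer ((P : Subgroup G) : Set G)) := by
      rw [hN]; exact (show 11 ∣ e by rcases he2 with rfl | rfl <;> norm_num).mul_right _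
    obtain ⟨p, c, hp, hp23, h1, h2, h3⟩ : ∃ p c, p.Prime ∧ p ≠ 23 ∧ p ^ c ∣ a * b ∧
        ¬ p ^ (c + 1) ∣ a * b ∧ p ^ c % 11 ≠ 1 := by
      simp only [List.mem_cons, List.not_mem_nil, or_false] at hk
      rcases hk with h' | h' | h' | h' | h' | h' | h' | h' <;> rw [h']
      exacts [⟨2, 3, by norm_num⟩, ⟨2, 1, by norm_num⟩, ⟨2, 6, by norm_num⟩, ⟨2, 4, by norm_num⟩,
        ⟨2, 2, by norm_num⟩, ⟨5, 1, by norm_num⟩, ⟨2, 5, by norm_num⟩, ⟨2, 3, by norm_num⟩]
    obtain ⟨v, y, r, hr, hr23, hr11, hv, hy, hyv, hvC⟩ := exists_pair P hP hC h11 hN11 hp hp23 h1 h2 h3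
    exact (not_eleven hG F he2 hr hr23 hr11 hv hy hyv (mem_centralizer_iff.mp hvC F.x F.hxP)).elim

end CfsgLib.KGroups.M23Sylow
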