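import Cfsg.Agent.Lib.KGroups.M23Ident
import Cfsg.Agent.Lib.SmallGroups.MathieuSets
import Cfsg.Agent.Lib.Perm.PrimeDegreeDihedralNormalizer

/-!
# A simple group of order 244823040 with a subgroup of index 24 is `M24`
-/

set_option autoImplicit false
open scoped Pointwise

namespace CfsgLib.KGroups.M24Ident

open Cfsg CfsgLib.KGroups.MathieuIdent

/-- Transitive of degree 24 and order 244823040. -/
structure Is24 (G α : Type*) [Group G] [MulAction G α] [Fintype α] : Prop where
  card : Fintype.card α = 24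
  order : Nat.card G = 244823040
  faithful : FaithfulSMul G α
  trans : MulAction.IsPretransitive G α

variable {G α : Type*} [Group G] [Finite G] [MulAction G α] [Fintype α] [DecidableEq α]

/-- A solvable transitive group of degree 23 has order at most 529. -/
theorem card_le_of_isSolvable {β : Type*} [Fintype β] (hβ : Fintype.card β = 23) (K : Subgroup (Equiv.Perm β))
    [MulAction.IsPretransitive K β] (hK : Group.IsSolvable K) : Nat.card K ≤ 529 := by
  classical
  haveI : Fact (Nat.Prime 23) := ⟨by norm_num⟩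
  have hb : Nonempty β := Fintype.card_pos_iff.mp (by omega)
  obtain ⟨a⟩ := hb
  obtain ⟨s, e, hs, -, hes⟩ := CfsgLib.Perm.PrimeDegree.exists_coord (p := 23)
    (by rw [Nat.card_eq_fintype_card, hβ]) K a
  obtain ⟨P, hP⟩ := IsPGroup.exists_le_sylow
    (IsPGroup.of_card (p := 23) (n := 1) (G := Subgroup.zpowers s) (by rw [Nat.card_zpowers, hs, pow_one]))
  have hPc : Nat.card P = 23 := by
    have hd : Nat.card K ∣ Nat.factorial 23 := by
      rw [← hβ, ← Fintype.card_perm, ← Nat.card_eq_fintype_card]
      exact Subgroup.card_subgroup_dvd_card K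
    obtain ⟨n, hn⟩ := P.isPGroup'.exists_card_eq
    have h1 : 23 ^ n ∣ Nat.factorial 23 := hn ▸ (Subgroup.card_subgroup_dvd_card _).trans hd
    have h2 : 23 ∣ Nat.card P := by
      have := Subgroup.card_dvd_of_le hP
      rwa [Nat.card_zpowers, hs] at this
    rw [hn] at h2 ⊢
    match n with
    | 0 => norm_num at h2
    | 1 => norm_num
    | k + 2 =>
      exfalso
      have : 23 ^ 2 ∣ Nat.factorial 23 := (pow_dvd_pow 23 (by omega)).trans h1
      norm_num [Nat.factorial] at this
  have hPn := CfsgLib.Perm.PrimeDegreeDihedral.sylow_normal_of_isSolvable hβ hK P hPc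
  let F : K → β × (P : Subgroup K) := fun g => (g • a, ⟨g * s * g⁻¹, hPn.conj_mem s (hP (Subgroup.mem_zpowers s)) g⟩)
  have hF : Function.Injective F := by
    intro g h egh
    simp only [F, Prod.mk.injEq, Subtype.mk.injEq] at egh
    obtain ⟨e1, e2⟩ := egh
    have hc : Commute (h⁻¹ * g) s := by
      show h⁻¹ * g * s = s * (h⁻¹ * g)
      calc h⁻¹ * g * s = h⁻¹ * (g * s * g⁻¹) * g := by group
        _ = s * (h⁻¹ * g) := by rw [e2]; group
    apply inv_mul_eq_one.mp ?_ |>.symm
    refine Subtype.ext (Equiv.ext fun x => ?_)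
    obtain ⟨n, hn⟩ : ∃ n : ℕ, (s ^ n) • a = x := by
      refine ⟨(e x - e a).val, e.injective ?_⟩
      have key : ∀ m : ℕ, e ((s ^ m) • a) = e a + m := fun m => by
        induction m with
        | zero => simp
        | succ m ih => rw [pow_succ', mul_smul, hes, ih]; push_cast; ring
      rw [key, ZMod.natCast_zmod_val]; ring
    have hfix : (h⁻¹ * g) • a = a := by rw [mul_smul, e1, inv_smul_smul]
    show (h⁻¹ * g) • x = x
    rw [← hn, ← mul_smul, (hc.pow_right n).eq, mul_smul, hfix]
  have := Nat.card_le_card_of_injective F hF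
  rwa [Nat.card_prod, hPc, Nat.card_eq_fintype_card (α := β), hβ] at this

theorem card_stab (S : Is24 G α) (a : α) : Nat.card ↥(MulAction.stabilizer G a) = 10200960 := by
  have := S.trans
  have h := Subgroup.index_mul_card (MulAction.stabilizer G a)
  rw [MulAction.index_stabilizer_of_transitive, Nat.card_eq_fintype_card, S.card, S.order] at h
  omega

/-- An element of order 23 fixing exactly one given point moves the others transitively. -/
theorem exists_twentythree (S : Is24 G α) (a : α) :
    ∃ g : G, g • a = a ∧ ∀ x y : α, x ≠ a → y ≠ a → ∃ n : ℕ, g ^ n • x = y := by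
  classical
  have := S.trans
  have := S.faithful
  haveI : Fact (Nat.Prime 23) := ⟨by norm_num⟩
  obtain ⟨g, hg⟩ := exists_prime_orderOf_dvd_card' (G := G) 23 (by rw [S.order]; norm_num)
  set s : Equiv.Perm α := MulAction.toPerm g with hsdef
  have hinj : Function.Injective (MulAction.toPermHom G α) := MulAction.toPerm_injective
  have hso : orderOf s = 23 := by
    rw [hsdef, ← hg]; exact orderOf_injective (MulAction.toPermHom G α) hinj g
  have hcyc : s.IsCycle := Equiv.Perm.isCycle_of_prime_order (by rw [hso]; norm_num) (by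
    rw [hso]
    have := Finset.card_le_univ s.support
    rw [S.card] at this
    omega)
  have hsupp : s.support.card = 23 := hcyc.orderOf ▸ hso
  obtain ⟨b, -, hb⟩ : ∃ b, b ∈ (Finset.univ : Finset α) ∧ b ∉ s.support := by
    refine Finset.exists_of_ssubset ((Finset.subset_univ _).ssubset_of_ne fun e => ?_)
    rw [e, Finset.card_univ, S.card] at hsupp
    omega
  obtain ⟨k, rfl⟩ := MulAction.exists_smul_eq G b a
  refine ⟨k * g * k⁻¹, ?_, fun x y hx hy => ?_⟩
  · rw [mul_smul, inv_smul_smul, mul_smul, show g • b = b from Equiv.Perm.notMem_support.mp hb]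
  · have hmem : ∀ z, z ≠ k • b → k⁻¹ • z ∈ s.support := by
      intro z hz
      by_contra hn
      refine hz ?_
      have : insert (k⁻¹ • z) (insert b s.support) ⊆ Finset.univ := Finset.subset_univ _
      have := Finset.card_le_card this
      by_contra hne
      have hne' : k⁻¹ • z ≠ b := fun e => hne (by rw [← e, smul_inv_smul])
      rw [Finset.card_insert_of_notMem (by simp [hne', hn]), Finset.card_insert_of_notMem hb, hsupp,
        Finset.card_univ, S.card] at this
      omega
    obtain ⟨n, hn⟩ := hcyc.exists_pow_eq (Equiv.Perm.mem_support.mp (hmem x hx))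
      (Equiv.Perm.mem_support.mp (hmem y hy))
    refine ⟨n, ?_⟩
    have hpow : ∀ (n : ℕ) (z : α), (s ^ n) z = g ^ n • z := fun n z => by
      induction n generalizing z with
      | zero => simp
      | succ n ih => rw [pow_succ, pow_succ, mul_smul, Equiv.Perm.mul_apply, ih]; rfl
    rw [hpow] at hn
    rw [conj_pow, mul_smul, mul_smul, hn, smul_inv_smul]

/-- A point stabiliser on the other points. -/
theorem is23 (S : Is24 G α) (a : α) :
    ∃ _ : MulAction ↥(MulAction.stabilizer G a) {x : α // x ≠ a}, (∀ (g : ↥(MulAction.stabilizer G a))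
      (x : {x : α // x ≠ a}), ((g • x : {x : α // x ≠ a}) : α) = (g : G) • (x : α)) ∧
      Is23 ↥(MulAction.stabilizer G a) {x : α // x ≠ a} := by
  let act : MulAction ↥(MulAction.stabilizer G a) {x : α // x ≠ a} :=
    { smul := fun g x => ⟨(g : G) • (x : α), fun e => x.2 (smul_left_cancel (g : G) (e.trans g.2.symm))⟩
      one_smul := fun x => Subtype.ext (one_smul _ (x : α))
      mul_smul := fun g h x => Subtype.ext (mul_smul (g : G) h (x : α)) }
  have hc : Fintype.card {x : α // x ≠ a} = 23 := by
    rw [Fintype.card_subtype_compl, Fintype.card_subtype_eq, S.card]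
  have hf : FaithfulSMul ↥(MulAction.stabilizer G a) {x : α // x ≠ a} := ⟨fun {g h} e => by
    have := S.faithful
    refine Subtype.ext (eq_of_smul_eq_smul (α := α) fun x => ?_)
    by_cases hx : x = a
    · rw [hx]; exact g.2.trans h.2.symm
    · exact congrArg Subtype.val (e ⟨x, hx⟩)⟩
  refine ⟨act, fun _ _ => rfl, hc, card_stab S a, hf, ?_⟩
  set φ := MulAction.toPermHom ↥(MulAction.stabilizer G a) {x : α // x ≠ a}
  have hinj : Function.Injective φ := MulAction.toPerm_injective
  have htr : MulAction.IsPretransitive φ.range {x : α // x ≠ a} := ⟨fun u v => by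
    obtain ⟨g, hga, hg⟩ := exists_twentythree S a
    obtain ⟨n, hn⟩ := hg u v u.2 v.2
    have hmem : g ^ n ∈ MulAction.stabilizer G a := pow_mem (MulAction.mem_stabilizer_iff.mpr hga) n
    exact ⟨⟨φ ⟨g ^ n, hmem⟩, _, rfl⟩, Subtype.ext hn⟩⟩
  rcases Cfsg.Agent.S0675.result (by rw [hc]; norm_num) φ.range with hs | h
  · exfalso
    have h := card_le_of_isSolvable hc φ.range hs
    rw [← Nat.card_congr (MonoidHom.ofInjective hinj).toEquiv, card_stab S a] at h
    omega
  · refine MulAction.is_two_pretransitive_iff.mpr fun {p q r t} hpq hrt => ?_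
    obtain ⟨⟨_, k, rfl⟩, h1, h2⟩ :=
      (MulAction.is_two_pretransitive_iff (G := φ.range) (α := {x : α // x ≠ a})).mp h hpq hrt
    exact ⟨k, h1, h2⟩

/-- A subgroup of order 16 fixing five given points is unique and fixes eight points. -/
theorem exists_octad (S : Is24 G α) {a : α} {s : Finset α} (hs : s.card = 5) (ha : a ∈ s) :
    ∃ P : Subgroup G, Nat.card P = 16 ∧ (∀ g ∈ P, ∀ z ∈ s, g • z = z) ∧
      (∀ Q : Subgroup G, Nat.card Q = 16 → (∀ g ∈ Q, ∀ z ∈ s, g • z = z) → Q = P) ∧
      ∃ B : Finset α, B.card = 8 ∧ ∀ z, z ∈ B ↔ ∀ g ∈ P, g • z = z := by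
  classical
  obtain ⟨act, hact, S'⟩ := is23 S a
  obtain ⟨b, c, d, f, hbc, hbd, hbf, hcd, hcf, hdf, hsb⟩ :=
    Finset.card_eq_four.mp (show (s.erase a).card = 4 by rw [Finset.card_erase_of_mem ha, hs])
  have hs' : s = insert a {b, c, d, f} := by rw [← hsb, Finset.insert_erase ha]
  have hne : ∀ z ∈ ({b, c, d, f} : Finset α), z ≠ a := fun z hz => by
    rw [← hsb] at hz
    exact Finset.ne_of_mem_erase hz
  let b' : {x : α // x ≠ a} := ⟨b, hne b (by simp)⟩
  let c' : {x : α // x ≠ a} := ⟨c, hne c (by simp)⟩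
  let d' : {x : α // x ≠ a} := ⟨d, hne d (by simp)⟩
  let f' : {x : α // x ≠ a} := ⟨f, hne f (by simp)⟩
  obtain ⟨P, hP, hfix, huniq, B, hB, hBP⟩ := S'.exists_heptad (a := b') (b := c') (c := d') (d := f')
    (fun e => hbc (congrArg Subtype.val e)) (fun e => hbd (congrArg Subtype.val e))
    (fun e => hbf (congrArg Subtype.val e)) (fun e => hcd (congrArg Subtype.val e))
    (fun e => hcf (congrArg Subtype.val e)) (fun e => hdf (congrArg Subtype.val e))
  have hi : Function.Injective (MulAction.stabilizer G a).subtype := Subtype.val_injective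
  refine ⟨P.map (MulAction.stabilizer G a).subtype, by rw [Subgroup.card_map_of_injective hi, hP], ?_, ?_,
    insert a (B.map ⟨Subtype.val, Subtype.val_injective⟩), ?_, ?_⟩
  · rintro _ ⟨g, hg, rfl⟩ z hz
    rw [hs'] at hz
    obtain ⟨h1, h2, h3, h4⟩ := hfix g hg
    simp only [Finset.mem_insert, Finset.mem_singleton] at hz
    show (g : G) • z = z
    rcases hz with rfl | rfl | rfl | rfl | rfl
    · exact g.2
    · simpa [hact] using congrArg Subtype.val h1
    · simpa [hact] using congrArg Subtype.val h2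
    · simpa [hact] using congrArg Subtype.val h3
    · simpa [hact] using congrArg Subtype.val h4
  · intro Q hQ hQf
    have hle : Q ≤ MulAction.stabilizer G a := fun g hg => hQf g hg a ha
    have hm : ∀ g ∈ Q.subgroupOf (MulAction.stabilizer G a),
        ∀ z ∈ ({b, c, d, f} : Finset α), (g : G) • z = z := fun g hg z hz =>
      hQf g hg z (by rw [hs']; exact Finset.mem_insert_of_mem hz)
    have := huniq (Q.subgroupOf _) (by rw [Nat.card_congr (Subgroup.subgroupOfEquivOfLe hle).toEquiv, hQ])
      fun g hg => ⟨Subtype.ext (by rw [hact]; exact hm g hg b (by simp)),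
        Subtype.ext (by rw [hact]; exact hm g hg c (by simp)),
        Subtype.ext (by rw [hact]; exact hm g hg d (by simp)),
        Subtype.ext (by rw [hact]; exact hm g hg f (by simp))⟩
    rw [← this, Subgroup.subgroupOf_map_subtype, inf_eq_left.mpr hle]
  · rw [Finset.card_insert_of_notMem (by simp), Finset.card_map, hB]
  · intro z
    rw [Finset.mem_insert, Finset.mem_map]
    constructor
    · rintro (rfl | ⟨w, hw, rfl⟩) _ ⟨g, hg, rfl⟩
      · exact g.2
      · show (g : G) • (w : α) = w
        have := congrArg Subtype.val ((hBP w).mp hw g hg)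
        rwa [hact] at this
    · intro hz
      by_cases hza : z = a
      · exact Or.inl hza
      · refine Or.inr ⟨⟨z, hza⟩, (hBP _).mpr fun g hg => Subtype.ext ?_, rfl⟩
        rw [hact]
        exact hz _ ⟨g, hg, rfl⟩

/-- The octads: eight-element fixed point sets of subgroups of order 16. -/
def octadSets (G α : Type*) [Group G] [MulAction G α] : Set (Finset α) :=
  {B | B.card = 8 ∧ ∃ P : Subgroup G, Nat.card P = 16 ∧ ∀ z, z ∈ B ↔ ∀ g ∈ P, g • z = z}

theorem isSteiner (S : Is24 G α) : IsSteinerSystem 5 8 (octadSets G α) := by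
  refine ⟨fun b hb => hb.1, fun s hs => ?_⟩
  obtain ⟨a, ha⟩ := Finset.card_pos.mp (show 0 < s.card by omega)
  obtain ⟨P, hP, hfix, huniq, B, hB, hBP⟩ := exists_octad S hs ha
  refine ⟨B, ⟨⟨hB, P, hP, hBP⟩, fun z hz => (hBP z).mpr fun g hg => hfix g hg z hz⟩, ?_⟩
  rintro B' ⟨⟨-, P', hP', hB'P⟩, hsub⟩
  have e : P' = P := huniq P' hP' fun g hg z hz => (hB'P z).mp (hsub hz) g hg
  subst e
  exact Finset.ext fun z => (hB'P z).trans (hBP z).symm

theorem smul_mem_octadSets (g : G) {B : Finset α} (hB : B ∈ octadSets G α) :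
    B.image (g • ·) ∈ octadSets G α := by
  obtain ⟨h8, P, hP, hBP⟩ := hB
  refine ⟨by rw [Finset.card_image_of_injective _ (MulAction.injective g), h8],
    P.map (MulAut.conj g).toMonoidHom, by rw [Subgroup.card_map_of_injective (MulAut.conj g).injective, hP],
    fun z => ?_⟩
  rw [Finset.mem_image]
  constructor
  · rintro ⟨w, hw, rfl⟩ _ ⟨h, hh, rfl⟩
    show (g * h * g⁻¹) • g • w = g • w
    rw [mul_smul, inv_smul_smul, mul_smul, (hBP w).mp hw h hh]
  · intro hz
    refine ⟨g⁻¹ • z, (hBP _).mpr fun h hh => ?_, smul_inv_smul g z⟩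
    have : (g * h * g⁻¹) • z = z := hz _ ⟨h, hh, rfl⟩
    rw [mul_smul, mul_smul] at this
    exact eq_inv_smul_iff.mpr this

/-- Transitive of degree 24 and order 244823040 means `M24`. -/
theorem isoM24_of_is24 (S : Is24 G α) : Nonempty (G ≃* M24) := by
  have := S.faithful
  let f : G →* ↥(setSystemAut (octadSets G α)) := (MulAction.toPermHom G α).codRestrict _ fun g =>
    SmallGroups.SteinerCode.mem_aut_of_forall fun b hb => smul_mem_octadSets g hb
  have hf : Function.Injective f := fun g h e => eq_of_smul_eq_smul (α := α) fun x =>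
    Equiv.ext_iff.mp (congrArg Subtype.val e) x
  obtain ⟨⟨-, hcard⟩, -⟩ := SmallGroups.SteinerCode.aut24 S.card (isSteiner S)
  have hsurj : f.range = ⊤ := Subgroup.eq_top_of_card_eq _ (by
    rw [hcard, ← Nat.card_congr (MonoidHom.ofInjective hf).toEquiv, S.order])
  obtain ⟨e0, -, he0⟩ := SmallGroups.SteinerCode.exists_coord24 S.card (isSteiner S)
  obtain ⟨e1⟩ := M22Ident.autIso (B := octadSets G α) (B' := octads) ⟨e0, Set.ext fun T =>
    ⟨by rintro ⟨b, hb, rfl⟩; exact (he0 b).mpr hb, fun hT => ⟨T.image e0.symm, (he0 _).mp (by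
      rwa [Finset.image_image, Equiv.self_comp_symm, Finset.image_id]), by
      show (T.image _).image _ = T
      rw [Finset.image_image, Equiv.self_comp_symm, Finset.image_id]⟩⟩⟩
  let e := e1.trans (MulEquiv.subgroupCongr SmallGroups.MathieuSets.M24_eq_aut_octads.symm)
  exact ⟨((MonoidHom.ofInjective hf).trans ((MulEquiv.subgroupCongr hsurj).trans Subgroup.topEquiv)).trans e⟩

/-- A simple group of order 244823040 with a subgroup of index 24 is `M24`. -/
theorem isoM24 {G : Type*} [Group G] [Finite G] [IsSimpleGroup G] (hG : Nat.card G = 244823040)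
    (H : Subgroup G) (hH : H.index = 24) : Nonempty (G ≃* M24) := by
  classical
  cases nonempty_fintype (G ⧸ H)
  have hc : Fintype.card (G ⧸ H) = 24 := by rw [← Nat.card_eq_fintype_card, ← Subgroup.index_eq_card, hH]
  set φ := MulAction.toPermHom G (G ⧸ H)
  have hbot : φ.ker = ⊥ := by
    refine ((inferInstance : φ.ker.Normal)).eq_bot_or_eq_top.resolve_right fun ht => ?_
    have : H = ⊤ := eq_top_iff.mpr fun x _ => by
      have hx := Equiv.ext_iff.mp (show φ x = 1 from ht.ge (Subgroup.mem_top x)) ((1 : G) : G ⧸ H)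
      rw [MulAction.toPermHom_apply, MulAction.toPerm_apply, MulAction.Quotient.smul_coe, smul_eq_mul,
        mul_one, Equiv.Perm.one_apply, QuotientGroup.eq, mul_one] at hx
      exact inv_mem_iff.mp hx
    rw [this, Subgroup.index_top] at hH
    omega
  have hinj : Function.Injective φ := (MonoidHom.ker_eq_bot_iff _).mp hbot
  exact isoM24_of_is24 (α := G ⧸ H) ⟨hc, hG, ⟨fun {g h} e => hinj (Equiv.ext e)⟩, inferInstance⟩

end CfsgLib.KGroups.M24Ident
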