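import Cfsg.Agent.Lib.SmallGroups.LocalTools
import Cfsg.Agent.Lib.SmallGroups.SimpleOrders

/-!
# There is no simple group of order 1980 or 3960 with 45 Sylow 11-subgroups
-/

set_option autoImplicit false

namespace CfsgLib.KGroups.NoSimple3960

open Subgroup CfsgLib.SmallGroups.SimpleTools CfsgLib.SmallGroups.SimpleOrders
  CfsgLib.SmallGroups.LocalTools CfsgLib.SmallGroups.CosetFixed

variable {M : Type*} [Group M] [Finite M]

/-- Elements of subgroup orders. -/
theorem pow_eq_one_of_card_dvd {H : Subgroup M} {n : ℕ} (h : Nat.card H ∣ n) {g : M} (hg : g ∈ H) :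
    g ^ n = 1 :=
  orderOf_dvd_iff_pow_eq_one.mp ((H.orderOf_dvd_natCard hg).trans h)

theorem eq_one_of_pows {g : M} {m n : ℕ} (hm : g ^ m = 1) (hn : g ^ n = 1) (h : m.Coprime n) :
    g = 1 := by
  rw [← orderOf_eq_one_iff, ← Nat.dvd_one]
  exact h ▸ Nat.dvd_gcd (orderOf_dvd_of_pow_eq_one hm) (orderOf_dvd_of_pow_eq_one hn)

variable [IsSimpleGroup M] (hM : ¬ IsMulCommutative M) {k : ℕ} (hk : k = 2 ∨ k = 4)
  (hcard : Nat.card M = 990 * k) (h45 : Nat.card (Sylow 11 M) = 45)

instance : Fact (Nat.Prime 11) := ⟨by norm_num⟩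
instance : Fact (Nat.Prime 5) := ⟨by norm_num⟩

include hk hcard in
theorem card_P (P : Sylow 11 M) : Nat.card (P : Subgroup M) = 11 := by
  refine (card_sylow_subgroup (k := 1) (m := 90 * k) (by rw [hcard]; ring) ?_ P).trans (pow_one _)
  rcases hk with rfl | rfl <;> norm_num

include hk hcard h45 in
theorem card_N (P : Sylow 11 M) : Nat.card (normalizer ((P : Subgroup M) : Set M)) = 22 * k := by
  have := card_normalizer_mul P
  rw [h45, hcard] at this
  omega

include hM hk hcard h45 in
theorem card_C (P : Sylow 11 M) : Nat.card (centralizer ((P : Subgroup M) : Set M)) = 11 * k := by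
  obtain ⟨e, j, he1, he10, hN, hC⟩ := exists_e hM P (card_P hk hcard P)
  rw [card_N hk hcard h45 P] at hN
  rw [hC]
  have h2 : e ∈ Nat.divisors 10 := Nat.mem_divisors.mpr ⟨he10, by norm_num⟩
  fin_cases h2 <;> rcases hk with rfl | rfl <;> omega

include hM hk hcard h45 in
theorem commute_of_mem_C (P : Sylow 11 M) {a b : M}
    (ha : a ∈ centralizer ((P : Subgroup M) : Set M))
    (hb : b ∈ centralizer ((P : Subgroup M) : Set M)) : Commute a b := by
  set C := centralizer ((P : Subgroup M) : Set M)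
  have hP := card_P hk hcard P
  have hC := card_C hM hk hcard h45 P
  have hcyc : IsCyclic ↥(P : Subgroup M) := isCyclic_of_prime_card hP
  have hPC : (P : Subgroup M) ≤ C := fun x hx => mem_centralizer_iff.mpr fun y hy =>
    congrArg Subtype.val (hcyc.isMulCommutative.is_comm.comm ⟨y, hy⟩ ⟨x, hx⟩)
  obtain ⟨Q⟩ : Nonempty (Sylow 2 ↥C) := inferInstance
  have hQ : Nat.card (Q : Subgroup ↥C) = k := by
    rcases hk with rfl | rfl
    · exact (card_sylow_subgroup (k := 1) (m := 11) (by rw [hC]; norm_num) (by norm_num) Q).trans (pow_one _)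
    · exact (card_sylow_subgroup (k := 2) (m := 11) (by rw [hC]; norm_num) (by norm_num) Q)
  have hcop : IsComplement' ((P : Subgroup M).subgroupOf C) (Q : Subgroup ↥C) := by
    have hc : Nat.card ((P : Subgroup M).subgroupOf C) = 11 :=
      (Nat.card_congr (subgroupOfEquivOfLe hPC).toEquiv).trans hP
    refine isComplement'_of_coprime (by rw [hc, hQ, hC]) ?_
    rw [hc, hQ]
    rcases hk with rfl | rfl <;> norm_num
  have hQc : ∀ x y : ↥(Q : Subgroup ↥C), x * y = y * x := by
    rcases hk with rfl | rfl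
    · intro x y
      have : IsCyclic ↥(Q : Subgroup ↥C) := isCyclic_of_prime_card (p := 2) hQ
      exact this.isMulCommutative.is_comm.comm x y
    · exact IsPGroup.commutative_of_card_eq_prime_sq (p := 2) (by rw [hQ]; norm_num)
  have hcent : ∀ u : ↥C, u ∈ (P : Subgroup M).subgroupOf C → ∀ x : ↥C, Commute u x := fun u hu x =>
    Subtype.ext (mem_centralizer_iff.mp x.2 (u : M) hu)
  obtain ⟨⟨u, q⟩, hu⟩ := hcop.2 ⟨a, ha⟩
  obtain ⟨⟨v, r⟩, hv⟩ := hcop.2 ⟨b, hb⟩
  have key : Commute ((u : ↥C) * (q : ↥C)) ((v : ↥C) * (r : ↥C)) := by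
    have hqr : Commute (q : ↥C) (r : ↥C) := congrArg Subtype.val (hQc q r)
    exact ((hcent u u.2 _).mul_right (hcent u u.2 _)).mul_left
      (((hcent v v.2 q).symm).mul_right hqr)
  have e1 : (u : ↥C) * (q : ↥C) = ⟨a, ha⟩ := hu
  have e2 : (v : ↥C) * (r : ↥C) = ⟨b, hb⟩ := hv
  rw [e1, e2] at key
  exact congrArg Subtype.val key

include hM hcard hk in
theorem eleven_le_index (H : Subgroup M) (hH : H ≠ ⊤) : 11 ≤ H.index := by
  have h := two_mul_card_dvd_factorial hM H hH
  by_contra hlt
  have h11 : 11 ∣ H.index.factorial := (Dvd.intro (2 * 90 * k) (by rw [hcard]; ring)).trans h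
  rw [(Fact.out : Nat.Prime 11).dvd_factorial] at h11
  omega

include hM hk hcard h45 in
/-- A proper subgroup containing the centraliser of a Sylow 11-subgroup lies in its normaliser. -/
theorem le_N (P : Sylow 11 M) (H : Subgroup M) (hH : H ≠ ⊤)
    (hCH : centralizer ((P : Subgroup M) : Set M) ≤ H) :
    H ≤ normalizer ((P : Subgroup M) : Set M) := by
  set N := normalizer ((P : Subgroup M) : Set M)
  have hP := card_P hk hcard P
  have hcyc : IsCyclic ↥(P : Subgroup M) := isCyclic_of_prime_card hP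
  have hPC : (P : Subgroup M) ≤ centralizer ((P : Subgroup M) : Set M) := fun x hx =>
    mem_centralizer_iff.mpr fun y hy => congrArg Subtype.val (hcyc.isMulCommutative.is_comm.comm ⟨y, hy⟩ ⟨x, hx⟩)
  have hPH : (P : Subgroup M) ≤ H := hPC.trans hCH
  set P' : Sylow 11 ↥H := P.subtype hPH
  have hn : Nat.card (Sylow 11 ↥H) = (N.subgroupOf H).index := by
    rw [P'.card_eq_index_normalizer]
    show (normalizer (((P : Subgroup M).subgroupOf H : Subgroup ↥H) : Set ↥H)).index = _
    rw [← subgroupOf_normalizer_eq hPH]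
  have hmod : Nat.card (Sylow 11 ↥H) % 11 = 1 := card_sylow_modEq_one 11 ↥H
  have hmul := (N.subgroupOf H).index_mul_card
  rw [← hn] at hmul
  have hCN : centralizer ((P : Subgroup M) : Set M) ≤ H ⊓ N := le_inf hCH (centralizer_le_normalizer _)
  have hd : Nat.card (centralizer ((P : Subgroup M) : Set M)) ∣ Nat.card (N.subgroupOf H) := by
    rw [show Nat.card (N.subgroupOf H) = Nat.card (H ⊓ N : Subgroup M) from ?_]
    · exact card_dvd_of_le hCN
    · rw [← card_map_of_injective (H.subtype_injective), subgroupOf_map_subtype, inf_comm]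
  rw [card_C hM hk hcard h45 P] at hd
  have hdM : Nat.card (Sylow 11 ↥H) * (11 * k) ∣ 990 * k :=
    (Nat.mul_dvd_mul_left _ hd).trans (hmul ▸ hcard ▸ H.card_subgroup_dvd_card)
  have hk0 : 0 < 11 * k := by rcases hk with rfl | rfl <;> norm_num
  have h90 : Nat.card (Sylow 11 ↥H) ∣ 90 :=
    (Nat.mul_dvd_mul_iff_right hk0).mp (by rwa [show 90 * (11 * k) = 990 * k by ring])
  have hcases : Nat.card (Sylow 11 ↥H) ∈ Nat.divisors 90 := Nat.mem_divisors.mpr ⟨h90, by norm_num⟩
  have hmem : Nat.card (Sylow 11 ↥H) = 1 ∨ Nat.card (Sylow 11 ↥H) = 45 := by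
    revert hmod hcases
    generalize Nat.card (Sylow 11 ↥H) = n
    intro hmod hcases
    fin_cases hcases <;> omega
  rcases hmem with h1 | h1
  · rw [hn, index_eq_one] at h1
    exact subgroupOf_eq_top.mp h1
  · exfalso
    have h2 := eleven_le_index hM hk hcard H hH
    have hle := Nat.le_of_dvd (Nat.card_pos) hd
    have hHM := H.index_mul_card
    rw [h1] at hmul
    rw [← hmul, hcard] at hHM
    have : 11 * (45 * (11 * k)) ≤ 990 * k :=
      le_of_le_of_eq (Nat.mul_le_mul h2 (Nat.mul_le_mul_left 45 hle)) hHM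
    omega

include hM hk hcard h45 in
theorem centralizer_le_N (P : Sylow 11 M) {g : M} (hg : g ∈ centralizer ((P : Subgroup M) : Set M))
    (hg1 : g ≠ 1) : centralizer {g} ≤ normalizer ((P : Subgroup M) : Set M) := by
  refine le_N hM hk hcard h45 P _ (fun h => hg1 ?_) fun c hc =>
    mem_centralizer_singleton_iff.mpr (commute_of_mem_C hM hk hcard h45 P hc hg).eq
  have hz : g ∈ center M := mem_center_iff.mpr fun x =>
    (mem_centralizer_singleton_iff.mp (h ▸ mem_top x : x ∈ centralizer {g}))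
  rwa [center_eq_bot hM, mem_bot] at hz

include hM hk hcard h45 in
theorem sylow_eq (P P' : Sylow 11 M) {g : M} (hg1 : g ≠ 1)
    (hg : g ∈ centralizer ((P : Subgroup M) : Set M))
    (hg' : g ∈ centralizer ((P' : Subgroup M) : Set M)) : P' = P := by
  have hle : (P' : Subgroup M) ≤ normalizer ((P : Subgroup M) : Set M) := fun x hx =>
    centralizer_le_N hM hk hcard h45 P hg hg1
      (mem_centralizer_singleton_iff.mpr (mem_centralizer_iff.mp hg' x hx))
  have hsup : IsPGroup 11 ↥((P' : Subgroup M) ⊔ (P : Subgroup M)) :=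
    P'.isPGroup'.to_sup_of_normal_right' P.isPGroup' hle
  exact Sylow.ext ((P'.is_maximal' hsup le_sup_left).symm.trans (P.is_maximal' hsup le_sup_right))

include hM hk hcard h45 in
/-- The centralisers of involutions have exponent dividing 88. -/
theorem pow_88_of_commute {t x : M} (ht : orderOf t = 2) (hx : Commute x t) : x ^ 88 = 1 := by
  obtain ⟨P⟩ : Nonempty (Sylow 11 M) := inferInstance
  set C := centralizer ((P : Subgroup M) : Set M)
  have hidx : C.index = 90 := by
    have := C.index_mul_card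
    rw [card_C hM hk hcard h45 P, hcard] at this
    rcases hk with rfl | rfl <;> omega
  have hfix := card_fixedBy_mod_four hM C (s := t) (by rw [← pow_two, ← ht, pow_orderOf_eq_one])
  rw [hidx] at hfix
  obtain ⟨q, hq⟩ : Nonempty (MulAction.fixedBy (M ⧸ C) t) := by
    by_contra h
    rw [not_nonempty_iff] at h
    rw [Nat.card_of_isEmpty] at hfix
    norm_num at hfix
  induction q using QuotientGroup.induction_on with | _ g => ?_
  rw [mem_fixedBy_coe_iff] at hq
  have hne : g⁻¹ * t * g ≠ 1 := by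
    intro h
    have : t = 1 := by rw [show t = g * (g⁻¹ * t * g) * g⁻¹ by group, h]; group
    rw [this, orderOf_one] at ht
    norm_num at ht
  have hmem : g⁻¹ * x * g ∈ normalizer ((P : Subgroup M) : Set M) := by
    refine centralizer_le_N hM hk hcard h45 P hq hne (mem_centralizer_singleton_iff.mpr ?_)
    calc g⁻¹ * x * g * (g⁻¹ * t * g) = g⁻¹ * (x * t) * g := by group
      _ = g⁻¹ * (t * x) * g := by rw [hx.eq]
      _ = g⁻¹ * t * g * (g⁻¹ * x * g) := by group
  have h88 := pow_eq_one_of_card_dvd (n := 88)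
    (by rw [card_N hk hcard h45 P]; rcases hk with rfl | rfl <;> norm_num) hmem
  have hpow : (g⁻¹ * x * g) ^ 88 = g⁻¹ * x ^ 88 * g := by
    have := conj_pow (a := g⁻¹) (b := x) (i := 88)
    rwa [inv_inv] at this
  rw [hpow] at h88
  rw [show x ^ 88 = g * (g⁻¹ * x ^ 88 * g) * g⁻¹ by group, h88]
  group

include hM hk hcard h45 in
/-- Centralisers of elements of order 3 or 5 have order dividing 45. -/
theorem card_centralizer_odd {x : M} (hx : orderOf x = 3 ∨ orderOf x = 5) :
    Nat.card (centralizer {x}) ∣ 45 := by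
  have hx88 : x ^ 88 ≠ 1 := by
    intro h
    have := orderOf_dvd_of_pow_eq_one h
    rcases hx with e | e <;> rw [e] at this <;> norm_num at this
  have h2 : ¬ 2 ∣ Nat.card (centralizer {x}) := by
    intro h
    obtain ⟨⟨t, ht⟩, hto⟩ := exists_prime_orderOf_dvd_card' 2 h
    rw [← Subgroup.orderOf_coe] at hto
    exact hx88 (pow_88_of_commute hM hk hcard h45 hto (mem_centralizer_singleton_iff.mp ht).symm)
  have h11 : ¬ 11 ∣ Nat.card (centralizer {x}) := by
    intro h
    obtain ⟨⟨y, hy⟩, hyo⟩ := exists_prime_orderOf_dvd_card' 11 h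
    rw [← Subgroup.orderOf_coe] at hyo
    simp only at hyo
    have hY : IsPGroup 11 ↥(zpowers y) := IsPGroup.of_card (n := 1) (by rw [Nat.card_zpowers, hyo, pow_one])
    obtain ⟨P, hle⟩ := hY.exists_le_sylow
    have hPy : zpowers y = P :=
      Subgroup.eq_of_le_of_card_ge hle (by rw [card_P hk hcard P, Nat.card_zpowers, hyo])
    have hxC : x ∈ centralizer ((P : Subgroup M) : Set M) := by
      rw [← hPy, zpowers_eq_closure, centralizer_closure, mem_centralizer_singleton_iff]
      exact (mem_centralizer_singleton_iff.mp hy).symm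
    exact hx88 (pow_eq_one_of_card_dvd
      (by rw [card_C hM hk hcard h45 P]; rcases hk with rfl | rfl <;> norm_num) hxC)
  have hdvd : Nat.card (centralizer {x}) ∣ 11 * (8 * 45) := by
    refine (Subgroup.card_subgroup_dvd_card _).trans ?_
    rw [hcard]
    rcases hk with rfl | rfl <;> norm_num
  have h360 := ((Nat.Prime.coprime_iff_not_dvd (by norm_num)).mpr h11).symm.dvd_of_dvd_mul_left hdvd
  exact Nat.Coprime.dvd_of_dvd_mul_left
    (Nat.Coprime.pow_right 3 ((Nat.Prime.coprime_iff_not_dvd Nat.prime_two).mpr h2).symm) h360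

include hM hk hcard h45 in
theorem index_ne_eleven (H : Subgroup M) : H.index ≠ 11 := by
  intro hH
  classical
  have hH' : H ≠ ⊤ := fun h => by rw [h, index_top] at hH; norm_num at hH
  obtain ⟨P⟩ : Nonempty (Sylow 11 M) := inferInstance
  have hP := card_P hk hcard P
  have hHc : Nat.card H = 90 * k := by
    have := H.index_mul_card
    rw [hH, hcard] at this
    omega
  have hker : ∀ s : M, (∀ c : M ⧸ H, s • c = c) → s = 1 := by
    intro s hs
    have hmem : s ∈ (MulAction.toPermHom M (M ⧸ H)).ker :=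
      MonoidHom.mem_ker.mpr (Equiv.Perm.ext hs)
    rw [← normalCore_eq_ker] at hmem
    rcases (inferInstance : H.normalCore.Normal).eq_bot_or_eq_top with h | h
    · rwa [h, mem_bot] at hmem
    · exact absurd (top_le_iff.mp (h ▸ H.normalCore_le)) hH'
  obtain ⟨t, ht, hto⟩ : ∃ t ∈ centralizer ((P : Subgroup M) : Set M), orderOf t = 2 := by
    have h2 : 2 ∣ Nat.card (centralizer ((P : Subgroup M) : Set M)) := by
      rw [card_C hM hk hcard h45 P]; rcases hk with rfl | rfl <;> norm_num
    obtain ⟨⟨t, ht⟩, hto⟩ := exists_prime_orderOf_dvd_card' 2 h2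
    exact ⟨t, ht, by rw [← Subgroup.orderOf_coe] at hto; exact hto⟩
  set c0 : M ⧸ H := ((1 : M) : M ⧸ H)
  have hinj : Function.Injective (fun u : (P : Subgroup M) => (u : M) • c0) := by
    intro u v huv
    have hmem : (v : M)⁻¹ * u ∈ H := by
      simp only [c0, MulAction.Quotient.smul_coe, smul_eq_mul, mul_one] at huv
      exact QuotientGroup.eq.mp huv.symm
    have h1 := pow_eq_one_of_card_dvd (n := 11) (H := (P : Subgroup M)) (by rw [hP]) 
      ((P : Subgroup M).mul_mem ((P : Subgroup M).inv_mem v.2) u.2)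
    have h2 := pow_eq_one_of_card_dvd (n := 90 * k) (H := H) (by rw [hHc]) hmem
    exact Subtype.ext (inv_mul_eq_one.mp (eq_one_of_pows h1 h2
      (by rcases hk with rfl | rfl <;> norm_num))).symm
  have hsurj := ((Nat.bijective_iff_injective_and_card _).mpr
    ⟨hinj, by rw [hP, ← hH, Subgroup.index]⟩).2
  obtain ⟨u, hu⟩ := hsurj (t • c0)
  have hu' : (u : M) • c0 = t • c0 := hu
  have hall : ∀ c : M ⧸ H, ((u : M)⁻¹ * t) • c = c := by
    intro c
    obtain ⟨v, rfl⟩ := hsurj c
    have hvt : (v : M) * t = t * v := mem_centralizer_iff.mp ht v v.2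
    have hvu : (v : M) * u = u * v := by
      have hcyc : IsCyclic ↥(P : Subgroup M) := isCyclic_of_prime_card hP
      exact congrArg Subtype.val (hcyc.isMulCommutative.is_comm.comm v u)
    show ((u : M)⁻¹ * t) • ((v : M) • c0) = (v : M) • c0
    rw [← mul_smul, mul_assoc, ← hvt, mul_smul, mul_smul, ← hu', ← mul_smul (v : M), hvu, mul_smul,
      inv_smul_smul]
  have htu : t = u := (inv_mul_eq_one.mp (hker _ hall)).symm
  have h11 := pow_eq_one_of_card_dvd (n := 11) (H := (P : Subgroup M)) (by rw [hP]) u.2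
  rw [← htu] at h11
  have := orderOf_dvd_of_pow_eq_one h11
  rw [hto] at this
  norm_num at this

include hM hk hcard h45 in
theorem five_local (F : Sylow 5 M) : k = 4 ∧ Nat.card (Sylow 5 M) = 396 ∧
    Nat.card (centralizer ((F : Subgroup M) : Set M)) = 5 := by
  set N := normalizer ((F : Subgroup M) : Set M)
  have hF : Nat.card (F : Subgroup M) = 5 := by
    refine (card_sylow_subgroup (k := 1) (m := 198 * k) (by rw [hcard]; ring) ?_ F).trans (pow_one _)
    rcases hk with rfl | rfl <;> norm_num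
  obtain ⟨e, j, he1, he4, hN, hC⟩ := exists_e hM F hF
  have hn := card_sylow_mem (G := M) (p := 5) (k := 1) (m := 198 * k) (by rw [hcard]; ring)
    (by rcases hk with rfl | rfl <;> norm_num)
  have hmul := card_normalizer_mul F
  rw [hN, hcard] at hmul
  have h11 : ¬ 11 ∣ Nat.card N := by
    intro h
    obtain ⟨⟨y, hy⟩, hyo⟩ := exists_prime_orderOf_dvd_card' 11 h
    rw [← Subgroup.orderOf_coe] at hyo
    simp only at hyo
    have hyC : y ∈ centralizer ((F : Subgroup M) : Set M) := by
      rw [mem_centralizer_iff]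
      intro a ha
      have hm : y ∈ N := hy
      set φ := normalizerMonoidHom (F : Subgroup M)
      have hdvd : orderOf (φ ⟨y, hm⟩) ∣ 11 := by
        rw [← hyo]
        exact (orderOf_map_dvd φ ⟨y, hm⟩).trans (dvd_of_eq (Subgroup.orderOf_mk y hm))
      have hdvd' : orderOf (φ ⟨y, hm⟩) ∣ 4 := by
        refine (_root_.orderOf_dvd_natCard _).trans ?_
        have : IsCyclic (F : Subgroup M) := isCyclic_of_prime_card hF
        rw [IsCyclic.card_mulAut, hF, Nat.totient_prime Fact.out]
      have h1 : φ ⟨y, hm⟩ = 1 := orderOf_eq_one_iff.mp (Nat.dvd_one.mp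
        ((show Nat.gcd 11 4 = 1 by norm_num) ▸ Nat.dvd_gcd hdvd hdvd'))
      have h2 : (y : M) * a * y⁻¹ = a := congrArg (fun σ : MulAut (F : Subgroup M) => (σ ⟨a, ha⟩ : M)) h1
      calc a * y = y * a * y⁻¹ * y := by rw [h2]
        _ = y * a := by group
    obtain ⟨⟨a, ha⟩, hao⟩ := exists_prime_orderOf_dvd_card' 5 (dvd_of_eq hF.symm)
    rw [← Subgroup.orderOf_coe] at hao
    simp only at hao
    have := card_centralizer_odd hM hk hcard h45 (Or.inr hao)
    have hy' : y ∈ centralizer {a} :=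
      mem_centralizer_singleton_iff.mpr ((mem_centralizer_iff.mp hyC a ha).symm)
    have := (Subgroup.orderOf_dvd_natCard _ hy').trans this
    rw [hyo] at this
    norm_num at this
  rw [show Nat.card N = e * (5 * j) from hN] at h11
  have hcases : Nat.card (Sylow 5 M) = 11 ∨ Nat.card (Sylow 5 M) = 66 ∨ Nat.card (Sylow 5 M) = 396 := by
    have h11n : 11 ∣ Nat.card (Sylow 5 M) := by
      have h : 11 ∣ Nat.card (Sylow 5 M) * (e * (5 * j)) := hmul ▸ Dvd.intro (90 * k) (by ring)
      exact ((Fact.out : Nat.Prime 11).dvd_mul.mp h).resolve_right h11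
    revert hn h11n
    generalize Nat.card (Sylow 5 M) = n
    intro hn h11n
    rw [Finset.mem_filter, Nat.mem_divisors] at hn
    obtain ⟨⟨hd, -⟩, hm5⟩ := hn
    obtain ⟨m, rfl⟩ := h11n
    have hd' : m ∣ 18 * k := (Nat.mul_dvd_mul_iff_left (by norm_num : 0 < 11)).mp
      (hd.trans (dvd_of_eq (by ring)))
    have hmem : m ∈ Nat.divisors (18 * k) :=
      Nat.mem_divisors.mpr ⟨hd', by rcases hk with rfl | rfl <;> norm_num⟩
    rcases hk with rfl | rfl <;> fin_cases hmem <;> omega
  have hne11 : Nat.card (Sylow 5 M) ≠ 11 := by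
    rw [F.card_eq_index_normalizer]; exact index_ne_eleven hM hk hcard h45 _
  have hecases : e = 2 ∨ e = 4 := by
    have : e ∈ Nat.divisors 4 := Nat.mem_divisors.mpr ⟨he4, by norm_num⟩
    fin_cases this <;> omega
  obtain ⟨⟨a, ha⟩, hao⟩ := exists_prime_orderOf_dvd_card' 5 (dvd_of_eq hF.symm)
  rw [← Subgroup.orderOf_coe] at hao
  simp only at hao
  have hj2 : ¬ 2 ∣ j := by
    intro h
    have hle : centralizer ((F : Subgroup M) : Set M) ≤ centralizer {a} :=
      centralizer_le (Set.singleton_subset_iff.mpr ha)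
    have h45' := (card_dvd_of_le hle).trans (card_centralizer_odd hM hk hcard h45 (Or.inr hao))
    rw [hC] at h45'
    have := ((h.mul_left 5).trans h45')
    norm_num at this
  rcases hcases with h | h | h
  · exact absurd h hne11
  · exfalso
    have h3 : 3 ∣ j := by
      rw [h] at hmul
      rcases hecases with rfl | rfl <;> omega
    have h3C : 3 ∣ Nat.card (centralizer ((F : Subgroup M) : Set M)) := hC ▸ h3.mul_left 5
    obtain ⟨⟨x, hx⟩, hxo⟩ := exists_prime_orderOf_dvd_card' 3 h3C
    rw [← Subgroup.orderOf_coe] at hxo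
    simp only at hxo
    set D := centralizer {x}
    have hD := card_centralizer_odd hM hk hcard h45 (Or.inl hxo)
    have : Fact (Nat.Prime 3) := ⟨Nat.prime_three⟩
    have hX : IsPGroup 3 ↥(zpowers x) := IsPGroup.of_card (n := 1) (by rw [Nat.card_zpowers, hxo, pow_one])
    obtain ⟨Q, hxQ⟩ := hX.exists_le_sylow
    have hQ : Nat.card (Q : Subgroup M) = 3 ^ 2 :=
      card_sylow_subgroup (m := 110 * k) (by rw [hcard]; ring) (by rcases hk with rfl | rfl <;> norm_num) Q
    have hQab := IsPGroup.commutative_of_card_eq_prime_sq hQ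
    have hQD : (Q : Subgroup M) ≤ D := fun y hy => mem_centralizer_singleton_iff.mpr
      (congrArg Subtype.val (hQab ⟨y, hy⟩ ⟨x, hxQ (mem_zpowers x)⟩))
    have hFD : (F : Subgroup M) ≤ D := fun y hy => mem_centralizer_singleton_iff.mpr
      (mem_centralizer_iff.mp hx y hy)
    have h9 : 9 ∣ Nat.card D := by simpa [hQ] using card_dvd_of_le hQD
    have h5 : 5 ∣ Nat.card D := hF ▸ card_dvd_of_le hFD
    have hD45 : Nat.card D = 45 :=
      Nat.dvd_antisymm hD (Nat.Coprime.mul_dvd_of_dvd_of_dvd (by norm_num : Nat.Coprime 9 5) h9 h5)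
    have hFn : ((F : Subgroup M).subgroupOf D).Normal := by
      have hone : Nat.card (Sylow 5 ↥D) = 1 := by
        have hn' := card_sylow_mem (G := ↥D) (p := 5) (k := 1) (m := 9) (by rw [hD45]; norm_num) (by norm_num)
        revert hn'
        generalize Nat.card (Sylow 5 ↥D) = n
        intro hn'
        rw [Finset.mem_filter, Nat.mem_divisors] at hn'
        obtain ⟨⟨hd, -⟩, hm5⟩ := hn'
        have hmem : n ∈ Nat.divisors 9 := Nat.mem_divisors.mpr ⟨hd, by norm_num⟩
        rw [show Nat.divisors 9 = {1, 3, 9} by rfl] at hmem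
        fin_cases hmem <;> omega
      rw [← Sylow.coe_subtype (h := hFD)]
      have := (Nat.card_eq_one_iff_unique.mp hone).1
      exact Sylow.normal_of_subsingleton _
    have hDN : D ≤ N := (normal_subgroupOf_iff_le_normalizer hFD).mp hFn
    have h45N := card_dvd_of_le hDN
    rw [show Nat.card N = e * (5 * j) from hN, hD45] at h45N
    rw [h] at hmul
    rcases hk with rfl | rfl
    · rw [show e * (5 * j) = 30 by omega] at h45N; norm_num at h45N
    · rw [show e * (5 * j) = 60 by omega] at h45N; norm_num at h45N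
  · rw [h] at hmul
    have hk4 : k = 4 ∧ j = 1 := by
      rcases hk with rfl | rfl <;> rcases hecases with rfl | rfl <;> omega
    exact ⟨hk4.1, h, by rw [hC, hk4.2]⟩


include hM hk hcard h45 in
theorem card_centralizer_three (Q : Sylow 3 M) {x : M} (hx : x ∈ (Q : Subgroup M)) (hx1 : x ≠ 1) :
    centralizer {x} = Q := by
  have : Fact (Nat.Prime 3) := ⟨Nat.prime_three⟩
  have hQ : Nat.card (Q : Subgroup M) = 3 ^ 2 :=
    card_sylow_subgroup (m := 110 * k) (by rw [hcard]; ring) (by rcases hk with rfl | rfl <;> norm_num) Q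
  have hQab := IsPGroup.commutative_of_card_eq_prime_sq hQ
  have hQC : (Q : Subgroup M) ≤ centralizer {x} := fun y hy => mem_centralizer_singleton_iff.mpr
    (congrArg Subtype.val (hQab ⟨y, hy⟩ ⟨x, hx⟩))
  obtain ⟨⟨y, hy⟩, hyo⟩ : ∃ y : ↥(zpowers x), orderOf y = 3 := by
    refine exists_prime_orderOf_dvd_card' 3 ?_
    rw [Nat.card_zpowers]
    obtain ⟨i, hi, hxi⟩ := (Nat.dvd_prime_pow Nat.prime_three).mp (hQ ▸ (Q : Subgroup M).orderOf_dvd_natCard hx)
    have hi0 : i ≠ 0 := fun h => hx1 (orderOf_eq_one_iff.mp (by rw [hxi, h, pow_zero]))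
    rw [hxi]
    exact dvd_pow_self 3 hi0
  rw [← Subgroup.orderOf_coe] at hyo
  simp only at hyo
  obtain ⟨z, rfl⟩ := mem_zpowers_iff.mp hy
  have hle : centralizer {x} ≤ centralizer {x ^ z} := fun c hc => mem_centralizer_singleton_iff.mpr
    (Commute.zpow_right (mem_centralizer_singleton_iff.mp hc) z).eq
  have h45' := (card_dvd_of_le hle).trans (card_centralizer_odd hM hk hcard h45 (Or.inl hyo))
  have h5 : ¬ 5 ∣ Nat.card (centralizer {x}) := by
    intro h
    obtain ⟨⟨w, hw⟩, hwo⟩ := exists_prime_orderOf_dvd_card' 5 h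
    rw [← Subgroup.orderOf_coe] at hwo
    simp only at hwo
    have hW : IsPGroup 5 ↥(zpowers w) := IsPGroup.of_card (n := 1) (by rw [Nat.card_zpowers, hwo, pow_one])
    obtain ⟨F, hF⟩ := hW.exists_le_sylow
    obtain ⟨hk4, -, hFC⟩ := five_local hM hk hcard h45 F
    have hFw : zpowers w = F := by
      refine Subgroup.eq_of_le_of_card_ge hF ?_
      rw [Nat.card_zpowers, hwo]
      refine le_of_eq ((card_sylow_subgroup (k := 1) (m := 198 * k) (by rw [hcard]; ring) ?_ F).trans (pow_one _))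
      rw [hk4]; norm_num
    have hxF : x ∈ centralizer ((F : Subgroup M) : Set M) := by
      rw [← hFw, zpowers_eq_closure, centralizer_closure, mem_centralizer_singleton_iff]
      exact (mem_centralizer_singleton_iff.mp hw).symm
    exact hx1 (eq_one_of_pows (pow_eq_one_of_card_dvd (n := 5) (dvd_of_eq hFC) hxF)
      (pow_eq_one_of_card_dvd (n := 3 ^ 2) (dvd_of_eq hQ) hx) (by norm_num))
  have h9 : Nat.card (centralizer {x}) ∣ 9 :=
    Nat.Coprime.dvd_of_dvd_mul_left ((Nat.Prime.coprime_iff_not_dvd (by norm_num)).mpr h5).symm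
      (show Nat.card (centralizer {x}) ∣ 5 * 9 from h45')
  refine (Subgroup.eq_of_le_of_card_ge hQC ?_).symm
  rw [hQ]
  exact Nat.le_of_dvd (by norm_num) h9

include hM hk hcard h45 in
theorem fifty_five_dvd (Q : Sylow 3 M) : 55 ∣ Nat.card (Sylow 3 M) := by
  have : Fact (Nat.Prime 3) := ⟨Nat.prime_three⟩
  have hQ : Nat.card (Q : Subgroup M) = 3 ^ 2 :=
    card_sylow_subgroup (m := 110 * k) (by rw [hcard]; ring) (by rcases hk with rfl | rfl <;> norm_num) Q
  set N := normalizer ((Q : Subgroup M) : Set M)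
  have key : ∀ t : ℕ, t.Prime → 3 < t → ¬ t ∣ Nat.card N := by
    intro t ht h3 hd
    have := Fact.mk ht
    obtain ⟨y, hyo⟩ := exists_prime_orderOf_dvd_card' t hd
    set φ := normalizerMonoidHom (Q : Subgroup M)
    have hφ : orderOf (φ y) ∣ t := hyo ▸ orderOf_map_dvd φ y
    have h1 : φ y = 1 := by
      rcases (Nat.dvd_prime ht).mp hφ with h | h
      · exact orderOf_eq_one_iff.mp h
      · exact absurd (eq_two_three_of_aut Nat.prime_three hQ (φ y) h h3).1 (by norm_num)
    obtain ⟨⟨a, ha⟩, hao⟩ := exists_prime_orderOf_dvd_card' 3 (hQ ▸ dvd_pow_self 3 two_ne_zero)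
    have ha1 : a ≠ 1 := by
      rintro rfl
      rw [← Subgroup.orderOf_coe] at hao
      simp at hao
    have h2 : (y : M) * a * (y : M)⁻¹ = a :=
      congrArg (fun σ : MulAut (Q : Subgroup M) => (σ ⟨a, ha⟩ : M)) h1
    have hy : (y : M) ∈ centralizer {a} := mem_centralizer_singleton_iff.mpr (by
      calc (y : M) * a = y * a * (y : M)⁻¹ * y := by group
        _ = a * y := by rw [h2])
    rw [card_centralizer_three hM hk hcard h45 Q ha ha1] at hy
    have := (Q : Subgroup M).orderOf_dvd_natCard hy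
    rw [Subgroup.orderOf_coe, hyo, hQ] at this
    have := Nat.le_of_dvd (by norm_num) ((ht.dvd_of_dvd_pow this))
    omega
  have hmul := card_normalizer_mul Q
  rw [hcard] at hmul
  have h5 : 5 ∣ Nat.card (Sylow 3 M) :=
    ((Fact.out : Nat.Prime 5).dvd_mul.mp (Dvd.intro (198 * k) (by rw [hmul]; ring))).resolve_right
      (key 5 (by norm_num) (by norm_num))
  have h11 : 11 ∣ Nat.card (Sylow 3 M) :=
    ((Fact.out : Nat.Prime 11).dvd_mul.mp (Dvd.intro (90 * k) (by rw [hmul]; ring))).resolve_right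
      (key 11 (by norm_num) (by norm_num))
  exact Nat.Coprime.mul_dvd_of_dvd_of_dvd (by norm_num : Nat.Coprime 5 11) h5 h11

include hM hk hcard h45 in
/-- No such simple group exists. -/
theorem false_of_simple : False := by
  classical
  have : Fact (Nat.Prime 3) := ⟨Nat.prime_three⟩
  obtain ⟨F₀⟩ : Nonempty (Sylow 5 M) := inferInstance
  obtain ⟨hk4, hn5, -⟩ := five_local hM hk hcard h45 F₀
  subst hk4
  obtain ⟨Q₀⟩ : Nonempty (Sylow 3 M) := inferInstance
  let T : (Sylow 11 M ⊕ Sylow 5 M) ⊕ Sylow 3 M → Subgroup M := fun i => match i with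
    | .inl (.inl P) => centralizer ((P : Subgroup M) : Set M)
    | .inl (.inr F) => (F : Subgroup M)
    | .inr Q => (Q : Subgroup M)
  have hP44 : ∀ (P : Sylow 11 M) {g : M}, g ∈ centralizer ((P : Subgroup M) : Set M) → g ^ 44 = 1 :=
    fun P g hg => pow_eq_one_of_card_dvd (dvd_of_eq (by rw [card_C hM hk hcard h45 P])) hg
  have hF5 : ∀ F : Sylow 5 M, Nat.card (F : Subgroup M) = 5 := fun F =>
    (card_sylow_subgroup (k := 1) (m := 792) (by rw [hcard]; norm_num) (by norm_num) F).trans (pow_one _)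
  have hQ9 : ∀ Q : Sylow 3 M, Nat.card (Q : Subgroup M) = 9 := fun Q =>
    (card_sylow_subgroup (k := 2) (m := 440) (by rw [hcard]; norm_num) (by norm_num) Q).trans (by norm_num)
  have hF : ∀ (F : Sylow 5 M) {g : M}, g ∈ (F : Subgroup M) → g ^ 5 = 1 :=
    fun F g hg => pow_eq_one_of_card_dvd (dvd_of_eq (hF5 F)) hg
  have hQ : ∀ (Q : Sylow 3 M) {g : M}, g ∈ (Q : Subgroup M) → g ^ 9 = 1 :=
    fun Q g hg => pow_eq_one_of_card_dvd (dvd_of_eq (hQ9 Q)) hg
  have huniq : ∀ i i', ∀ g : M, g ≠ 1 → g ∈ T i → g ∈ T i' → i = i' := by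
    intro i i' g hg1 hi hi'
    rcases i with (P | F) | Q <;> rcases i' with (P' | F') | Q' <;> dsimp only [T] at hi hi'
    · rw [sylow_eq hM hk hcard h45 P P' hg1 hi hi']
    · exact absurd (eq_one_of_pows (hP44 P hi) (hF F' hi') (by norm_num)) hg1
    · exact absurd (eq_one_of_pows (hP44 P hi) (hQ Q' hi') (by norm_num)) hg1
    · exact absurd (eq_one_of_pows (hF F hi) (hP44 P' hi') (by norm_num)) hg1
    · have hz : ∀ F : Sylow 5 M, g ∈ (F : Subgroup M) → zpowers g = F := fun F h => by
        refine Subgroup.eq_of_le_of_card_ge (zpowers_le.mpr h) ?_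
        rw [hF5 F, Nat.card_zpowers, orderOf_eq_prime (hF F h) hg1]
      rw [Sylow.ext (show (F : Subgroup M) = F' from (hz F hi).symm.trans (hz F' hi'))]
    · exact absurd (eq_one_of_pows (hF F hi) (hQ Q' hi') (by norm_num)) hg1
    · exact absurd (eq_one_of_pows (hQ Q hi) (hP44 P' hi') (by norm_num)) hg1
    · exact absurd (eq_one_of_pows (hQ Q hi) (hF F' hi') (by norm_num)) hg1
    · rw [Sylow.ext (show (Q : Subgroup M) = Q' from
        (card_centralizer_three hM hk hcard h45 Q hi hg1).symm.trans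
          (card_centralizer_three hM hk hcard h45 Q' hi' hg1))]
  have := Fintype.ofFinite M
  have := Fintype.ofFinite (Sylow 11 M)
  have := Fintype.ofFinite (Sylow 5 M)
  have := Fintype.ofFinite (Sylow 3 M)
  let f : (Σ i, {g : T i // (g : M) ≠ 1}) → {g : M // g ≠ 1} := fun a => ⟨a.2.1.1, a.2.2⟩
  have hf : Function.Injective f := by
    rintro ⟨i, ⟨g, hgi⟩, hg⟩ ⟨i', ⟨g', hgi'⟩, hg'⟩ h
    have e : g = g' := congrArg Subtype.val h
    subst e
    obtain rfl := huniq i i' g hg hgi hgi'
    rfl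
  have hT : ∀ H : Subgroup M, Fintype.card {g : H // (g : M) ≠ 1} = Nat.card H - 1 := by
    intro H
    have e : {g : H // (g : M) ≠ 1} ≃ {g : H // g ≠ 1} :=
      Equiv.subtypeEquivRight fun g => not_congr OneMemClass.coe_eq_one
    rw [Fintype.card_congr e, Fintype.card_subtype_compl, Fintype.card_subtype_eq, Nat.card_eq_fintype_card]
  have hn1 : Fintype.card {g : M // g ≠ 1} = 3959 := by
    rw [Fintype.card_subtype_compl, Fintype.card_subtype_eq, ← Nat.card_eq_fintype_card, hcard]
  have hsig : Fintype.card (Σ i, {g : T i // (g : M) ≠ 1}) = 45 * 43 + 396 * 4 + Nat.card (Sylow 3 M) * 8 := by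
    rw [Fintype.card_sigma, Fintype.sum_sum_type, Fintype.sum_sum_type]
    simp only [hT, T, card_C hM hk hcard h45, hF5, hQ9, Finset.sum_const, Finset.card_univ, smul_eq_mul,
      ← Nat.card_eq_fintype_card, h45, hn5]
  have hle := Fintype.card_le_of_injective f hf
  obtain ⟨c, hc⟩ := fifty_five_dvd hM hk hcard h45 Q₀
  have hc0 : Nat.card (Sylow 3 M) ≠ 0 := Nat.card_pos.ne'
  rw [hsig, hn1] at hle
  have hn3 : Nat.card (Sylow 3 M) = 55 := by omega
  have hbij : Function.Bijective f :=
    (Fintype.bijective_iff_injective_and_card f).mpr ⟨hf, by rw [hsig, hn1, hn3]⟩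
  -- a Sylow 2-subgroup inside the normaliser of `P`
  obtain ⟨P⟩ : Nonempty (Sylow 11 M) := inferInstance
  set N := normalizer ((P : Subgroup M) : Set M)
  set C := centralizer ((P : Subgroup M) : Set M)
  obtain ⟨S₁, hS₁⟩ := Sylow.exists_subgroup_card_pow_prime (G := ↥N) 2 (n := 3)
    (by rw [card_N hk hcard h45 P]; norm_num)
  set S := S₁.map N.subtype
  have hS : Nat.card S = 8 := (card_map_of_injective N.subtype_injective).trans (hS₁.trans (by norm_num))
  have hSN : S ≤ N := map_subtype_le _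
  have hCN : (C.subgroupOf N).index = 2 := by
    have h1 := (C.subgroupOf N).index_mul_card
    rw [Nat.card_congr (subgroupOfEquivOfLe (centralizer_le_normalizer _)).toEquiv,
      card_C hM hk hcard h45 P, card_N hk hcard h45 P] at h1
    omega
  have hsq : ∀ x ∈ N, x * x ∈ C := fun x hx => mul_self_mem_of_index_two hCN (⟨x, hx⟩ : ↥N)
  have hS8 : ∀ {x : M}, x ∈ S → x ^ 8 = 1 := fun hx => pow_eq_one_of_card_dvd (dvd_of_eq hS) hx
  have hinv : ∀ x ∈ S, x ∉ C → x ^ 2 = 1 := by
    intro x hx hxC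
    by_contra h2
    have hx1 : x ≠ 1 := fun h => h2 (by rw [h, one_pow])
    obtain ⟨⟨i, ⟨g, hg⟩, _⟩, he⟩ := hbij.2 ⟨x, hx1⟩
    obtain rfl : g = x := congrArg Subtype.val he
    rcases i with (P' | F) | Q <;> dsimp only [T] at hg
    · have hP' := sylow_eq hM hk hcard h45 P P' h2 (by rw [pow_two]; exact hsq _ (hSN hx))
        (by rw [pow_two]; exact mul_mem hg hg)
      exact hxC (show g ∈ centralizer ((P : Subgroup M) : Set M) by rw [hP'] at hg; exact hg)
    · exact hx1 (eq_one_of_pows (hS8 hx) (hF F hg) (by norm_num))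
    · exact hx1 (eq_one_of_pows (hS8 hx) (hQ Q hg) (by norm_num))
  -- an involution outside and one inside `C`
  obtain ⟨x, hxS, hxC⟩ : ∃ x ∈ S, x ∉ C := by
    by_contra h
    push_neg at h
    have := card_dvd_of_le (show S ≤ C from h)
    rw [hS, card_C hM hk hcard h45 P] at this
    norm_num at this
  have hxo : orderOf x = 2 := orderOf_eq_prime (hinv x hxS hxC) (fun h => hxC (h ▸ C.one_mem))
  obtain ⟨s, hsS, hsC, hso⟩ : ∃ s ∈ S, s ∈ C ∧ orderOf s = 2 := by
    have h2 : 2 ∣ Nat.card (S ⊓ C : Subgroup M) := by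
      obtain ⟨i, hi, hi'⟩ := (Nat.dvd_prime_pow Nat.prime_two).mp
        (show Nat.card (S ⊓ C : Subgroup M) ∣ 2 ^ 3 from (card_dvd_of_le inf_le_left).trans (dvd_of_eq hS))
      refine hi' ▸ dvd_pow_self 2 fun h0 => ?_
      rw [h0, pow_zero, Subgroup.card_eq_one] at hi'
      -- otherwise `S` embeds in `N / C`
      have hinj : Function.Injective (fun a : S => ((⟨a, hSN a.2⟩ : ↥N) : ↥N ⧸ C.subgroupOf N)) := by
        intro a b hab
        have hab' : ((⟨a, hSN a.2⟩ : ↥N) : ↥N ⧸ C.subgroupOf N) = ((⟨b, hSN b.2⟩ : ↥N) : ↥N ⧸ C.subgroupOf N) := hab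
        have h00 := QuotientGroup.eq.mp hab'
        have hab'' : (a : M)⁻¹ * b ∈ C := h00
        have hm : (a : M)⁻¹ * b ∈ S ⊓ C :=
          ⟨S.mul_mem (S.inv_mem a.2) b.2, hab''⟩
        rw [hi', mem_bot] at hm
        exact Subtype.ext (inv_mul_eq_one.mp hm)
      have := Nat.card_le_card_of_injective _ hinj
      rw [hS, ← index_eq_card, hCN] at this
      norm_num at this
    obtain ⟨⟨s, hs⟩, hso⟩ := exists_prime_orderOf_dvd_card' 2 h2
    rw [← Subgroup.orderOf_coe] at hso
    exact ⟨s, hs.1, hs.2, hso⟩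
  -- two commuting involutions in `S`
  obtain ⟨u, v, huS, hvS, huo, hvo, huv, hne⟩ : ∃ u v, u ∈ S ∧ v ∈ S ∧ orderOf u = 2 ∧ orderOf v = 2 ∧
      Commute u v ∧ u ≠ v := by
    have hSp : IsPGroup 2 ↥S := IsPGroup.of_card (n := 3) (by rw [hS]; norm_num)
    have : Nontrivial S := Finite.one_lt_card_iff_nontrivial.mp (by rw [hS]; norm_num)
    have := hSp.center_nontrivial
    have h2 : 2 ∣ Nat.card (center ↥S) := by
      obtain ⟨i, hi⟩ := IsPGroup.iff_card.mp (hSp.to_subgroup (center ↥S))
      have := Finite.one_lt_card (α := center ↥S)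
      rw [hi] at this ⊢
      exact dvd_pow_self 2 fun h => by simp [h] at this
    obtain ⟨⟨⟨c, hcS⟩, hc⟩, hco⟩ := exists_prime_orderOf_dvd_card' 2 h2
    rw [← Subgroup.orderOf_coe, ← Subgroup.orderOf_coe] at hco
    have hcc : ∀ y ∈ S, Commute y c := fun y hy => congrArg Subtype.val (mem_center_iff.mp hc ⟨y, hy⟩)
    by_cases hcC : c ∈ C
    · exact ⟨x, c, hxS, hcS, hxo, hco, hcc x hxS, fun h => hxC (h ▸ hcC)⟩
    · exact ⟨s, c, hsS, hcS, hso, hco, hcc s hsS, fun h => hcC (h ▸ hsC)⟩
  -- move them into the normaliser of a Sylow 3-subgroup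
  set NQ := normalizer ((Q₀ : Subgroup M) : Set M)
  have hNQ : Nat.card NQ = 72 := by
    have := card_normalizer_mul Q₀
    rw [hn3, hcard] at this
    exact Nat.eq_of_mul_eq_mul_left (by norm_num : 0 < 55) (this.trans (by norm_num))
  obtain ⟨W₁, hW₁⟩ := Sylow.exists_subgroup_card_pow_prime (G := ↥NQ) 2 (n := 3) (by rw [hNQ]; norm_num)
  have hfact : (Nat.card M).factorization 2 = 3 := by
    rw [hcard, show (990 : ℕ) * 4 = 2 ^ 3 * 495 by norm_num, Nat.factorization_mul (by norm_num) (by norm_num),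
      Finsupp.add_apply, Nat.prime_two.factorization_pow, Finsupp.single_eq_same,
      Nat.factorization_eq_zero_of_not_dvd (by norm_num)]
  let SS : Sylow 2 M := Sylow.ofCard S (by rw [hS, hfact]; norm_num)
  let WW : Sylow 2 M := Sylow.ofCard (W₁.map NQ.subtype)
    (by rw [card_map_of_injective NQ.subtype_injective, hW₁, hfact])
  obtain ⟨g, hg⟩ := MulAction.exists_smul_eq M SS WW
  have hconj : ∀ y ∈ S, g * y * g⁻¹ ∈ NQ := by
    intro y hy
    have h1 : g * y * g⁻¹ ∈ ((g • SS : Sylow 2 M) : Subgroup M) :=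
      mem_map.mpr ⟨y, hy, rfl⟩
    rw [hg] at h1
    exact map_subtype_le _ h1
  have hord : ∀ y, orderOf (g * y * g⁻¹) = orderOf y := fun y =>
    orderOf_injective (MulAut.conj g).toMonoidHom (MulEquiv.injective _) y
  have hQab := IsPGroup.commutative_of_card_eq_prime_sq (p := 3) ((hQ9 Q₀).trans (by norm_num))
  -- involutions normalising `Q₀` invert it
  have hinvert : ∀ w ∈ NQ, orderOf w = 2 → ∀ a ∈ (Q₀ : Subgroup M), w * a * w⁻¹ = a⁻¹ := by
    intro w hw hwo a ha
    have hb : w * a * w⁻¹ ∈ (Q₀ : Subgroup M) := (mem_normalizer_iff.mp hw a).mp ha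
    have hw2 : w * w = 1 := by rw [← pow_two, ← hwo, pow_orderOf_eq_one]
    have hwi : w⁻¹ = w := inv_eq_of_mul_eq_one_right hw2
    have hcomm : Commute (a * (w * a * w⁻¹)) w := by
      have e : (w * a * w⁻¹) * a = a * (w * a * w⁻¹) := congrArg Subtype.val (hQab ⟨_, hb⟩ ⟨a, ha⟩)
      have e2 : w * (a * (w * a * w⁻¹)) * w⁻¹ = w * a * w⁻¹ * ((w * w) * a * (w * w)⁻¹) := by group
      rw [hw2, inv_one, mul_one, one_mul, e] at e2
      calc a * (w * a * w⁻¹) * w = w * (a * (w * a * w⁻¹)) * w⁻¹ * w := by rw [e2]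
        _ = w * (a * (w * a * w⁻¹)) := by group
    have h88 := pow_88_of_commute hM hk hcard h45 hwo hcomm
    have := eq_one_of_pows h88 (hQ Q₀ (mul_mem ha hb)) (by norm_num)
    exact (inv_eq_of_mul_eq_one_right this).symm
  obtain ⟨⟨a, ha⟩, hao⟩ := exists_prime_orderOf_dvd_card' 3 (show 3 ∣ Nat.card (Q₀ : Subgroup M) by
    rw [hQ9]; norm_num)
  rw [← Subgroup.orderOf_coe] at hao
  simp only at hao
  set u' := g * u * g⁻¹ with hu'
  set v' := g * v * g⁻¹ with hv'
  have hu1 := hinvert u' (hconj u huS) (by rw [hord, huo]) a ha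
  have hv1 := hinvert v' (hconj v hvS) (by rw [hord, hvo]) a⁻¹ (inv_mem ha)
  have hv2 := hinvert v' (hconj v hvS) (by rw [hord, hvo]) a ha
  have hcomm : Commute a (u' * v') := by
    have : u' * v' * a * (u' * v')⁻¹ = a := by
      calc u' * v' * a * (u' * v')⁻¹ = u' * (v' * a * v'⁻¹) * u'⁻¹ := by group
        _ = (u' * a * u'⁻¹)⁻¹ := by rw [hv2]; group
        _ = a := by rw [hu1, inv_inv]
    calc a * (u' * v') = u' * v' * a * (u' * v')⁻¹ * (u' * v') := by rw [this]
      _ = u' * v' * a := by group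
  have huvo : orderOf (u' * v') = 2 := by
    refine orderOf_eq_prime ?_ ?_
    · rw [hu', hv', show g * u * g⁻¹ * (g * v * g⁻¹) = g * (u * v) * g⁻¹ by group, conj_pow, huv.mul_pow,
        ← huo, pow_orderOf_eq_one, one_mul]
      rw [show orderOf u = orderOf v by rw [huo, hvo], pow_orderOf_eq_one]
      group
    · intro h
      have hv3 : v'⁻¹ = v' := inv_eq_of_mul_eq_one_right (by
        rw [← pow_two, ← hvo, ← hord v, pow_orderOf_eq_one])
      have : u' = v' := by rw [← hv3]; exact eq_inv_of_mul_eq_one_left h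
      exact hne (mul_left_cancel (mul_right_cancel this))
  have h88 := pow_88_of_commute hM hk hcard h45 huvo hcomm
  have := orderOf_dvd_of_pow_eq_one h88
  rw [hao] at this
  norm_num at this

end CfsgLib.KGroups.NoSimple3960
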