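import Cfsg.Agent.Lib.FusionSystem.GroupNormal
import Cfsg.Agent.Lib.FusionSystem.Alperin
import Cfsg.Agent.Lib.KGroups.Functor.Transfer
import Cfsg.Agent.Lib.Solvable.Cores

/-!
Normal subsystems of the fusion system of a group with `C(O_p) ≤ O_p` are fusion systems of normal subgroups.
-/

set_option autoImplicit false

namespace CfsgLib.KGroups.NormalSubsystemModel

open Cfsg CfsgLib.Fsys
open scoped commutatorElement
open Cfsg.FusionSystem (centralizerIn normalizerIn)
open CfsgLib.LocalEven.SylowIn (IsSylowIn)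

variable {G : Type*} [Group G] [Finite G] {p : ℕ} [Fact p.Prime] {S : Sylow p G} {T : Subgroup G}
  {E : FusionSystem T}

/-- The intersection of `T` with `O_p(G)`. -/
abbrev base (p : ℕ) {G : Type*} [Group G] (T : Subgroup G) : Subgroup G := T ⊓ Cfsg.pCore p G

/-- The `p'`-elements of `N(T)` inducing automorphisms of `E` and moving `O_p(G)` only inside `T`. -/
def lifts (p : ℕ) {G : Type*} [Group G] {T : Subgroup G} (E : FusionSystem T) : Set G :=
  {g | (orderOf g).Coprime p ∧ (∀ q ∈ Cfsg.pCore p G, g * q * g⁻¹ * q⁻¹ ∈ base p T) ∧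
    ∃ hn : g ∈ Subgroup.normalizer (T : Set G), conjAut T hn ∈ E.autGroup T}

/-- The normal subgroup belonging to `E`. -/
def model (p : ℕ) {G : Type*} [Group G] {T : Subgroup G} (E : FusionSystem T) : Subgroup G :=
  Subgroup.normalClosure (T : Set G) ⊔ Subgroup.closure (lifts p E)

theorem le_model : T ≤ model p E :=
  le_sup_of_le_left Subgroup.le_normalClosure

theorem exists_pow_coprime (g : G) :
    ∃ a m : ℕ, m.Coprime p ∧ orderOf g = p ^ a * m ∧ (orderOf (g ^ (p ^ a))).Coprime p := by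
  obtain ⟨a, m, hm, he⟩ := Nat.exists_eq_pow_mul_and_not_dvd (orderOf_pos g).ne' p (Fact.out : p.Prime).ne_one
  have hc : m.Coprime p := ((Fact.out : p.Prime).coprime_iff_not_dvd.2 hm).symm
  refine ⟨a, m, hc, he, ?_⟩
  rw [orderOf_pow' g (pow_ne_zero _ (Fact.out : p.Prime).ne_zero), he, Nat.gcd_mul_right_left,
    Nat.mul_div_cancel_left _ (pow_pos (Fact.out : p.Prime).pos a)]
  exact hc

theorem eq_one_of_pow_pow {g : G} (hg : (orderOf g).Coprime p) {k : ℕ} (h : g ^ p ^ k = 1) : g = 1 :=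
  orderOf_eq_one_iff.1 (Nat.eq_one_of_dvd_coprimes (hg.pow_right k) dvd_rfl (orderOf_dvd_of_pow_eq_one h))

variable (hG : Subgroup.centralizer ((Cfsg.pCore p G : Subgroup G) : Set G) ≤ Cfsg.pCore p G)
  (hTS : T ≤ (S : Subgroup G)) (hE : E.IsNormalIn (groupFusionSystem (S : Subgroup G)) p)

include hE in
theorem stronglyClosed : (groupFusionSystem (S : Subgroup G)).StronglyClosed T := hE.1.2.2.2.1

include hE in
theorem conj_mem_of_mem {g x : G} (hx : x ∈ T) (h : g * x * g⁻¹ ∈ (S : Subgroup G)) : g * x * g⁻¹ ∈ T := by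
  have hsc := stronglyClosed hE
  have hP : Subgroup.zpowers x ≤ (S : Subgroup G) := Subgroup.zpowers_le.2 (hsc.1 hx)
  refine sc_apply hsc (fn_group_conj (P := Subgroup.zpowers x) hP g ?_) (Subgroup.mem_zpowers x) hx
  rintro y ⟨n, rfl⟩
  show g * x ^ n * g⁻¹ ∈ _
  rw [← conj_zpow]
  exact Subgroup.zpow_mem _ h n

include hE in
theorem base_normal : (base p T).Normal := by
  have hQn : (Cfsg.pCore p G).Normal := CfsgLib.LocalEven.SylowIn.pCore_normal G p
  exact ⟨fun x hx g => ⟨conj_mem_of_mem hE hx.1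
    (CfsgLib.Solvable.Cores.pCore_le_sylow S (hQn.conj_mem x hx.2 g)), hQn.conj_mem x hx.2 g⟩⟩

include hE in
/-- The elements moving `O_p(G)` only inside `T`. -/
theorem exists_stab : ∃ K : Subgroup G, K.Normal ∧
    ∀ g, g ∈ K ↔ ∀ q ∈ Cfsg.pCore p G, g * q * g⁻¹ * q⁻¹ ∈ base p T := by
  have hQn : (Cfsg.pCore p G).Normal := CfsgLib.LocalEven.SylowIn.pCore_normal G p
  have hB := base_normal hE
  let K : Subgroup G :=
    { carrier := {g | ∀ q ∈ Cfsg.pCore p G, g * q * g⁻¹ * q⁻¹ ∈ base p T}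
      one_mem' := fun q _ => by simp [one_mem]
      mul_mem' := by
        intro a b ha hb q hq
        have h2 := Subgroup.mul_mem _ (ha _ (hQn.conj_mem q hq b)) (hb q hq)
        simpa [mul_assoc] using h2
      inv_mem' := by
        intro a ha q hq
        have h2 := Subgroup.inv_mem _ (ha _ (hQn.conj_mem q hq a⁻¹))
        simpa [mul_assoc] using h2 }
  refine ⟨K, ⟨fun g hg k q hq => ?_⟩, fun g => Iff.rfl⟩
  have h2 := hB.conj_mem _ (hg _ (hQn.conj_mem q hq k⁻¹)) k
  simpa [mul_assoc] using h2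

include hE in
theorem le_stab {g : G} (hg : g ∈ T) : ∀ q ∈ Cfsg.pCore p G, g * q * g⁻¹ * q⁻¹ ∈ base p T := by
  intro q hq
  have hQn : (Cfsg.pCore p G).Normal := CfsgLib.LocalEven.SylowIn.pCore_normal G p
  have hqS := CfsgLib.Solvable.Cores.pCore_le_sylow S hq
  have h1 : q * g⁻¹ * q⁻¹ ∈ T :=
    (Subgroup.mem_normalizer_iff.1 (sc_le_normalizer (stronglyClosed hE) hqS) _).1 (T.inv_mem hg)
  refine ⟨?_, Subgroup.mul_mem _ (hQn.conj_mem q hq g) (Subgroup.inv_mem _ hq)⟩
  have h2 := T.mul_mem hg h1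
  simpa [mul_assoc] using h2

include hG hE in
/-- The elements centralizing `T ∩ O_p(G)` and `O_p(G)` modulo it lie in `O_p(G)`. -/
theorem mem_pCore_of_stab {c : G} (hc : ∀ q ∈ Cfsg.pCore p G, c * q * c⁻¹ * q⁻¹ ∈ base p T)
    (hcB : c ∈ Subgroup.centralizer ((base p T : Subgroup G) : Set G)) : c ∈ Cfsg.pCore p G := by
  obtain ⟨K, hKn, hK⟩ := exists_stab hE
  have hBn := base_normal hE
  refine CfsgLib.Solvable.Cores.le_pCore (N := K ⊓ Subgroup.centralizer ((base p T : Subgroup G) : Set G)) ?_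
    ⟨(hK c).2 hc, hcB⟩
  have hQp : IsPGroup p (Cfsg.pCore p G) := CfsgLib.LocalEven.SylowIn.isPGroup_pCore G p
  obtain ⟨k, hk⟩ := IsPGroup.iff_card.1 (hQp.to_le (inf_le_right : base p T ≤ Cfsg.pCore p G))
  rintro ⟨d, hdK, hdB⟩
  obtain ⟨j, hj⟩ : ∃ j, (d ^ p ^ k) ^ p ^ j = 1 := by
    have hd : d ^ p ^ k ∈ Cfsg.pCore p G := by
      refine hG (Subgroup.mem_centralizer_iff.2 fun q hq => ?_)
      set r := d * q * d⁻¹ * q⁻¹ with hr
      have hrB : r ∈ base p T := (hK d).1 hdK q hq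
      have key : ∀ n : ℕ, d ^ n * q * (d ^ n)⁻¹ = r ^ n * q := by
        intro n
        induction n with
        | zero => simp
        | succ n ih =>
          have hcm : d * r ^ n * d⁻¹ = r ^ n := by
            have := Subgroup.mem_centralizer_iff.1 hdB _ (Subgroup.pow_mem _ hrB n)
            rw [← this]
            group
          calc d ^ (n + 1) * q * (d ^ (n + 1))⁻¹ = d * (d ^ n * q * (d ^ n)⁻¹) * d⁻¹ := by
                rw [pow_succ' d n]; group
            _ = d * (r ^ n * q) * d⁻¹ := by rw [ih]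
            _ = (d * r ^ n * d⁻¹) * (d * q * d⁻¹) := by group
            _ = r ^ n * (r * q) := by rw [hcm, show r * q = d * q * d⁻¹ from inv_mul_cancel_right _ q]
            _ = r ^ (n + 1) * q := by rw [pow_succ]; exact (mul_assoc _ _ _).symm
      have h1 : r ^ p ^ k = 1 := by
        rw [← hk]
        exact congrArg Subtype.val (pow_card_eq_one' (x := (⟨r, hrB⟩ : base p T)))
      have h2 := key (p ^ k)
      rw [h1, one_mul] at h2
      exact ((mul_inv_eq_iff_eq_mul.1 h2)).symm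
    obtain ⟨j, hj⟩ := hQp ⟨_, hd⟩
    exact ⟨j, congrArg Subtype.val hj⟩
  refine ⟨k + j, Subtype.ext ?_⟩
  show d ^ p ^ (k + j) = 1
  rw [pow_add, pow_mul]
  exact hj

include hE in
theorem normalizer_sylow_le {N : Subgroup G} (hTN : T ≤ N) :
    Subgroup.normalizer (((S : Subgroup G) ⊓ N : Subgroup G) : Set G) ≤ Subgroup.normalizer (T : Set G) := by
  intro n hn
  refine mem_normalizer_of_map_le fun x hx => conj_mem_of_mem hE hx ?_
  exact ((Subgroup.mem_normalizer_iff.1 hn x).1 ⟨(stronglyClosed hE).1 hx, hTN hx⟩).1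

include hE in
/-- Frattini: a normal subgroup containing `T` supplements the normalizer of `T`. -/
theorem exists_factor {N : Subgroup G} [N.Normal] (hTN : T ≤ N) (g : G) :
    ∃ l ∈ N, ∃ n ∈ Subgroup.normalizer (T : Set G), g = l * n := by
  obtain ⟨l, hl, n, hn, he⟩ := CfsgLib.LocalEven.SylowIn.frattini_argument (H := ⊤) (g := g)
    (isSylowIn_inter_normal (H := N) S) (by rw [Subgroup.normalizer_eq_top]) le_top trivial
  exact ⟨l, hl, n, normalizer_sylow_le hE hTN hn.2, he⟩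

include hE in
theorem model_normal : (model p E).Normal := by
  set K := Subgroup.normalClosure (T : Set G) with hK
  obtain ⟨C, hCn, hC⟩ := exists_stab hE
  refine ⟨fun h hh g => ?_⟩
  suffices hle : model p E ≤ (model p E).comap (MulAut.conj g).toMonoidHom from hle hh
  refine sup_le (fun x hx => Subgroup.mem_sup_left (Subgroup.normalClosure_normal.conj_mem x hx g)) ?_
  rw [Subgroup.closure_le]
  rintro x ⟨hord, hst, hn, hα⟩
  obtain ⟨l, hl, n, hnn, rfl⟩ := exists_factor hE (N := K) Subgroup.le_normalClosure g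
  have hx' : n * x * n⁻¹ ∈ lifts p E := by
    refine ⟨?_, (hC _).1 (hCn.conj_mem x ((hC x).2 hst) n),
      Subgroup.mul_mem _ (Subgroup.mul_mem _ hnn hn) (Subgroup.inv_mem _ hnn), ?_⟩
    · rwa [show n * x * n⁻¹ = MulAut.conj n x from rfl, MulEquiv.orderOf_eq]
    · have hβ : conjAut T hnn ∈ (groupFusionSystem (S : Subgroup G)).autGroup T := by
        rw [group_autGroup (stronglyClosed hE).1]
        exact conjAut_mem_autInducedBy hnn trivial
      convert Invariant.conj_mem hE.1.2.2 le_rfl hβ hα using 1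
      rw [eq_mul_inv_iff_mul_eq]
      refine MulEquiv.ext fun y => Subtype.ext ?_
      simp [mul_assoc]
  show (l * n) * x * (l * n)⁻¹ ∈ model p E
  rw [show (l * n) * x * (l * n)⁻¹ = l * ((n * x * n⁻¹) * l⁻¹ * (n * x * n⁻¹)⁻¹) * (n * x * n⁻¹) by group]
  exact Subgroup.mul_mem _ (Subgroup.mem_sup_left (K.mul_mem hl
    (Subgroup.normalClosure_normal.conj_mem _ (K.inv_mem hl) _))) (Subgroup.mem_sup_right (Subgroup.subset_closure hx'))

include hE in
theorem model_stab {g : G} (hg : g ∈ model p E) : ∀ q ∈ Cfsg.pCore p G, g * q * g⁻¹ * q⁻¹ ∈ base p T := by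
  obtain ⟨C, hCn, hC⟩ := exists_stab hE
  refine (hC g).1 ((show model p E ≤ C from sup_le (Subgroup.normalClosure_le_normal fun x hx => (hC x).2 (le_stab hE hx))
    ((Subgroup.closure_le _).2 fun x hx => (hC x).2 hx.2.1)) hg)

include hE in
/-- The model induces only automorphisms of `E` on `T ∩ O_p(G)`. -/
theorem fn_base {g : G} (hg : g ∈ model p E) : Fn E (base p T) (fun x => g * x * g⁻¹) := by
  have hB := base_normal hE
  let A : Subgroup G :=
    { carrier := {g | Fn E (base p T) (fun x => g * x * g⁻¹)}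
      one_mem' := by
        simp only [Set.mem_setOf_eq]
        exact (fn_id (F := E) inf_le_left).congr fun x _ => by simp
      mul_mem' := by
        intro a b ha hb
        simp only [Set.mem_setOf_eq] at ha hb ⊢
        exact (hb.comp ha fun x hx => hB.conj_mem x hx b).congr fun x _ => by simp [mul_assoc]
      inv_mem' := by
        intro a ha
        simp only [Set.mem_setOf_eq] at ha ⊢
        obtain ⟨f, hf, hfe, -⟩ := Fn.exists_inv ha
        have hi : img (fun x => a * x * a⁻¹) (base p T) = base p T := ha.img_eq_self fun x hx => hB.conj_mem x hx a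
        rw [hi] at hf
        refine hf.congr fun x hx => ?_
        have := hfe (a⁻¹ * x * a) (by simpa using hB.conj_mem x hx a⁻¹)
        simpa [mul_assoc] using this }
  have hA : ∀ g, g ∈ A ↔ Fn E (base p T) (fun x => g * x * g⁻¹) := fun g => Iff.rfl
  haveI : A.Normal := ⟨fun a ha k => by
    rw [hA] at ha ⊢
    obtain ⟨χ, hχ, he⟩ := Invariant.strong hE.1.2.2 (inf_le_left : base p T ≤ T)
      (fn_group_conj (S := (S : Subgroup G)) (inf_le_left.trans (stronglyClosed hE).1) k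
        fun x hx => (stronglyClosed hE).1 (hB.conj_mem x hx k).1) le_rfl ha fun x hx => hB.conj_mem x hx a
    rw [(img_conj (base p T) k).trans (CfsgLib.LocalEven.SylowIn.map_conj_eq_iff.2
      (by rw [Subgroup.normalizer_eq_top]; trivial))] at hχ
    refine hχ.congr fun x hx => ?_
    have := he (k⁻¹ * x * k) (by simpa using hB.conj_mem x hx k⁻¹)
    simpa [mul_assoc] using this⟩
  refine (hA g).1 ((show model p E ≤ A from sup_le
    (Subgroup.normalClosure_le_normal fun x hx => (hA x).2 (fn_conj inf_le_left hx))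
    ((Subgroup.closure_le _).2 ?_)) hg)
  rintro x ⟨-, -, hn, hα⟩
  rw [SetLike.mem_coe, hA]
  refine (((mem_autGroup_iff_fn le_rfl).1 hα).mono inf_le_left).congr fun y hy => ?_
  lift y to T using hy.1
  rw [autFn_coe, conjAut_coe]

include hG hTS hE in
theorem model_inf_sylow : (S : Subgroup G) ⊓ model p E = T := by
  set H := model p E with hH
  haveI := model_normal hE
  have hB := base_normal hE
  have hQS := CfsgLib.Solvable.Cores.pCore_le_sylow S
  refine le_antisymm ?_ (le_inf hTS le_model)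
  have hfin : Finite T := inferInstance
  have hTp : IsPGroup p T := S.2.to_le hTS
  have hEs : E.IsSaturated p := hE.1.1
  have hwc : E.WeaklyClosed (base p T) := ⟨inf_le_left, fun φ hφ => by
    obtain ⟨-, hφS, g, hg⟩ := hE.1.2.2.1 _ hφ
    refine Subgroup.eq_of_le_of_card_ge (fun y ⟨x, hx⟩ => hx ▸ (hg x).symm ▸ hB.conj_mem _ x.2 g) ?_
    exact le_of_eq (Nat.card_congr (MonoidHom.ofInjective (E.injective_of_mem hφ)).toEquiv)⟩
  obtain ⟨R, hR⟩ := (fullyNormalized_good hTp hEs (fullyNormalized_of_weaklyClosed hwc)).1.2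
  have hsplit : ∀ s ∈ (S : Subgroup G) ⊓ H, ∃ t ∈ T, t⁻¹ * s ∈ Cfsg.pCore p G := by
    set A := (autInducedBy ((S : Subgroup G) ⊓ H) (base p T)).subgroupOf (E.autGroup (base p T))
    have hAp : IsPGroup p A :=
      (isPGroup_autInducedBy (S.2.to_le inf_le_left)).comap_of_injective _ (Subgroup.subtype_injective _)
    have hRA : (R : Subgroup (E.autGroup (base p T))) ≤ A := by
      rw [hR]
      intro α hα
      obtain ⟨t, ht, he⟩ := mem_autInducedBy.1 (show (α : MulAut (base p T)) ∈ autInducedBy T (base p T) from hα)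
      exact mem_autInducedBy.2 ⟨t, ⟨hTS ht, le_model ht⟩, he⟩
    intro s hs
    have hsN : s ∈ Subgroup.normalizer ((base p T : Subgroup G) : Set G) := by
      rw [Subgroup.normalizer_eq_top]; trivial
    have hsE : conjAut (base p T) hsN ∈ E.autGroup (base p T) := by
      refine (mem_autGroup_iff_fn inf_le_left).2 ((fn_base hE hs.2).congr fun x hx => ?_)
      lift x to base p T using hx
      rw [autFn_coe, conjAut_coe]
    have hsR : (⟨_, hsE⟩ : E.autGroup (base p T)) ∈ (R : Subgroup (E.autGroup (base p T))) :=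
      (R.3 hAp hRA).le (show conjAut (base p T) hsN ∈ autInducedBy ((S : Subgroup G) ⊓ H) (base p T) from
        conjAut_mem_autInducedBy hsN hs)
    rw [hR] at hsR
    obtain ⟨t, ht, he⟩ := mem_autInducedBy.1
      (show conjAut (base p T) hsN ∈ autInducedBy T (base p T) from hsR)
    refine ⟨t, ht, mem_pCore_of_stab hG hE
      (model_stab hE (H.mul_mem (H.inv_mem (le_model ht)) hs.2)) (Subgroup.mem_centralizer_iff.2 fun x hx => ?_)⟩
    have h := he ⟨x, hx⟩
    rw [conjAut_coe] at h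
    calc x * (t⁻¹ * s) = t⁻¹ * (t * x * t⁻¹) * s := by group
      _ = t⁻¹ * (s * x * s⁻¹) * s := by rw [← h]
      _ = t⁻¹ * s * x := by group
  -- the focal subgroup
  have hfoc : (S : Subgroup G) ⊓ H ⊓ ⁅H, H⁆ ≤ T := by
    refine CfsgLib.KGroups.Functor.inf_commutator_le_of_focal (isSylowIn_inter_normal S) fun x hx u hu hux => ?_
    obtain ⟨t, ht, hq⟩ := hsplit x hx
    set q := t⁻¹ * x with hqdef
    have hx' : x = t * q := by rw [hqdef]; group
    have hu1 : u * q * u⁻¹ * q⁻¹ ∈ base p T := model_stab hE hu q hq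
    have hqc : u * q * u⁻¹ ∈ (S : Subgroup G) := hQS
      ((CfsgLib.LocalEven.SylowIn.pCore_normal G p).conj_mem q hq u)
    have hut : u * t * u⁻¹ ∈ T := by
      refine conj_mem_of_mem hE ht ?_
      rw [show u * t * u⁻¹ = (u * x * u⁻¹) * (u * q * u⁻¹)⁻¹ by rw [hx']; group]
      exact Subgroup.mul_mem _ hux.1 (Subgroup.inv_mem _ hqc)
    rw [show u * x * u⁻¹ * x⁻¹ = (u * t * u⁻¹) * (u * q * u⁻¹ * q⁻¹) * t⁻¹ by rw [hx']; group]
    exact T.mul_mem (T.mul_mem hut hu1.1) (T.inv_mem ht)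
  set N : Subgroup H := T.subgroupOf H ⊔ commutator H with hN
  haveI hNn : N.Normal := by
    refine ⟨fun x hx k => ?_⟩
    rw [show k * x * k⁻¹ = (k * x * k⁻¹ * x⁻¹) * x by group]
    exact N.mul_mem (Subgroup.mem_sup_right (Subgroup.commutator_mem_commutator (Subgroup.mem_top k) (Subgroup.mem_top x))) hx
  have hcomm : ∀ a b : H ⧸ N, a * b = b * a := by
    intro a b
    obtain ⟨a, rfl⟩ := QuotientGroup.mk_surjective a
    obtain ⟨b, rfl⟩ := QuotientGroup.mk_surjective b
    rw [← QuotientGroup.mk_mul, ← QuotientGroup.mk_mul]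
    refine QuotientGroup.eq.2 (Subgroup.mem_sup_right ?_)
    rw [show (a * b)⁻¹ * (b * a) = ⁅b⁻¹, a⁻¹⁆ by rw [commutatorElement_def]; group]
    exact Subgroup.commutator_mem_commutator (Subgroup.mem_top _) (Subgroup.mem_top _)
  let U : Subgroup G :=
    { carrier := {g | ∃ hg : g ∈ H, (orderOf (QuotientGroup.mk ⟨g, hg⟩ : H ⧸ N)).Coprime p}
      one_mem' := ⟨one_mem _, by
        rw [show ((⟨1, one_mem _⟩ : H) : H ⧸ N) = 1 from rfl, orderOf_one]
        exact Nat.coprime_one_left p⟩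
      mul_mem' := by
        rintro a b ⟨ha, ha'⟩ ⟨hb, hb'⟩
        refine ⟨mul_mem ha hb, Nat.Coprime.coprime_dvd_left ?_ (ha'.mul_left hb')⟩
        exact (show Commute (QuotientGroup.mk ⟨a, ha⟩ : H ⧸ N) (QuotientGroup.mk ⟨b, hb⟩) from hcomm _ _).orderOf_mul_dvd_mul_orderOf
      inv_mem' := by
        rintro a ⟨ha, ha'⟩
        refine ⟨inv_mem ha, ?_⟩
        rw [show ((⟨a⁻¹, inv_mem ha⟩ : H) : H ⧸ N) = ((⟨a, ha⟩ : H) : H ⧸ N)⁻¹ from rfl, orderOf_inv]
        exact ha' }
  haveI : U.Normal := ⟨fun a ⟨ha, ha'⟩ k => by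
    have hk := (inferInstance : H.Normal).conj_mem a ha k
    refine ⟨hk, ?_⟩
    obtain ⟨l, hl, n, hn, rfl⟩ := exists_factor hE (N := H) le_model k
    have hn' : n * a * n⁻¹ ∈ H := (inferInstance : H.Normal).conj_mem a ha n
    have hin : n⁻¹ ∈ Subgroup.normalizer (T : Set G) := Subgroup.inv_mem _ hn
    set φ : H →* H := (MulAut.conjNormal n : MulAut H).toMonoidHom
    have hφN : N ≤ N.comap φ := by
      refine sup_le (fun x hx => Subgroup.mem_sup_left ?_) ?_
      · show n * (x : G) * n⁻¹ ∈ T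
        exact (Subgroup.mem_normalizer_iff.1 hn _).1 hx
      · exact ((commutator H).map_le_iff_le_comap).1 (le_sup_of_le_right (by
          rw [commutator_def, Subgroup.map_commutator]
          exact Subgroup.commutator_mono le_top le_top))
    have h1 := Nat.Coprime.coprime_dvd_left (orderOf_map_dvd (QuotientGroup.map N N φ hφN) _) ha'
    rw [QuotientGroup.map_mk] at h1
    convert h1 using 2
    refine (QuotientGroup.eq).2 ?_
    have : (⟨l * n * a * (l * n)⁻¹, hk⟩ : H) = ⟨l, hl⟩ * ⟨n * a * n⁻¹, hn'⟩ * (⟨l, hl⟩)⁻¹ := by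
      apply Subtype.ext
      simp [mul_assoc]
    rw [this, ← QuotientGroup.eq, show φ ⟨a, ha⟩ = ⟨n * a * n⁻¹, hn'⟩ from Subtype.ext (MulAut.conjNormal_apply n ⟨a, ha⟩)]
    simp only [QuotientGroup.mk_mul, QuotientGroup.mk_inv]
    rw [hcomm _ (QuotientGroup.mk (⟨n * a * n⁻¹, hn'⟩ : H)), mul_inv_cancel_right]⟩
  have hHU : H ≤ U := by
    refine sup_le (Subgroup.normalClosure_le_normal fun t ht => ⟨le_model ht, ?_⟩) ((Subgroup.closure_le _).2 ?_)
    · rw [show ((⟨t, le_model ht⟩ : H) : H ⧸ N) = 1 from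
        (QuotientGroup.eq_one_iff (⟨t, le_model ht⟩ : H)).2 (Subgroup.mem_sup_left ht), orderOf_one]
      exact Nat.coprime_one_left p
    · intro g hg
      have hgH : g ∈ H := Subgroup.mem_sup_right (Subgroup.subset_closure hg)
      refine ⟨hgH, Nat.Coprime.coprime_dvd_left (orderOf_map_dvd (QuotientGroup.mk' N) ⟨g, hgH⟩) ?_⟩
      rw [Subgroup.orderOf_mk]
      exact hg.1
  intro s hs
  obtain ⟨hsH, hord⟩ := hHU hs.2
  obtain ⟨j, hj⟩ := S.2 ⟨s, hs.1⟩
  have h1 : ((⟨s, hs.2⟩ : H) : H ⧸ N) = 1 := eq_one_of_pow_pow hord (k := j) (by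
    rw [← QuotientGroup.mk_pow]
    convert QuotientGroup.mk_one N using 2
    exact Subtype.ext (congrArg Subtype.val hj : s ^ p ^ j = 1))
  have h2 : (⟨s, hs.2⟩ : H) ∈ N := (QuotientGroup.eq_one_iff _).1 h1
  rw [hN, ← SetLike.mem_coe, Subgroup.mul_normal] at h2
  obtain ⟨t, ht, c, hc, e⟩ := h2
  have he : (t : G) * (c : G) = s := congrArg Subtype.val e
  have hcS : (c : G) ∈ (S : Subgroup G) := by
    rw [show (c : G) = (t : G)⁻¹ * s by rw [← he]; group]
    exact Subgroup.mul_mem _ (Subgroup.inv_mem _ (hTS ht)) hs.1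
  rw [← he]
  refine T.mul_mem ht (hfoc ⟨⟨hcS, c.2⟩, ?_⟩)
  have : (c : G) ∈ (commutator H).map H.subtype := ⟨c, hc, rfl⟩
  rwa [Subgroup.map_subtype_commutator] at this

include hG hTS hE in
theorem eq_of_same_action {h : G} (hh : h ∈ model p E)
    (hc : h ∈ Subgroup.centralizer ((base p T : Subgroup G) : Set G)) : h ∈ base p T := by
  have h1 := mem_pCore_of_stab hG hE (model_stab hE hh) hc
  exact ⟨(model_inf_sylow hG hTS hE).le ⟨CfsgLib.Solvable.Cores.pCore_le_sylow S h1, hh⟩, h1⟩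

include hG hTS hE in
theorem model_sylow : IsSylowIn p T (model p E) := by
  haveI := model_normal hE
  have := isSylowIn_inter_normal (H := model p E) S
  rwa [model_inf_sylow hG hTS hE] at this

include hTS hE in
/-- A `p'`-automorphism in `Aut_E(T)` is induced by a lift. -/
theorem exists_lift {α : MulAut T} (hα : α ∈ E.autGroup T) (hord : (orderOf α).Coprime p) :
    ∃ g ∈ lifts p E, ∀ x : T, ((α x : T) : G) = g * x * g⁻¹ := by
  obtain ⟨β, hβ, hβT, hβC⟩ := hE.2 α hα
  set C := centralizerIn (S : Subgroup G) T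
  rw [group_autGroup (sup_le hTS centralizerIn_le), mem_autInducedBy] at hβ
  obtain ⟨g₀, -, hg₀⟩ := hβ
  have hT0 : ∀ x : T, ((α x : T) : G) = g₀ * x * g₀⁻¹ := fun x => by
    rw [← hβT x, hg₀]; rfl
  have hC0 : ∀ c ∈ C, c⁻¹ * (g₀ * c * g₀⁻¹) ∈ T ⊓ Subgroup.centralizer (T : Set G) := fun c hc => by
    have h := hβC ⟨c, Subgroup.mem_sup_right hc⟩ hc
    rwa [hg₀] at h
  have hpow : ∀ n : ℕ, (∀ x : T, (((α ^ n) x : T) : G) = g₀ ^ n * x * (g₀ ^ n)⁻¹) ∧
      ∀ c ∈ C, c⁻¹ * (g₀ ^ n * c * (g₀ ^ n)⁻¹) ∈ T ⊓ Subgroup.centralizer (T : Set G) := by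
    intro n
    induction n with
    | zero => exact ⟨fun x => by simp, fun c _ => by simp [one_mem]⟩
    | succ n ih =>
      refine ⟨fun x => ?_, fun c hc => ?_⟩
      · rw [pow_succ', MulAut.mul_apply, hT0, ih.1 x, pow_succ' g₀ n]
        group
      · set z := c⁻¹ * (g₀ ^ n * c * (g₀ ^ n)⁻¹) with hz
        have hzT : z ∈ T ⊓ Subgroup.centralizer (T : Set G) := ih.2 c hc
        have h1 : g₀ * z * g₀⁻¹ ∈ T ⊓ Subgroup.centralizer (T : Set G) := by
          have e : g₀ * z * g₀⁻¹ = ((α ⟨z, hzT.1⟩ : T) : G) := (hT0 ⟨z, hzT.1⟩).symm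
          rw [e]
          refine ⟨(α _).2, Subgroup.mem_centralizer_iff.2 fun y hy => ?_⟩
          obtain ⟨y', hy'⟩ := α.surjective ⟨y, hy⟩
          have h2 : y' * (⟨z, hzT.1⟩ : T) = ⟨z, hzT.1⟩ * y' :=
            Subtype.ext (Subgroup.mem_centralizer_iff.1 hzT.2 y' y'.2)
          have h3 := congrArg (fun w => ((α w : T) : G)) h2
          simp only [map_mul, hy', Subgroup.coe_mul] at h3
          exact h3
        rw [show c⁻¹ * (g₀ ^ (n + 1) * c * (g₀ ^ (n + 1))⁻¹) = (c⁻¹ * (g₀ * c * g₀⁻¹)) * (g₀ * z * g₀⁻¹) by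
          rw [hz, pow_succ' g₀ n]; group]
        exact Subgroup.mul_mem _ (hC0 c hc) h1
  obtain ⟨a, m, hm, he, hco⟩ := exists_pow_coprime (p := p) g₀
  obtain ⟨j, hj⟩ : ∃ j : ℕ, p ^ a * j ≡ 1 [MOD orderOf α] := by
    rcases Nat.lt_or_ge 1 (orderOf α) with h | h
    · obtain ⟨j, -, hj⟩ := Nat.exists_mul_mod_eq_one_of_coprime (hord.pow_right a).symm h
      exact ⟨j, by rw [Nat.ModEq, hj, Nat.one_mod_eq_one.2 h.ne']⟩
    · exact ⟨0, by
        have := orderOf_pos α
        rw [show orderOf α = 1 by omega]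
        exact Nat.modEq_one⟩
  set g := g₀ ^ (p ^ a * j) with hg
  have hgord : (orderOf g).Coprime p := by
    rw [hg, pow_mul]
    exact Nat.Coprime.coprime_dvd_left (orderOf_pow_dvd j) hco
  have hgT : ∀ x : T, ((α x : T) : G) = g * x * g⁻¹ := fun x => by
    rw [hg, ← (hpow _).1, pow_eq_pow_iff_modEq.2 hj, pow_one]
  have hgC := (hpow (p ^ a * j)).2
  rw [← hg] at hgC
  have hgN : g ∈ Subgroup.normalizer (T : Set G) := mem_normalizer_of_map_le fun x hx =>
    hgT ⟨x, hx⟩ ▸ (α ⟨x, hx⟩).2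
  have hgα : conjAut T hgN = α := MulEquiv.ext fun x => Subtype.ext ((conjAut_coe hgN x).trans (hgT x).symm)
  refine ⟨g, ⟨hgord, fun q hq => ?_, hgN, hgα ▸ hα⟩, hgT⟩
  have hQn : (Cfsg.pCore p G).Normal := CfsgLib.LocalEven.SylowIn.pCore_normal G p
  have hQS := CfsgLib.Solvable.Cores.pCore_le_sylow S
  have hB := base_normal hE
  have hTp : IsPGroup p T := S.2.to_le hTS
  set u := g * q * g⁻¹ * q⁻¹ with hu
  have huQ : u ∈ Cfsg.pCore p G := Subgroup.mul_mem _ (hQn.conj_mem q hq g) (Subgroup.inv_mem _ hq)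
  have hSN := sc_le_normalizer (stronglyClosed hE)
  have hqN := hSN (hQS hq)
  have huN := hSN (hQS huQ)
  have hcq : conjAut T hqN ∈ (groupFusionSystem (S : Subgroup G)).autGroup T :=
    autInducedBy_le_autGroup hTS (conjAut_mem_autInducedBy hqN (hQS hq))
  have huE : conjAut T huN ∈ E.autGroup T := by
    have : conjAut T huN = α * (conjAut T hqN * α⁻¹ * (conjAut T hqN)⁻¹) := by
      rw [← hgα, ← mul_assoc, ← mul_assoc, eq_mul_inv_iff_mul_eq, eq_mul_inv_iff_mul_eq]
      refine MulEquiv.ext fun x => Subtype.ext ?_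
      simp [hu, mul_assoc]
    rw [this]
    exact Subgroup.mul_mem _ hα (Invariant.conj_mem hE.1.2.2 le_rfl hcq (Subgroup.inv_mem _ hα))
  have hinn : conjAut T huN ∈ Inn T := by
    obtain ⟨R, hR⟩ := (fullyNormalized_good hTp hE.1.1
      (fullyNormalized_of_weaklyClosed (weaklyClosed_of_stronglyClosed sc_top))).1.2
    rw [autInducedBy_self] at hR
    have hp : IsPGroup p ↥((Subgroup.zpowers (⟨_, huE⟩ : E.autGroup T)) ⊔ (Inn T).subgroupOf (E.autGroup T)) := by
      haveI : ((Inn T).subgroupOf (E.autGroup T)).Normal := inn_normal_aut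
      refine IsPGroup.to_sup_of_normal_right ?_ (hR ▸ R.2)
      obtain ⟨k, hk⟩ := (CfsgLib.LocalEven.SylowIn.isPGroup_pCore G p) ⟨u, huQ⟩
      rintro ⟨_, n, rfl⟩
      refine ⟨k, Subtype.ext ?_⟩
      show ((⟨_, huE⟩ : E.autGroup T) ^ n) ^ p ^ k = 1
      rw [← zpow_natCast, ← zpow_mul, mul_comm, zpow_mul, zpow_natCast]
      convert one_zpow n
      apply Subtype.ext
      refine MulEquiv.ext fun x => Subtype.ext ?_
      have hu1 : u ^ p ^ k = 1 := congrArg Subtype.val hk
      have hp' : ∀ i : ℕ, ∀ x : T, (((conjAut T huN) ^ i) x : G) = u ^ i * x * (u ^ i)⁻¹ := by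
        intro i
        induction i with
        | zero => simp
        | succ i ih =>
          intro x
          rw [pow_succ', MulAut.mul_apply, conjAut_coe, ih, pow_succ' u i]
          group
      rw [SubmonoidClass.coe_pow, hp', hu1]
      simp
    have h := (R.3 hp (by rw [hR]; exact le_sup_right)).le (Subgroup.mem_sup_left (Subgroup.mem_zpowers (⟨_, huE⟩ : E.autGroup T)))
    rw [hR] at h
    exact h
  obtain ⟨t, ht, hte⟩ := mem_autInducedBy.1 (show conjAut T huN ∈ autInducedBy T T by rwa [autInducedBy_self])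
  set c := t⁻¹ * u with hcdef
  have hcC : c ∈ C := mem_centralizerIn.2 ⟨Subgroup.mul_mem _ (Subgroup.inv_mem _ (hTS ht)) (hQS huQ), fun x hx => by
    have h := hte ⟨x, hx⟩
    rw [conjAut_coe] at h
    calc x * (t⁻¹ * u) = t⁻¹ * (t * x * t⁻¹) * u := by group
      _ = t⁻¹ * (u * x * u⁻¹) * u := by rw [← h]
      _ = t⁻¹ * u * x := by group⟩
  have hu2 : g * u * g⁻¹ * u⁻¹ ∈ base p T := by
    refine ⟨?_, Subgroup.mul_mem _ (hQn.conj_mem u huQ g) (Subgroup.inv_mem _ huQ)⟩
    set z := c⁻¹ * (g * c * g⁻¹) with hz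
    have hzT : z ∈ T ⊓ Subgroup.centralizer (T : Set G) := hgC c hcC
    have hczc : c * z * c⁻¹ = z := by
      rw [← (mem_centralizerIn.1 hcC).2 z hzT.1]
      group
    have hgt : g * t * g⁻¹ ∈ T := (Subgroup.mem_normalizer_iff.1 hgN t).1 ht
    rw [show g * u * g⁻¹ * u⁻¹ = (g * t * g⁻¹) * (c * z * c⁻¹) * t⁻¹ by rw [hz, hcdef]; group, hczc]
    exact T.mul_mem (T.mul_mem hgt hzT.1) (T.inv_mem ht)
  let π := QuotientGroup.mk' (base p T)
  have hcu : Commute (π g) (π u) := by
    have : π (g * u * g⁻¹ * u⁻¹) = 1 := (QuotientGroup.eq_one_iff _).2 hu2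
    simp only [map_mul, map_inv] at this
    exact mul_inv_eq_iff_eq_mul.1 (mul_inv_eq_one.1 this)
  have key : ∀ n : ℕ, (π g) ^ n * π q * ((π g) ^ n)⁻¹ = (π u) ^ n * π q := by
    intro n
    induction n with
    | zero => simp
    | succ n ih =>
      have h0 : π g * π q * (π g)⁻¹ = π u * π q := by
        rw [← map_inv, ← map_mul, ← map_mul, ← map_mul, hu]
        congr 1
        group
      calc (π g) ^ (n + 1) * π q * ((π g) ^ (n + 1))⁻¹ = π g * ((π g) ^ n * π q * ((π g) ^ n)⁻¹) * (π g)⁻¹ := by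
            rw [pow_succ' (π g) n]; group
        _ = (π g * (π u) ^ n * (π g)⁻¹) * (π g * π q * (π g)⁻¹) := by rw [ih]; group
        _ = (π u) ^ n * (π u * π q) := by rw [h0, (hcu.pow_right n).eq, mul_inv_cancel_right]
        _ = (π u) ^ (n + 1) * π q := by rw [pow_succ, mul_assoc]
  have h1 : (π u) ^ orderOf g = 1 := by
    have := key (orderOf g)
    rw [← map_pow, pow_orderOf_eq_one, map_one, one_mul, inv_one, mul_one] at this
    exact right_eq_mul.1 this
  obtain ⟨k, hk⟩ := (CfsgLib.LocalEven.SylowIn.isPGroup_pCore G p) ⟨u, huQ⟩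
  have h2 : π u = 1 := eq_one_of_pow_pow (k := k)
    (Nat.Coprime.coprime_dvd_left (orderOf_dvd_of_pow_eq_one h1) hgord)
    (by rw [← map_pow, show u ^ p ^ k = 1 from congrArg Subtype.val hk, map_one])
  exact (QuotientGroup.eq_one_iff u).1 h2

include hG hTS hE in
theorem system_le : E ≤ fusionSystemOfSubgroup (model p E) T le_model := by
  set H := model p E with hH
  haveI hHn := model_normal hE
  set F' := fusionSystemOfSubgroup H T le_model
  have hfin : Finite T := inferInstance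
  have hTp : IsPGroup p T := S.2.to_le hTS
  have hEs : E.IsSaturated p := hE.1.1
  refine le_of_automizers hTp hEs F' ?_ fun P hPT hP hbig => ?_
  · intro α hα
    refine (mem_autGroup_iff_fn le_rfl).2 ((fn_subgroupSystem le_model).2 ⟨le_rfl, fun x hx => autFn_mem α hx, ?_⟩)
    let J : Subgroup (MulAut T) := autInducedBy H T
    suffices hJ : α ∈ J by
      obtain ⟨g, hg, hgα⟩ := mem_autInducedBy.1 hJ
      refine ⟨g, hg, fun x hx => ?_⟩
      lift x to T using hx
      rw [autFn_coe, hgα]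
    obtain ⟨a, m, hm, he, hco⟩ := exists_pow_coprime (p := p) α
    have h1 : α ^ p ^ a ∈ J := by
      obtain ⟨g, hg, hgα⟩ := exists_lift hTS hE (Subgroup.pow_mem _ hα _) hco
      exact mem_autInducedBy.2 ⟨g, Subgroup.mem_sup_right (Subgroup.subset_closure hg), hgα⟩
    have h2 : α ^ m ∈ J := by
      obtain ⟨R, hR⟩ := (fullyNormalized_good hTp hEs
        (fullyNormalized_of_weaklyClosed (weaklyClosed_of_stronglyClosed sc_top))).1.2
      rw [autInducedBy_self] at hR
      haveI : ((Inn T).subgroupOf (E.autGroup T)).Normal := inn_normal_aut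
      have hp : IsPGroup p ↥(Subgroup.zpowers (⟨α ^ m, Subgroup.pow_mem _ hα _⟩ : E.autGroup T) ⊔
          (Inn T).subgroupOf (E.autGroup T)) := by
        refine IsPGroup.to_sup_of_normal_right ?_ (hR ▸ R.2)
        refine IsPGroup.of_card (n := (a : ℕ)) ?_
        rw [Nat.card_zpowers, Subgroup.orderOf_mk, orderOf_pow' α (by rintro rfl; simp_all [orderOf_pos α |>.ne']), he,
          Nat.gcd_mul_left_left, Nat.mul_div_cancel _ (Nat.pos_of_ne_zero (by rintro rfl; simp_all [(orderOf_pos α).ne']))]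
      have h := (R.3 hp (by rw [hR]; exact le_sup_right)).le
        (Subgroup.mem_sup_left (Subgroup.mem_zpowers (⟨α ^ m, Subgroup.pow_mem _ hα _⟩ : E.autGroup T)))
      rw [hR] at h
      have hle : autInducedBy T T ≤ J := fun β hβ => by
        obtain ⟨t, ht, hte⟩ := mem_autInducedBy.1 hβ
        exact mem_autInducedBy.2 ⟨t, le_model ht, hte⟩
      exact hle (by rw [autInducedBy_self]; exact h)
    have hb := Nat.gcd_eq_gcd_ab (p ^ a) m
    rw [(hm.pow_right a).symm.gcd_eq_one] at hb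
    have : α = (α ^ p ^ a) ^ (Nat.gcdA (p ^ a) m) * (α ^ m) ^ (Nat.gcdB (p ^ a) m) := by
      rw [← zpow_natCast, ← zpow_natCast α m, ← zpow_mul, ← zpow_mul, ← zpow_add, ← hb]
      simp
    rw [this]
    exact Subgroup.mul_mem _ (Subgroup.zpow_mem _ h1 _) (Subgroup.zpow_mem _ h2 _)
  -- proper subgroups
  have hPS : P ≤ (S : Subgroup G) := hPT.le.trans hTS
  set A := E.autGroup P with hA
  set J := (autInducedBy H P).subgroupOf A with hJ
  have hJn : J.Normal := by
    refine ⟨fun j hj α => ?_⟩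
    obtain ⟨-, -, g, hg⟩ := fn_group_iff.1 (Fn.of_subsystem hE.1.2.2.1 ((mem_autGroup_iff_fn hPT.le).1 α.2))
    obtain ⟨h, hh, hhj⟩ := mem_autInducedBy.1 (show (j : MulAut P) ∈ autInducedBy H P from hj)
    refine mem_autInducedBy.2 ⟨g * h * g⁻¹, hHn.conj_mem h hh g, fun x => ?_⟩
    show (((α : MulAut P) ((j : MulAut P) ((α : MulAut P)⁻¹ x)) : P) : G) = _
    rw [← autFn_coe, hg _ (Subtype.prop _), hhj]
    have e : g * (((α : MulAut P)⁻¹ x : P) : G) * g⁻¹ = (x : G) := by
      rw [← hg _ (Subtype.prop _), autFn_coe, MulAut.apply_inv_self]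
    conv_rhs => rw [← e]
    group
  obtain ⟨R, hR⟩ := (fullyNormalized_good hTp hEs hP).1.2
  have hRJ : (R : Subgroup A) ≤ J := by
    rw [hR]
    intro β hβ
    obtain ⟨t, ht, hte⟩ := mem_autInducedBy.1 (show (β : MulAut P) ∈ autInducedBy T P from hβ)
    exact mem_autInducedBy.2 ⟨t, le_model ht, hte⟩
  have hNJ : Subgroup.normalizer ((R : Subgroup A) : Set A) ≤ J := by
    intro α hα
    obtain ⟨n, hn, hnP⟩ := SetLike.exists_of_lt (lt_normalizerIn hTp hPT)
    have hcm : (⟨conjAut P hn.2, autInducedBy_le_autGroup hPT.le (conjAut_mem_autInducedBy hn.2 hn.1)⟩ : A) ∈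
        (R : Subgroup A) := by rw [hR]; exact conjAut_mem_autInducedBy hn.2 hn.1
    have hc := (Subgroup.mem_normalizer_iff.1 hα _).1 hcm
    rw [hR] at hc
    obtain ⟨Q, g, hPQ, hg, hgα⟩ :=
      extAut_of_receptive (fullyNormalized_receptive hTp hEs hP) α.2 hn hnP hc
    obtain ⟨-, -, h, hh, hhg⟩ := (fn_subgroupSystem le_model).1 (hbig Q g (by
      have := finite_of_le_base hg.le
      simpa only [SetLike.coe_sort_coe] using Set.Finite.card_lt_card (Set.toFinite (Q : Set G)) hPQ) hg)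
    exact mem_autInducedBy.2 ⟨h, hh, fun x => (hgα x).symm.trans (hhg x (hPQ.le x.2))⟩
  intro α hα
  haveI := hJn
  have htop : (⊤ : Subgroup A) ≤ J := by
    rw [← Sylow.normalizer_sup_eq_top (R.subtype hRJ), Sylow.coe_subtype, Subgroup.map_subgroupOf_eq_of_le hRJ]
    exact sup_le hNJ le_rfl
  obtain ⟨h, hh, hhα⟩ := mem_autInducedBy.1
    (show α ∈ autInducedBy H P from htop (Subgroup.mem_top (⟨α, hα⟩ : A)))
  refine (mem_autGroup_iff_fn hPT.le).2 ((fn_subgroupSystem le_model).2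
    ⟨hPT.le, fun x hx => hPT.le (autFn_mem α hx), h, hh, fun x hx => ?_⟩)
  lift x to P using hx
  rw [autFn_coe, hhα]

include hG hTS hE in
theorem le_system : fusionSystemOfSubgroup (model p E) T le_model ≤ E := by
  intro P φ hφ
  obtain ⟨hP, hφT, h, hh, hφh⟩ := id hφ
  have hB := base_normal hE
  have hfin : Finite T := inferInstance
  have hTp : IsPGroup p T := S.2.to_le hTS
  set R₀ := base p T
  set P₁ := P ⊔ R₀
  have hP₁ : P₁ ≤ T := sup_le hP inf_le_left
  have hmap : ∀ x ∈ P₁, h * x * h⁻¹ ∈ T := by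
    intro x hx
    have hle : P₁ ≤ T.comap (MulAut.conj h).toMonoidHom := by
      refine sup_le (fun y hy => ?_) fun y hy => (hB.conj_mem y hy h).1
      show h * y * h⁻¹ ∈ T
      rw [← hφh ⟨y, hy⟩]
      exact hφT _
    exact hle hx
  have hi : img (fun x => h * x * h⁻¹) R₀ = R₀ :=
    (fn_base hE hh).img_eq_self fun x hx => hB.conj_mem x hx h
  have hwc : E.WeaklyClosed R₀ := ⟨inf_le_left, fun ψ hψ => by
    obtain ⟨-, -, g, hg⟩ := hE.1.2.2.1 _ hψ
    refine Subgroup.eq_of_le_of_card_ge (fun y ⟨x, hx⟩ => hx ▸ (hg x).symm ▸ hB.conj_mem _ x.2 g) ?_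
    exact le_of_eq (Nat.card_congr (MonoidHom.ofInjective (E.injective_of_mem hψ)).toEquiv)⟩
  obtain ⟨N, f, hf, -, hN, hfe⟩ := receptive_extend
    (fullyNormalized_receptive hTp hE.1.1 (fullyNormalized_of_weaklyClosed hwc)) (fn_base hE hh) hi
  have hP₁N : P₁ ≤ N := fun x hx => (hN x).2 ⟨hP₁ hx, by rw [Subgroup.normalizer_eq_top]; trivial,
    h * x * h⁻¹, hmap x hx, fun y _ => by group⟩
  obtain ⟨-, -, k, hk, hfk⟩ := (fn_subgroupSystem le_model).1
    (show Fn (fusionSystemOfSubgroup (model p E) T le_model) N f by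
      obtain ⟨ψ, hψ, hψf⟩ := hf
      exact ⟨ψ, system_le hG hTS hE _ hψ, hψf⟩)
  set z := k⁻¹ * h
  have hz : z ∈ R₀ := by
    refine eq_of_same_action hG hTS hE ((model p E).mul_mem ((model p E).inv_mem hk) hh)
      (Subgroup.mem_centralizer_iff.2 fun x hx => ?_)
    have h1 : k * x * k⁻¹ = h * x * h⁻¹ := by
      rw [← hfk x (hP₁N (Subgroup.mem_sup_right hx))]
      exact hfe x hx
    calc x * (k⁻¹ * h) = k⁻¹ * (k * x * k⁻¹) * h := by group
      _ = k⁻¹ * (h * x * h⁻¹) * h := by rw [h1]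
      _ = k⁻¹ * h * x := by group
  have hz1 : ∀ x ∈ P₁, z * x * z⁻¹ ∈ P₁ := fun x hx =>
    P₁.mul_mem (P₁.mul_mem (Subgroup.mem_sup_right hz) hx) (P₁.inv_mem (Subgroup.mem_sup_right hz))
  have h3 : Fn E P₁ (fun x => h * x * h⁻¹) :=
    ((fn_conj hP₁ hz.1).comp (hf.mono hP₁N) hz1).congr fun x hx => by
      show f (z * x * z⁻¹) = _
      rw [hfk _ (hP₁N (hz1 x hx))]
      show k * ((k⁻¹ * h) * x * (k⁻¹ * h)⁻¹) * k⁻¹ = h * x * h⁻¹
      group
  exact mem_hom_of_fn (h3.mono le_sup_left) hφh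

end CfsgLib.KGroups.NormalSubsystemModel
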