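import Cfsg.Agent.S2759
import Cfsg.Agent.Lib.Fusion.PSolvable
import Cfsg.Agent.Lib.Fusion.ZJConstrained
import Cfsg.Agent.Lib.Fusion.Thompson
import Cfsg.Agent.Lib.Coprime.Generation
import Cfsg.Agent.Lib.Components.GenFitting
import Cfsg.Agent.Lib.NumberTheory.SylowCount

/-!
Solvable groups without a section `S₄` have no offenders on faithful modules in characteristic two.
-/

set_option autoImplicit false
set_option linter.style.haveILetI false
set_option linter.unusedSectionVars false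

namespace CfsgLib.KGroups.OffenderSolvable

open Subgroup CfsgLib.Solvable CfsgLib.Fusion
open scoped commutatorElement

variable {G : Type*} [Group G] [Finite G]

/-- In a solvable group with trivial `O₂` the odd core contains its centraliser. -/
theorem centralizer_oddCore_le [Group.IsSolvable G] (h2 : Cfsg.pCore 2 G = ⊥) :
    centralizer (Cfsg.pPrimeCore 2 G : Set G) ≤ Cfsg.pPrimeCore 2 G := by
  haveI : Fact (Nat.Prime 2) := ⟨Nat.prime_two⟩
  set F := Cfsg.fittingSubgroup G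
  haveI : F.Normal := Cores.fittingSubgroup_normal
  haveI : Group.IsNilpotent F := Cores.fittingSubgroup_isNilpotent
  have hE : Cfsg.layer G = ⊥ := by
    haveI : Group.IsPerfect ↥(Cfsg.layer G) := Components.layer_isPerfect
    by_contra hne
    haveI : Nontrivial ↥(Cfsg.layer G) := (Subgroup.nontrivial_iff_ne_bot _).mpr hne
    exact Group.IsPerfect.not_isSolvable ↥(Cfsg.layer G) inferInstance
  have hFK : F ≤ Cfsg.pPrimeCore 2 G := by
    refine Cores.le_pPrimeCore ?_
    obtain ⟨T⟩ : Nonempty (Sylow 2 F) := inferInstance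
    haveI hTn : (T : Subgroup F).Normal :=
      ((Group.isNilpotent_of_finite_tfae (G := F)).out 0 3 rfl rfl).mp inferInstance 2 inferInstance T
    haveI : (T : Subgroup F).Characteristic := Sylow.characteristic_of_normal T hTn
    have hT : (T : Subgroup F) = ⊥ := by
      rw [← Subgroup.map_eq_bot_iff_of_injective _ F.subtype_injective, eq_bot_iff, ← h2]
      exact Cores.le_pCore (T.isPGroup'.map _)
    refine (Nat.prime_two.coprime_iff_not_dvd.mpr ?_).symm
    have := T.not_dvd_index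
    rwa [hT, Subgroup.index_bot] at this
  exact (centralizer_le (SetLike.coe_subset_coe.mpr hFK)).trans
    ((Components.centralizer_fitting_le_iff.mpr hE).trans hFK)

/-- An involution acting nontrivially on the odd core inverts an element of prime order centralised by
a hyperplane. -/
theorem exists_inverted [Group.IsSolvable G] (h2 : Cfsg.pCore 2 G = ⊥) {A : Subgroup G}
    (hA : Cfsg.IsElementaryAbelian 2 A) (hA1 : A ≠ ⊥) :
    ∃ (H : Subgroup G) (a r : G) (q : ℕ), q.Prime ∧ q ≠ 2 ∧ H ≤ A ∧ a ∈ A ∧ a ∉ H ∧ H ⊔ zpowers a = A ∧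
      orderOf r = q ∧ a * r * a⁻¹ = r⁻¹ ∧ ∀ h ∈ H, h * r = r * h := by
  haveI : Fact (Nat.Prime 2) := ⟨Nat.prime_two⟩
  haveI := hA.1
  set K := Cfsg.pPrimeCore 2 G with hK
  haveI : K.Normal := Subgroup.sSup_normal _ fun _ h => h.1
  have hKc : (Nat.card K).Coprime 2 := Cores.coprime_card_pPrimeCore 2
  have hAp : IsPGroup 2 A := Thompson.isPGroup_isEA hA
  have hAK : A ≤ normalizer (K : Set G) := by rw [normalizer_eq_top]; exact le_top
  have hcop : (Nat.card A).Coprime (Nat.card K) := by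
    obtain ⟨n, hn⟩ := IsPGroup.iff_card.mp hAp
    rw [hn]; exact (hKc.pow_right n).symm
  have hgen := Coprime.iSup_centralizer_of_cyclic_quotient hAK hcop
  obtain ⟨H, ⟨hHA, a₀, ha₀, hsup⟩, f, hfK, hfA⟩ : ∃ H : Subgroup G, (H ≤ A ∧ ∃ a ∈ A, H ⊔ zpowers a = A) ∧
      ∃ f ∈ K ⊓ centralizer (H : Set G), f ∉ centralizer (A : Set G) := by
    by_contra hcon
    push Not at hcon
    have hKA : K ≤ centralizer (A : Set G) := hgen ▸ iSup₂_le fun H hH f hf => hcon H hH f hf
    have h1 : A ≤ K := (le_centralizer_iff.mp hKA).trans (centralizer_oddCore_le h2)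
    refine hA1 (Subgroup.card_eq_one.mp (Nat.eq_one_of_dvd_coprimes hcop dvd_rfl ?_))
    exact card_dvd_of_le h1
  obtain ⟨hfK, hfH⟩ := mem_inf.mp hfK
  have hnc : f * a₀ ≠ a₀ * f := fun e => hfA (by
    have hle : A ≤ centralizer {f} := by
      rw [← hsup]
      exact sup_le (fun h hh => mem_centralizer_singleton_iff.mpr (mem_centralizer_iff.mp hfH h hh))
        (zpowers_le.mpr (mem_centralizer_singleton_iff.mpr e.symm))
    exact mem_centralizer_iff.mpr fun b hb => mem_centralizer_singleton_iff.mp (hle hb))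
  have haH : a₀ ∉ H := fun h => hnc (mem_centralizer_iff.mp hfH a₀ h).symm
  have ha2 : a₀ * a₀ = 1 := by rw [← pow_two]; exact hA.2 a₀ ha₀
  set r₀ := f * a₀ * f⁻¹ * a₀⁻¹ with hr₀
  have hr₀K : r₀ ∈ K := by
    rw [hr₀, show f * a₀ * f⁻¹ * a₀⁻¹ = f * (a₀ * f⁻¹ * a₀⁻¹) by group]
    exact K.mul_mem hfK ((‹K.Normal›).conj_mem _ (K.inv_mem hfK) a₀)
  have hr₀1 : r₀ ≠ 1 := fun e => hnc (by
    rw [hr₀, mul_inv_eq_one, mul_inv_eq_iff_eq_mul] at e
    exact e)
  have hinv : a₀ * r₀ * a₀⁻¹ = r₀⁻¹ := by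
    have hi : a₀⁻¹ = a₀ := inv_eq_of_mul_eq_one_right ha2
    calc a₀ * r₀ * a₀⁻¹ = a₀ * f * a₀ * f⁻¹ * (a₀⁻¹ * a₀⁻¹) := by rw [hr₀]; group
      _ = a₀ * f * a₀⁻¹ * f⁻¹ := by rw [hi, ha2, mul_one]
      _ = r₀⁻¹ := by rw [hr₀]; group
  have hcomm : ∀ h ∈ H, h * r₀ = r₀ * h := by
    intro h hh
    have h1 : Commute h f := mem_centralizer_iff.mp hfH h hh
    have h2 : Commute h a₀ := setLike_mul_comm (hHA hh) ha₀
    exact (((h1.mul_right h2).mul_right h1.inv_right).mul_right h2.inv_right).eq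
  set n := orderOf r₀ with hn
  obtain ⟨q, hq, hqn⟩ := Nat.exists_prime_and_dvd (fun h1 => hr₀1 (orderOf_eq_one_iff.mp h1) : n ≠ 1)
  refine ⟨H, a₀, r₀ ^ (n / q), q, hq, ?_, hHA, ha₀, haH, hsup, ?_, ?_, fun h hh => ?_⟩
  · rintro rfl
    have h1 : n ∣ Nat.card K := Subgroup.orderOf_dvd_natCard K hr₀K
    exact (Nat.prime_two.coprime_iff_not_dvd.mp hKc.symm) (hqn.trans h1)
  · rw [orderOf_pow' r₀ (Nat.div_pos (Nat.le_of_dvd (orderOf_pos r₀) hqn) hq.pos).ne', ← hn,
      Nat.gcd_eq_right (Nat.div_dvd_of_dvd hqn), Nat.div_div_self hqn (orderOf_pos r₀).ne']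
  · rw [← conj_pow, hinv, inv_pow]
  · exact ((show Commute h r₀ from hcomm h hh).pow_right _).eq

/-- An element acting on `V` with order `q` modulo `C(V)`, trivially on the fixed points of a `2`-group
commuting with it modulo `C(V)`, acts trivially. -/
theorem mem_centralizer_of_fixed {V B : Subgroup G} [hVn : V.Normal] (hV : Cfsg.IsElementaryAbelian 2 V)
    (hB : Cfsg.IsElementaryAbelian 2 B) {g : G} {q : ℕ} (hq : Odd q)
    (hgq : g ^ q ∈ centralizer (V : Set G))
    (hcomm : ∀ b ∈ B, ∀ v ∈ V, b * (g * v * g⁻¹) * b⁻¹ = g * (b * v * b⁻¹) * g⁻¹)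
    (hfix : ∀ v ∈ V, (∀ b ∈ B, b * v * b⁻¹ = v) → g * v * g⁻¹ = v) :
    g ∈ centralizer (V : Set G) := by
  classical
  haveI := hV.1
  haveI := hB.1
  set U := V ⊓ centralizer {g} with hU
  have hUfix : ∀ u ∈ U, g * u * g⁻¹ = u := fun u hu => by
    rw [← mem_centralizer_singleton_iff.mp (mem_inf.mp hu).2, mul_inv_cancel_right]
  have hmemU : ∀ u ∈ V, g * u * g⁻¹ = u → u ∈ U := fun u hu h =>
    mem_inf.mpr ⟨hu, mem_centralizer_singleton_iff.mpr (mul_inv_eq_iff_eq_mul.mp h).symm⟩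
  have hUB : ∀ b ∈ B, ∀ u ∈ U, b * u * b⁻¹ ∈ U := fun b hb u hu =>
    hmemU _ (hVn.conj_mem _ hu.1 b) (by rw [← hcomm b hb u hu.1, hUfix u hu])
  by_contra hg
  obtain ⟨v₀, hv₀, hv₀U⟩ : ∃ v ∈ V, v ∉ U := by
    by_contra hcon
    push Not at hcon
    exact hg (mem_centralizer_iff.mpr fun v hv => mem_centralizer_singleton_iff.mp (mem_inf.mp (hcon v hv)).2)
  have key : ∀ s : Finset B, ∃ v ∈ V, v ∉ U ∧ ∀ b ∈ s, (b : G) * v * (b : G)⁻¹ * v⁻¹ ∈ U := by
    intro s
    induction s using Finset.induction with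
    | empty => exact ⟨v₀, hv₀, hv₀U, by simp⟩
    | insert c s _ ih =>
      obtain ⟨v, hv, hvU, hs⟩ := ih
      by_cases hc : (c : G) * v * (c : G)⁻¹ * v⁻¹ ∈ U
      · exact ⟨v, hv, hvU, Finset.forall_mem_insert _ _ _ |>.mpr ⟨hc, hs⟩⟩
      refine ⟨(c : G) * v * (c : G)⁻¹ * v⁻¹, V.mul_mem (hVn.conj_mem _ hv c) (V.inv_mem hv), hc,
        Finset.forall_mem_insert _ _ _ |>.mpr ⟨?_, fun b hb => ?_⟩⟩
      · have hc2 : (c : G) * c = 1 := by rw [← pow_two]; exact hB.2 _ c.2
        have hw2 : ((c : G) * v * (c : G)⁻¹ * v⁻¹) * ((c : G) * v * (c : G)⁻¹ * v⁻¹) = 1 := by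
          rw [← pow_two]; exact hV.2 _ (V.mul_mem (hVn.conj_mem _ hv c) (V.inv_mem hv))
        have e : (c : G) * ((c : G) * v * (c : G)⁻¹ * v⁻¹) * (c : G)⁻¹ = ((c : G) * v * (c : G)⁻¹ * v⁻¹)⁻¹ := by
          rw [inv_eq_of_mul_eq_one_right hc2]
          calc (c : G) * ((c : G) * v * c * v⁻¹) * c = ((c : G) * c) * v * c * v⁻¹ * c := by group
            _ = v * c * v⁻¹ * c := by rw [hc2, one_mul]
            _ = ((c : G) * v * c * v⁻¹)⁻¹ := by
              rw [mul_inv_rev, mul_inv_rev, mul_inv_rev, inv_inv, inv_eq_of_mul_eq_one_right hc2]; group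
        rw [e, inv_eq_of_mul_eq_one_right hw2, hw2]
        exact one_mem _
      · obtain ⟨u, hu, hue⟩ : ∃ u ∈ U, (b : G) * v * (b : G)⁻¹ = u * v := ⟨_, hs b hb, by group⟩
        have hbc : (b : G) * c = c * b := setLike_mul_comm b.2 c.2
        have e1 : (b : G) * ((c : G) * v * (c : G)⁻¹ * v⁻¹) * (b : G)⁻¹ =
            ((c : G) * u * (c : G)⁻¹) * ((c : G) * v * (c : G)⁻¹ * v⁻¹) * u⁻¹ := by
          calc (b : G) * ((c : G) * v * (c : G)⁻¹ * v⁻¹) * (b : G)⁻¹
              = ((b : G) * c) * v * ((b : G) * c)⁻¹ * ((b : G) * v * (b : G)⁻¹)⁻¹ := by group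
            _ = (c : G) * ((b : G) * v * (b : G)⁻¹) * (c : G)⁻¹ * ((b : G) * v * (b : G)⁻¹)⁻¹ := by
                rw [hbc]; group
            _ = _ := by rw [hue]; group
        have hw : (c : G) * v * (c : G)⁻¹ * v⁻¹ ∈ V := V.mul_mem (hVn.conj_mem _ hv c) (V.inv_mem hv)
        rw [e1, mul_assoc ((c : G) * u * (c : G)⁻¹), setLike_mul_comm hw (V.inv_mem hu.1)]
        rw [← mul_assoc, mul_inv_cancel_right]
        exact mul_mem (hUB c c.2 u hu) (inv_mem hu)
  haveI := Fintype.ofFinite B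
  obtain ⟨v, hv, hvU, hall⟩ := key Finset.univ
  set d := g * v * g⁻¹ * v⁻¹ with hd
  have hdV : d ∈ V := V.mul_mem (hVn.conj_mem _ hv g) (V.inv_mem hv)
  have hdg : g * d * g⁻¹ = d := by
    refine hfix d hdV fun b hb => ?_
    obtain ⟨u, hu, hue⟩ : ∃ u ∈ U, b * v * b⁻¹ = u * v := ⟨_, hall ⟨b, hb⟩ (Finset.mem_univ _), by group⟩
    calc b * d * b⁻¹ = (b * (g * v * g⁻¹) * b⁻¹) * (b * v * b⁻¹)⁻¹ := by rw [hd]; group
      _ = (g * u * g⁻¹) * (g * v * g⁻¹) * v⁻¹ * u⁻¹ := by rw [hcomm b hb v hv, hue]; group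
      _ = u * d * u⁻¹ := by rw [hUfix u hu, hd]; group
      _ = d := by rw [setLike_mul_comm hu.1 hdV, mul_inv_cancel_right]
  have hpow : ∀ k : ℕ, g ^ k * v * (g ^ k)⁻¹ = d ^ k * v := by
    intro k
    induction k with
    | zero => simp
    | succ k ih =>
      calc g ^ (k + 1) * v * (g ^ (k + 1))⁻¹ = g * (g ^ k * v * (g ^ k)⁻¹) * g⁻¹ := by rw [pow_succ']; group
        _ = (g * d * g⁻¹) ^ k * (g * v * g⁻¹) := by rw [ih, conj_pow]; group
        _ = d ^ (k + 1) * v := by rw [hdg, pow_succ, hd]; group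
  have h1 : d ^ q = 1 := by
    have h := hpow q
    rw [(mem_centralizer_iff.mp hgq v hv).symm, mul_inv_cancel_right] at h
    exact mul_eq_right.mp h.symm
  obtain ⟨m, rfl⟩ := hq
  rw [pow_succ, pow_mul, hV.2 d hdV, one_pow, one_mul, hd, mul_inv_eq_one] at h1
  exact hvU (hmemU v hv h1)

/-- A bound for the index of the fixed points of an element of odd prime order. -/
theorem card_succ_mul_le {V D : Subgroup G} [hVn : V.Normal] (hV : Cfsg.IsElementaryAbelian 2 V) (hDV : D ≤ V)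
    {g : G} {q : ℕ} (hq : q.Prime) (hq2 : q ≠ 2) (hgq : g ^ q ∈ centralizer (V : Set G))
    (hg : g ∉ centralizer (V : Set G)) (hD : ∀ d ∈ D, g * d * g⁻¹ = d) :
    (q + 1) * Nat.card D ≤ Nat.card V := by
  haveI := hV.1
  obtain ⟨v, hv, hvg⟩ : ∃ v ∈ V, g * v * g⁻¹ ≠ v := by
    by_contra hcon
    push Not at hcon
    exact hg (mem_centralizer_iff.mpr fun v hv => (mul_inv_eq_iff_eq_mul.mp (hcon v hv)).symm)
  set c : ℕ → G := fun k => g ^ k * v * (g ^ k)⁻¹ with hc
  have hcV : ∀ k, c k ∈ V := fun k => hVn.conj_mem _ hv _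
  have hfixD : ∀ (k : ℕ), ∀ d ∈ D, g ^ k * d * (g ^ k)⁻¹ = d := fun k d hd => by
    have h1 : Commute g d := mul_inv_eq_iff_eq_mul.mp (hD d hd)
    rw [(h1.pow_left k).eq, mul_inv_cancel_right]
  have hper : c q = v := by
    show g ^ q * v * (g ^ q)⁻¹ = v
    rw [← mem_centralizer_iff.mp hgq v hv, mul_inv_cancel_right]
  have hnD : ∀ k < q, c k ∉ D := by
    intro k hk hcD
    refine hvg ?_
    have h1 : g ^ (q - k) * c k * (g ^ (q - k))⁻¹ = c q := by
      show g ^ (q - k) * (g ^ k * v * (g ^ k)⁻¹) * (g ^ (q - k))⁻¹ = g ^ q * v * (g ^ q)⁻¹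
      calc g ^ (q - k) * (g ^ k * v * (g ^ k)⁻¹) * (g ^ (q - k))⁻¹
          = (g ^ (q - k) * g ^ k) * v * (g ^ (q - k) * g ^ k)⁻¹ := by group
        _ = _ := by rw [← pow_add, Nat.sub_add_cancel hk.le]
    rw [hfixD _ _ hcD, hper] at h1
    exact hD v (h1 ▸ hcD)
  have hne : ∀ i j, i < j → j < q → ∀ d ∈ D, c j ≠ c i * d := by
    intro i j hij hj d hd he
    set k := j - i with hk
    have h0 : g ^ k * v * (g ^ k)⁻¹ = v * d := by
      have he' : c j = g ^ i * (v * d) * (g ^ i)⁻¹ := by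
        rw [he]
        show g ^ i * v * (g ^ i)⁻¹ * d = _
        nth_rw 1 [← hfixD i d hd]
        group
      have hsplit : c j = g ^ i * (g ^ k * v * (g ^ k)⁻¹) * (g ^ i)⁻¹ := by
        show g ^ j * v * (g ^ j)⁻¹ = _
        rw [show j = i + k by omega, pow_add]; group
      exact mul_left_cancel (mul_right_cancel (hsplit.symm.trans he'))
    have hpw : ∀ n : ℕ, g ^ (k * n) * v * (g ^ (k * n))⁻¹ = v * d ^ n := by
      intro n
      induction n with
      | zero => simp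
      | succ n ih =>
        calc g ^ (k * (n + 1)) * v * (g ^ (k * (n + 1)))⁻¹
            = g ^ k * (g ^ (k * n) * v * (g ^ (k * n))⁻¹) * (g ^ k)⁻¹ := by
              rw [Nat.mul_succ, add_comm, pow_add]; group
          _ = (g ^ k * v * (g ^ k)⁻¹) * (g ^ k * d * (g ^ k)⁻¹) ^ n := by rw [ih, conj_pow]; group
          _ = v * d ^ (n + 1) := by rw [h0, hfixD k d hd, pow_succ', mul_assoc]
    have h1 := hpw q
    rw [mul_comm k q, pow_mul, ← mem_centralizer_iff.mp (pow_mem hgq k) v hv, mul_inv_cancel_right] at h1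
    have hdq : d ^ q = 1 := mul_eq_left.mp h1.symm
    obtain ⟨m, hm⟩ := hq.odd_of_ne_two hq2
    rw [hm, pow_succ, pow_mul, hV.2 d (hDV hd), one_pow, one_mul] at hdq
    rw [hdq, mul_one] at h0
    have hcomm : Commute (g ^ k) v := mul_inv_eq_iff_eq_mul.mp h0
    obtain ⟨u, w, huw⟩ : ∃ u w : ℕ, k * u = q * w + 1 := by
      have hcop : Nat.Coprime k q :=
        (hq.coprime_iff_not_dvd.mpr fun hdvd => by have := Nat.le_of_dvd (by omega) hdvd; omega).symm
      obtain ⟨u, hu⟩ := Nat.exists_mul_mod_eq_one_of_coprime hcop hq.one_lt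
      exact ⟨u, k * u / q, by have := Nat.div_add_mod (k * u) q; omega⟩
    have h2 : Commute (g ^ (q * w + 1)) v := by rw [← huw, pow_mul]; exact hcomm.pow_left u
    rw [pow_succ, pow_mul] at h2
    have h3 : Commute ((g ^ q) ^ w)⁻¹ v :=
      ((show Commute (g ^ q) v from (mem_centralizer_iff.mp hgq v hv).symm).pow_left w).inv_left
    have h4 : Commute g v := by simpa using h3.mul_left h2
    exact hvg (by rw [h4.eq, mul_inv_cancel_right])
  let F : Option (Fin q) × D → V := fun x =>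
    x.1.elim ⟨x.2, hDV x.2.2⟩ fun i => ⟨c i * x.2, V.mul_mem (hcV i) (hDV x.2.2)⟩
  have hF : Function.Injective F := by
    rintro ⟨x, d⟩ ⟨y, d'⟩ h
    have h' := congrArg Subtype.val h
    rcases x with _ | i <;> rcases y with _ | j <;> simp only [F, Option.elim] at h'
    · exact congrArg _ (Subtype.ext h')
    · exact absurd (show c j ∈ D by rw [eq_mul_inv_of_mul_eq h'.symm]; exact mul_mem d.2 (inv_mem d'.2)) (hnD j j.2)
    · exact absurd (show c i ∈ D by rw [eq_mul_inv_of_mul_eq h']; exact mul_mem d'.2 (inv_mem d.2)) (hnD i i.2)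
    · rcases lt_trichotomy (i : ℕ) j with hij | hij | hij
      · refine absurd ?_ (hne i j hij j.2 ((d : G) * (d' : G)⁻¹) (mul_mem d.2 (inv_mem d'.2)))
        rw [← mul_assoc, h', mul_inv_cancel_right]
      · obtain rfl := Fin.ext hij
        exact congrArg _ (Subtype.ext (mul_left_cancel h'))
      · refine absurd ?_ (hne j i hij i.2 ((d' : G) * (d : G)⁻¹) (mul_mem d'.2 (inv_mem d.2)))
        rw [← mul_assoc, ← h', mul_inv_cancel_right]
  have := Nat.card_le_card_of_injective F hF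
  rwa [Nat.card_prod, Finite.card_option, Nat.card_eq_fintype_card, Fintype.card_fin] at this

/-- No offenders in solvable groups without a section `S₄`. -/
theorem le_centralizer [Group.IsSolvable G] (hS4 : ¬ Cfsg.Involves (Equiv.Perm (Fin 4)) G)
    (V : Subgroup G) [hVn : V.Normal] (hV : Cfsg.IsElementaryAbelian 2 V)
    (hO : Cfsg.pCore 2 (G ⧸ centralizer (V : Set G)) = ⊥) (A : Subgroup G) (hA : Cfsg.IsElementaryAbelian 2 A)
    (hoff : Nat.card ↥(A ⊓ centralizer (V : Set G)) * Nat.card V ≤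
      Nat.card A * Nat.card ↥(V ⊓ centralizer (A : Set G))) :
    A ≤ centralizer (V : Set G) := by
  haveI : Fact (Nat.Prime 2) := ⟨Nat.prime_two⟩
  haveI := hV.1
  haveI := hA.1
  set C := centralizer (V : Set G) with hC
  by_contra hAC
  obtain ⟨B, ⟨hCB, hBA, hBoff⟩, hmin⟩ := Set.exists_min_image
    {B : Subgroup G | A ⊓ C < B ∧ B ≤ A ∧
      Nat.card ↥(A ⊓ C) * Nat.card V ≤ Nat.card B * Nat.card ↥(V ⊓ centralizer (B : Set G))}
    (fun B => Nat.card B) (Set.toFinite _)
    ⟨A, lt_of_le_of_ne inf_le_left (fun h => hAC (h ▸ inf_le_right)), le_rfl, hoff⟩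
  have hBEA := Thompson.isEA_le hA hBA
  set π := QuotientGroup.mk' C with hπ
  have hB1 : B.map π ≠ ⊥ := by
    intro h
    rw [Subgroup.map_eq_bot_iff, QuotientGroup.ker_mk'] at h
    exact hCB.not_ge (le_inf hBA h)
  obtain ⟨H, abar, rbar, q, hq, hq2, hH, habar, habarH, hsup, hrbaro, hinv, hHr⟩ :=
    exists_inverted hO (Thompson.isEA_map π hBEA) hB1
  obtain ⟨a, haB, rfl⟩ := habar
  obtain ⟨g, rfl⟩ := QuotientGroup.mk'_surjective C rbar
  have hC' : ∀ x : G, π x = 1 ↔ x ∈ C := fun x => QuotientGroup.eq_one_iff x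
  have ha2 : a * a = 1 := by rw [← pow_two]; exact hBEA.2 a haB
  set B' := B ⊓ H.comap π with hB'
  have haB' : a ∉ B' := fun h => habarH h.2
  have hCB' : A ⊓ C ≤ B' := le_inf hCB.le (fun x hx => by
    rw [mem_comap, (hC' x).mpr hx.2]; exact one_mem _)
  have hgq : g ^ q ∈ C := (hC' _).mp (by rw [map_pow, ← hrbaro, pow_orderOf_eq_one])
  have hgC : g ∉ C := fun h => hq.one_lt.ne' (by rw [← hrbaro, (hC' g).mpr h, orderOf_one])
  have hact : ∀ x y : G, π x = π y → ∀ v ∈ V, x * v * x⁻¹ = y * v * y⁻¹ := by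
    intro x y hxy v hv
    have hm : y⁻¹ * x ∈ C := (hC' _).mp (by rw [map_mul, map_inv, hxy, inv_mul_cancel])
    calc x * v * x⁻¹ = y * ((y⁻¹ * x) * v * (y⁻¹ * x)⁻¹) * y⁻¹ := by group
      _ = y * v * y⁻¹ := by rw [← mem_centralizer_iff.mp hm v hv, mul_inv_cancel_right]
  -- `g ^ 2` is a product of two conjugates of `a`
  set a' := g * a * g⁻¹ with ha'
  have hg2 : π (g * g) = π (a' * a) := by
    have hia : (π a)⁻¹ = π a := inv_eq_of_mul_eq_one_right (by rw [← map_mul, ha2, map_one])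
    have h1 : π a * π g * π a = (π g)⁻¹ := by rw [← hinv, hia]
    calc π (g * g) = π g * (π a * π g * π a)⁻¹ := by rw [h1, inv_inv, map_mul]
      _ = π g * ((π a)⁻¹ * (π g)⁻¹ * (π a)⁻¹) := by group
      _ = π (a' * a) := by
        rw [ha', map_mul, map_mul, map_mul, map_inv, hia]; group
  have hgfix : ∀ v ∈ V, a * v * a⁻¹ = v → a' * v * a'⁻¹ = v → g * v * g⁻¹ = v := by
    intro v hv h1 h2
    have h3 : (g * g) * v * (g * g)⁻¹ = v := by
      rw [hact _ _ hg2 v hv, show (a' * a) * v * (a' * a)⁻¹ = a' * (a * v * a⁻¹) * a'⁻¹ by group, h1, h2]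
    have hcom : Commute (g * g) v := mul_inv_eq_iff_eq_mul.mp h3
    obtain ⟨m, hm⟩ := hq.odd_of_ne_two hq2
    have h4 : Commute (g ^ (2 * (m + 1))) v := by rw [pow_mul, pow_two]; exact hcom.pow_left _
    rw [show 2 * (m + 1) = q + 1 by omega, pow_succ] at h4
    have h5 : Commute g v := by
      simpa using ((show Commute (g ^ q) v from (mem_centralizer_iff.mp hgq v hv).symm).inv_left).mul_left h4
    rw [h5.eq, mul_inv_cancel_right]
  haveI := hBEA.1
  haveI := (Thompson.isEA_map π hBEA).1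
  have hgen : ∀ b ∈ B, b ∈ B' ∨ b * a ∈ B' := by
    intro b hb
    have h1 : π b ∈ H ⊔ zpowers (π a) := hsup ▸ mem_map_of_mem π hb
    have hn : zpowers (π a) ≤ normalizer (H : Set (G ⧸ C)) := zpowers_le.mpr (centralizer_le_normalizer _
      (mem_centralizer_iff.mpr fun h hh => setLike_mul_comm (hH hh) (mem_map_of_mem π haB)))
    obtain ⟨h, hh, y, hy, he⟩ := (Coprime.mem_sup_of_le_normalizer hn).mp h1
    obtain ⟨i, rfl⟩ := mem_zpowers_iff.mp hy
    have hsq : π a * π a = 1 := by rw [← map_mul, ha2, map_one]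
    rcases Int.even_or_odd' i with ⟨k, rfl | rfl⟩
    · left
      rw [zpow_mul, zpow_two, hsq, one_zpow, mul_one] at he
      exact ⟨hb, show π b ∈ H by rw [← he]; exact hh⟩
    · right
      rw [zpow_add_one, zpow_mul, zpow_two, hsq, one_zpow, one_mul] at he
      exact ⟨B.mul_mem hb haB, show π (b * a) ∈ H by rw [map_mul, ← he, mul_assoc, hsq, mul_one]; exact hh⟩
  have hcardB : Nat.card B = 2 * Nat.card B' := by
    have hBs : B' ⊔ zpowers a = B := by
      refine le_antisymm (sup_le inf_le_left (zpowers_le.mpr haB)) fun b hb => ?_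
      rcases hgen b hb with h | h
      · exact mem_sup_left h
      · have := mul_mem (mem_sup_left (T := zpowers a) h) (mem_sup_right (S := B') (mem_zpowers a))
        rwa [mul_assoc, ha2, mul_one] at this
    have ha1 : orderOf a = 2 := orderOf_eq_prime (hBEA.2 a haB) fun h => haB' (h ▸ one_mem _)
    have hinf : B' ⊓ zpowers a = ⊥ := by
      rw [eq_bot_iff]
      rintro x ⟨hxB, hxa⟩
      obtain ⟨i, rfl⟩ := mem_zpowers_iff.mp hxa
      rcases Int.even_or_odd' i with ⟨k, rfl | rfl⟩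
      · rw [mem_bot, zpow_mul, zpow_two, ha2, one_zpow]
      · rw [zpow_add_one, zpow_mul, zpow_two, ha2, one_zpow, one_mul] at hxB
        exact absurd hxB haB'
    have h := Thompson.card_sup_mul_card_inf (N := B') (K := zpowers a) (zpowers_le.mpr
      (centralizer_le_normalizer _ (mem_centralizer_iff.mpr fun h hh => setLike_mul_comm hh.1 haB)))
    rw [hBs, hinf, card_bot, mul_one, Nat.card_zpowers, ha1] at h
    rw [h, mul_comm]
  set V₁ := V ⊓ centralizer {a} with hV₁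
  have hCB_le : V ⊓ centralizer (B : Set G) ≤ V₁ :=
    inf_le_inf_left _ (centralizer_le (Set.singleton_subset_iff.mpr haB))
  -- the element `g` has order three modulo the centraliser
  have hq3 : q = 3 := by
    by_cases hcase : B' ≤ A ⊓ C
    · have hV2 : Nat.card V ≤ 2 * Nat.card V₁ := by
        have h1 : Nat.card B' = Nat.card ↥(A ⊓ C) := by rw [le_antisymm hcase hCB']
        have h2 : Nat.card ↥(A ⊓ C) * Nat.card V ≤ Nat.card ↥(A ⊓ C) * (2 * Nat.card V₁) := by
          calc Nat.card ↥(A ⊓ C) * Nat.card V ≤ Nat.card B * Nat.card ↥(V ⊓ centralizer (B : Set G)) := hBoff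
            _ ≤ Nat.card B * Nat.card V₁ := Nat.mul_le_mul_left _ (card_le_of_le hCB_le)
            _ = Nat.card ↥(A ⊓ C) * (2 * Nat.card V₁) := by rw [hcardB, h1]; ring
        exact Nat.le_of_mul_le_mul_left h2 Nat.card_pos
      set V₂ := V₁.map (MulAut.conj g).toMonoidHom with hV₂
      have hV₂V : V₂ ≤ V := by
        rintro _ ⟨x, hx, rfl⟩; exact hVn.conj_mem _ hx.1 g
      have hV₂n : V₂ ≤ normalizer (V₁ : Set G) := fun x hx => centralizer_le_normalizer _
        (mem_centralizer_iff.mpr fun y hy => setLike_mul_comm (show y ∈ V from hy.1) (hV₂V hx))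
      have hsum := Thompson.card_sup_mul_card_inf hV₂n
      have hle : Nat.card ↥(V₁ ⊔ V₂) ≤ Nat.card V := card_le_of_le (sup_le inf_le_left hV₂V)
      have hcard2 : Nat.card V₂ = Nat.card V₁ := card_map_of_injective (MulAut.conj g).injective
      have hD : ∀ d ∈ V₁ ⊓ V₂, g * d * g⁻¹ = d := by
        rintro d ⟨⟨hdV, hda⟩, ⟨x, ⟨hxV, hxa⟩, hxd⟩⟩
        have hxd' : g * x * g⁻¹ = d := hxd
        refine hgfix d hdV ?_ ?_
        · rw [← mem_centralizer_singleton_iff.mp hda, mul_inv_cancel_right]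
        · rw [← hxd', ha', show g * a * g⁻¹ * (g * x * g⁻¹) * (g * a * g⁻¹)⁻¹ = g * (a * x * a⁻¹) * g⁻¹ by group,
            ← mem_centralizer_singleton_iff.mp hxa, mul_inv_cancel_right]
      have h1 := card_succ_mul_le hV (inf_le_left.trans inf_le_left : V₁ ⊓ V₂ ≤ V) hq hq2 hgq hgC hD
      rw [hcard2] at hsum
      have h2 : Nat.card V * Nat.card V ≤ 4 * (Nat.card V * Nat.card ↥(V₁ ⊓ V₂)) := by
        calc Nat.card V * Nat.card V ≤ (2 * Nat.card V₁) * (2 * Nat.card V₁) := Nat.mul_le_mul hV2 hV2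
          _ = 4 * (Nat.card ↥(V₁ ⊔ V₂) * Nat.card ↥(V₁ ⊓ V₂)) := by rw [hsum]; ring
          _ ≤ _ := Nat.mul_le_mul_left _ (Nat.mul_le_mul_right _ hle)
      have h3 : Nat.card V ≤ 4 * Nat.card ↥(V₁ ⊓ V₂) :=
        Nat.le_of_mul_le_mul_left (h2.trans_eq (by ring)) (Nat.card_pos (α := V))
      have h4 : q + 1 ≤ 4 := Nat.le_of_mul_le_mul_right (h1.trans h3) Nat.card_pos
      have := hq.two_le
      omega
    · exfalso
      have hB'B : B' ≤ B := inf_le_left
      have hlt : A ⊓ C < B' := lt_of_le_of_ne hCB' fun h => hcase h.ge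
      set W := V ⊓ centralizer (B' : Set G) with hW
      set W₀ := V ⊓ centralizer (B : Set G) with hW₀
      have hWle : W₀ ≤ W := inf_le_inf_left _ (centralizer_le hB'B)
      have hnot : ¬ Nat.card ↥(A ⊓ C) * Nat.card V ≤ Nat.card B' * Nat.card W := fun h => by
        have := hmin B' ⟨hlt, hB'B.trans hBA, h⟩
        rw [hcardB] at this
        have := Nat.card_pos (α := B')
        omega
      have hlt2 : Nat.card W < 2 * Nat.card W₀ := by
        by_contra hge
        push Not at hge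
        refine hnot (hBoff.trans ?_)
        rw [hcardB]
        calc 2 * Nat.card B' * Nat.card W₀ = Nat.card B' * (2 * Nat.card W₀) := by ring
          _ ≤ _ := Nat.mul_le_mul_left _ hge
      have heq : W₀ = W := by
        refine eq_of_le_of_card_ge hWle ?_
        obtain ⟨k, hk⟩ := card_dvd_of_le hWle
        have := Nat.card_pos (α := W)
        rcases Nat.lt_or_ge k 2 with h | h
        · rw [hk]; exact (Nat.mul_le_mul_left _ (show k ≤ 1 by omega)).trans_eq (mul_one _)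
        · exact absurd (le_trans (Nat.mul_le_mul_left _ h) hk.ge) (by rw [mul_comm]; omega)
      refine hgC (mem_centralizer_of_fixed hV (Thompson.isEA_le hA (hB'B.trans hBA)) (hq.odd_of_ne_two hq2) hgq
        (fun b hb v hv => ?_) fun v hv hfix => ?_)
      · have hbg : π (b * g) = π (g * b) := by rw [map_mul, map_mul, hHr _ hb.2]
        calc b * (g * v * g⁻¹) * b⁻¹ = (b * g) * v * (b * g)⁻¹ := by group
          _ = (g * b) * v * (g * b)⁻¹ := hact _ _ hbg v hv
          _ = _ := by group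
      · have hvW : v ∈ W := ⟨hv, mem_centralizer_iff.mpr fun b hb => mul_inv_eq_iff_eq_mul.mp (hfix b hb)⟩
        have hfixa : ∀ w ∈ W, a * w * a⁻¹ = w := fun w hw => by
          rw [← heq] at hw
          rw [mem_centralizer_iff.mp hw.2 a haB, mul_inv_cancel_right]
        refine hgfix v hv (hfixa v hvW) ?_
        have hw : g⁻¹ * v * g ∈ W := by
          refine ⟨by simpa using hVn.conj_mem _ hv g⁻¹, mem_centralizer_iff.mpr fun b hb => ?_⟩
          have hbg : π (b * g⁻¹) = π (g⁻¹ * b) := by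
            rw [map_mul, map_mul, map_inv]
            exact ((show Commute (π b) (π g) from hHr _ hb.2).inv_right).eq
          refine mul_inv_eq_iff_eq_mul.mp ?_
          calc b * (g⁻¹ * v * g) * b⁻¹ = (b * g⁻¹) * v * (b * g⁻¹)⁻¹ := by group
            _ = (g⁻¹ * b) * v * (g⁻¹ * b)⁻¹ := hact _ _ hbg v hv
            _ = g⁻¹ * (b * v * b⁻¹) * g := by group
            _ = g⁻¹ * v * g := by rw [hfix b hb]
        calc a' * v * a'⁻¹ = g * (a * (g⁻¹ * v * g) * a⁻¹) * g⁻¹ := by rw [ha']; group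
          _ = v := by rw [hfixa _ hw]; group
  -- so `S₄` is involved
  subst hq3
  haveI : Fact (Nat.Prime 3) := ⟨Nat.prime_three⟩
  have hD3 : Cfsg.Involves (DihedralGroup 3) (G ⧸ C) := by
    refine LocalEven.InvolvesDihedral.involves_of_inverted (by norm_num) (x := π a) (y := π g)
      ?_ ⟨1, by rw [hrbaro, pow_one]⟩ (fun h => hgC ((hC' g).mp h)) hinv
    refine ⟨1, orderOf_eq_prime ?_ fun h => habarH (h ▸ one_mem _)⟩
    rw [← map_pow, pow_one, hBEA.2 a haB, map_one]
  obtain ⟨e⟩ := Cfsg.Agent.S2759.perm_three_equiv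
  have h3 : Cfsg.Involves (Equiv.Perm (Fin 3)) (G ⧸ C) := Cfsg.Agent.S2759.involves_congr e.symm hD3
  obtain ⟨K, f, hf⟩ := LocalEven.InvolvesDihedral.exists_surjective h3
  refine hS4 (Cfsg.Agent.S2759.result.mpr ⟨V, Thompson.isPGroup_isEA hV, ?_⟩)
  have hN : normalizer (V : Set G) = ⊤ := normalizer_eq_top_iff.mpr hVn
  let φ : ↥(normalizer (V : Set G)) ⧸ C.subgroupOf (normalizer (V : Set G)) →* G ⧸ C :=
    QuotientGroup.map _ C (normalizer (V : Set G)).subtype le_rfl
  have hφ : Function.Surjective φ := by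
    intro y
    obtain ⟨x, rfl⟩ := QuotientGroup.mk'_surjective C y
    exact ⟨QuotientGroup.mk ⟨x, by rw [hN]; exact mem_top _⟩, rfl⟩
  refine LocalEven.InvolvesDihedral.of_surjective (f.comp (φ.subgroupComap K)) (hf.comp ?_)
  rintro ⟨y, hy⟩
  obtain ⟨x, rfl⟩ := hφ y
  exact ⟨⟨x, hy⟩, rfl⟩

/-- The solvable class two factorisation, reduced form. -/
theorem thompson_normal [Group.IsSolvable G] (hS4 : ¬ Cfsg.Involves (Equiv.Perm (Fin 4)) G)
    (hO : Cfsg.pPrimeCore 2 G = ⊥) (S : Sylow 2 G)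
    (hcl : ∀ x ∈ (S : Subgroup G), ∀ y ∈ (S : Subgroup G), ∀ z ∈ (S : Subgroup G),
      ⁅x, y⁆ * z = z * ⁅x, y⁆) :
    (Cfsg.thompsonSubgroupOf 2 (S : Subgroup G)).Normal := by
  haveI : Fact (Nat.Prime 2) := ⟨Nat.prime_two⟩
  set Q := Cfsg.pCore 2 G with hQ
  haveI hQn : Q.Normal := Subgroup.sSup_normal _ fun _ h => h.1
  have hQp : IsPGroup 2 Q := Cores.isPGroup_pCore 2
  have hQS : Q ≤ (S : Subgroup G) := Cores.pCore_le_sylow S
  have hcQ : centralizer (Q : Set G) ≤ Q := PSolvable.centralizer_pCore_le PSolvable.psolvable_of_solvable hO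
  set Ω : Set G := {z | z ∈ (S : Subgroup G) ∧ z ^ 2 = 1 ∧ ∀ s ∈ (S : Subgroup G), s * z = z * s} with hΩ
  set V := normalClosure Ω with hVdef
  haveI hVn : V.Normal := normalClosure_normal
  have hV : Cfsg.IsElementaryAbelian 2 V := by
    let Z : Subgroup G :=
      { carrier := {x | x ∈ Q ∧ x ∈ centralizer (Q : Set G) ∧ x ^ 2 = 1}
        one_mem' := ⟨one_mem _, one_mem _, one_pow 2⟩
        mul_mem' := fun {x y} hx hy => ⟨mul_mem hx.1 hy.1, mul_mem hx.2.1 hy.2.1, by
          rw [(show Commute x y from mem_centralizer_iff.mp hy.2.1 x hx.1).mul_pow, hx.2.2, hy.2.2, one_mul]⟩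
        inv_mem' := fun {x} hx => ⟨inv_mem hx.1, inv_mem hx.2.1, by rw [inv_pow, hx.2.2, inv_one]⟩ }
    haveI hZn : Z.Normal := by
      refine ⟨fun x hx g => ⟨hQn.conj_mem _ hx.1 g, ?_, by rw [conj_pow, hx.2.2]; group⟩⟩
      exact (inferInstance : (centralizer (Q : Set G)).Normal).conj_mem _ hx.2.1 g
    have hle : V ≤ Z := normalClosure_le_normal fun z hz => by
      have hzc : z ∈ centralizer (Q : Set G) := mem_centralizer_iff.mpr fun x hx => hz.2.2 x (hQS hx)
      exact ⟨hcQ hzc, hzc, hz.2.1⟩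
    exact ⟨IsMulCommutative.of_comm fun x y =>
      Subtype.ext (mem_centralizer_iff.mp (hle y.2).2.1 x (hle x.2).1), fun x hx => (hle hx).2.2⟩
  set C := centralizer (V : Set G) with hC
  have hO2 : Cfsg.pCore 2 (G ⧸ C) = ⊥ := by
    set π := QuotientGroup.mk' C with hπ
    set D := (Cfsg.pCore 2 (G ⧸ C)).comap π with hD
    haveI : (Cfsg.pCore 2 (G ⧸ C)).Normal := Subgroup.sSup_normal _ fun _ h => h.1
    haveI hDn : D.Normal := Subgroup.Normal.comap inferInstance π
    obtain ⟨T, hT⟩ := CfsgLib.NT.SylowCount.exists_sylow_inf S D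
    set T' := (T : Subgroup D).map D.subtype with hT'
    have hCD : C ≤ D := fun x hx => by
      rw [hD, mem_comap, show π x = 1 from (QuotientGroup.eq_one_iff x).mpr hx]; exact one_mem _
    have hN : normalizer (T' : Set G) ⊔ D = ⊤ := Sylow.normalizer_sup_eq_top T
    -- `D` is `T'` times `C`
    have hDC : ∀ d ∈ D, ∃ t ∈ T', ∃ c ∈ C, d = t * c := by
      intro d hd
      have hs : Function.Surjective (π.subgroupComap (Cfsg.pCore 2 (G ⧸ C))) := by
        rintro ⟨y, hy⟩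
        obtain ⟨x, rfl⟩ := QuotientGroup.mk'_surjective C y
        exact ⟨⟨x, hy⟩, rfl⟩
      have htop : ((T.mapSurjective hs : Sylow 2 (Cfsg.pCore 2 (G ⧸ C))) : Subgroup (Cfsg.pCore 2 (G ⧸ C))) = ⊤ :=
        ((T.mapSurjective hs).is_maximal' ((Cores.isPGroup_pCore 2).to_subgroup ⊤) le_top).symm
      have hmem : (⟨π d, hd⟩ : Cfsg.pCore 2 (G ⧸ C)) ∈ (T : Subgroup D).map (π.subgroupComap _) := by
        rw [← Sylow.coe_mapSurjective hs T, htop]; exact mem_top _
      obtain ⟨t, ht, hte⟩ := hmem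
      have hte' : π t = π d := congrArg Subtype.val hte
      exact ⟨t, mem_map_of_mem _ ht, (t : G)⁻¹ * d, (QuotientGroup.eq_one_iff _).mp (by
        show π ((t : G)⁻¹ * d) = 1
        rw [map_mul, map_inv, hte', inv_mul_cancel]), by group⟩
    have hTC : T' ≤ C := by
      intro t ht
      have htS : t ∈ (S : Subgroup G) := by rw [hT] at ht; exact ht.1
      have hle : V ≤ centralizer ({t} : Set G) := by
        rw [hVdef, normalClosure, closure_le]
        intro y hy
        obtain ⟨z, hz, hzy⟩ := Group.mem_conjugatesOfSet_iff.mp hy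
        obtain ⟨g, rfl⟩ := isConj_iff.mp hzy
        obtain ⟨n, hn, d, hd, rfl⟩ := mem_sup_of_normal_right.mp (hN ▸ mem_top g)
        obtain ⟨t₁, ht₁, c, hc, rfl⟩ := hDC d hd
        set m := n * t₁ with hm
        have hmN : m ∈ normalizer (T' : Set G) := mul_mem hn (le_normalizer ht₁)
        have hcz : c * z * c⁻¹ = z := by
          rw [← mem_centralizer_iff.mp hc z (subset_normalClosure hz), mul_inv_cancel_right]
        refine mem_centralizer_singleton_iff.mpr ?_
        have h1 : m⁻¹ * t * m ∈ (S : Subgroup G) := by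
          have h := (mem_normalizer_iff''.mp hmN t).mp ht
          rw [hT] at h
          exact h.1
        have h2 := hz.2.2 _ h1
        calc n * (t₁ * c) * z * (n * (t₁ * c))⁻¹ * t = m * (c * z * c⁻¹) * m⁻¹ * t := by rw [hm]; group
          _ = m * (z * (m⁻¹ * t * m)) * m⁻¹ := by rw [hcz]; group
          _ = m * ((m⁻¹ * t * m) * z) * m⁻¹ := by rw [h2]
          _ = t * (m * (c * z * c⁻¹) * m⁻¹) := by rw [hcz]; group
          _ = t * (n * (t₁ * c) * z * (n * (t₁ * c))⁻¹) := by rw [hm]; group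
      exact mem_centralizer_iff.mpr fun v hv => mem_centralizer_singleton_iff.mp (hle hv)
    rw [eq_bot_iff]
    intro y hy
    obtain ⟨x, rfl⟩ := QuotientGroup.mk'_surjective C y
    obtain ⟨t, ht, c, hc, rfl⟩ := hDC x hy
    exact mem_bot.mpr ((QuotientGroup.eq_one_iff _).mpr (C.mul_mem (hTC ht) hc))
  have key : ∀ A : Subgroup G, A ≤ (S : Subgroup G) → Cfsg.IsElementaryAbelian 2 A →
      (∀ B : Subgroup G, B ≤ (S : Subgroup G) → Cfsg.IsElementaryAbelian 2 B → Nat.card B ≤ Nat.card A) →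
      A ≤ Q := by
    intro A hAS hA hmax
    haveI := hA.1
    haveI := hV.1
    have hVS : V ≤ (S : Subgroup G) :=
      (Thompson.isPGroup_isEA hV).le_sylow_of_normal S
    set A₀ := A ⊓ C with hA₀
    have hn₀ : A₀ ≤ normalizer (V : Set G) := by rw [normalizer_eq_top]; exact le_top
    have hBEA : Cfsg.IsElementaryAbelian 2 (V ⊔ A₀) := by
      have hc : ∀ v ∈ V, ∀ x ∈ A₀, Commute v x := fun v hv x hx => mem_centralizer_iff.mp hx.2 v hv
      refine ⟨IsMulCommutative.of_comm fun x y => Subtype.ext ?_, fun x hx => ?_⟩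
      · obtain ⟨v, hv, b, hb, hx⟩ := (Coprime.mem_sup_of_le_normalizer hn₀).mp x.2
        obtain ⟨w, hw, c, hc', hy⟩ := (Coprime.mem_sup_of_le_normalizer hn₀).mp y.2
        have e1 : Commute v w := setLike_mul_comm hv hw
        have e2 : Commute b c := setLike_mul_comm hb.1 hc'.1
        show (x : G) * y = y * x
        rw [← hx, ← hy]
        exact ((e1.mul_right (hc v hv c hc')).mul_left ((hc w hw b hb).symm.mul_right e2)).eq
      · obtain ⟨v, hv, b, hb, rfl⟩ := (Coprime.mem_sup_of_le_normalizer hn₀).mp hx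
        rw [(hc v hv b hb).mul_pow, hV.2 v hv, hA.2 b hb.1, one_mul]
    have hle := hmax (V ⊔ A₀) (sup_le hVS (inf_le_left.trans hAS)) hBEA
    have hcard := Thompson.card_sup_mul_card_inf hn₀
    have hinf : Nat.card ↥(V ⊓ A₀) ≤ Nat.card ↥(V ⊓ centralizer (A : Set G)) :=
      card_le_of_le (inf_le_inf_left _ (inf_le_left.trans A.le_centralizer))
    have hAC : A ≤ C := by
      refine le_centralizer hS4 V hV hO2 A hA ?_
      calc Nat.card ↥(A ⊓ C) * Nat.card V = Nat.card ↥(V ⊔ A₀) * Nat.card ↥(V ⊓ A₀) := by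
            rw [hcard, hA₀, mul_comm]
        _ ≤ _ := Nat.mul_le_mul hle hinf
    set π := QuotientGroup.mk' V with hπ
    set M := C ⊓ (centralizer ((Q.map π : Subgroup (G ⧸ V)) : Set (G ⧸ V))).comap π with hM
    haveI : (Q.map π).Normal := Subgroup.Normal.map inferInstance π (QuotientGroup.mk'_surjective V)
    haveI : M.Normal := inferInstance
    have hAM : A ≤ M := by
      refine le_inf hAC fun a ha => mem_centralizer_iff.mpr ?_
      rintro _ ⟨x, hx, rfl⟩
      rw [← map_mul, ← map_mul]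
      refine QuotientGroup.eq.mpr ?_
      set c := ⁅x⁻¹, a⁻¹⁆ with hc
      have hxS := inv_mem (hQS hx)
      have haS := inv_mem (hAS ha)
      have hcS : c ∈ (S : Subgroup G) := by
        rw [hc, commutatorElement_def]
        exact mul_mem (mul_mem (mul_mem hxS haS) (inv_mem hxS)) (inv_mem haS)
      have hcz : ∀ s ∈ (S : Subgroup G), s * c = c * s := fun s hs => (hcl _ hxS _ haS s hs).symm
      have ha2 : a⁻¹ * a⁻¹ = 1 := by rw [← pow_two, inv_pow, hA.2 a ha, inv_one]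
      have hc2 : c * c = 1 := by
        have h1 : c = a⁻¹ * c * a⁻¹⁻¹ := by rw [hcz _ haS, mul_inv_cancel_right]
        calc c * c = c * (a⁻¹ * c * a⁻¹⁻¹) := by rw [← h1]
          _ = x⁻¹ * (a⁻¹ * a⁻¹) * x⁻¹⁻¹ * (a⁻¹ * a⁻¹)⁻¹ := by
            rw [hc, commutatorElement_def]; simp only [mul_inv_rev, inv_inv, mul_assoc, inv_mul_cancel_left,
              mul_inv_cancel_left]
          _ = 1 := by rw [ha2]; group
      have e : (x * a)⁻¹ * (a * x) = (a⁻¹ * x⁻¹ * a * x) := by group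
      rw [e]
      have hcV : c ∈ V := subset_normalClosure ⟨hcS, by rw [pow_two, hc2], hcz⟩
      have e2 : a⁻¹ * x⁻¹ * a * x = c⁻¹ := by rw [hc, commutatorElement_def]; group
      rw [e2]
      exact inv_mem hcV
    have hMp : IsPGroup 2 M := by
      rintro ⟨x, hx⟩
      obtain ⟨x₁, b, hxab, ⟨i, hi⟩, hb, -, hbmem⟩ : ∃ x₁ b : G, x = x₁ * b ∧ (∃ i, orderOf x₁ = 2 ^ i) ∧
          (orderOf b).Coprime 2 ∧ x₁ ∈ Subgroup.zpowers x ∧ b ∈ Subgroup.zpowers x :=
        CfsgLib.Fusion.ZJConstrained.isPStableOn_quotient.exists_parts x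
      obtain ⟨hbC, hbQ⟩ := zpowers_le.mpr hx hbmem
      have hbc : b ∈ centralizer (Q : Set G) := mem_centralizer_iff.mpr fun y hy => by
        refine (Coprime.commute_of_stabilizes (N := V) ?_ hbC ?_).symm.eq
        · obtain ⟨j, hj⟩ := IsPGroup.iff_card.mp (Thompson.isPGroup_isEA hV)
          rw [hj]; exact hb.pow_right j
        · refine (QuotientGroup.eq_one_iff _).mp ?_
          show π ⁅b, y⁆ = 1
          rw [map_commutatorElement, commutatorElement_eq_one_iff_mul_comm]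
          exact (mem_centralizer_iff.mp hbQ _ (mem_map_of_mem π hy)).symm
      have hb1 : b = 1 := congrArg Subtype.val (CfsgLib.Fusion.Basic.eq_one_of_isPGroup_of_coprime hQp
        (x := ⟨b, hcQ hbc⟩) (by rwa [← Subgroup.orderOf_coe]))
      refine ⟨i, Subtype.ext ?_⟩
      rw [Subgroup.coe_pow, Subgroup.coe_one]
      show x ^ 2 ^ i = 1
      rw [hxab, hb1, mul_one, ← hi, pow_orderOf_eq_one]
    exact hAM.trans (Cores.le_pCore hMp)
  obtain ⟨A₀, hA₀, hA₀S⟩ := Thompson.exists_maxEA_le_sylow (p := 2) S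
  have hmemQ : ∀ A, A ∈ Cfsg.maxElementaryAbelianSubgroups 2 G → A ≤ (S : Subgroup G) → A ≤ Q :=
    fun A hA hAS => key A hAS hA.1 fun B _ hB => hA.2 B hB
  have hJ : Cfsg.thompsonSubgroupOf 2 (S : Subgroup G) = Cfsg.thompsonSubgroupOf 2 Q := by
    rw [Thompson.thompsonSubgroupOf_eq hA₀ hA₀S, Thompson.thompsonSubgroupOf_eq hA₀ (hmemQ A₀ hA₀ hA₀S)]
    congr 1
    ext A
    exact ⟨fun h => ⟨h.1, hmemQ A h.1 h.2⟩, fun h => ⟨h.1, h.2.trans hQS⟩⟩
  rw [hJ, ← normalizer_eq_top_iff, eq_top_iff, ← normalizer_eq_top_iff.mpr hQn]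
  exact Thompson.normalizer_le_normalizer_thompsonOf Q

end CfsgLib.KGroups.OffenderSolvable
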