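import Cfsg.Agent.Lib.KGroups.NoSimple3960
import Cfsg.Agent.Lib.PGroup.TISeparable
import Cfsg.Agent.Lib.SmallGroups.PrimeDegree
import Cfsg.Agent.Lib.Solvable.Basic

/-!
# Groups of order 7920 with disconnected prime graph are simple
-/

set_option autoImplicit false

namespace CfsgLib.KGroups.Order7920

open Subgroup CfsgLib.SmallGroups.SimpleTools CfsgLib.SmallGroups.SimpleOrders
  CfsgLib.KGroups.NoSimple3960

universe u

/-- Commuting elements of orders `p` and `q`. -/
def Joined (G : Type*) [Group G] (p q : ℕ) : Prop :=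
  ∃ a b : G, Commute a b ∧ orderOf a = p ∧ orderOf b = q

theorem le_of_pow_dvd {r j m n : ℕ} (hn : ¬ r ^ (m + 1) ∣ n) (h : r ^ j ∣ n) : j ≤ m := by
  by_contra hc
  exact hn ((pow_dvd_pow r (show m + 1 ≤ j by omega)).trans h)

/-- A Frattini argument together with a count of orbits. -/
theorem joined_of_normal {H : Type*} [Group H] [Finite H] (K : Subgroup H) [K.Normal] {r s e : ℕ}
    [Fact r.Prime] [Fact s.Prime] (hrK : r ∣ Nat.card K) (hsK : ¬ s ∣ Nat.card K)
    (hsH : s ^ e ∣ Nat.card H)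
    (hb : ∀ j, 0 < j → r ^ j ∣ Nat.card K → r ^ j - 1 < 2 * s ^ e ∧ r ^ j - 1 ≠ s ^ e) :
    Joined H r s := by
  classical
  obtain ⟨Q₀⟩ : Nonempty (Sylow r ↥K) := inferInstance
  set Q := (Q₀ : Subgroup ↥K).map K.subtype
  set N := normalizer (Q : Set H)
  have htop : N ⊔ K = ⊤ := Sylow.normalizer_sup_eq_top Q₀
  have hidx : K.index ∣ Nat.card N := by
    rw [← relIndex_top_right, ← htop, relIndex_sup_right]
    exact relIndex_dvd_card _ _
  have hsN : s ^ e ∣ Nat.card N := by
    refine Nat.dvd_trans ?_ hidx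
    rw [← K.index_mul_card] at hsH
    exact (Nat.Coprime.pow_left e ((Nat.Prime.coprime_iff_not_dvd Fact.out).mpr hsK)).dvd_of_dvd_mul_right hsH
  obtain ⟨S₁, hS₁⟩ := Sylow.exists_subgroup_card_pow_prime (G := ↥N) s (n := e) hsN
  set S := S₁.map N.subtype
  have hS : Nat.card S = s ^ e := (card_map_of_injective N.subtype_injective).trans hS₁
  have hSN : S ≤ N := map_subtype_le _
  obtain ⟨j, hj⟩ := IsPGroup.iff_card.mp (Q₀.isPGroup'.map K.subtype)
  change Nat.card Q = r ^ j at hj
  have hj0 : 0 < j := by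
    refine Nat.pos_of_ne_zero fun h => Q₀.ne_bot_of_dvd_card hrK ?_
    rw [h, pow_zero, Subgroup.card_eq_one] at hj
    exact (map_eq_bot_iff_of_injective _ K.subtype_injective).mp hj
  obtain ⟨hb1, hb2⟩ := hb j hj0 (hj ▸ card_dvd_of_le (map_subtype_le _))
  obtain ⟨σ, hσS, a, haQ, hσ1, ha1, hcomm⟩ : ∃ σ ∈ S, ∃ a ∈ Q, σ ≠ 1 ∧ a ≠ 1 ∧ Commute a σ := by
    by_contra hno
    push_neg at hno
    have := Fintype.ofFinite H
    let X := {x : Q // (x : H) ≠ 1}
    have hX : Nat.card X = r ^ j - 1 := by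
      rw [← hj, Nat.card_congr (Equiv.subtypeEquivRight fun x : Q => not_congr OneMemClass.coe_eq_one),
        Nat.card_eq_fintype_card, Fintype.card_subtype_compl, Fintype.card_subtype_eq, Nat.card_eq_fintype_card]
    have hact : ∀ (σ : S) (x : X), (σ : H) * x.1.1 * (σ : H)⁻¹ ∈ Q ∧ (σ : H) * x.1.1 * (σ : H)⁻¹ ≠ 1 :=
      fun σ x => ⟨(mem_normalizer_iff.mp (hSN σ.2) _).mp x.1.2, fun h => x.2 (conj_eq_one_iff.mp h)⟩
    let act : S → X → X := fun σ x => ⟨⟨_, (hact σ x).1⟩, (hact σ x).2⟩
    have hfree : ∀ (σ τ : S) (x : X), act σ x = act τ x → σ = τ := by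
      intro σ τ x h
      have h' : (σ : H) * x.1.1 * (σ : H)⁻¹ = (τ : H) * x.1.1 * (τ : H)⁻¹ := congrArg (fun y : X => (y.1 : H)) h
      by_contra hne
      refine hno ((τ : H)⁻¹ * σ) (S.mul_mem (S.inv_mem τ.2) σ.2) x.1.1 x.1.2
        (fun e => hne (Subtype.ext (inv_mul_eq_one.mp e).symm)) x.2 ?_
      calc x.1.1 * ((τ : H)⁻¹ * σ) = (τ : H)⁻¹ * ((τ : H) * x.1.1 * (τ : H)⁻¹) * σ := by group
        _ = (τ : H)⁻¹ * ((σ : H) * x.1.1 * (σ : H)⁻¹) * σ := by rw [h']
        _ = (τ : H)⁻¹ * σ * x.1.1 := by group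
    obtain ⟨x₀⟩ : Nonempty X := by
      refine (Nat.card_ne_zero.mp ?_).1
      rw [hX]
      have := Nat.one_lt_pow hj0.ne' (Fact.out : r.Prime).one_lt
      omega
    have h1 := Nat.card_le_card_of_injective (fun σ => act σ x₀) (fun σ τ h => hfree σ τ x₀ h)
    obtain ⟨x₁, hx₁⟩ : ∃ x₁ : X, ∀ σ, act σ x₀ ≠ x₁ := by
      by_contra h
      push_neg at h
      have := Nat.card_le_card_of_surjective (fun σ => act σ x₀) (fun x => h x)
      rw [hS, hX] at this h1
      omega
    let f : S ⊕ S → X := Sum.elim (fun σ => act σ x₀) (fun σ => act σ x₁)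
    have hf : Function.Injective f := by
      rintro (σ | σ) (τ | τ) h
      · exact congrArg Sum.inl (hfree σ τ x₀ h)
      · exfalso
        refine hx₁ (τ⁻¹ * σ) (Subtype.ext (Subtype.ext ?_))
        have h' : (σ : H) * x₀.1.1 * (σ : H)⁻¹ = (τ : H) * x₁.1.1 * (τ : H)⁻¹ := congrArg (fun y : X => (y.1 : H)) h
        show ((τ : H)⁻¹ * σ) * x₀.1.1 * ((τ : H)⁻¹ * σ)⁻¹ = x₁.1.1
        calc ((τ : H)⁻¹ * σ) * x₀.1.1 * ((τ : H)⁻¹ * σ)⁻¹
            = (τ : H)⁻¹ * ((σ : H) * x₀.1.1 * (σ : H)⁻¹) * τ := by group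
          _ = x₁.1.1 := by rw [h']; group
      · exfalso
        refine hx₁ (σ⁻¹ * τ) (Subtype.ext (Subtype.ext ?_))
        have h' : (σ : H) * x₁.1.1 * (σ : H)⁻¹ = (τ : H) * x₀.1.1 * (τ : H)⁻¹ := congrArg (fun y : X => (y.1 : H)) h
        show ((σ : H)⁻¹ * τ) * x₀.1.1 * ((σ : H)⁻¹ * τ)⁻¹ = x₁.1.1
        calc ((σ : H)⁻¹ * τ) * x₀.1.1 * ((σ : H)⁻¹ * τ)⁻¹
            = (σ : H)⁻¹ * ((τ : H) * x₀.1.1 * (τ : H)⁻¹) * σ := by group
          _ = x₁.1.1 := by rw [← h']; group
      · exact congrArg Sum.inr (hfree σ τ x₁ h)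
    have h2 := Nat.card_le_card_of_injective f hf
    rw [Nat.card_sum, hS, hX] at h2
    omega
  have hkey : ∀ {p : ℕ} [Fact p.Prime] (T : Subgroup H) (y : H), y ∈ T → y ≠ 1 → ∀ i, Nat.card T = p ^ i →
      ∃ z : ℤ, orderOf (y ^ z) = p := by
    intro p _ T y hy hy1 i hi
    obtain ⟨⟨w, hw⟩, hwo⟩ := exists_prime_orderOf_dvd_card' p (show p ∣ Nat.card (zpowers y) by
      obtain ⟨l, hl, hyl⟩ := (Nat.dvd_prime_pow Fact.out).mp (hi ▸ T.orderOf_dvd_natCard hy)
      rw [Nat.card_zpowers, hyl]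
      exact dvd_pow_self p fun h0 => hy1 (orderOf_eq_one_iff.mp (by rw [hyl, h0, pow_zero])))
    rw [← Subgroup.orderOf_coe] at hwo
    obtain ⟨z, rfl⟩ := mem_zpowers_iff.mp hw
    exact ⟨z, hwo⟩
  obtain ⟨z, hz⟩ := hkey Q a haQ ha1 j hj
  obtain ⟨w, hw⟩ := hkey S σ hσS hσ1 e hS
  exact ⟨a ^ z, σ ^ w, hcomm.zpow_zpow z w, hz, hw⟩

variable {G : Type u} [Group G] [Finite G]

theorem Joined.of_subgroup {H : Subgroup G} {p q : ℕ} (h : Joined ↥H p q) : Joined G p q := by
  obtain ⟨a, b, hc, ha, hb⟩ := h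
  exact ⟨a, b, congrArg Subtype.val hc.eq, by rw [Subgroup.orderOf_coe, ha], by rw [Subgroup.orderOf_coe, hb]⟩

theorem joined_centralizer {p q : ℕ} [Fact p.Prime] [Fact q.Prime] (P : Sylow p G) (hp : p ∣ Nat.card G)
    (h : q ∣ Nat.card (centralizer ((P : Subgroup G) : Set G))) : Joined G p q := by
  obtain ⟨⟨a, ha⟩, hao⟩ := exists_prime_orderOf_dvd_card' p (show p ∣ Nat.card (P : Subgroup G) from
    P.dvd_card_of_dvd_card hp)
  obtain ⟨⟨b, hb⟩, hbo⟩ := exists_prime_orderOf_dvd_card' q h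
  rw [← Subgroup.orderOf_coe] at hao hbo
  exact ⟨a, b, mem_centralizer_iff.mp hb a ha, hao, hbo⟩

section

variable (hord : Nat.card G = 7920) (A : Set ℕ)
  (hA : ∀ p q : ℕ, p.Prime → q.Prime → p ≠ q → p ∣ 7920 → q ∣ 7920 → Joined G p q → (p ∈ A ↔ q ∈ A))
  (hcon : ¬ ((2 ∈ A ↔ 11 ∈ A) ∧ (3 ∈ A ↔ 11 ∈ A) ∧ (5 ∈ A ↔ 11 ∈ A)))

instance : Fact (Nat.Prime 3) := ⟨Nat.prime_three⟩

include hord in
theorem card_P' (P : Sylow 11 G) : Nat.card (P : Subgroup G) = 11 :=
  (card_sylow_subgroup (k := 1) (m := 720) (by rw [hord]; norm_num) (by norm_num) P).trans (pow_one _)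

include hord hA hcon in
theorem card_sylow_eleven : Nat.card (Sylow 11 G) = 45 ∨ Nat.card (Sylow 11 G) = 144 := by
  have hn := card_sylow_mem (G := G) (p := 11) (k := 1) (m := 720) (by rw [hord]; norm_num) (by norm_num)
  have hcases : Nat.card (Sylow 11 G) = 1 ∨ Nat.card (Sylow 11 G) = 12 ∨
      Nat.card (Sylow 11 G) = 45 ∨ Nat.card (Sylow 11 G) = 144 := by
    revert hn
    generalize Nat.card (Sylow 11 G) = n
    intro hn
    rw [Finset.mem_filter, Nat.mem_divisors] at hn
    obtain ⟨⟨hd, -⟩, hm⟩ := hn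
    obtain ⟨c, d, hc, hd', rfl⟩ := Nat.dvd_mul.mp (show n ∣ 16 * 45 from hd)
    have hc' : c ∈ Nat.divisors 16 := Nat.mem_divisors.mpr ⟨hc, by norm_num⟩
    have hd'' : d ∈ Nat.divisors 45 := Nat.mem_divisors.mpr ⟨hd', by norm_num⟩
    fin_cases hc' <;> fin_cases hd'' <;> omega
  by_contra hne
  push_neg at hne
  obtain ⟨P⟩ : Nonempty (Sylow 11 G) := inferInstance
  set N := normalizer ((P : Subgroup G) : Set G)
  set C := centralizer ((P : Subgroup G) : Set G)
  have hNC : Nat.card N ∣ Nat.card C * 10 :=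
    CfsgLib.SmallGroups.PrimeDegree.card_normalizer_dvd (P : Subgroup G) (card_P' hord P)
  have hmul : Nat.card (Sylow 11 G) * Nat.card N = Nat.card G := card_normalizer_mul P
  rw [hord] at hmul
  have h66 : 660 ∣ Nat.card N := by
    rcases hcases with h | h | h | h <;> rw [h] at hmul <;> omega
  have h3 : 3 ∣ Nat.card C := by
    have := ((show 3 ∣ 660 by norm_num).trans h66).trans hNC
    omega
  have h2 : 2 ∣ Nat.card C := by
    have := ((show 4 ∣ 660 by norm_num).trans h66).trans hNC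
    omega
  have h11 : 11 ∣ Nat.card G := by rw [hord]; norm_num
  have e2 := hA 11 2 (by norm_num) Nat.prime_two (by norm_num) (by norm_num) (by norm_num)
    (joined_centralizer P h11 h2)
  have e3 := hA 11 3 (by norm_num) Nat.prime_three (by norm_num) (by norm_num) (by norm_num)
    (joined_centralizer P h11 h3)
  refine hcon ⟨e2.symm, e3.symm, ?_⟩
  by_cases h5 : 5 ∣ Nat.card C
  · exact (hA 11 5 (by norm_num) (by norm_num) (by norm_num) (by norm_num) (by norm_num)
      (joined_centralizer P h11 h5)).symm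
  · have hC' : Nat.card (C.subgroupOf N) = Nat.card C :=
      Nat.card_congr (subgroupOfEquivOfLe (centralizer_le_normalizer _)).toEquiv
    have : (C.subgroupOf N).Normal := by
      rw [← normalizerMonoidHom_ker]; exact MonoidHom.normal_ker _
    have hj : Joined ↥N 3 5 := by
      refine joined_of_normal (C.subgroupOf N) (e := 1) (hC' ▸ h3) (hC' ▸ h5)
        ((show 5 ^ 1 ∣ 660 by norm_num).trans h66) fun j hj0 hj => ?_
      have hdvd : 3 ^ j ∣ 7920 := hord ▸ (hj.trans (hC' ▸ C.card_subgroup_dvd_card))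
      have := le_of_pow_dvd (m := 2) (by norm_num) hdvd
      interval_cases j <;> norm_num
    exact (hA 3 5 Nat.prime_three (by norm_num) (by norm_num) (by norm_num) (by norm_num)
      hj.of_subgroup).symm.trans e3.symm

include hord hA hcon in
theorem eleven_dvd_of_normal (K : Subgroup G) [K.Normal] (hK : K ≠ ⊥) : 11 ∣ Nat.card K := by
  by_contra h11
  have hK7 : Nat.card K ∣ 7920 := hord ▸ K.card_subgroup_dvd_card
  have hb2 : ∀ j, 2 ^ j ∣ Nat.card K → j ≤ 4 := fun j h => le_of_pow_dvd (by norm_num) (h.trans hK7)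
  have hb3 : ∀ j, 3 ^ j ∣ Nat.card K → j ≤ 2 := fun j h => le_of_pow_dvd (by norm_num) (h.trans hK7)
  have hb5 : ∀ j, 5 ^ j ∣ Nat.card K → j ≤ 1 := fun j h => le_of_pow_dvd (by norm_num) (h.trans hK7)
  have to11 : ∀ r, r = 2 ∨ r = 3 ∨ r = 5 → r ∣ Nat.card K → (r ∈ A ↔ 11 ∈ A) := by
    rintro r (rfl | rfl | rfl) hr
    · refine hA 2 11 Nat.prime_two (by norm_num) (by norm_num) (by norm_num) (by norm_num)
        (joined_of_normal K (e := 1) hr h11 (by rw [hord]; norm_num) fun j hj0 hj => ?_)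
      have := hb2 j hj
      interval_cases j <;> norm_num
    · refine hA 3 11 Nat.prime_three (by norm_num) (by norm_num) (by norm_num) (by norm_num)
        (joined_of_normal K (e := 1) hr h11 (by rw [hord]; norm_num) fun j hj0 hj => ?_)
      have := hb3 j hj
      interval_cases j <;> norm_num
    · refine hA 5 11 (by norm_num) (by norm_num) (by norm_num) (by norm_num) (by norm_num)
        (joined_of_normal K (e := 1) hr h11 (by rw [hord]; norm_num) fun j hj0 hj => ?_)
      have := hb5 j hj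
      interval_cases j
      norm_num
  obtain ⟨r, hr, hrK⟩ := Nat.exists_prime_and_dvd (mt Subgroup.card_eq_one.mp hK)
  have hr235 : r = 2 ∨ r = 3 ∨ r = 5 := by
    have hd : r ∣ 2 ^ 4 * 3 ^ 2 * 5 * 11 := hrK.trans (hK7.trans (dvd_of_eq (by norm_num)))
    rcases hr.dvd_mul.mp hd with hd | hd
    · rcases hr.dvd_mul.mp hd with hd | hd
      · rcases hr.dvd_mul.mp hd with hd | hd
        · exact Or.inl ((Nat.prime_dvd_prime_iff_eq hr Nat.prime_two).mp (hr.dvd_of_dvd_pow hd))
        · exact Or.inr (Or.inl ((Nat.prime_dvd_prime_iff_eq hr Nat.prime_three).mp (hr.dvd_of_dvd_pow hd)))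
      · exact Or.inr (Or.inr ((Nat.prime_dvd_prime_iff_eq hr (by norm_num)).mp hd))
    · exact absurd ((Nat.prime_dvd_prime_iff_eq hr (by norm_num)).mp hd ▸ hrK) h11
  have e2 : 2 ∈ A ↔ 11 ∈ A := by
    by_cases h2 : 2 ∣ Nat.card K
    · exact to11 2 (Or.inl rfl) h2
    rcases hr235 with rfl | rfl | rfl
    · exact absurd hrK h2
    · refine (hA 3 2 Nat.prime_three Nat.prime_two (by norm_num) (by norm_num) (by norm_num)
        (joined_of_normal K (e := 4) hrK h2 (by rw [hord]; norm_num) fun j hj0 hj => ?_)).symm.trans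
        (to11 3 (by norm_num) hrK)
      have := hb3 j hj
      interval_cases j <;> norm_num
    · refine (hA 5 2 (by norm_num) Nat.prime_two (by norm_num) (by norm_num) (by norm_num)
        (joined_of_normal K (e := 4) hrK h2 (by rw [hord]; norm_num) fun j hj0 hj => ?_)).symm.trans
        (to11 5 (by norm_num) hrK)
      have := hb5 j hj
      interval_cases j
      norm_num
  have e3 : 3 ∈ A ↔ 11 ∈ A := by
    by_cases h3 : 3 ∣ Nat.card K
    · exact to11 3 (by norm_num) h3
    rcases hr235 with rfl | rfl | rfl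
    · refine (hA 2 3 Nat.prime_two Nat.prime_three (by norm_num) (by norm_num) (by norm_num)
        (joined_of_normal K (e := 2) hrK h3 (by rw [hord]; norm_num) fun j hj0 hj => ?_)).symm.trans
        (to11 2 (by norm_num) hrK)
      have := hb2 j hj
      interval_cases j <;> norm_num
    · exact absurd hrK h3
    · refine (hA 5 3 (by norm_num) Nat.prime_three (by norm_num) (by norm_num) (by norm_num)
        (joined_of_normal K (e := 2) hrK h3 (by rw [hord]; norm_num) fun j hj0 hj => ?_)).symm.trans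
        (to11 5 (by norm_num) hrK)
      have := hb5 j hj
      interval_cases j
      norm_num
  refine hcon ⟨e2, e3, ?_⟩
  by_cases h5 : 5 ∣ Nat.card K
  · exact to11 5 (by norm_num) h5
  by_cases h3 : 3 ∣ Nat.card K
  · refine (hA 3 5 Nat.prime_three (by norm_num) (by norm_num) (by norm_num) (by norm_num)
      (joined_of_normal K (e := 1) h3 h5 (by rw [hord]; norm_num) fun j hj0 hj => ?_)).symm.trans e3
    have := hb3 j hj
    interval_cases j <;> norm_num
  -- `K` is a 2-group centralised by all Sylow 11-subgroups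
  have hK16 : Nat.card K ∣ 16 := by
    have h495 : (Nat.card K).Coprime 495 := by
      rw [show (495 : ℕ) = 3 ^ 2 * (5 * 11) by norm_num]
      exact Nat.Coprime.mul_right (Nat.Coprime.pow_right 2 ((Nat.Prime.coprime_iff_not_dvd Nat.prime_three).mpr h3).symm)
        (Nat.Coprime.mul_right ((Nat.Prime.coprime_iff_not_dvd (by norm_num)).mpr h5).symm
          ((Nat.Prime.coprime_iff_not_dvd (by norm_num)).mpr h11).symm)
    exact h495.dvd_of_dvd_mul_right (show Nat.card K ∣ 16 * 495 from hK7.trans (dvd_of_eq (by norm_num)))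
  have hPK : ∀ P : Sylow 11 G, K ≤ centralizer ((P : Subgroup G) : Set G) := by
    intro P
    have hle : (P : Subgroup G) ≤ (P : Subgroup G) ⊔ K := le_sup_left
    have hcard : Nat.card ((P : Subgroup G) ⊔ K : Subgroup G) ∣ 16 * 11 := by
      refine (CfsgLib.PGroup.TISeparable.card_sup_dvd _ K).trans ?_
      rw [card_P' hord P]
      exact Nat.mul_dvd_mul_right hK16 11
    have hone : Nat.card (Sylow 11 ↥((P : Subgroup G) ⊔ K)) = 1 := by
      set H := (P : Subgroup G) ⊔ K
      have hdvd : Nat.card (Sylow 11 ↥H) ∣ 16 * 11 := by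
        obtain ⟨P'⟩ : Nonempty (Sylow 11 ↥H) := inferInstance
        exact (Dvd.intro _ (card_normalizer_mul P')).trans hcard
      have hmod : Nat.card (Sylow 11 ↥H) % 11 = 1 := card_sylow_modEq_one 11 ↥H
      revert hdvd hmod
      generalize Nat.card (Sylow 11 ↥H) = n
      intro hdvd hmod
      obtain ⟨c, d, hc, hd', rfl⟩ := Nat.dvd_mul.mp hdvd
      have hc' : c ∈ Nat.divisors 16 := Nat.mem_divisors.mpr ⟨hc, by norm_num⟩
      have hd'' : d ∈ Nat.divisors 11 := Nat.mem_divisors.mpr ⟨hd', by norm_num⟩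
      fin_cases hc' <;> fin_cases hd'' <;> omega
    have hn : ((P : Subgroup G).subgroupOf ((P : Subgroup G) ⊔ K)).Normal := by
      have := (Nat.card_eq_one_iff_unique.mp hone).1
      exact Sylow.normal_of_subsingleton (P.subtype hle)
    have hKN : K ≤ normalizer ((P : Subgroup G) : Set G) :=
      le_sup_right.trans ((normal_subgroupOf_iff_le_normalizer hle).mp hn)
    intro k hk
    rw [mem_centralizer_iff]
    intro u hu
    have h1 : k * u * k⁻¹ * u⁻¹ ∈ (P : Subgroup G) :=
      mul_mem ((mem_normalizer_iff.mp (hKN hk) u).mp hu) (inv_mem hu)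
    have h2 : k * u * k⁻¹ * u⁻¹ ∈ K := by
      rw [show k * u * k⁻¹ * u⁻¹ = k * (u * k⁻¹ * u⁻¹) by group]
      exact mul_mem hk ((inferInstance : K.Normal).conj_mem _ (inv_mem hk) u)
    have h := eq_one_of_pows (pow_eq_one_of_card_dvd (n := 11) (dvd_of_eq (card_P' hord P)) h1)
      (pow_eq_one_of_card_dvd (n := 16) hK16 h2) (by norm_num)
    calc u * k = (k * u * k⁻¹ * u⁻¹)⁻¹ * (k * u) := by group
      _ = k * u := by rw [h, inv_one, one_mul]
  obtain ⟨P⟩ : Nonempty (Sylow 11 G) := inferInstance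
  have hmul := card_normalizer_mul P
  rw [hord] at hmul
  rcases card_sylow_eleven hord A hA hcon with hn | hn <;> rw [hn] at hmul
  · set C := centralizer (K : Set G)
    have hPC : (P : Subgroup G) ≤ C := fun u hu => mem_centralizer_iff.mpr fun k hk =>
      (mem_centralizer_iff.mp (hPK P hk) u hu).symm
    have htop : normalizer ((P : Subgroup G) : Set G) ⊔ C = ⊤ := Sylow.normalizer_sup_eq_top' P hPC
    have hidx : C.index ∣ Nat.card (normalizer ((P : Subgroup G) : Set G)) := by
      rw [← relIndex_top_right]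
      have h := relIndex_dvd_card C (normalizer ((P : Subgroup G) : Set G))
      rw [← relIndex_sup_right, htop] at h
      exact h
    have h5C : 5 ∣ Nat.card C := by
      have hd : 5 ∣ C.index * Nat.card C := by rw [C.index_mul_card, hord]; norm_num
      rcases (Nat.Prime.dvd_mul (by norm_num)).mp hd with h | h
      · have := h.trans hidx
        omega
      · exact h
    have h2K : 2 ∣ Nat.card K := by
      rcases hr235 with rfl | rfl | rfl
      · exact hrK
      · exact absurd hrK h3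
      · exact absurd hrK h5
    obtain ⟨⟨a, ha⟩, hao⟩ := exists_prime_orderOf_dvd_card' 2 h2K
    obtain ⟨⟨b, hb⟩, hbo⟩ := exists_prime_orderOf_dvd_card' 5 h5C
    rw [← Subgroup.orderOf_coe] at hao hbo
    exact (hA 2 5 Nat.prime_two (by norm_num) (by norm_num) (by norm_num) (by norm_num)
      ⟨a, b, mem_centralizer_iff.mp hb a ha, hao, hbo⟩).symm.trans e2
  · exfalso
    have h55 := card_dvd_of_le ((hPK P).trans (centralizer_le_normalizer _))
    rw [show Nat.card (normalizer ((P : Subgroup G) : Set G)) = 55 by omega] at h55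
    have := Nat.dvd_gcd hK16 h55
    exact hK (Subgroup.card_eq_one.mp (Nat.dvd_one.mp this))

include hord hA hcon in
/-- The group is simple. -/
theorem isSimple : IsSimpleGroup G := by
  have : Nontrivial G := Finite.one_lt_card_iff_nontrivial.mp (by rw [hord]; norm_num)
  refine ⟨fun N₀ hN₀ => ?_⟩
  by_contra hne
  push_neg at hne
  obtain ⟨hbot, htop⟩ := hne
  obtain ⟨M, hMn, hM1, hMN, hmin⟩ := CfsgLib.Solvable.Basic.exists_minimal_normal_le (H := N₀) hbot
  have hMtop : M ≠ ⊤ := fun h => htop (top_le_iff.mp (h ▸ hMN))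
  have h11 := eleven_dvd_of_normal hord A hA hcon M hM1
  have hPM : ∀ P : Sylow 11 G, (P : Subgroup G) ≤ M := by
    obtain ⟨⟨y, hy⟩, hyo⟩ := exists_prime_orderOf_dvd_card' 11 h11
    rw [← Subgroup.orderOf_coe] at hyo
    simp only at hyo
    obtain ⟨P₀, hle⟩ := (IsPGroup.of_card (n := 1) (G := ↥(zpowers y))
      (by rw [Nat.card_zpowers, hyo, pow_one])).exists_le_sylow
    have hP₀ : (P₀ : Subgroup G) ≤ M := by
      rw [← Subgroup.eq_of_le_of_card_ge hle (by rw [card_P' hord P₀, Nat.card_zpowers, hyo])]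
      exact zpowers_le.mpr hy
    intro P
    obtain ⟨g, rfl⟩ := MulAction.exists_smul_eq G P₀ P
    intro x hx
    obtain ⟨w, hw, rfl⟩ := mem_map.mp hx
    exact hMn.conj_mem w (hP₀ hw) g
  obtain ⟨P⟩ : Nonempty (Sylow 11 G) := inferInstance
  set N := normalizer ((P : Subgroup G) : Set G)
  -- `M` is simple
  have hsimple : IsSimpleGroup ↥M := by
    have : Nontrivial ↥M := (Subgroup.nontrivial_iff_ne_bot M).mpr hM1
    refine ⟨fun L hL => ?_⟩
    by_cases hL1 : L = ⊥
    · exact Or.inl hL1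
    right
    by_cases h11L : 11 ∣ Nat.card L
    · have hall : ∀ Q : Sylow 11 ↥M, (Q : Subgroup ↥M) ≤ L := by
        obtain ⟨Q₁⟩ : Nonempty (Sylow 11 ↥L) := inferInstance
        obtain ⟨Q₀, hQ₀⟩ := (Q₁.isPGroup'.map L.subtype).exists_le_sylow
        have hQ₀L : (Q₀ : Subgroup ↥M) ≤ L := by
          have h1 : Nat.card (Q₀ : Subgroup ↥M) ∣ 11 := by
            obtain ⟨i, hi⟩ := IsPGroup.iff_card.mp Q₀.isPGroup'
            have hd : 11 ^ i ∣ 7920 := hord ▸ (hi ▸ Q₀.1.card_subgroup_dvd_card).trans M.card_subgroup_dvd_card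
            have := le_of_pow_dvd (m := 1) (by norm_num) hd
            rw [hi]
            interval_cases i <;> norm_num
          rw [← Subgroup.eq_of_le_of_card_ge hQ₀ (by
            rw [card_map_of_injective L.subtype_injective]
            refine (Nat.le_of_dvd (by norm_num) h1).trans ?_
            exact Nat.le_of_dvd Nat.card_pos (Q₁.dvd_card_of_dvd_card h11L))]
          exact map_subtype_le _
        intro Q
        obtain ⟨g, rfl⟩ := MulAction.exists_smul_eq ↥M Q₀ Q
        intro x hx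
        obtain ⟨w, hw, rfl⟩ := mem_map.mp hx
        exact hL.conj_mem w (hQ₀L hw) g
      set L' := L.map M.subtype
      have hPL : ∀ P' : Sylow 11 G, (P' : Subgroup G) ≤ L' := fun P' x hx =>
        mem_map.mpr ⟨⟨x, hPM P' hx⟩, hall (P'.subtype (hPM P')) hx, rfl⟩
      have hcore : L'.normalCore = M := by
        refine (hmin _ inferInstance ((normalCore_le _).trans (map_subtype_le _))).resolve_left fun h => ?_
        have hle : (P : Subgroup G) ≤ L'.normalCore := fun x hx g =>
          hPL (g • P) (mem_map.mpr ⟨x, hx, rfl⟩)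
        rw [h] at hle
        exact P.ne_bot_of_dvd_card (by rw [hord]; norm_num) (le_bot_iff.mp hle)
      rw [eq_top_iff]
      intro x _
      have hx : (x : G) ∈ L'.normalCore := hcore.symm ▸ x.2
      obtain ⟨w, hw, e⟩ := mem_map.mp (normalCore_le _ hx)
      rwa [← M.subtype_injective e]
    · exfalso
      obtain ⟨hOn, hOc, hO⟩ := CfsgLib.PGroup.TISeparable.greatest_coprime (G := ↥M) 11
      set O := sSup {K : Subgroup ↥M | K.Normal ∧ (Nat.card K).Coprime 11}
      have hLO : L ≤ O := hO L hL ((Nat.Prime.coprime_iff_not_dvd (by norm_num)).mpr h11L).symm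
      have hO' : (O.map M.subtype).Normal := by
        refine ⟨fun x hx g => ?_⟩
        obtain ⟨w, hw, rfl⟩ := mem_map.mp hx
        have hle := hO (O.map (MulAut.conjNormal (H := M) g).toMonoidHom)
          (hOn.map _ (MulEquiv.surjective _))
          (by rw [card_map_of_injective (f := (MulAut.conjNormal (H := M) g).toMonoidHom) (MulEquiv.injective _)]; exact hOc)
        refine mem_map.mpr ⟨MulAut.conjNormal g w, hle (mem_map.mpr ⟨w, hw, rfl⟩), ?_⟩
        exact MulAut.conjNormal_apply g w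
      by_cases hO1 : O.map M.subtype = ⊥
      · exact hL1 (le_bot_iff.mp (hLO.trans (le_of_eq ((map_eq_bot_iff_of_injective _ M.subtype_injective).mp hO1))))
      · have := eleven_dvd_of_normal hord A hA hcon _ hO1
        rw [card_map_of_injective M.subtype_injective] at this
        exact (Nat.Prime.coprime_iff_not_dvd (by norm_num)).mp hOc.symm this
  -- the Sylow count in `M`
  set P' : Sylow 11 ↥M := P.subtype (hPM P)
  have hnorm : normalizer (((P' : Sylow 11 ↥M) : Subgroup ↥M) : Set ↥M) = N.subgroupOf M :=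
    (subgroupOf_normalizer_eq (hPM P)).symm
  have hnM : Nat.card (Sylow 11 ↥M) = Nat.card (Sylow 11 G) := by
    rw [P'.card_eq_index_normalizer, P.card_eq_index_normalizer]
    show (normalizer (((P' : Sylow 11 ↥M) : Subgroup ↥M) : Set ↥M)).index = N.index
    rw [hnorm]
    have htop' : N ⊔ M = ⊤ := Sylow.normalizer_sup_eq_top' P (hPM P)
    have h1 : M.index = (M.subgroupOf N).index := by
      rw [← relIndex_top_right, ← htop', relIndex_sup_right]; rfl
    have h2 : Nat.card (M.subgroupOf N) = Nat.card (N.subgroupOf M) := by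
      rw [← card_map_of_injective N.subtype_injective, ← card_map_of_injective M.subtype_injective,
        subgroupOf_map_subtype, subgroupOf_map_subtype, inf_comm]
    have h3 := (M.subgroupOf N).index_mul_card
    have h4 := (N.subgroupOf M).index_mul_card
    have h5 := N.index_mul_card
    have h6 := M.index_mul_card
    rw [← h1, h2] at h3
    refine Nat.eq_of_mul_eq_mul_right (Nat.card_pos (α := N.subgroupOf M)) ?_
    refine Nat.eq_of_mul_eq_mul_right (Nat.pos_of_ne_zero M.index_ne_zero_of_finite) ?_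
    calc (N.subgroupOf M).index * Nat.card (N.subgroupOf M) * M.index = M.index * Nat.card M := by
          rw [h4, mul_comm]
      _ = N.index * Nat.card N := h6.trans h5.symm
      _ = N.index * (M.index * Nat.card (N.subgroupOf M)) := by rw [h3]
      _ = _ := by ring
  have hM7 : Nat.card M ∣ 7920 := hord ▸ M.card_subgroup_dvd_card
  have hMne : Nat.card M ≠ 7920 := fun h => hMtop (Subgroup.eq_top_of_card_eq M (h.trans hord.symm))
  have hP' : Nat.card (P' : Subgroup ↥M) = 11 :=
    (Nat.card_congr (subgroupOfEquivOfLe (hPM P)).toEquiv).trans (card_P' hord P)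
  have hna : ¬ IsMulCommutative ↥M := by
    intro hc
    have hn1 : Nat.card (Sylow 11 ↥M) = 1 := by
      rw [P'.card_eq_index_normalizer, index_eq_one]
      exact eq_top_iff.mpr fun x _ => mem_normalizer_iff.mpr fun y => by
        rw [show x * y * x⁻¹ = y by rw [hc.is_comm.comm x y, mul_inv_cancel_right]]
    rw [hnM] at hn1
    rcases card_sylow_eleven hord A hA hcon with h | h <;> omega
  have hmul := card_normalizer_mul P'
  rw [hnM] at hmul
  have hself : Nat.card (normalizer (((P' : Sylow 11 ↥M) : Subgroup ↥M) : Set ↥M)) ≠ 11 := fun h => by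
    have hcyc : IsCyclic ↥(P' : Subgroup ↥M) := isCyclic_of_prime_card hP'
    exact ne_card_normalizer_eq hna (hP' ▸ card_subgroup_dvd_card _) P' hcyc.isMulCommutative.is_comm.comm
      (h.trans hP'.symm)
  obtain ⟨c, hc⟩ := Subgroup.card_dvd_of_le (le_normalizer (H := (P' : Subgroup ↥M)))
  rw [hP'] at hc
  rw [hc] at hmul hself
  rcases card_sylow_eleven hord A hA hcon with hn | hn <;> rw [hn] at hmul
  · have hc16 : c ∣ 16 := by
      rw [← hmul, ← mul_assoc] at hM7
      exact (Nat.mul_dvd_mul_iff_left (by norm_num : 0 < 45 * 11)).mp hM7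
    have hcm : c ∈ Nat.divisors 16 := Nat.mem_divisors.mpr ⟨hc16, by norm_num⟩
    fin_cases hcm
    · exact hself rfl
    · have h990 : Nat.card ↥M = 990 := by omega
      obtain ⟨S⟩ : Nonempty (Sylow 2 ↥M) := inferInstance
      refine not_isCyclic_of_minFac hna (p := 2) ((Nat.minFac_eq_two_iff _).mpr (by rw [h990]; norm_num))
        (by rw [h990]; norm_num) S ?_
      exact isCyclic_of_prime_card (p := 2)
        ((card_sylow_subgroup (k := 1) (m := 495) (by rw [h990]; norm_num) (by norm_num) S).trans (pow_one _))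
    · exact false_of_simple hna (Or.inl rfl) (by omega) (hnM.trans hn)
    · exact false_of_simple hna (Or.inr rfl) (by omega) (hnM.trans hn)
    · omega
  · have hc5 : c ∣ 5 := by
      rw [← hmul, ← mul_assoc] at hM7
      exact (Nat.mul_dvd_mul_iff_left (by norm_num : 0 < 144 * 11)).mp hM7
    rcases (Nat.dvd_prime (by norm_num)).mp hc5 with rfl | rfl
    · exact hself rfl
    · omega

end

end CfsgLib.KGroups.Order7920
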