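import Cfsg.Agent.Lib.KGroups.ClosureControl
import Cfsg.Agent.Lib.KGroups.Functor.Section
import Cfsg.Agent.Lib.Components.Constrained

/-!
Two functors `W₁`, `W₂` such that every section `Y` with `C_Y(O_p(Y)) ≤ O_p(Y)` is the product of the
normalizers of `W₁(T)` and `W₂(T)`, `T` a Sylow `p`-subgroup of `Y`: then the fusion in a Sylow subgroup `S` of
the whole group is made of steps in the normalizers of `W₁(S)` and `W₂(S)`.
-/

set_option autoImplicit false
set_option linter.style.haveILetI false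
set_option linter.unusedSectionVars false

namespace CfsgLib.KGroups.SectionFactor

open CfsgLib.LocalEven.SylowIn
open CfsgLib.KGroups.ClosureControl (cj cj_one cj_cj mem_cj cj_eq conj_cent cj_of_cent sylowIn_inf)
open scoped commutatorElement

universe u

/-! ### Fusion made of steps -/

section Fus

variable {G : Type u} [Group G] [Finite G]

/-- `g` acts on `A` as a composite of steps in `σ` inside `P` and of centralizing elements. -/
inductive Fus (σ : Set G) (P : Subgroup G) : Subgroup G → G → Prop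
  | cent {A : Subgroup G} {g : G} : g ∈ Subgroup.centralizer (A : Set G) → Fus σ P A g
  | step {A : Subgroup G} {g : G} : g ∈ σ → cj g A ≤ P → Fus σ P A g
  | comp {A : Subgroup G} {g g' : G} : Fus σ P A g → Fus σ P (cj g A) g' → Fus σ P A (g' * g)

variable {σ : Set G} {P A : Subgroup G} {g : G}

theorem Fus.image_le (h : Fus σ P A g) : A ≤ P → cj g A ≤ P := by
  induction h with
  | cent hc => intro hA; rwa [cj_of_cent hc]
  | step _ hle => exact fun _ => hle
  | comp _ _ ih ih' => intro hA; rw [← cj_cj]; exact ih' (ih hA)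

theorem Fus.anti (h : Fus σ P A g) : ∀ {B : Subgroup G}, B ≤ A → Fus σ P B g := by
  induction h with
  | cent hc => intro B hB; exact .cent (Subgroup.centralizer_le hB hc)
  | step hg hle => intro B hB; exact .step hg ((Subgroup.map_mono hB).trans hle)
  | comp _ _ ih ih' => intro B hB; exact .comp (ih hB) (ih' (Subgroup.map_mono hB))

theorem Fus.symm (hσ : ∀ x ∈ σ, x⁻¹ ∈ σ) (h : Fus σ P A g) : A ≤ P → Fus σ P (cj g A) g⁻¹ := by
  induction h with
  | cent hc => intro _; rw [cj_of_cent hc]; exact .cent (inv_mem hc)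
  | step hg _ =>
    intro hA
    refine .step (hσ _ hg) ?_
    rw [cj_cj, inv_mul_cancel, cj_one]
    exact hA
  | @comp A g g' h₁ _ ih ih' =>
    intro hA
    rw [mul_inv_rev, ← cj_cj]
    refine .comp (ih' (h₁.image_le hA)) ?_
    rw [cj_cj g'⁻¹, inv_mul_cancel, cj_one]
    exact ih hA

/-- Transport along a homomorphism. -/
theorem Fus.map {H : Type u} [Group H] [Finite H] (f : G →* H) {τ : Set H} (hf : ∀ x ∈ σ, f x ∈ τ)
    (h : Fus σ P A g) : Fus τ (P.map f) (A.map f) (f g) := by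
  have hcj : ∀ (x : G) (B : Subgroup G), cj (f x) (B.map f) = (cj x B).map f := by
    intro x B
    show (B.map f).map _ = (B.map _).map f
    rw [Subgroup.map_map, Subgroup.map_map]
    congr 1
    ext z
    simp [map_mul, map_inv]
  induction h with
  | @cent A g hc =>
    refine .cent (Subgroup.mem_centralizer_iff.mpr ?_)
    rintro _ ⟨a, ha, rfl⟩
    rw [← map_mul, ← map_mul, Subgroup.mem_centralizer_iff.mp hc a ha]
  | step hg hle => exact .step (hf _ hg) (by rw [hcj]; exact Subgroup.map_mono hle)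
  | @comp A g g' _ _ ih ih' =>
    rw [map_mul]
    exact .comp ih (by rw [hcj]; exact ih')

end Fus

/-! ### Elementary lemmas -/

section Elem

variable {G : Type u} [Group G] [Finite G] {p : ℕ} [Fact p.Prime]

theorem sylow_isSylowIn (S : Sylow p G) {M : Subgroup G} (hM : (S : Subgroup G) ≤ M) :
    IsSylowIn p (S : Subgroup G) M := ⟨hM, S.2, fun _ _ hUp hle => S.3 hUp hle⟩

/-- A subgroup `O ⊔ V`, `O` of order prime to `p` normalized by the `p`-group `V`, has `V` as Sylow subgroup. -/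
theorem sylow_sup {O V : Subgroup G} (hV : IsPGroup p V) (hO : (Nat.card O).Coprime p)
    (hn : V ≤ Subgroup.normalizer (O : Set G)) : IsSylowIn p V (V ⊔ O) := by
  refine Functor.isSylowIn_of_not_dvd le_sup_left hV fun hd => ?_
  have h1 : Nat.card ↥(V ⊔ O) = Nat.card V * Nat.card O := by
    rw [← Nat.card_prod]
    refine (Nat.card_congr (Equiv.ofBijective
      (fun g : ↥V × ↥O => (⟨g.1 * g.2, Subgroup.mul_mem_sup g.1.2 g.2.2⟩ : ↥(V ⊔ O))) ⟨?_, ?_⟩)).symm
    · intro a b h
      refine Subgroup.mul_injective_of_disjoint ?_ (congrArg Subtype.val h)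
      obtain ⟨k, hk⟩ := hV.exists_card_eq
      refine Subgroup.disjoint_of_coprime_natCard ?_
      rw [hk]
      exact hO.symm.pow_left k
    · rintro ⟨x, hx⟩
      rw [← SetLike.mem_coe, Subgroup.coe_mul_of_left_le_normalizer_right V O hn] at hx
      obtain ⟨v, hv, o, ho, rfl⟩ := hx
      exact ⟨(⟨v, hv⟩, ⟨o, ho⟩), rfl⟩
  have h2 := (V.subgroupOf (V ⊔ O)).card_mul_index
  rw [Nat.card_congr (Subgroup.subgroupOfEquivOfLe (le_sup_left : V ≤ V ⊔ O)).toEquiv, h1] at h2
  have h3 : V.relIndex (V ⊔ O) = Nat.card O := Nat.eq_of_mul_eq_mul_left Nat.card_pos h2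
  exact (Fact.out : p.Prime).coprime_iff_not_dvd.mp hO.symm (h3 ▸ hd)

theorem inf_eq_bot {O V : Subgroup G} (hV : IsPGroup p V) (hO : (Nat.card O).Coprime p) : V ⊓ O = ⊥ := by
  obtain ⟨k, hk⟩ := hV.exists_card_eq
  refine (Subgroup.disjoint_of_coprime_natCard ?_).eq_bot
  rw [hk]
  exact hO.symm.pow_left k

/-- An element normalizing `O ⊔ V` modulo `O` can be corrected to normalize `V`. -/
theorem lift_normalizer {O V M : Subgroup G} (hV : IsPGroup p V) (hVM : V ≤ M)
    (hO : (Nat.card O).Coprime p) (hMO : M ≤ Subgroup.normalizer (O : Set G)) {a : G} (ha : a ∈ M)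
    (haV : cj a V ≤ V ⊔ O) : ∃ o ∈ O, o * a ∈ Subgroup.normalizer (V : Set G) := by
  have hs := sylow_sup hV hO (hVM.trans hMO)
  have hcjO : cj a O = O := cj_eq.mpr (hMO ha)
  have h2 : IsSylowIn p (cj a V) (V ⊔ O) := by
    have := hs.map_conj a
    have e : (V ⊔ O).map (MulAut.conj a).toMonoidHom = V ⊔ O := by
      refine Subgroup.eq_of_le_of_card_ge ?_ (Subgroup.card_map_of_injective (MulAut.conj a).injective).ge
      rw [Subgroup.map_sup]
      exact sup_le haV (hcjO.le.trans le_sup_right)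
    rwa [e] at this
  obtain ⟨l, hl, e⟩ := h2.conjugate hs
  rw [← SetLike.mem_coe, Subgroup.coe_mul_of_left_le_normalizer_right V O (hVM.trans hMO)] at hl
  obtain ⟨v, hv, o, ho, rfl⟩ := hl
  refine ⟨o, ho, cj_eq.mp ?_⟩
  have e' : V = cj (v * o) (cj a V) := e
  calc cj (o * a) V = cj v⁻¹ (cj (v * o) (cj a V)) := by rw [cj_cj, cj_cj, inv_mul_cancel_left]
    _ = cj v⁻¹ V := by rw [← e']
    _ = V := cj_eq.mpr (inv_mem (Subgroup.le_normalizer hv))

/-- Absorbing a factor of order prime to `p`. -/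
theorem absorb {O D T Y : Subgroup G} (hT : IsPGroup p T) (hTD : T ≤ D) (hO : (Nat.card O).Coprime p)
    (hn : D ≤ Subgroup.normalizer (O : Set G)) {n o : G} (hnD : n ∈ D) (ho : o ∈ O)
    (hY : Y ≤ T) (hgY : cj (n * o) Y ≤ T) :
    ∃ d ∈ D, cj d Y ≤ T ∧ d⁻¹ * (n * o) ∈ Subgroup.centralizer (Y : Set G) := by
  set g := n * o with hg
  set R := cj g Y with hR
  set OD := O ⊓ D with hOD
  have hDOD : D ≤ Subgroup.normalizer (OD : Set G) :=
    le_normalizer_of_map_conj fun x hx => by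
      rw [hOD, Subgroup.map_inf _ _ _ (MulAut.conj x).injective, map_conj_eq_iff.mpr (hn hx),
        map_conj_eq_iff.mpr (Subgroup.le_normalizer hx)]
  have hRD : R ≤ D := hgY.trans hTD
  have hRp : IsPGroup p R := hT.to_le hgY
  have hODc : (Nat.card OD).Coprime p := hO.coprime_dvd_left (Subgroup.card_dvd_of_le inf_le_left)
  have hY₀ : ∀ y ∈ Y, n * y * n⁻¹ ∈ D := fun y hy =>
    D.mul_mem (D.mul_mem hnD (hTD (hY hy))) (D.inv_mem hnD)
  have hcong : ∀ y ∈ Y, (g * y * g⁻¹)⁻¹ * (n * y * n⁻¹) ∈ OD := by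
    intro y hy
    refine ⟨?_, D.mul_mem (D.inv_mem (hRD ⟨y, hy, rfl⟩)) (hY₀ y hy)⟩
    rw [show (g * y * g⁻¹)⁻¹ * (n * y * n⁻¹) = n * (o * (y⁻¹ * o⁻¹ * y)) * n⁻¹ by rw [hg]; group]
    refine (Subgroup.mem_normalizer_iff.mp (hn hnD) _).mp (O.mul_mem ho ?_)
    have := (Subgroup.mem_normalizer_iff.mp (hn (D.inv_mem (hTD (hY hy)))) _).mp (O.inv_mem ho)
    rwa [inv_inv] at this
  have hle : cj n Y ≤ R ⊔ OD := by
    rintro _ ⟨y, hy, rfl⟩
    show n * y * n⁻¹ ∈ _
    rw [show n * y * n⁻¹ = g * y * g⁻¹ * ((g * y * g⁻¹)⁻¹ * (n * y * n⁻¹)) by group]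
    exact Subgroup.mul_mem_sup ⟨y, hy, rfl⟩ (hcong y hy)
  have hs := sylow_sup hRp hODc (hRD.trans hDOD)
  have h2 : IsSylowIn p (cj n Y) (R ⊔ OD) := by
    refine ⟨hle, (hT.to_le hY).map _, fun U hU hUp hYU => (Subgroup.eq_of_le_of_card_ge hYU ?_).symm⟩
    obtain ⟨U', hU', hUU'⟩ := exists_isSylowIn (R ⊔ OD) hU hUp
    obtain ⟨l, -, e⟩ := hs.conjugate hU'
    refine (Subgroup.card_le_of_le hUU').trans (le_of_eq ?_)
    rw [e, Subgroup.card_map_of_injective (MulAut.conj l).injective, hR,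
      Subgroup.card_map_of_injective (MulAut.conj g).injective,
      Subgroup.card_map_of_injective (MulAut.conj n).injective]
  obtain ⟨l, hl, e⟩ := h2.conjugate hs
  rw [← SetLike.mem_coe, Subgroup.coe_mul_of_left_le_normalizer_right R OD (hRD.trans hDOD)] at hl
  obtain ⟨r, hr, o', ho', rfl⟩ := hl
  have e' : R = cj (r * o') (cj n Y) := e
  have hdR : cj (o' * n) Y = R := by
    calc cj (o' * n) Y = cj r⁻¹ (cj (r * o') (cj n Y)) := by rw [cj_cj, cj_cj, inv_mul_cancel_left]
      _ = cj r⁻¹ R := by rw [← e']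
      _ = R := cj_eq.mpr (inv_mem (Subgroup.le_normalizer hr))
  refine ⟨o' * n, D.mul_mem ho'.2 hnD, hdR.le.trans hgY, Subgroup.mem_centralizer_iff.mpr fun y hy => ?_⟩
  have h3 : (g * y * g⁻¹)⁻¹ * (o' * n * y * (o' * n)⁻¹) ∈ R ⊓ O := by
    refine ⟨R.mul_mem (R.inv_mem ⟨y, hy, rfl⟩) (hdR.le ⟨y, hy, rfl⟩), ?_⟩
    rw [show (g * y * g⁻¹)⁻¹ * (o' * n * y * (o' * n)⁻¹) =
      ((g * y * g⁻¹)⁻¹ * o' * (g * y * g⁻¹)⁻¹⁻¹) * ((g * y * g⁻¹)⁻¹ * (n * y * n⁻¹)) * o'⁻¹ by group]
    exact O.mul_mem (O.mul_mem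
      ((Subgroup.mem_normalizer_iff.mp (hn (D.inv_mem (hRD ⟨y, hy, rfl⟩))) o').mp ho'.1) (hcong y hy).1)
      (O.inv_mem ho'.1)
  rw [inf_eq_bot hRp hO, Subgroup.mem_bot, inv_mul_eq_one] at h3
  calc y * ((o' * n)⁻¹ * g) = (o' * n)⁻¹ * (o' * n * y * (o' * n)⁻¹) * g := by group
    _ = (o' * n)⁻¹ * (g * y * g⁻¹) * g := by rw [h3]
    _ = (o' * n)⁻¹ * g * y := by group

/-- Fusion in a product of two subgroups containing the Sylow subgroup. -/
theorem product_split {T A B Y : Subgroup G} (hTA : T ≤ A) (hTB : T ≤ B)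
    (hT : IsSylowIn p T (A ⊓ B)) (hY : Y ≤ T) {a b : G} (ha : a ∈ A) (hb : b ∈ B)
    (hle : cj (a * b) Y ≤ T) : ∃ a' ∈ A, ∃ b' ∈ B, a * b = a' * b' ∧ cj b' Y ≤ T := by
  have h1 : cj b Y ≤ A ⊓ B := by
    refine le_inf ?_ ?_
    · rintro x hx
      have hx' : a * x * a⁻¹ ∈ A := hTA (hle (by rw [← cj_cj]; exact ⟨x, hx, rfl⟩))
      have := A.mul_mem (A.mul_mem (A.inv_mem ha) hx') ha
      rwa [show a⁻¹ * (a * x * a⁻¹) * a = x by group] at this
    · rintro _ ⟨y, hy, rfl⟩
      exact B.mul_mem (B.mul_mem hb (hTB (hY hy))) (B.inv_mem hb)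
  obtain ⟨U, hU, hYU⟩ := exists_isSylowIn (p := p) (A ⊓ B) h1 ((hT.2.1.to_le hY).map _)
  obtain ⟨d, hd, e⟩ := hU.conjugate hT
  refine ⟨a * d⁻¹, A.mul_mem ha (A.inv_mem hd.1), d * b, B.mul_mem hd.2 hb, by group, ?_⟩
  rw [← cj_cj]
  exact (Subgroup.map_mono hYU).trans e.ge

end Elem

/-! ### The hypothesis on sections -/

variable {p : ℕ} [Fact p.Prime] (W₁ W₂ : ∀ (Q : Type u) [Group Q], Subgroup Q)

/-- The steps. -/
def steps (X : Type u) [Group X] (T : Subgroup X) : Set X :=
  {b | b ∈ Subgroup.normalizer (Cfsg.inducedFunctor W₁ T : Set X) ∨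
    b ∈ Subgroup.normalizer (Cfsg.inducedFunctor W₂ T : Set X)}

variable (p)

/-- Factorizations of the constrained sections of `G`. -/
def Fac (G : Type u) [Group G] : Prop :=
  ∀ (Y : Type u) [Group Y] [Finite Y], Functor.Sec G Y →
    Subgroup.centralizer (Cfsg.pCore p Y : Set Y) ≤ Cfsg.pCore p Y → ∀ T : Sylow p Y,
      (∀ y : Y, ∃ a b, y = a * b ∧
        (∀ z ∈ (T : Subgroup Y), (∀ t ∈ (T : Subgroup Y), t * z = z * t) → z ^ p = 1 → z * a = a * z) ∧
        b ∈ Subgroup.normalizer (Cfsg.inducedFunctor W₁ (T : Subgroup Y) : Set Y)) ∧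
      (∀ y : Y, ∃ a b, y = a * b ∧
        (∀ z ∈ (T : Subgroup Y), (∀ t ∈ (T : Subgroup Y), t * z = z * t) → z ^ p = 1 → z * a = a * z) ∧
        b ∈ Subgroup.normalizer (Cfsg.inducedFunctor W₂ (T : Subgroup Y) : Set Y)) ∧
      ∀ y : Y, ∃ a ∈ Subgroup.normalizer (Cfsg.inducedFunctor W₁ (T : Subgroup Y) : Set Y),
        ∃ b ∈ Subgroup.normalizer (Cfsg.inducedFunctor W₂ (T : Subgroup Y) : Set Y), y = a * b

/-- The conclusion, for the group `X`. -/
def Goal (X : Type u) [Group X] : Prop :=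
  ∀ S : Sylow p X, ∀ A : Subgroup X, A ≤ (S : Subgroup X) → ∀ g : X, cj g A ≤ (S : Subgroup X) →
    Fus (steps W₁ W₂ X (S : Subgroup X)) (S : Subgroup X) A g

variable {p W₁ W₂}
variable (hW₁ : Cfsg.IsCharPFunctor.{u} p W₁) (hW₂ : Cfsg.IsCharPFunctor.{u} p W₂)
variable {X : Type u} [Group X] [Finite X]

theorem steps_inv {T : Subgroup X} : ∀ x ∈ steps W₁ W₂ X T, x⁻¹ ∈ steps W₁ W₂ X T :=
  fun _ hx => hx.elim (fun h => Or.inl (inv_mem h)) (fun h => Or.inr (inv_mem h))

theorem normalizer_le_normalizer_ind {W : ∀ (Q : Type u) [Group Q], Subgroup Q}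
    (hW : Cfsg.IsCharPFunctor.{u} p W) {T : Subgroup X} (hT : IsPGroup p T) :
    Subgroup.normalizer (T : Set X) ≤ Subgroup.normalizer (Cfsg.inducedFunctor W T : Set X) :=
  le_normalizer_of_map_conj fun x hx => by
    rw [← (Functor.isConjugacyFunctor_induced hW T hT).2.2 x, map_conj_eq_iff.mpr hx]

include hW₁ hW₂ in
/-- Fusion inside a subgroup. -/
theorem local_fus {J : Subgroup X} (hgoal : Goal p W₁ W₂ ↥J) {T : Subgroup X} (hT : IsSylowIn p T J)
    {A : Subgroup X} (hA : A ≤ T) {g : X} (hg : g ∈ J) (hle : cj g A ≤ T) :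
    Fus (steps W₁ W₂ X T) T A g := by
  set T₀ := hT.toSylow with hT₀
  have hmapT : (T₀ : Subgroup J).map J.subtype = T := hT.toSylow_map
  have h := hgoal T₀ (A.subgroupOf J) (fun a ha => ?_) ⟨g, hg⟩ ?_
  · have h2 := h.map J.subtype (τ := steps W₁ W₂ X T) ?_
    · rwa [hmapT, Subgroup.map_subgroupOf_eq_of_le (hA.trans hT.1)] at h2
    · intro x hx
      refine hx.imp (fun h => ?_) (fun h => ?_)
      · rw [← hmapT, Functor.inducedFunctor_map hW₁ J.subtype T₀.isPGroup' J.subtype_injective.injOn]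
        exact Subgroup.le_normalizer_map _ ⟨x, h, rfl⟩
      · rw [← hmapT, Functor.inducedFunctor_map hW₂ J.subtype T₀.isPGroup' J.subtype_injective.injOn]
        exact Subgroup.le_normalizer_map _ ⟨x, h, rfl⟩
  · exact (Subgroup.mem_map_iff_mem J.subtype_injective).mp (hmapT.ge (hA ha))
  · rintro _ ⟨a, ha, rfl⟩
    exact (Subgroup.mem_map_iff_mem J.subtype_injective).mp (hmapT.ge (hle ⟨(a : X), ha, rfl⟩))

/-- All `p`-elements centralizing `K` lie in `K`. -/
def Cent (p : ℕ) (K : Subgroup X) : Prop :=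
  ∀ z ∈ Subgroup.centralizer (K : Set X), IsPGroup p (Subgroup.zpowers z) → z ∈ K

theorem cent_sup (S : Sylow p X) {V : Subgroup X} (hV : V ≤ (S : Subgroup X))
    (hn : (S : Subgroup X) ≤ Subgroup.normalizer (V : Set X)) :
    Cent p (V ⊔ ((S : Subgroup X) ⊓ Subgroup.centralizer (V : Set X))) ∧
      IsSylowIn p ((S : Subgroup X) ⊓ Subgroup.centralizer (V : Set X)) (Subgroup.centralizer (V : Set X)) ∧
      (S : Subgroup X) ≤
        Subgroup.normalizer ((V ⊔ ((S : Subgroup X) ⊓ Subgroup.centralizer (V : Set X)) : Subgroup X) : Set X) := by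
  set C := Subgroup.centralizer (V : Set X) with hC
  have hNC : Subgroup.normalizer (V : Set X) ≤ Subgroup.normalizer (C : Set X) :=
    le_normalizer_of_map_conj fun x hx => by rw [hC, ← centralizer_map_conj, map_conj_eq_iff.mpr hx]
  have hsyl : IsSylowIn p ((S : Subgroup X) ⊓ C) C :=
    sylowIn_inf (sylow_isSylowIn S hn) (Subgroup.centralizer_le_normalizer _) hNC
  refine ⟨fun z hz hzp => ?_, hsyl, ?_⟩
  · have hzV : z ∈ C := Subgroup.centralizer_le (show (V : Set X) ⊆ _ from fun v hv => Subgroup.mem_sup_left hv) hz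
    have hzD : Subgroup.zpowers z ≤ Subgroup.normalizer (((S : Subgroup X) ⊓ C : Subgroup X) : Set X) :=
      Subgroup.zpowers_le.mpr (Subgroup.centralizer_le_normalizer _
        (Subgroup.centralizer_le (fun v hv => Subgroup.mem_sup_right hv) hz))
    have h := hsyl.2.2 (((S : Subgroup X) ⊓ C) ⊔ Subgroup.zpowers z)
      (sup_le inf_le_right (Subgroup.zpowers_le.mpr hzV)) (hsyl.2.1.to_sup_of_normal_left' hzp hzD) le_sup_left
    exact Subgroup.mem_sup_right (h ▸ Subgroup.mem_sup_right (Subgroup.mem_zpowers z))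
  · refine le_normalizer_of_map_conj fun s hs => ?_
    rw [Subgroup.map_sup, Subgroup.map_inf _ _ _ (MulAut.conj s).injective, map_conj_eq_iff.mpr (hn hs),
      map_conj_eq_iff.mpr (Subgroup.le_normalizer hs), map_conj_eq_iff.mpr (hNC (hn hs))]

variable {G : Type u} [Group G] [Finite G]

include hW₁ hW₂ in
/-- A subgroup with a self-centralizing normal `p`-subgroup factorizes, up to a `p'`-group. -/
theorem constrained (hFac : Fac p W₁ W₂ G) (hX : Functor.Sec G X) {M K T : Subgroup X}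
    (hT : IsSylowIn p T M) (hKT : K ≤ T) (hMK : M ≤ Subgroup.normalizer (K : Set X)) (hK : Cent p K) :
    ∃ O : Subgroup X, O ≤ M ∧ M ≤ Subgroup.normalizer (O : Set X) ∧ (Nat.card O).Coprime p ∧
      (∀ x ∈ M, ∃ n₁ ∈ M ⊓ Subgroup.normalizer (Cfsg.inducedFunctor W₁ T : Set X),
        ∃ n₂ ∈ M ⊓ Subgroup.normalizer (Cfsg.inducedFunctor W₂ T : Set X), ∃ o ∈ O, x = n₁ * n₂ * o) ∧
      ∀ W ∈ ({fun (Q : Type u) [Group Q] => W₁ Q, fun (Q : Type u) [Group Q] => W₂ Q} :
          Set (∀ (Q : Type u) [Group Q], Subgroup Q)),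
        ∀ Z : Subgroup X, Z ≤ K → (∀ z ∈ Z, z ^ p = 1 ∧ ∀ t ∈ T, t * z = z * t) →
          ∀ x ∈ M, ∃ a ∈ Subgroup.centralizer (Z : Set X),
            ∃ b ∈ M ⊓ Subgroup.normalizer (Cfsg.inducedFunctor W T : Set X), x = a * b := by
  classical
  have hTM := hT.1
  have hKM := hKT.trans hTM
  set O' := Cfsg.pPrimeCore p ↥M with hO'
  have hO'c : (Nat.card O').Coprime p := CfsgLib.Solvable.Cores.coprime_card_pPrimeCore p
  set q := QuotientGroup.mk' O' with hq
  have hqs : Function.Surjective q := QuotientGroup.mk'_surjective O'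
  set K' := K.subgroupOf M with hK'
  haveI hK'n : K'.Normal := (Subgroup.normal_subgroupOf_iff_le_normalizer hKM).mpr hMK
  have hK'p : IsPGroup p K' := (hT.2.1.to_le hKT).of_equiv (Subgroup.subgroupOfEquivOfLe hKM).symm
  set C := Subgroup.centralizer (K' : Set ↥M) with hC
  haveI hCn : C.Normal := inferInstance
  -- the centralizer of `K`
  have hCle : C ≤ K' ⊔ O' := by
    set M₀ := (K' ⊓ C).subgroupOf C with hM₀
    haveI : M₀.Normal := Subgroup.Normal.subgroupOf inferInstance C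
    have hM₀c : ∀ m ∈ M₀, ∀ c : C, c * m = m * c := fun m hm c =>
      Subtype.ext (Subgroup.mem_centralizer_iff.mp c.2 _ hm.1).symm
    have hidx : M₀.index.Coprime p := by
      obtain ⟨R⟩ : Nonempty (Sylow p C) := inferInstance
      have hle : (R : Subgroup C) ≤ M₀ := by
        intro r hr
        refine ⟨?_, r.2⟩
        refine hK _ (Subgroup.mem_centralizer_iff.mpr fun k hk => ?_) ?_
        · exact congrArg Subtype.val (Subgroup.mem_centralizer_iff.mp r.2 ⟨k, hKM hk⟩ hk)
        · have := (R.2.to_le (Subgroup.zpowers_le.mpr hr)).map (M.subtype.comp C.subtype)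
          rwa [MonoidHom.map_zpowers] at this
      exact (((Fact.out : p.Prime).coprime_iff_not_dvd.mpr R.not_dvd_index).symm).coprime_dvd_left
        (Subgroup.index_dvd_of_le hle)
    have hM₀p : IsPGroup p M₀ :=
      (hK'p.to_le inf_le_left).of_equiv (Subgroup.subgroupOfEquivOfLe (inf_le_right : K' ⊓ C ≤ C)).symm
    obtain ⟨j, hj⟩ := hM₀p.exists_card_eq
    obtain ⟨D, hD⟩ := Subgroup.exists_right_complement'_of_coprime (N := M₀)
      (by rw [hj]; exact hidx.symm.pow_left j)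
    haveI hDn : D.Normal := by
      rw [← Subgroup.normalizer_eq_top_iff, eq_top_iff, ← hD.sup_eq_top]
      refine sup_le (fun m hm => Subgroup.centralizer_le_normalizer _ ?_) Subgroup.le_normalizer
      exact Subgroup.mem_centralizer_iff.mpr fun d _ => hM₀c m hm d
    have hDc : (Nat.card D).Coprime p := by
      refine hidx.coprime_dvd_left (dvd_of_eq ?_)
      have h := hD.card_mul
      rw [← M₀.card_mul_index] at h
      exact Nat.eq_of_mul_eq_mul_left Nat.card_pos h
    have hDO : D.map C.subtype ≤ O' :=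
      CfsgLib.Components.le_pPrimeCore_of_subnormal
        (CfsgLib.Components.IsSubnormal.map_subtype_normal hCn.isSubnormal hDn)
        (by rwa [Subgroup.card_map_of_injective C.subtype_injective])
    intro c hc
    obtain ⟨m, hm, d, hd, e⟩ : ∃ m ∈ M₀, ∃ d ∈ D, m * d = (⟨c, hc⟩ : C) := by
      have h := Subgroup.mem_top (⟨c, hc⟩ : C)
      rw [← hD.sup_eq_top, ← SetLike.mem_coe, Subgroup.normal_mul] at h
      exact h
    have e' : (m : ↥M) * (d : ↥M) = c := congrArg Subtype.val e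
    rw [← e']
    exact Subgroup.mul_mem_sup hm.1 (hDO ⟨d, hd, rfl⟩)
  have hcK : ∀ o ∈ O', o ∈ C := by
    intro o ho
    rw [hC, Subgroup.mem_centralizer_iff]
    intro k hk
    have h1 : k * o * k⁻¹ * o⁻¹ ∈ K' ⊓ O' := by
      refine ⟨?_, O'.mul_mem ((inferInstance : O'.Normal).conj_mem o ho k) (O'.inv_mem ho)⟩
      rw [SetLike.mem_coe, show k * o * k⁻¹ * o⁻¹ = k * (o * k⁻¹ * o⁻¹) by group]
      exact K'.mul_mem hk (hK'n.conj_mem _ (K'.inv_mem hk) o)
    rw [inf_eq_bot hK'p hO'c, Subgroup.mem_bot, mul_inv_eq_one, mul_inv_eq_iff_eq_mul] at h1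
    exact h1
  -- the quotient
  have hcon : Subgroup.centralizer (Cfsg.pCore p (↥M ⧸ O') : Set (↥M ⧸ O')) ≤ Cfsg.pCore p (↥M ⧸ O') := by
    haveI : (K'.map q).Normal := hK'n.map q hqs
    have hKle : K'.map q ≤ Cfsg.pCore p (↥M ⧸ O') := CfsgLib.Solvable.Cores.le_pCore (hK'p.map q)
    refine le_trans (Subgroup.centralizer_le hKle) (le_trans ?_ hKle)
    rw [CfsgLib.Components.centralizer_map_mk hO'c hK'p]
    refine (Subgroup.map_mono hCle).trans ?_
    rw [Subgroup.map_sup, show O'.map q = ⊥ by rw [Subgroup.map_eq_bot_iff, QuotientGroup.ker_mk'], sup_bot_eq]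
  set T' := T.subgroupOf M with hT'
  have hT'p : IsPGroup p T' := hT.2.1.of_equiv (Subgroup.subgroupOfEquivOfLe hTM).symm
  set TS : Sylow p (↥M ⧸ O') := hT.toSylow.mapSurjective hqs with hTS
  have hTScoe : (TS : Subgroup (↥M ⧸ O')) = T'.map q := Sylow.coe_mapSurjective ..
  obtain ⟨f₁, f₂, f₃⟩ := hFac (↥M ⧸ O') ((hX.of_subgroup M).of_surjective q hqs) hcon TS
  have hmapT : T'.map M.subtype = T := Subgroup.map_subgroupOf_eq_of_le hTM
  set O := O'.map M.subtype with hO
  have hOM : O ≤ M := Subgroup.map_subtype_le _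
  have hMO : M ≤ Subgroup.normalizer (O : Set X) := by
    refine (Subgroup.normal_subgroupOf_iff_le_normalizer hOM).mp ?_
    rw [hO, Subgroup.subgroupOf, Subgroup.comap_map_eq_self_of_injective M.subtype_injective]
    infer_instance
  have hOc : (Nat.card O).Coprime p := by rwa [hO, Subgroup.card_map_of_injective M.subtype_injective]
  -- lifting normalizers
  have hlift : ∀ (W : ∀ (Q : Type u) [Group Q], Subgroup Q), Cfsg.IsCharPFunctor.{u} p W → ∀ b : ↥M,
      q b ∈ Subgroup.normalizer (Cfsg.inducedFunctor W (TS : Subgroup (↥M ⧸ O')) : Set (↥M ⧸ O')) →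
      ∃ o ∈ O', ((o * b : ↥M) : X) ∈ M ⊓ Subgroup.normalizer (Cfsg.inducedFunctor W T : Set X) := by
    intro W hW b hb
    have hinj : Set.InjOn q T' := by
      intro s hs t ht he
      have h1 : s⁻¹ * t ∈ T' ⊓ O' := ⟨T'.mul_mem (T'.inv_mem hs) ht, (QuotientGroup.eq).mp he⟩
      rwa [inf_eq_bot hT'p hO'c, Subgroup.mem_bot, inv_mul_eq_one] at h1
    rw [hTScoe, Functor.inducedFunctor_map hW q hT'p hinj] at hb
    set V := Cfsg.inducedFunctor W T' with hV
    have hVle : V ≤ T' := Functor.inducedFunctor_le W T'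
    have hbV : cj b V ≤ V ⊔ O' := by
      rintro _ ⟨v, hv, rfl⟩
      obtain ⟨w, hw, e⟩ := (Subgroup.mem_normalizer_iff.mp hb (q v)).mp ⟨v, hv, rfl⟩
      have h1 : w⁻¹ * (b * v * b⁻¹) ∈ O' := (QuotientGroup.eq).mp (by
        show q w = q (b * v * b⁻¹)
        rw [map_mul, map_mul, map_inv]; exact e)
      show b * v * b⁻¹ ∈ _
      rw [show b * v * b⁻¹ = w * (w⁻¹ * (b * v * b⁻¹)) by group]
      exact Subgroup.mul_mem_sup hw h1
    obtain ⟨o, ho, hn⟩ := lift_normalizer (hT'p.to_le hVle) (le_top : V ≤ ⊤) hO'c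
      (by rw [Subgroup.normalizer_eq_top]) (Subgroup.mem_top b) hbV
    refine ⟨o, ho, (o * b).2, ?_⟩
    rw [← hmapT, Functor.inducedFunctor_map hW M.subtype hT'p M.subtype_injective.injOn]
    exact Subgroup.le_normalizer_map _ ⟨o * b, hn, rfl⟩
  refine ⟨O, hOM, hMO, hOc, fun x hx => ?_, ?_⟩
  · obtain ⟨a₀, ha₀, b₀, hb₀, e⟩ := f₃ (q ⟨x, hx⟩)
    obtain ⟨a, rfl⟩ := hqs a₀
    obtain ⟨b, rfl⟩ := hqs b₀
    obtain ⟨o₁, ho₁, hn₁⟩ := hlift W₁ hW₁ a ha₀
    obtain ⟨o₂, ho₂, hn₂⟩ := hlift W₂ hW₂ b hb₀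
    refine ⟨_, hn₁, _, hn₂, M.subtype (((o₁ * a) * (o₂ * b))⁻¹ * ⟨x, hx⟩), ⟨_, ?_, rfl⟩, ?_⟩
    · refine (QuotientGroup.eq_one_iff _).mp ?_
      show q _ = 1
      rw [map_mul, map_inv, map_mul, map_mul, map_mul, show q o₁ = 1 from (QuotientGroup.eq_one_iff _).mpr ho₁,
        show q o₂ = 1 from (QuotientGroup.eq_one_iff _).mpr ho₂, one_mul, one_mul, e, inv_mul_cancel]
    · simp [mul_assoc]
  · intro W hWmem Z hZK hZ x hx
    have hWW : Cfsg.IsCharPFunctor.{u} p W ∧ ∀ y : ↥M ⧸ O', ∃ a b, y = a * b ∧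
        (∀ z ∈ (TS : Subgroup (↥M ⧸ O')), (∀ t ∈ (TS : Subgroup (↥M ⧸ O')), t * z = z * t) →
          z ^ p = 1 → z * a = a * z) ∧
        b ∈ Subgroup.normalizer (Cfsg.inducedFunctor W (TS : Subgroup (↥M ⧸ O')) : Set (↥M ⧸ O')) := by
      rcases hWmem with rfl | hWmem
      · exact ⟨hW₁, f₁⟩
      · rw [Set.mem_singleton_iff] at hWmem
        subst hWmem
        exact ⟨hW₂, f₂⟩
    obtain ⟨a₀, b₀, e, ha₀, hb₀⟩ := hWW.2 (q ⟨x, hx⟩)
    obtain ⟨a, rfl⟩ := hqs a₀
    obtain ⟨b, rfl⟩ := hqs b₀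
    obtain ⟨o, ho, hn⟩ := hlift W hWW.1 b hb₀
    set Z' := Z.subgroupOf M with hZ'
    have hZM := hZK.trans hKM
    have hZp : IsPGroup p Z' := hK'p.to_le (Subgroup.comap_mono hZK)
    have haC : q a ∈ (Subgroup.centralizer (Z' : Set ↥M)).map q := by
      rw [← CfsgLib.Components.centralizer_map_mk hO'c hZp, Subgroup.mem_centralizer_iff]
      rintro _ ⟨z, hz, rfl⟩
      refine ha₀ (q z) ?_ ?_ ?_
      · rw [hTScoe]; exact ⟨z, hKT (hZK hz), rfl⟩
      · rw [hTScoe]
        rintro _ ⟨t, ht, rfl⟩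
        rw [← map_mul, ← map_mul]
        congr 1
        exact Subtype.ext ((hZ _ hz).2 _ ht)
      · rw [← map_pow, show z ^ p = 1 from Subtype.ext (by simpa using (hZ _ hz).1), map_one]
    obtain ⟨a', ha', hae⟩ := haC
    set r : ↥M := ⟨x, hx⟩ * (o * b)⁻¹ with hr
    have hrC : r ∈ Subgroup.centralizer (Z' : Set ↥M) := by
      have hor : a'⁻¹ * r ∈ O' := (QuotientGroup.eq).mp (by
        show q a' = q r
        rw [hae, hr, map_mul, map_inv, map_mul, show q o = 1 from (QuotientGroup.eq_one_iff _).mpr ho, one_mul,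
          e, mul_inv_cancel_right])
      have h2 : a'⁻¹ * r ∈ Subgroup.centralizer (Z' : Set ↥M) :=
        Subgroup.centralizer_le (show (Z' : Set ↥M) ⊆ (K' : Set ↥M) from fun z hz => hZK hz) (hcK _ hor)
      have := Subgroup.mul_mem _ ha' h2
      rwa [mul_inv_cancel_left] at this
    refine ⟨(r : X), Subgroup.mem_centralizer_iff.mpr fun z hz => ?_, _, hn, ?_⟩
    · exact congrArg Subtype.val (Subgroup.mem_centralizer_iff.mp hrC ⟨z, hZM hz⟩ hz)
    · rw [hr]; simp [mul_assoc]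

include hW₁ hW₂ in
theorem goal (hFac : Fac p W₁ W₂ G) :
    ∀ (n : ℕ) (Y : Type u) [Group Y] [Finite Y], Nat.card Y = n → Functor.Sec G Y → Goal p W₁ W₂ Y := by
  intro n
  induction n using Nat.strong_induction_on with
  | _ n ihn =>
  intro X _ _ hn hX S A
  classical
  have hprop : ∀ J : Subgroup X, J ≠ ⊤ → Goal p W₁ W₂ ↥J := by
    intro J hJ
    refine ihn _ ?_ ↥J rfl (hX.of_subgroup J)
    rw [← hn]
    exact lt_of_le_of_ne (Subgroup.card_le_card_group J) fun e => hJ (Subgroup.eq_top_of_card_eq J e)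
  induction' hk : Nat.card X - Nat.card A using Nat.strong_induction_on with k ih generalizing A
  intro hA g hg
  set σ := steps W₁ W₂ X (S : Subgroup X) with hσ
  have hcard : ∀ (x : X) (Y : Subgroup X), Nat.card (cj x Y) = Nat.card Y := fun x Y =>
    Subgroup.card_map_of_injective (MulAut.conj x).injective
  have IH : ∀ B : Subgroup X, Nat.card A < Nat.card B → B ≤ (S : Subgroup X) →
      ∀ y : X, cj y B ≤ (S : Subgroup X) → Fus σ (S : Subgroup X) B y := by
    intro B hAB
    have := Subgroup.card_le_card_group B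
    exact ih _ (by omega) B rfl
  have hSstep : ∀ s ∈ (S : Subgroup X), s ∈ σ := fun s hs =>
    Or.inl (normalizer_le_normalizer_ind hW₁ S.2 (Subgroup.le_normalizer hs))
  by_cases hQ1 : Cfsg.pCore p X = ⊥
  · -- no normal `p`-subgroup
    have hnn : ∀ V : Subgroup X, IsPGroup p V → V ≠ ⊥ → Subgroup.normalizer (V : Set X) ≠ ⊤ := by
      intro V hV hV1 h
      haveI : V.Normal := Subgroup.normalizer_eq_top_iff.mp h
      exact hV1 (le_bot_iff.mp (hQ1 ▸ CfsgLib.Solvable.Cores.le_pCore hV))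
    have hrec : ∀ m : ℕ, ∀ T : Subgroup X, Nat.card X - Nat.card T = m → T ≤ (S : Subgroup X) →
        ∀ Y b, Fus (steps W₁ W₂ X T) T Y b → Y ≤ T → Nat.card A = Nat.card Y →
          Fus σ (S : Subgroup X) Y b := by
      intro m
      induction m using Nat.strong_induction_on with
      | _ m ihm =>
      intro T hm hT
      by_cases hTS : T = (S : Subgroup X)
      · intro Y b h _ _; rw [hTS] at h; exact h
      have hstep : ∀ (W : ∀ (Q : Type u) [Group Q], Subgroup Q), Cfsg.IsCharPFunctor.{u} p W →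
          ∀ Y b, b ∈ Subgroup.normalizer (Cfsg.inducedFunctor W T : Set X) → Y ≤ T → cj b Y ≤ T →
            Nat.card A = Nat.card Y → Fus σ (S : Subgroup X) Y b := by
        intro W hW Y b hb hY hbY hYA
        by_cases hT1 : T = ⊥
        · refine .cent ?_
          have hY1 : Y = ⊥ := le_bot_iff.mp (hT1 ▸ hY)
          rw [hY1, Subgroup.mem_centralizer_iff]
          intro z hz
          rw [Subgroup.mem_bot.mp hz, one_mul, mul_one]
        obtain ⟨hWle, hWne, -⟩ := Functor.isConjugacyFunctor_induced hW T (S.2.to_le hT)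
        set V := Cfsg.inducedFunctor W T with hV
        set L := Subgroup.normalizer (V : Set X) with hL
        have hNT : Subgroup.normalizer (T : Set X) ≤ L := normalizer_le_normalizer_ind hW (S.2.to_le hT)
        set T' := (S : Subgroup X) ⊓ L with hT'
        have hTT' : T ≤ T' := le_inf hT (Subgroup.le_normalizer.trans hNT)
        have hlt : Nat.card T < Nat.card T' := by
          obtain ⟨d, hd, ⟨-, hdN⟩, hdT⟩ := CfsgLib.Fsys.exists_mem_normalizer_not_mem S.2 le_rfl
            (lt_of_le_of_ne hT hTS)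
          refine lt_of_le_of_ne (Subgroup.card_le_of_le hTT') fun e => hdT ?_
          exact (Subgroup.eq_of_le_of_card_ge hTT' e.ge).symm ▸ ⟨hd, hNT hdN⟩
        obtain ⟨T₂, hT₂, hT'T₂⟩ := exists_isSylowIn L (inf_le_right : T' ≤ L) (S.2.to_le inf_le_left)
        obtain ⟨S', hS'⟩ := (hT₂.2.1).exists_le_sylow
        obtain ⟨x, hx⟩ := MulAction.exists_smul_eq X S' S
        have hxT₂ : cj x T₂ ≤ (S : Subgroup X) := by
          rw [← hx, Sylow.coe_subgroup_smul]
          exact Subgroup.map_mono hS'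
        have hgood : Fus σ (S : Subgroup X) T' x := IH T'
          (by rw [hYA]; exact (Subgroup.card_le_of_le hY).trans_lt hlt) inf_le_left x
          ((Subgroup.map_mono hT'T₂).trans hxT₂)
        set T₁ := cj x T₂ with hT₁
        have hT₁syl : IsSylowIn p T₁ (Subgroup.normalizer (cj x V : Set X)) := by
          have h := hT₂.map_conj x
          rwa [← normalizer_map_conj] at h
        have hne : Subgroup.normalizer (cj x V : Set X) ≠ ⊤ := hnn _ (((S.2.to_le hT).to_le hWle).map _)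
          (by rw [Ne, Subgroup.map_eq_bot_iff_of_injective _ (MulAut.conj x).injective]; exact hWne hT1)
        have hbx : x * b * x⁻¹ ∈ Subgroup.normalizer (cj x V : Set X) := by
          refine cj_eq.mp ?_
          rw [cj_cj, inv_mul_cancel_right, ← cj_cj, cj_eq.mpr hb]
        have hYT₂ : ∀ {Z : Subgroup X}, Z ≤ T → cj x Z ≤ T₁ := fun h =>
          Subgroup.map_mono (h.trans (hTT'.trans hT'T₂))
        have hloc := local_fus hW₁ hW₂ (hprop _ hne) hT₁syl (hYT₂ hY) hbx
          (by rw [cj_cj, inv_mul_cancel_right, ← cj_cj]; exact hYT₂ hbY)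
        have hm' : Nat.card X - Nat.card T₁ < m := by
          have h1 : Nat.card T' ≤ Nat.card T₂ := Subgroup.card_le_of_le hT'T₂
          have h2 : Nat.card T₁ = Nat.card T₂ := hcard x T₂
          have h3 := Subgroup.card_le_card_group T₁
          omega
        have h₁ := ihm _ hm' T₁ rfl hxT₂ _ _ hloc (hYT₂ hY) (by rw [hcard]; exact hYA)
        have h₂ : Fus σ (S : Subgroup X) (cj x (cj b Y)) x⁻¹ :=
          (hgood.anti (hbY.trans hTT')).symm steps_inv (hbY.trans hT)
        have h₃ := Fus.comp (.comp (hgood.anti (hY.trans hTT')) h₁) (g' := x⁻¹) (by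
          rw [show x * b * x⁻¹ * x = x * b by group, ← cj_cj]; exact h₂)
        rwa [show x⁻¹ * (x * b * x⁻¹ * x) = b by group] at h₃
      intro Y b h
      induction h with
      | cent hc => exact fun _ _ => .cent hc
      | @step Y b hb hle =>
        intro hY hYA
        rcases hb with hb | hb
        · exact hstep W₁ hW₁ Y b hb hY hle hYA
        · exact hstep W₂ hW₂ Y b hb hY hle hYA
      | @comp Y b b' h₁ _ ih₁ ih₂ =>
        intro hY hYA
        exact .comp (ih₁ hY hYA) (ih₂ (h₁.image_le hY) (by rw [hcard]; exact hYA))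
    obtain ⟨m, Q, x, hprod, hQ, hfirst, hnext⟩ := Cfsg.Agent.S0116.result S (A : Set X) g⁻¹ (fun a ha => hA ha) (by
      rintro _ ⟨a, ha, rfl⟩
      rw [inv_inv]
      exact hg ⟨a, ha, rfl⟩)
    have key : ∀ i : ℕ, i ≤ m → Fus σ (S : Subgroup X) A (((List.ofFn x).take i).prod)⁻¹ := by
      intro i
      induction i with
      | zero =>
        intro _
        rw [List.take_zero, List.prod_nil, inv_one]
        exact .cent (one_mem _)
      | succ i hi =>
        intro hin'
        rw [List.prod_take_succ _ i (by simpa using hin'), mul_inv_rev, List.getElem_ofFn]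
        set R := (S : Subgroup X) ⊓ (Q ⟨i, hin'⟩ : Subgroup X) with hR
        set a₀ := ((List.ofFn x).take i).prod with ha₀
        have hAR : cj a₀⁻¹ A ≤ R := by
          rintro _ ⟨a, ha, rfl⟩
          show a₀⁻¹ * a * a₀⁻¹⁻¹ ∈ R
          rw [inv_inv]
          rcases i with _ | j
          · rw [ha₀, List.take_zero, List.prod_nil, inv_one, one_mul, mul_one]
            exact hfirst hin' ha
          · exact hnext ⟨j, by omega⟩ hin' ⟨a, ha, rfl⟩
        refine .comp (hi (by omega)) (Fus.anti ?_ hAR)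
        obtain ⟨hxN, hP', -⟩ := hQ ⟨i, hin'⟩
        set y₀ := x ⟨i, hin'⟩
        set NR := Subgroup.normalizer (R : Set X) with hNR
        have hxR : cj y₀⁻¹ R = R := cj_eq.mpr (inv_mem hxN)
        have hAR' : Nat.card A ≤ Nat.card R := by
          rw [← hcard a₀⁻¹ A]
          exact Subgroup.card_le_of_le hAR
        rcases lt_or_eq_of_le hAR' with hlt | heq
        · exact IH R hlt inf_le_left _ (hxR.le.trans inf_le_left)
        by_cases hR1 : R = ⊥
        · refine .cent ?_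
          rw [hR1, Subgroup.mem_centralizer_iff]
          intro z hz
          rw [Subgroup.mem_bot.mp hz, one_mul, mul_one]
        have hsyl : IsSylowIn p ((S : Subgroup X) ⊓ NR) NR :=
          Functor.isSylowIn_of_not_dvd inf_le_right (S.2.to_le inf_le_left) hP'
        have hRT : R ≤ (S : Subgroup X) ⊓ NR := le_inf inf_le_left Subgroup.le_normalizer
        exact hrec _ _ rfl inf_le_left R y₀⁻¹
          (local_fus hW₁ hW₂ (hprop _ (hnn R (S.2.to_le inf_le_left) hR1)) hsyl hRT (inv_mem hxN)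
            (hxR.le.trans hRT)) hRT heq
    have h := key m le_rfl
    rw [List.take_of_length_le (by simp), hprod, inv_inv] at h
    exact h
  -- a normal `p`-subgroup
  set Q := Cfsg.pCore p X with hQ
  haveI hQn : Q.Normal := inferInstance
  have hQp : IsPGroup p Q := CfsgLib.Solvable.Cores.isPGroup_pCore p
  have hQS : Q ≤ (S : Subgroup X) := CfsgLib.Solvable.Cores.pCore_le_sylow S
  have hQN : ∀ x : X, x ∈ Subgroup.normalizer (Q : Set X) := fun x => by
    rw [Subgroup.normalizer_eq_top]; trivial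
  set CQ := Subgroup.centralizer (Q : Set X) with hCQ
  haveI hCQn : CQ.Normal := inferInstance
  obtain ⟨hKc, hCsyl, hSK⟩ := cent_sup S hQS (fun x _ => hQN x)
  set K := Q ⊔ ((S : Subgroup X) ⊓ CQ) with hK
  set J := CQ ⊔ (S : Subgroup X) with hJ
  by_cases hJt : J = ⊤
  swap
  · set M := Subgroup.normalizer (K : Set X) with hM
    obtain ⟨c, hc, m, hm, rfl⟩ := frattini_argument (H := ⊤) (g := g) hCsyl
      (by rw [Subgroup.normalizer_eq_top]) le_top (Subgroup.mem_top _)
    have hmM : m ∈ M := by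
      refine cj_eq.mp ?_
      show Subgroup.map _ (Q ⊔ _) = _
      rw [Subgroup.map_sup, map_conj_eq_iff.mpr (hQN m), map_conj_eq_iff.mpr hm.2]
    have hMsyl := sylow_isSylowIn S hSK
    obtain ⟨a', ha', m', hm', e, hm'A⟩ := product_split (p := p) (le_sup_right : (S : Subgroup X) ≤ J) hSK
      (sylow_isSylowIn S (le_inf le_sup_right hSK)) hA (Subgroup.mem_sup_left hc : c ∈ J) hmM hg
    rw [e] at hg ⊢
    refine .comp ?_ ?_
    · -- the part normalizing `K`
      obtain ⟨O, hOM, hMO, hOc, hfac, -⟩ := constrained hW₁ hW₂ hFac hX hMsyl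
        (sup_le hQS inf_le_left) le_rfl hKc
      obtain ⟨n₁, hn₁, n₂, hn₂, o, ho, rfl⟩ := hfac m' hm'
      set B := (M ⊓ Subgroup.normalizer (Cfsg.inducedFunctor W₂ (S : Subgroup X) : Set X)) ⊔ O with hB
      set A₁ := M ⊓ Subgroup.normalizer (Cfsg.inducedFunctor W₁ (S : Subgroup X) : Set X) with hA₁
      have hSA₁ : (S : Subgroup X) ≤ A₁ :=
        le_inf hSK (Subgroup.le_normalizer.trans (normalizer_le_normalizer_ind hW₁ S.2))
      have hSN₂ : (S : Subgroup X) ≤ M ⊓ Subgroup.normalizer (Cfsg.inducedFunctor W₂ (S : Subgroup X) : Set X) :=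
        le_inf hSK (Subgroup.le_normalizer.trans (normalizer_le_normalizer_ind hW₂ S.2))
      rw [mul_assoc] at hm'A
      obtain ⟨a₁, ha₁, b₁, hb₁, e₁, hb₁A⟩ := product_split (p := p) hSA₁ (hSN₂.trans le_sup_left)
        (sylow_isSylowIn S (le_inf hSA₁ (hSN₂.trans le_sup_left))) hA hn₁
        (Subgroup.mul_mem_sup hn₂ ho) hm'A
      rw [mul_assoc, e₁]
      rw [e₁, ← cj_cj] at hm'A
      refine .comp ?_ (.step (Or.inl ha₁.2) hm'A)
      have hn2O := (inf_le_left : M ⊓ Subgroup.normalizer (Cfsg.inducedFunctor W₂ (S : Subgroup X) : Set X) ≤ M).trans hMO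
      rw [← SetLike.mem_coe, Subgroup.coe_mul_of_left_le_normalizer_right _ O hn2O] at hb₁
      obtain ⟨n, hn', o', ho', rfl⟩ := hb₁
      obtain ⟨d, hd, hdA, hdc⟩ := absorb S.2 hSN₂ hOc hn2O hn' ho' hA hb₁A
      show Fus σ (S : Subgroup X) A (n * o')
      rw [show n * o' = d * (d⁻¹ * (n * o')) by group]
      refine .comp (.cent hdc) (.step (Or.inr hd.2) ?_)
      rw [cj_of_cent hdc]
      exact hdA
    · rw [← cj_cj] at hg
      exact local_fus hW₁ hW₂ (hprop J hJt) (sylow_isSylowIn S le_sup_right) hm'A ha' hg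
  -- `X = C(Q) S`
  by_cases hSQ : (S : Subgroup X) = Q
  · exact .step (Or.inl (normalizer_le_normalizer_ind hW₁ S.2 (hSQ ▸ hQN g))) hg
  have hCQp : ∀ x : X, (orderOf x).Coprime p → x ∈ CQ := by
    intro x hx
    rw [← QuotientGroup.eq_one_iff]
    obtain ⟨c, hc, s, hs, e⟩ : ∃ c ∈ CQ, ∃ s ∈ (S : Subgroup X), c * s = x := by
      have h := Subgroup.mem_top x
      rw [← hJt, hJ, ← SetLike.mem_coe, Subgroup.normal_mul] at h
      exact h
    obtain ⟨j, hj⟩ := S.2 ⟨s, hs⟩
    have h1 : (QuotientGroup.mk x : X ⧸ CQ) ^ p ^ j = 1 := by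
      rw [← e, QuotientGroup.mk_mul, (QuotientGroup.eq_one_iff c).mpr hc, one_mul, ← QuotientGroup.mk_pow,
        show s ^ p ^ j = 1 from congrArg Subtype.val hj, QuotientGroup.mk_one]
    refine orderOf_eq_one_iff.mp (Nat.eq_one_of_dvd_coprimes (hx.pow_right j) ?_ (orderOf_dvd_of_pow_eq_one h1))
    exact orderOf_map_dvd (QuotientGroup.mk' CQ) x
  set π := QuotientGroup.mk' Q with hπ
  have hπs : Function.Surjective π := QuotientGroup.mk'_surjective Q
  set SQ : Sylow p (X ⧸ Q) := S.mapSurjective hπs with hSQdef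
  have hSQcoe : (SQ : Subgroup (X ⧸ Q)) = (S : Subgroup X).map π := Sylow.coe_mapSurjective ..
  have hSQcomap : ((S : Subgroup X).map π).comap π = (S : Subgroup X) := by
    rw [Subgroup.comap_map_eq, QuotientGroup.ker_mk', sup_eq_left.mpr hQS]
  have hXQ : Goal p W₁ W₂ (X ⧸ Q) := by
    refine ihn _ ?_ _ rfl (hX.of_surjective π hπs)
    rw [← hn, Subgroup.card_eq_card_quotient_mul_card_subgroup Q]
    exact lt_mul_of_one_lt_right Nat.card_pos ((Subgroup.one_lt_card_iff_ne_bot Q).mpr hQ1)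
  set B := A ⊔ Q with hB
  have hBS : B ≤ (S : Subgroup X) := sup_le hA hQS
  have hgB : cj g B ≤ (S : Subgroup X) := by
    show Subgroup.map _ (A ⊔ Q) ≤ _
    rw [Subgroup.map_sup, map_conj_eq_iff.mpr (hQN g)]
    exact sup_le hg hQS
  rcases lt_or_eq_of_le (Subgroup.card_le_of_le (le_sup_left : A ≤ B)) with hlt | heq
  · exact (IH B hlt hBS g hgB).anti le_sup_left
  -- lifting from the quotient
  have hlift : ∀ (Yb : Subgroup (X ⧸ Q)) (gb : X ⧸ Q),
      Fus (steps W₁ W₂ (X ⧸ Q) (SQ : Subgroup (X ⧸ Q))) (SQ : Subgroup (X ⧸ Q)) Yb gb →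
      ∀ (Y : Subgroup X) (h : X), Q ≤ Y → Y ≤ (S : Subgroup X) → Nat.card A = Nat.card Y →
        Y.map π = Yb → π h = gb → Fus σ (S : Subgroup X) Y h := by
    intro Yb gb hfus
    have himg : ∀ {Y : Subgroup X} {h : X}, cj (π h) (Y.map π) ≤ (SQ : Subgroup (X ⧸ Q)) →
        cj h Y ≤ (S : Subgroup X) := by
      intro Y h hle
      rw [← hSQcomap, ← Subgroup.map_le_iff_le_comap, ← hSQcoe]
      refine le_of_eq_of_le ?_ hle
      show (Y.map _).map π = (Y.map π).map _
      rw [Subgroup.map_map, Subgroup.map_map]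
      congr 1
    induction hfus with
    | @cent Yb gb hc =>
      intro Y h hQY hYS hYA hYb hhb
      subst hhb hYb
      -- the powers of `h` move `Y` by elements of `Q`
      have hmod : ∀ z ∈ Subgroup.zpowers h, ∀ y ∈ Y, y⁻¹ * (z * y * z⁻¹) ∈ Q := by
        intro z hz y hy
        refine QuotientGroup.eq.mp ?_
        have h1 : π z ∈ Subgroup.centralizer ((Y.map π : Subgroup (X ⧸ Q)) : Set (X ⧸ Q)) := by
          obtain ⟨i, rfl⟩ := Subgroup.mem_zpowers_iff.mp hz
          rw [map_zpow]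
          exact Subgroup.zpow_mem _ hc i
        show π y = π (z * y * z⁻¹)
        rw [map_mul, map_mul, map_inv, ← Subgroup.mem_centralizer_iff.mp h1 (π y) ⟨y, hy, rfl⟩,
          mul_inv_cancel_right]
      have hzY : Subgroup.zpowers h ≤ Subgroup.normalizer (Y : Set X) := by
        rw [Subgroup.le_normalizer_iff]
        intro z hz y hy
        rw [show z * y * z⁻¹ = y * (y⁻¹ * (z * y * z⁻¹)) by group]
        exact Y.mul_mem hy (hQY (hmod z hz y hy))
      have hhY : h ∈ Subgroup.normalizer (Y : Set X) := hzY (Subgroup.mem_zpowers h)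
      by_cases hYeq : Y = (S : Subgroup X)
      · refine .step (Or.inl (normalizer_le_normalizer_ind hW₁ S.2 ?_)) ((cj_eq.mpr hhY).le.trans hYS)
        rw [← hYeq]; exact hhY
      -- move to a fully normalized conjugate
      set L := Subgroup.normalizer (Y : Set X) with hL
      set T := (S : Subgroup X) ⊓ L with hT
      have hYT : Y ≤ T := le_inf hYS Subgroup.le_normalizer
      have hlt : Nat.card A < Nat.card T := by
        obtain ⟨d, hd, ⟨-, hdN⟩, hdY⟩ := CfsgLib.Fsys.exists_mem_normalizer_not_mem S.2 le_rfl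
          (lt_of_le_of_ne hYS hYeq)
        rw [hYA]
        refine lt_of_le_of_ne (Subgroup.card_le_of_le hYT) fun e => hdY ?_
        exact (Subgroup.eq_of_le_of_card_ge hYT e.ge).symm ▸ (⟨hd, hdN⟩ : d ∈ T)
      obtain ⟨T', hT', hTT'⟩ := exists_isSylowIn L (inf_le_right : T ≤ L) (S.2.to_le inf_le_left)
      obtain ⟨S', hS'⟩ := (hT'.2.1).exists_le_sylow
      obtain ⟨x, hx⟩ := MulAction.exists_smul_eq X S' S
      have hxT' : cj x T' ≤ (S : Subgroup X) := by
        rw [← hx, Sylow.coe_subgroup_smul]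
        exact Subgroup.map_mono hS'
      have hfwd : Fus σ (S : Subgroup X) Y x :=
        (IH T hlt inf_le_left x ((Subgroup.map_mono hTT').trans hxT')).anti hYT
      set Y₁ := cj x Y with hY₁
      set h₁ := x * h * x⁻¹ with hh₁
      set N₁ := Subgroup.normalizer (Y₁ : Set X) with hN₁
      have hh₁N : h₁ ∈ N₁ := by
        refine cj_eq.mp ?_
        rw [hh₁, hY₁, cj_cj, inv_mul_cancel_right, ← cj_cj, cj_eq.mpr hhY]
      have hT₁ : IsSylowIn p (cj x T') N₁ := by
        have h := hT'.map_conj x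
        rwa [← normalizer_map_conj] at h
      have hP₁ : IsSylowIn p ((S : Subgroup X) ⊓ N₁) N₁ := by
        rw [hT₁.2.2 _ inf_le_right (S.2.to_le inf_le_left) (le_inf hxT' hT₁.1)]
        exact hT₁
      set C' := N₁ ⊓ (Subgroup.centralizer ((Y₁.map π : Subgroup (X ⧸ Q)) : Set (X ⧸ Q))).comap π with hC'
      have hh₁C : h₁ ∈ C' := by
        refine ⟨hh₁N, Subgroup.mem_centralizer_iff.mpr ?_⟩
        rintro _ ⟨_, ⟨y, hy, rfl⟩, rfl⟩
        show π (x * y * x⁻¹) * π (x * h * x⁻¹) = π (x * h * x⁻¹) * π (x * y * x⁻¹)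
        have h2 := Subgroup.mem_centralizer_iff.mp hc (π y) ⟨y, hy, rfl⟩
        simp only [map_mul, map_inv]
        rw [show π x * π y * (π x)⁻¹ * (π x * π h * (π x)⁻¹) = π x * (π y * π h) * (π x)⁻¹ by group, h2]
        group
      have hC'n : N₁ ≤ Subgroup.normalizer (C' : Set X) := by
        rw [Subgroup.le_normalizer_iff]
        intro z hz c hc'
        refine ⟨N₁.mul_mem (N₁.mul_mem hz hc'.1) (N₁.inv_mem hz), Subgroup.mem_centralizer_iff.mpr ?_⟩
        rintro _ ⟨y, hy, rfl⟩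
        have hy' : z⁻¹ * y * z ∈ Y₁ := by
          have := (Subgroup.mem_normalizer_iff.mp (N₁.inv_mem hz) y).mp hy
          rwa [inv_inv] at this
        have h2 := Subgroup.mem_centralizer_iff.mp hc'.2 (π (z⁻¹ * y * z)) ⟨_, hy', rfl⟩
        simp only [map_mul, map_inv] at h2 ⊢
        calc π y * (π z * π c * (π z)⁻¹) = π z * ((π z)⁻¹ * π y * π z * π c) * (π z)⁻¹ := by group
          _ = π z * (π c * ((π z)⁻¹ * π y * π z)) * (π z)⁻¹ := by rw [h2]
          _ = π z * π c * (π z)⁻¹ * π y := by group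
      set D₁ := (S : Subgroup X) ⊓ N₁ ⊓ C' with hD₁
      have hD₁syl : IsSylowIn p D₁ C' := sylowIn_inf hP₁ inf_le_left hC'n
      set K₁ := C' ⊓ Subgroup.centralizer (Y₁ : Set X) with hK₁
      have hK₁n : C' ≤ Subgroup.normalizer (K₁ : Set X) := le_normalizer_of_map_conj fun z hz => by
        rw [hK₁, Subgroup.map_inf _ _ _ (MulAut.conj z).injective, map_conj_eq_iff.mpr (Subgroup.le_normalizer hz),
          ← centralizer_map_conj, map_conj_eq_iff.mpr hz.1]
      haveI : (K₁.subgroupOf C').Normal := ⟨fun a ha z => (Subgroup.mem_normalizer_iff.mp (hK₁n z.2) _).mp ha⟩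
      have hcop : ∀ c ∈ C', (orderOf c).Coprime p → c ∈ K₁ := by
        intro c hc' hco
        refine ⟨hc', Subgroup.mem_centralizer_iff.mpr fun y hy => ?_⟩
        refine (mul_inv_eq_iff_eq_mul.mp (OmegaFaithful.fix_of_coset (C := Q) hQp hco (fun q hq => ?_) ?_)).symm
        · rw [← Subgroup.mem_centralizer_iff.mp (hCQp c hco) q hq, mul_inv_cancel_right]
        · refine QuotientGroup.eq.mp ?_
          show π y = π (c * y * c⁻¹)
          rw [map_mul, map_mul, map_inv, ← Subgroup.mem_centralizer_iff.mp hc'.2 (π y) ⟨y, hy, rfl⟩,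
            mul_inv_cancel_right]
      have hquot : IsPGroup p (↥C' ⧸ K₁.subgroupOf C') := by
        intro z
        obtain ⟨⟨c, hc'⟩, rfl⟩ := QuotientGroup.mk'_surjective (K₁.subgroupOf C') z
        obtain ⟨k', hk'⟩ := CfsgLib.Fusion.Basic.exists_pow_coprime (p := p) c
        refine ⟨k', ?_⟩
        rw [← map_pow, QuotientGroup.mk'_apply, QuotientGroup.eq_one_iff]
        exact hcop _ (Subgroup.pow_mem _ hc' _) hk'
      have htop : ((hD₁syl.toSylow : Sylow p C') : Subgroup C').map (QuotientGroup.mk' (K₁.subgroupOf C')) = ⊤ := by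
        have := ((hD₁syl.toSylow).mapSurjective (QuotientGroup.mk'_surjective (K₁.subgroupOf C'))).is_maximal'
          (hquot.to_subgroup ⊤) le_top
        exact this.symm
      obtain ⟨⟨d, hdC⟩, hd, hde⟩ := htop.ge (Subgroup.mem_top (QuotientGroup.mk' (K₁.subgroupOf C') ⟨h₁, hh₁C⟩))
      have hd' : d ∈ D₁ := hd
      have hcC : d⁻¹ * h₁ ∈ Subgroup.centralizer (Y₁ : Set X) := (QuotientGroup.eq.mp hde).2
      have hdY : cj d Y₁ = Y₁ := cj_eq.mpr hd'.1.2
      have hY₁S : Y₁ ≤ (S : Subgroup X) := hfwd.image_le hYS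
      have hmid : Fus σ (S : Subgroup X) Y₁ h₁ := by
        rw [show h₁ = d * (d⁻¹ * h₁) by group]
        refine .comp (.cent hcC) (.step (hSstep d hd'.1.1) ?_)
        rw [cj_of_cent hcC, hdY]
        exact hY₁S
      have h₃ := Fus.comp (Fus.comp hfwd hmid) (g' := x⁻¹) (by
        rw [show h₁ * x = x * h by rw [hh₁]; group, ← cj_cj, cj_eq.mpr hhY]
        exact hfwd.symm steps_inv hYS)
      rwa [show x⁻¹ * (h₁ * x) = h by rw [hh₁]; group] at h₃
    | @step Yb gb hb hle =>
      intro Y h hQY hYS hYA hYb hhb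
      subst hhb hYb
      have hcase : ∀ (W : ∀ (Q : Type u) [Group Q], Subgroup Q), Cfsg.IsCharPFunctor.{u} p W →
          π h ∈ Subgroup.normalizer (Cfsg.inducedFunctor W (SQ : Subgroup (X ⧸ Q)) : Set (X ⧸ Q)) →
          Fus σ (S : Subgroup X) Y h := by
        intro W hW hb
        set Vb := Cfsg.inducedFunctor W (SQ : Subgroup (X ⧸ Q)) with hVb
        obtain ⟨hVle, hVne, -⟩ := Functor.isConjugacyFunctor_induced hW (SQ : Subgroup (X ⧸ Q)) SQ.2
        set U := Vb.comap π with hU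
        set L := Subgroup.normalizer (U : Set X) with hL
        have hhL : h ∈ L := Subgroup.le_normalizer_comap π hb
        have hUS : U ≤ (S : Subgroup X) := by
          rw [← hSQcomap, hU, ← hSQcoe]
          exact Subgroup.comap_mono hVle
        have hSL : (S : Subgroup X) ≤ L := by
          refine le_trans ?_ (Subgroup.le_normalizer_comap π)
          rw [← hSQcomap, ← hSQcoe]
          exact Subgroup.comap_mono (Subgroup.le_normalizer.trans (normalizer_le_normalizer_ind hW SQ.2))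
        have hLne : L ≠ ⊤ := by
          intro hLt
          haveI : U.Normal := Subgroup.normalizer_eq_top_iff.mp hLt
          have hUQ : U ≤ Q := CfsgLib.Solvable.Cores.le_pCore (S.2.to_le hUS)
          have hVb1 : Vb = ⊥ := by
            rw [eq_bot_iff]
            intro v hv
            obtain ⟨u, rfl⟩ := hπs v
            exact (QuotientGroup.eq_one_iff u).mpr (hUQ hv)
          refine hVne ?_ hVb1
          rw [hSQcoe, Ne, Subgroup.map_eq_bot_iff, QuotientGroup.ker_mk']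
          exact fun hle => hSQ (le_antisymm hle hQS)
        exact local_fus hW₁ hW₂ (hprop L hLne) (sylow_isSylowIn S hSL) hYS hhL (himg hle)
      rcases hb with hb | hb
      · exact hcase W₁ hW₁ hb
      · exact hcase W₂ hW₂ hb
    | @comp Yb gb gb' h₁ h₂ ih₁ ih₂ =>
      intro Y h hQY hYS hYA hYb hhb
      obtain ⟨h₀, hh₀⟩ := hπs gb
      have hle₀ : cj h₀ Y ≤ (S : Subgroup X) := himg (by
        rw [hh₀, hYb]
        refine h₁.image_le ?_
        rw [← hYb, hSQcoe]
        exact Subgroup.map_mono hYS)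
      have hQ' : Q ≤ cj h₀ Y := fun q hq => mem_cj.mpr (hQY (by
        have := hQn.conj_mem q hq h₀⁻¹; rwa [inv_inv] at this))
      rw [show h = h * h₀⁻¹ * h₀ by group]
      refine .comp (ih₁ Y h₀ hQY hYS hYA hYb hh₀) (ih₂ _ (h * h₀⁻¹) hQ' hle₀ (by rw [hcard]; exact hYA) ?_ ?_)
      · rw [← hYb, ← hh₀]
        show (Y.map _).map π = (Y.map π).map _
        rw [Subgroup.map_map, Subgroup.map_map]
        congr 1
      · rw [map_mul, map_inv, hhb, hh₀, mul_inv_cancel_right]
  refine Fus.anti (hlift _ _ (hXQ SQ (B.map π) ?_ (π g) ?_) B g le_sup_right hBS heq rfl rfl) le_sup_left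
  · rw [hSQcoe]; exact Subgroup.map_mono hBS
  · rw [hSQcoe]
    refine le_of_eq_of_le ?_ (Subgroup.map_mono (f := π) hgB)
    show (B.map π).map _ = (B.map _).map π
    rw [Subgroup.map_map, Subgroup.map_map]
    congr 1

include hW₁ hW₂ in
/-- Fusion in a Sylow subgroup is made of steps in the two normalizers. -/
theorem fusion (hFac : Fac p W₁ W₂ G) (S : Sylow p G) {A : Subgroup G} (hA : A ≤ (S : Subgroup G)) {g : G}
    (hg : cj g A ≤ (S : Subgroup G)) : Fus (steps W₁ W₂ G (S : Subgroup G)) (S : Subgroup G) A g :=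
  goal hW₁ hW₂ hFac _ G rfl (Functor.sec_self G) S A hA g hg

end CfsgLib.KGroups.SectionFactor
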