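import Cfsg.Agent.Lib.KGroups.ZJStableFusion
import Cfsg.Agent.Lib.KGroups.SectionFactor
import Cfsg.Agent.Lib.FusionSystem.Inner
import Cfsg.Agent.Lib.FusionSystem.GroupNormal
import Cfsg.Agent.S3836

/-!
The fusion system of a `p`-stable group, `p` odd, is constrained.
-/

set_option autoImplicit false
set_option linter.unusedSectionVars false

namespace CfsgLib.KGroups.PStableConstrained

open Cfsg CfsgLib.Fsys CfsgLib.LocalEven.SylowIn
open Cfsg.FusionSystem (centralizerIn normalizerIn)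
open scoped commutatorElement

universe u

variable {p : ℕ} [Fact p.Prime]

section Basic

variable {X : Type u} [Group X] [Finite X] {S : Subgroup X}

theorem sc_of_forall {C : Subgroup X} (hC : C ≤ S) (h : ∀ x ∈ C, ∀ g : X, g * x * g⁻¹ ∈ S → g * x * g⁻¹ ∈ C) :
    (groupFusionSystem S).StronglyClosed C := by
  refine stronglyClosed_iff_fn.2 ⟨hC, fun P f hf x hx hxC => ?_⟩
  obtain ⟨-, hfS, g, hg⟩ := fn_group_iff.1 hf
  rw [hg x hx]
  exact h x hxC g (hg x hx ▸ hfS x hx)

theorem forall_of_sc {C : Subgroup X} (h : (groupFusionSystem S).StronglyClosed C) {x g : X} (hx : x ∈ C)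
    (hgx : g * x * g⁻¹ ∈ S) : g * x * g⁻¹ ∈ C := by
  refine sc_apply h (fn_group_conj (P := Subgroup.zpowers x) (Subgroup.zpowers_le.2 (h.1 hx)) g ?_)
    (Subgroup.mem_zpowers x) hx
  rintro y ⟨n, rfl⟩
  show g * x ^ n * g⁻¹ ∈ _
  rw [← conj_zpow]
  exact Subgroup.zpow_mem _ hgx n

/-- The fusion system on `S` has a centric normal subgroup. -/
def Good (S : Sylow p X) : Prop :=
  ∃ W : Subgroup X, (groupFusionSystem (S : Subgroup X)).IsNormal W ∧ centralizerIn (S : Subgroup X) W ≤ W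

/-- The image of a series of strongly closed subgroups, over a controlling subgroup. -/
theorem good_of_controls (S : Sylow p X) {N : Subgroup X} (hSN : (S : Subgroup X) ≤ N)
    (hctrl : ∀ x ∈ (S : Subgroup X), ∀ g : X, g * x * g⁻¹ ∈ (S : Subgroup X) →
      ∃ n ∈ N, n * x * n⁻¹ = g * x * g⁻¹)
    (h : Good (S.subtype hSN)) : Good S := by
  obtain ⟨W, hW, hWc⟩ := h
  obtain ⟨C, n, h0, hn, -, hsc, hcomm⟩ := normal_series (S.subtype hSN).2 hW
  have hSm : ((S.subtype hSN : Sylow p N) : Subgroup N).map N.subtype = (S : Subgroup X) := by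
    rw [Sylow.coe_subtype, Subgroup.map_subgroupOf_eq_of_le hSN]
  have key : ∀ i ≤ n, (groupFusionSystem (S : Subgroup X)).StronglyClosed ((C i).map N.subtype) := by
    intro i hi
    have hle : (C i).map N.subtype ≤ (S : Subgroup X) := (Subgroup.map_mono (hsc i hi).1).trans hSm.le
    refine sc_of_forall hle ?_
    rintro _ ⟨x, hx, rfl⟩ g hg
    obtain ⟨k, hk, he⟩ := hctrl _ (hle ⟨x, hx, rfl⟩) g hg
    rw [← he] at hg ⊢
    exact ⟨⟨k, hk⟩ * x * (⟨k, hk⟩ : N)⁻¹, forall_of_sc (hsc i hi) hx hg, rfl⟩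
  refine ⟨W.map N.subtype, ?_, fun c hc => ?_⟩
  · refine normal_of_series S.2 (group_isSaturated S) (by rw [← hn]; exact key n le_rfl)
      (fun i => (C i).map N.subtype) n (by simp [h0]) (by rw [← hn]) key fun i hi => ?_
    rw [← Subgroup.map_commutator]
    exact Subgroup.map_mono (hcomm i hi)
  · obtain ⟨hcS, hcW⟩ := mem_centralizerIn.1 hc
    refine ⟨⟨c, hSN hcS⟩, hWc (mem_centralizerIn.2 ⟨hcS, fun x hx => Subtype.ext ?_⟩), rfl⟩
    exact hcW _ ⟨x, hx, rfl⟩

/-- A central quotient with a centric normal subgroup. -/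
theorem good_of_central (S : Sylow p X) (Z : Subgroup X) [Z.Normal] (hZp : IsPGroup p Z)
    (hZc : Z ≤ Subgroup.center X)
    (h : Good (S.mapSurjective (f := QuotientGroup.mk' Z) (QuotientGroup.mk'_surjective Z))) : Good S := by
  obtain ⟨W, hW, hWc⟩ := h
  set π := QuotientGroup.mk' Z
  obtain ⟨C, n, h0, hn, -, hsc, hcomm⟩ :=
    normal_series (S.mapSurjective (f := π) (QuotientGroup.mk'_surjective Z)).2 hW
  have hZS : Z ≤ (S : Subgroup X) := hZp.le_sylow_of_normal S
  have hSm : ((S : Subgroup X).map π).comap π = (S : Subgroup X) := by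
    rw [Subgroup.comap_map_eq, QuotientGroup.ker_mk', sup_eq_left.2 hZS]
  set D : ℕ → Subgroup X := fun i => if i = 0 then ⊥ else (C (i - 1)).comap π with hD
  have hD0 : D 0 = ⊥ := if_pos rfl
  have hDs : ∀ i, D (i + 1) = (C i).comap π := fun i => if_neg (Nat.succ_ne_zero i)
  have key : ∀ i ≤ n + 1, (groupFusionSystem (S : Subgroup X)).StronglyClosed (D i) := by
    rintro (_ | i) hi
    · rw [hD0]; exact sc_bot
    · rw [hDs]
      refine sc_of_forall ((Subgroup.comap_mono (hsc i (by omega)).1).trans hSm.le) fun x hx g hg => ?_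
      rw [Subgroup.mem_comap] at hx ⊢
      rw [map_mul, map_mul, map_inv]
      refine forall_of_sc (hsc i (by omega)) hx ?_
      rw [← map_inv, ← map_mul, ← map_mul]
      exact ⟨_, hg, rfl⟩
  refine ⟨W.comap π, ?_, fun c hc => ?_⟩
  · refine normal_of_series S.2 (group_isSaturated S) (by rw [← hn, ← hDs]; exact key (n + 1) le_rfl) D (n + 1)
      hD0 (by rw [hDs, hn]) key ?_
    rintro (_ | i) hi
    · rw [hD0, hDs, h0]
      refine le_of_eq (Subgroup.commutator_eq_bot_iff_le_centralizer.2 ?_)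
      intro x _
      refine Subgroup.mem_centralizer_iff.2 fun z hz => ?_
      have hz' : z ∈ Z := (QuotientGroup.eq_one_iff z).1 (Subgroup.mem_bot.1 hz)
      exact ((Subgroup.mem_center_iff.1 (hZc hz')) x).symm
    · rw [hDs, hDs, ← Subgroup.map_le_iff_le_comap, Subgroup.map_commutator]
      exact (Subgroup.commutator_mono (Subgroup.map_comap_le _ _) (Subgroup.map_comap_le _ _)).trans
        (hcomm i (by omega))
  · obtain ⟨hcS, hcW⟩ := mem_centralizerIn.1 hc
    refine hWc (mem_centralizerIn.2 ⟨⟨c, hcS, rfl⟩, fun x hx => ?_⟩)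
    obtain ⟨x, rfl⟩ := QuotientGroup.mk'_surjective Z x
    exact (map_mul π x c).symm.trans ((congrArg π (hcW x hx)).trans (map_mul π c x))

/-- Conjugation by an element normalizing `Sy` carries strongly closed subgroups to such. -/
theorem good_of_normal_centralizer (S : Sylow p X) {Q : Subgroup X} [Q.Normal] (hQp : IsPGroup p Q)
    (Y : Subgroup X) [Y.Normal] (hY : Y = Subgroup.centralizer (Q : Set X))
    (h : ∀ R : Sylow p Y, Good R) : Good S := by
  set F := groupFusionSystem (S : Subgroup X)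
  have hSY : IsSylowIn p ((S : Subgroup X) ⊓ Y) Y := isSylowIn_inter_normal S
  set R : Sylow p Y := hSY.toSylow
  have hRm : ∀ y : Y, y ∈ (R : Subgroup Y) ↔ (y : X) ∈ (S : Subgroup X) := fun y =>
    ⟨fun hy => (show (y : X) ∈ (S : Subgroup X) ⊓ Y from hy).1, fun hy => ⟨hy, y.2⟩⟩
  obtain ⟨W, hW, hWc⟩ := h R
  set FY := groupFusionSystem (R : Subgroup Y)
  set K := FY.core with hK
  have hKn : FY.IsNormal K := core_normal
  have hKR : K ≤ (R : Subgroup Y) := core_le_base
  have hinv : ∀ n ∈ Subgroup.normalizer (((S : Subgroup X) ⊓ Y : Subgroup X) : Set X),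
      K.map (MulAut.conjNormal n : MulAut Y).toMonoidHom = K := by
    intro n hn
    obtain ⟨C, m, h0, hm, -, hsc, hcomm⟩ := normal_series R.2 hKn
    set e := (MulAut.conjNormal n : MulAut Y)
    have heR : ∀ y : Y, e y ∈ (R : Subgroup Y) ↔ y ∈ (R : Subgroup Y) := fun y => by
      show (e y : X) ∈ (S : Subgroup X) ⊓ Y ↔ (y : X) ∈ (S : Subgroup X) ⊓ Y
      rw [MulAut.conjNormal_apply]
      exact (Subgroup.mem_normalizer_iff.1 hn _).symm
    have key : ∀ i ≤ m, FY.StronglyClosed ((C i).map e.toMonoidHom) := by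
      intro i hi
      refine sc_of_forall ?_ ?_
      · rintro _ ⟨x, hx, rfl⟩
        exact (heR x).2 ((hsc i hi).1 hx)
      · rintro _ ⟨x, hx, rfl⟩ g hg
        obtain ⟨g', rfl⟩ := e.surjective g
        refine ⟨g' * x * g'⁻¹, forall_of_sc (hsc i hi) hx ((heR _).1 ?_), by simp⟩
        simpa using hg
    have hn' : FY.IsNormal (K.map e.toMonoidHom) := by
      refine normal_of_series R.2 (group_isSaturated R) (by rw [← hm]; exact key m le_rfl)
        (fun i => (C i).map e.toMonoidHom) m (by simp [h0]) (by rw [← hm]) key fun i hi => ?_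
      rw [← Subgroup.map_commutator]
      exact Subgroup.map_mono (hcomm i hi)
    exact Subgroup.eq_of_le_of_card_ge (le_core hn') (Subgroup.card_map_of_injective e.injective).ge
  have hQS : Q ≤ (S : Subgroup X) := hQp.le_sylow_of_normal S
  have hQn : F.IsNormal Q := by
    haveI : Group.IsNilpotent ↥Q := hQp.isNilpotent
    obtain ⟨m, hm⟩ := (Subgroup.isNilpotent_iff_lowerCentralSeries Q).1 inferInstance
    have key : ∀ i, (Q.lowerCentralSeries i).Normal := fun i => by
      induction i with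
      | zero => simpa using (inferInstance : Q.Normal)
      | succ i ih => rw [Subgroup.lowerCentralSeries_succ]; infer_instance
    have hscQ : ∀ i, F.StronglyClosed (Q.lowerCentralSeries i) := fun i =>
      sc_of_forall ((Q.lowerCentralSeries_le_self _).trans hQS) fun x hx g _ => (key i).conj_mem x hx g
    refine normal_of_series S.2 (group_isSaturated S) (sc_of_forall hQS fun x hx g _ =>
      (inferInstance : Q.Normal).conj_mem x hx g) (fun i => Q.lowerCentralSeries (m - i)) m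
      (by simpa using hm) (by simp) (fun i _ => hscQ _) fun i hi => ?_
    rw [Subgroup.commutator_comm, show m - i = m - (i + 1) + 1 by omega, Subgroup.lowerCentralSeries_succ]
  set K' := K.map Y.subtype with hK'
  have hK'n : F.IsNormal K' := by
    obtain ⟨m, hm⟩ := (Subgroup.isNilpotent_iff_lowerCentralSeries K).1 (R.2.to_le hKR).isNilpotent
    have hscK : ∀ i, FY.StronglyClosed (K.lowerCentralSeries i) := fun i => by
      refine stronglyClosed_iff_fn.2 ⟨(K.lowerCentralSeries_le_self _).trans hKR, fun P f hf x hx hxK => ?_⟩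
      obtain ⟨g, hg, he, hg'⟩ := (normal_iff_fn.1 hKn).2 P f hf
      rw [← he x hx]
      exact map_lowerCentral hg le_sup_right hg' _ x hxK
    have hcn : ∀ n ∈ Subgroup.normalizer (((S : Subgroup X) ⊓ Y : Subgroup X) : Set X), ∀ i,
        (K.lowerCentralSeries i).map (MulAut.conjNormal n : MulAut Y).toMonoidHom = K.lowerCentralSeries i := by
      intro n hn i
      induction i with
      | zero => simpa using hinv n hn
      | succ i ih => rw [Subgroup.lowerCentralSeries_succ, Subgroup.map_commutator, ih, hinv n hn]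
    have key : ∀ i, F.StronglyClosed ((K.lowerCentralSeries i).map Y.subtype) := by
      intro i
      have hle : (K.lowerCentralSeries i).map Y.subtype ≤ (S : Subgroup X) := by
        rintro _ ⟨x, hx, rfl⟩
        exact (hRm x).1 ((hscK i).1 hx)
      refine sc_of_forall hle ?_
      rintro _ ⟨x, hx, rfl⟩ g hg
      obtain ⟨l, hl, n, hn, rfl⟩ := frattini_argument (H := ⊤) (g := g) hSY
        (by rw [Subgroup.normalizer_eq_top]) le_top trivial
      set e := (MulAut.conjNormal n : MulAut Y)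
      have hx1 : e x ∈ K.lowerCentralSeries i := (hcn n hn.2 i).le ⟨x, hx, rfl⟩
      have hval : ((⟨l, hl⟩ * e x * (⟨l, hl⟩ : Y)⁻¹ : Y) : X) = l * n * (x : X) * (l * n)⁻¹ := by
        simp [e, MulAut.conjNormal_apply, mul_assoc]
      refine ⟨⟨l, hl⟩ * e x * (⟨l, hl⟩ : Y)⁻¹, forall_of_sc (hscK i) hx1 ((hRm _).2 ?_), hval⟩
      rw [hval]
      exact hg
    refine normal_of_series S.2 (group_isSaturated S) (by simpa using key 0)
      (fun i => (K.lowerCentralSeries (m - i)).map Y.subtype) m (by simp [hm]) (by simp [hK'])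
      (fun i _ => key _) fun i hi => ?_
    rw [hK', ← Subgroup.map_commutator, Subgroup.commutator_comm, show m - i = m - (i + 1) + 1 by omega,
      Subgroup.lowerCentralSeries_succ]
  refine ⟨Q ⊔ K', normal_sup hQn hK'n, fun c hc => ?_⟩
  obtain ⟨hcS, hcW⟩ := mem_centralizerIn.1 hc
  have hcY : c ∈ Y := hY ▸ Subgroup.mem_centralizer_iff.2 fun q hq => hcW q (Subgroup.mem_sup_left hq)
  refine Subgroup.mem_sup_right ⟨⟨c, hcY⟩, le_core hW (hWc (mem_centralizerIn.2
    ⟨(hRm _).2 hcS, fun x hx => Subtype.ext ?_⟩)), rfl⟩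
  exact hcW x (Subgroup.mem_sup_right ⟨x, le_core hW hx, rfl⟩)

end Basic

theorem good_of_stable (hp : p ≠ 2) :
    ∀ (X : Type u) [Group X] [Finite X], Cfsg.IsNormalizerPStable p X → ∀ S : Sylow p X, Good S := by
  suffices key : ∀ (n : ℕ) (X : Type u) [Group X] [Finite X], Nat.card X = n → Cfsg.IsNormalizerPStable p X →
      ∀ S : Sylow p X, Good S from fun X _ _ h => key _ X rfl h
  intro n
  induction n using Nat.strong_induction_on with
  | _ n ih =>
  intro X _ _ hn hst S
  subst hn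
  by_cases hS1 : (S : Subgroup X) = ⊥
  · exact ⟨⊥, normal_bot, le_trans centralizerIn_le hS1.le⟩
  set J := Cfsg.centerThompsonAOf (S : Subgroup X) with hJ
  set N := Subgroup.normalizer (J : Set X) with hNdef
  have hJW : Cfsg.inducedFunctor (ZJStableFusion.zjW p) (S : Subgroup X) = J := ZJStableFusion.induced_zjW_sylow S
  have hW := ZJStableFusion.isCharPFunctor_zjW.{u} (p := p)
  have hSN : (S : Subgroup X) ≤ N := by
    rw [hNdef, ← hJW]
    exact Subgroup.le_normalizer.trans (SectionFactor.normalizer_le_normalizer_ind hW S.2)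
  by_cases hNtop : N = ⊤
  swap
  · refine good_of_controls S hSN (fun x hx g hg => ?_)
      (ih _ (lt_of_le_of_ne (Subgroup.card_le_card_group N) fun e => hNtop (Subgroup.eq_top_of_card_eq N e))
        N rfl (Cfsg.Agent.S3836.result hst N) _)
    obtain ⟨-, h⟩ := ZJStableFusion.controls hp hst S {x} (Set.singleton_subset_iff.2 hx)
    obtain ⟨k, hk, he⟩ := h g (by rw [Set.image_singleton]; exact Set.singleton_subset_iff.2 hg)
    exact ⟨k, hk, (he x rfl).symm⟩
  haveI : J.Normal := Subgroup.normalizer_eq_top_iff.mp hNtop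
  have hc := Functor.isConjugacyFunctor_induced hW (S : Subgroup X) S.2
  rw [hJW] at hc
  set Q := Cfsg.pCore p X with hQdef
  haveI hQn : Q.Normal := CfsgLib.LocalEven.SylowIn.pCore_normal X p
  have hQp : IsPGroup p Q := CfsgLib.LocalEven.SylowIn.isPGroup_pCore X p
  have hQ1 : Q ≠ ⊥ := fun e => hc.2.1 hS1 (le_bot_iff.1 (e ▸ CfsgLib.Solvable.Cores.le_pCore (S.2.to_le hc.1)))
  set Y := Subgroup.centralizer (Q : Set X) with hYdef
  refine good_of_normal_centralizer S hQp Y hYdef fun R => ?_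
  set Z := Q.subgroupOf Y with hZdef
  have hZp : IsPGroup p Z := hQp.comap_of_injective _ (Subgroup.subtype_injective Y)
  have hZc : Z ≤ Subgroup.center Y := fun z hz => Subgroup.mem_center_iff.2 fun y =>
    Subtype.ext (Subgroup.mem_centralizer_iff.1 y.2 _ hz).symm
  refine good_of_central R Z hZp hZc (ih _ ?_ (Y ⧸ Z) rfl
    (PStableQuotient.stable_quotient hp (Cfsg.Agent.S3836.result hst Y) Z hZp fun q _ =>
      Subgroup.mem_centralizer_iff.2 fun z hz => ((Subgroup.mem_center_iff.1 (hZc hz)) q).symm) _)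
  haveI : Nontrivial ↥Q := (Subgroup.nontrivial_iff_ne_bot Q).2 hQ1
  haveI := hQp.center_nontrivial
  obtain ⟨z, hz⟩ := exists_ne (1 : Subgroup.center ↥Q)
  have hzY : ((z : ↥Q) : X) ∈ Y := Subgroup.mem_centralizer_iff.2 fun q hq =>
    congrArg Subtype.val (Subgroup.mem_center_iff.1 z.2 ⟨q, hq⟩)
  have hZ1 : Z ≠ ⊥ := fun e => by
    have hmem : (⟨_, hzY⟩ : Y) ∈ Z := (z : ↥Q).2
    rw [e, Subgroup.mem_bot] at hmem
    have h1 : ((z : ↥Q) : X) = 1 := congrArg Subtype.val hmem
    exact hz (Subtype.ext (Subtype.ext h1))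
  refine lt_of_lt_of_le ?_ (Subgroup.card_le_card_group Y)
  rw [← Subgroup.card_mul_index Z]
  exact lt_mul_of_one_lt_left (Nat.pos_of_ne_zero Subgroup.index_ne_zero_of_finite)
    ((Subgroup.one_lt_card_iff_ne_bot Z).mpr hZ1)

/-- The automizer form of `p`-stability gives the normalizer form. -/
theorem stable_of_automizers {X : Type u} [Group X] [Finite X] (S : Sylow p X)
    (hst : ∀ Q : Subgroup X, (groupFusionSystem (S : Subgroup X)).IsFullyNormalized Q → ∀ χ : MulAut ↥Q,
      χ ∈ (groupFusionSystem (S : Subgroup X)).autGroup Q →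
      (∀ a : ↥Q, (χ a⁻¹) * a * (χ a⁻¹) * (χ (χ a)) = 1) →
      χ ∈ ((Cfsg.pCore p ↥((groupFusionSystem (S : Subgroup X)).autGroup Q)).map
        ((groupFusionSystem (S : Subgroup X)).autGroup Q).subtype : Subgroup (MulAut ↥Q))) :
    Cfsg.IsNormalizerPStable p X := by
  intro P hP g hg hquad
  set F := groupFusionSystem (S : Subgroup X)
  obtain ⟨T, hPT⟩ := hP.exists_le_sylow
  obtain ⟨k₀, hk₀⟩ := MulAction.exists_smul_eq X T S
  have hP₀ : P.map (MulAut.conj k₀).toMonoidHom ≤ (S : Subgroup X) := by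
    rw [← hk₀]; exact Subgroup.map_mono hPT
  obtain ⟨Q, hconj, hQ⟩ := exists_fullyNormalized (F := F) hP₀
  obtain ⟨-, hQS, k₁, hk₁⟩ := group_isConj_iff.1 hconj
  set k := k₁ * k₀ with hkdef
  have hkQ : P.map (MulAut.conj k).toMonoidHom = Q := by
    rw [hkdef, ← map_conj_conj]; exact hk₁
  have hnor : ∀ m ∈ Subgroup.normalizer (P : Set X), k * m * k⁻¹ ∈ Subgroup.normalizer (Q : Set X) := by
    intro m hm
    refine mem_normalizer_of_map_le fun x hx => ?_
    rw [← hkQ] at hx ⊢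
    obtain ⟨y, hy, rfl⟩ := hx
    exact ⟨m * y * m⁻¹, (Subgroup.mem_normalizer_iff.1 hm y).1 hy, by simp [mul_assoc]⟩
  have hA : ∀ {m : X} (hm : m ∈ Subgroup.normalizer (Q : Set X)), conjAut Q hm ∈ F.autGroup Q := fun hm => by
    rw [group_autGroup hQS]; exact conjAut_mem_autInducedBy hm trivial
  let f : ↥(Subgroup.normalizer (P : Set X)) →* ↥(F.autGroup Q) :=
    MonoidHom.mk' (fun m => ⟨conjAut Q (hnor m m.2), hA _⟩) fun a b => Subtype.ext (MulEquiv.ext fun x =>
      Subtype.ext (by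
        show k * ((a : X) * b) * k⁻¹ * (x : X) * (k * ((a : X) * b) * k⁻¹)⁻¹ =
          k * (a : X) * k⁻¹ * (k * (b : X) * k⁻¹ * (x : X) * (k * (b : X) * k⁻¹)⁻¹) * (k * (a : X) * k⁻¹)⁻¹
        group))
  have hfs : Function.Surjective f := by
    rintro ⟨α, hα⟩
    rw [group_autGroup hQS, mem_autInducedBy] at hα
    obtain ⟨m, -, hm⟩ := hα
    have hmn : k⁻¹ * m * k ∈ Subgroup.normalizer (P : Set X) := by
      refine mem_normalizer_of_map_le fun x hx => ?_
      have hxQ : k * x * k⁻¹ ∈ Q := hkQ ▸ ⟨x, hx, rfl⟩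
      obtain ⟨y, hy, he⟩ : m * (k * x * k⁻¹) * m⁻¹ ∈ P.map (MulAut.conj k).toMonoidHom := by
        rw [hkQ, ← hm ⟨_, hxQ⟩]; exact (α _).2
      have e : k⁻¹ * m * k * x * (k⁻¹ * m * k)⁻¹ = y := by
        have h2 : k * y * k⁻¹ = m * (k * x * k⁻¹) * m⁻¹ := he
        calc k⁻¹ * m * k * x * (k⁻¹ * m * k)⁻¹ = k⁻¹ * (m * (k * x * k⁻¹) * m⁻¹) * k := by group
          _ = k⁻¹ * (k * y * k⁻¹) * k := by rw [h2]
          _ = y := by group
      rw [e]; exact hy
    refine ⟨⟨_, hmn⟩, Subtype.ext (MulEquiv.ext fun x => Subtype.ext ?_)⟩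
    rw [hm]
    show k * (k⁻¹ * m * k) * k⁻¹ * (x : X) * (k * (k⁻¹ * m * k) * k⁻¹)⁻¹ = _
    group
  have hker : f.ker = (Subgroup.centralizer (P : Set X)).subgroupOf (Subgroup.normalizer (P : Set X)) := by
    ext m
    rw [MonoidHom.mem_ker, Subgroup.mem_subgroupOf, Subgroup.mem_centralizer_iff]
    constructor
    · intro h y hy
      have h1 := congrArg (fun χ : F.autGroup Q => (((χ : MulAut Q) ⟨k * y * k⁻¹, hkQ ▸ ⟨y, hy, rfl⟩⟩ : Q) : X)) h
      have h2 : k * (m : X) * k⁻¹ * (k * y * k⁻¹) * (k * (m : X) * k⁻¹)⁻¹ = k * y * k⁻¹ := h1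
      calc y * (m : X) = k⁻¹ * (k * y * k⁻¹) * k * m := by group
        _ = k⁻¹ * (k * (m : X) * k⁻¹ * (k * y * k⁻¹) * (k * (m : X) * k⁻¹)⁻¹) * k * m := by rw [h2]
        _ = m * y := by group
    · intro h
      refine Subtype.ext (MulEquiv.ext fun x => Subtype.ext ?_)
      obtain ⟨y, hy, he⟩ : (x : X) ∈ P.map (MulAut.conj k).toMonoidHom := hkQ ▸ x.2
      show k * (m : X) * k⁻¹ * (x : X) * (k * (m : X) * k⁻¹)⁻¹ = x
      have he' : k * y * k⁻¹ = (x : X) := he
      calc k * (m : X) * k⁻¹ * (x : X) * (k * (m : X) * k⁻¹)⁻¹ = k * ((m : X) * y) * (m : X)⁻¹ * k⁻¹ := by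
            rw [← he']; group
        _ = k * (y * (m : X)) * (m : X)⁻¹ * k⁻¹ := by rw [← h y hy]
        _ = k * y * k⁻¹ := by group
        _ = x := he'
  have hQg : ∀ a : ↥Q, (conjAut Q (hnor g hg)) a⁻¹ * a * (conjAut Q (hnor g hg)) a⁻¹ *
      (conjAut Q (hnor g hg)) ((conjAut Q (hnor g hg)) a) = 1 := by
    intro a
    obtain ⟨y, hy, he⟩ : (a : X) ∈ P.map (MulAut.conj k).toMonoidHom := hkQ ▸ a.2
    have hd : ⁅y⁻¹, g⁆ ∈ ⁅P, Subgroup.zpowers g⁆ :=
      Subgroup.commutator_mem_commutator (P.inv_mem hy) (Subgroup.mem_zpowers g)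
    have h2 : ⁅⁅y⁻¹, g⁆, g⁆ = 1 := Subgroup.mem_bot.1 (hquad ▸ Subgroup.commutator_mem_commutator hd (Subgroup.mem_zpowers g))
    have hcm : y⁻¹ * g * y * g⁻¹ * g = g * (y⁻¹ * g * y * g⁻¹) := by
      have := commutatorElement_eq_one_iff_mul_comm.1 h2
      simpa [commutatorElement_def, mul_assoc] using this
    apply Subtype.ext
    simp only [Subgroup.coe_mul, Subgroup.coe_inv, conjAut_coe, Subgroup.coe_one]
    rw [show (a : X) = k * y * k⁻¹ from he.symm]
    calc _ = k * (g * y⁻¹ * g⁻¹ * y * ((g * (y⁻¹ * g * y * g⁻¹)) * g⁻¹)) * k⁻¹ := by group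
      _ = k * (g * y⁻¹ * g⁻¹ * y * ((y⁻¹ * g * y * g⁻¹ * g) * g⁻¹)) * k⁻¹ := by rw [hcm]
      _ = 1 := by group
  have hres := hst Q hQ _ (hA (hnor g hg)) hQg
  obtain ⟨χ, hχ, hχe⟩ := hres
  set e := (QuotientGroup.quotientMulEquivOfEq hker.symm).trans (QuotientGroup.quotientKerEquivOfSurjective f hfs)
  rw [← CfsgLib.Solvable.Cores.map_pCore e p] at hχ
  obtain ⟨z, hz, hze⟩ := hχ
  have : z = QuotientGroup.mk ⟨g, hg⟩ := e.injective (hze.trans (Subtype.ext hχe))
  rw [← this]
  exact hz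

end CfsgLib.KGroups.PStableConstrained
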