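import Cfsg.Agent.Lib.Components.QdRankTwo
import Cfsg.Agent.Lib.Fusion.QuadSL2
import Mathlib.GroupTheory.SemidirectProduct

/-!
A group acting on a normal `p`-subgroup with the natural `SL(2, p)` module as quotient has a section `Qd(p)`.
-/

set_option autoImplicit false
set_option linter.style.haveILetI false
set_option linter.unusedSectionVars false

namespace CfsgLib.KGroups.QdSplit

open Matrix CfsgLib.Components.QdRankTwo
open scoped MatrixGroups commutatorElement

variable {p : ℕ} [Fact p.Prime]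

/-- The matrix of an element of the Levi factor. -/
def levMat (g : SL(2, ZMod p)) : SL3 p :=
  ⟨!![g.1 0 0, g.1 0 1, 0; g.1 1 0, g.1 1 1, 0; 0, 0, 1], by
    have h := g.2
    rw [Matrix.det_fin_two] at h
    simp [Matrix.det_fin_three]
    linear_combination h⟩

@[simp] theorem levMat_coe (g : SL(2, ZMod p)) :
    (levMat g : Matrix (Fin 3) (Fin 3) (ZMod p)) = !![g.1 0 0, g.1 0 1, 0; g.1 1 0, g.1 1 1, 0; 0, 0, 1] := rfl

/-- The Levi factor of `Qd(p)`. -/
def lev : SL(2, ZMod p) →* ↥(Cfsg.qd p) where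
  toFun g := ⟨levMat g, Subgroup.subset_closure ⟨by simp, by simp, by simp⟩⟩
  map_one' := by
    apply Subtype.ext; apply Subtype.ext
    ext i j
    fin_cases i <;> fin_cases j <;> simp
  map_mul' g h := by
    apply Subtype.ext
    show levMat (g * h) = levMat g * levMat h
    apply Subtype.ext
    ext i j
    fin_cases i <;> fin_cases j <;>
      simp [Matrix.SpecialLinearGroup.coe_mul, Matrix.mul_apply, Fin.sum_univ_two, Fin.sum_univ_three]

/-- The translations, as a homomorphism. -/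
def tVh : Multiplicative (Fin 2 → ZMod p) →* ↥(Cfsg.qd p) where
  toFun z := ⟨tV (z.toAdd 0) (z.toAdd 1), tV_mem _ _⟩
  map_one' := Subtype.ext (by simp [tV_zero])
  map_mul' z w := Subtype.ext (by simp [tV_mul])

theorem lev_conj (g : SL(2, ZMod p)) (z : Fin 2 → ZMod p) :
    lev g * tVh (Multiplicative.ofAdd z) * (lev g)⁻¹ = tVh (Multiplicative.ofAdd (g.1.mulVec z)) := by
  apply Subtype.ext
  show (lev g : SL3 p) * tV (z 0) (z 1) * (lev g : SL3 p)⁻¹ = tV (g.1.mulVec z 0) (g.1.mulVec z 1)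
  rw [conj_tV (qd_le_affine (lev g).2)]
  congr 1 <;> simp [lev, Matrix.mulVec, dotProduct, Fin.sum_univ_two]

theorem exists_eq_mul (x : ↥(Cfsg.qd p)) : ∃ (z : Multiplicative (Fin 2 → ZMod p)) (g : SL(2, ZMod p)),
    x = tVh z * lev g := by
  obtain ⟨M, hM⟩ := x
  have hA := qd_le_affine hM
  have h0 := hA 0
  have h1 := hA 1
  have h2 := hA 2
  refine ⟨Multiplicative.ofAdd ![M.1 0 2, M.1 1 2], ⟨!![M.1 0 0, M.1 0 1; M.1 1 0, M.1 1 1], ?_⟩, ?_⟩
  · have h : Matrix.det M.1 = 1 := M.2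
    rw [Matrix.det_fin_three, h0, h1, h2] at h
    simp [Matrix.det_fin_two] at h ⊢
    linear_combination h
  · apply Subtype.ext
    apply Subtype.ext
    show M.1 = (tV _ _ : SL3 p).1 * ((lev (p := p) _ : ↥(Cfsg.qd p)) : SL3 p).1
    ext i j
    fin_cases i <;> fin_cases j <;>
      simp_all [lev, levMat, Matrix.mul_apply, Fin.sum_univ_three]

variable {Γ : Type*} [Group Γ] [Finite Γ]

/-- The natural module as a quotient of a normal `p`-subgroup splits off a copy of `Qd(p)`. -/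
theorem exists_hom_qd (hp : p ≠ 2) (V : Subgroup Γ) [hVn : V.Normal] (hV : IsPGroup p V)
    (π : Γ →* SL(2, ZMod p)) (hπ : Function.Surjective π)
    (θ : V →* Multiplicative (Fin 2 → ZMod p)) (hθ : Function.Surjective θ)
    (hcompat : ∀ (g : Γ) (v : V),
      θ ⟨g * v * g⁻¹, hVn.conj_mem _ v.2 g⟩ = Multiplicative.ofAdd ((π g).1.mulVec (θ v).toAdd)) :
    ∃ (M : Subgroup Γ) (f : M →* ↥(Cfsg.qd p)), Function.Surjective f := by
  have hπV : ∀ v : V, π v = 1 := by
    intro v
    refine Subtype.ext (Matrix.ext_iff_mulVec.mpr fun z => ?_)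
    obtain ⟨w, hw⟩ := hθ (Multiplicative.ofAdd z)
    have h := hcompat v w
    rw [show (⟨(v : Γ) * w * (v : Γ)⁻¹, hVn.conj_mem _ w.2 _⟩ : V) = v * w * v⁻¹ from rfl, map_mul, map_mul,
      map_inv, mul_comm (θ v), mul_inv_cancel_right, hw] at h
    simpa using (congrArg Multiplicative.toAdd h).symm
  have h2 : (2 : ZMod p) ≠ 0 := two_ne_zero' hp
  set c : SL(2, ZMod p) := CfsgLib.Fusion.QuadSL2.negI with hc
  have hcc : c * c = 1 := Subtype.ext (by
    rw [Matrix.SpecialLinearGroup.coe_mul, hc, CfsgLib.Fusion.QuadSL2.negI_val]; simp)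
  have hc1 : c ≠ 1 := fun e => h2 (by
    have h1 : (-1 : ZMod p) = 1 := by
      simpa [hc, CfsgLib.Fusion.QuadSL2.negI] using congrArg (fun M : SL(2, ZMod p) => M.1 0 0) e
    linear_combination -h1)
  set C := Subgroup.zpowers c with hC
  haveI hCn : C.Normal := ⟨fun x hx g => by
    obtain ⟨n, rfl⟩ := hx
    show g * c ^ n * g⁻¹ ∈ C
    rw [← conj_zpow, hc, CfsgLib.Fusion.QuadSL2.negI_comm, mul_inv_cancel_right]
    exact zpow_mem (Subgroup.mem_zpowers _) n⟩
  haveI : Fact (Nat.Prime 2) := ⟨Nat.prime_two⟩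
  have hC2 : IsPGroup 2 C := IsPGroup.of_card (n := 1) (by
    rw [hC, Nat.card_zpowers, pow_one]
    exact orderOf_eq_prime (by rw [pow_two, hcc]) hc1)
  set Z := C.comap π with hZ
  haveI : Z.Normal := hCn.comap π
  obtain ⟨T⟩ : Nonempty (Sylow 2 Z) := inferInstance
  set T' := (T : Subgroup Z).map Z.subtype with hT'
  obtain ⟨t, htT, htc⟩ : ∃ t ∈ T', π t = c := by
    have hs : Function.Surjective (π.subgroupComap C) := by
      rintro ⟨y, hy⟩
      obtain ⟨x, rfl⟩ := hπ y
      exact ⟨⟨x, hy⟩, rfl⟩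
    have htop : ((T.mapSurjective hs : Sylow 2 C) : Subgroup C) = ⊤ :=
      ((T.mapSurjective hs).is_maximal' (hC2.to_subgroup ⊤) le_top).symm
    have hmem : (⟨c, Subgroup.mem_zpowers c⟩ : C) ∈ (T : Subgroup Z).map (π.subgroupComap C) := by
      rw [← Sylow.coe_mapSurjective hs T, htop]; exact Subgroup.mem_top _
    obtain ⟨x, hx, hxc⟩ := hmem
    exact ⟨x, Subgroup.mem_map_of_mem Z.subtype hx, congrArg Subtype.val hxc⟩
  set N := Subgroup.normalizer (T' : Set Γ) with hN
  have hsup : N ⊔ Z = ⊤ := Sylow.normalizer_sup_eq_top T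
  have htN : t ∈ N := Subgroup.le_normalizer htT
  have hπN : ∀ g : SL(2, ZMod p), ∃ n ∈ N, π n = g := by
    have h1 : N.map π = ⊤ := by
      have h2' : (N ⊔ Z).map π = ⊤ := by rw [hsup, Subgroup.map_top_of_surjective π hπ]
      rw [Subgroup.map_sup, sup_eq_left.mpr] at h2'
      · exact h2'
      · refine (Subgroup.map_comap_le π C).trans ?_
        rw [hC, Subgroup.zpowers_le]
        exact ⟨t, htN, htc⟩
    intro g
    exact Subgroup.mem_map.mp (h1 ▸ Subgroup.mem_top g : g ∈ N.map π)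
  have hTp : IsPGroup 2 T' := T.2.map _
  have hdis : Disjoint V T' := IsPGroup.disjoint_of_ne p 2 hp V T' hV hTp
  have hker : ∀ v : V, (v : Γ) ∈ N → θ v = 1 := by
    intro v hv
    have hcv : t * v * t⁻¹ * (v : Γ)⁻¹ = 1 := by
      refine Subgroup.disjoint_def.mp hdis (V.mul_mem (hVn.conj_mem _ v.2 t) (V.inv_mem v.2)) ?_
      rw [show t * (v : Γ) * t⁻¹ * (v : Γ)⁻¹ = t * ((v : Γ) * t⁻¹ * (v : Γ)⁻¹) by group]
      exact T'.mul_mem htT ((Subgroup.mem_normalizer_iff.mp hv _).mp (T'.inv_mem htT))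
    have h := hcompat t v
    rw [show (⟨t * v * t⁻¹, hVn.conj_mem _ v.2 t⟩ : V) = v from Subtype.ext (mul_inv_eq_one.mp hcv), htc,
      hc, CfsgLib.Fusion.QuadSL2.negI_val, Matrix.neg_mulVec, Matrix.one_mulVec] at h
    have h' : (θ v).toAdd = -(θ v).toAdd := congrArg Multiplicative.toAdd h
    apply Multiplicative.toAdd.injective
    funext i
    have hi := congrFun h' i
    simp only [Pi.neg_apply] at hi
    exact (mul_eq_zero.mp (show (2 : ZMod p) * (θ v).toAdd i = 0 by linear_combination hi)).resolve_left h2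
  let φ : N →* MulAut V := (MulAut.conjNormal).comp N.subtype
  let g1 : V ⋊[φ] N →* Γ := SemidirectProduct.lift V.subtype N.subtype (fun n => by
    ext v
    simp [φ, MulAut.conjNormal_apply])
  let g2 : V ⋊[φ] N →* ↥(Cfsg.qd p) := SemidirectProduct.lift (tVh.comp θ) ((lev.comp π).comp N.subtype) (fun n => by
    ext1 v
    show tVh (θ (φ n v)) = lev (π n) * tVh (θ v) * (lev (π n))⁻¹
    rw [show θ v = Multiplicative.ofAdd (θ v).toAdd from rfl, lev_conj, ← hcompat (n : Γ) v]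
    rfl)
  have hg1 : ∀ x, g1 x = (x.left : Γ) * (x.right : Γ) := fun x => rfl
  have hg2 : ∀ x, g2 x = tVh (θ x.left) * lev (π x.right) := fun x => rfl
  have hle : g1.ker ≤ g2.ker := by
    intro x hx
    rw [MonoidHom.mem_ker, hg1] at hx
    rw [MonoidHom.mem_ker, hg2]
    have hl : (x.left : Γ) ∈ N := by
      rw [eq_inv_of_mul_eq_one_left hx]; exact N.inv_mem x.right.2
    have hr : π x.right = 1 := by
      have := congrArg π hx
      rwa [map_mul, hπV, one_mul, map_one] at this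
    rw [hker _ hl, hr, map_one, map_one, one_mul]
  refine ⟨g1.range, g1.rangeRestrict.liftOfSurjective g1.rangeRestrict_surjective
    ⟨g2, by rwa [MonoidHom.ker_rangeRestrict]⟩, fun y => ?_⟩
  obtain ⟨z, g, rfl⟩ := exists_eq_mul y
  obtain ⟨v, hv⟩ := hθ z
  obtain ⟨n, hn, hng⟩ := hπN g
  refine ⟨g1.rangeRestrict ⟨v, ⟨n, hn⟩⟩, ?_⟩
  rw [MonoidHom.liftOfRightInverse_comp_apply]
  show tVh (θ v) * lev (π n) = _
  rw [hv, hng]

end CfsgLib.KGroups.QdSplit
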