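import Cfsg.Prelude.Def_ConjugacyFunctors
import Cfsg.Agent.Lib.KGroups.QdNatural
import Cfsg.Agent.Lib.KGroups.QdSplit
import Cfsg.Agent.Lib.Fusion.SL2Sections

/-!
For odd `p`, a group without a section `Qd(p)` is `p`-stable in all its sections.
-/

set_option autoImplicit false
set_option linter.style.haveILetI false
set_option linter.unusedSectionVars false

namespace CfsgLib.KGroups.QdStable

open Matrix CfsgLib.Solvable CfsgLib.Solvable.Basic CfsgLib.Fusion CfsgLib.Fusion.QuadStable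
open scoped MatrixGroups commutatorElement IsMulCommutative

universe v w

/-- `Qd(p)` is a section, seen as the image of a subgroup. -/
def HasQd (p : ℕ) (X : Type*) [Group X] : Prop :=
  ∃ (L : Subgroup X) (f : L →* ↥(Cfsg.qd p)), Function.Surjective f

variable {p : ℕ}

theorem HasQd.of_surjective {X Y : Type*} [Group X] [Group Y] (φ : X →* Y)
    (hφ : Function.Surjective φ) (h : HasQd p Y) : HasQd p X := by
  obtain ⟨L, f, hf⟩ := h
  refine ⟨L.comap φ, f.comp (φ.subgroupComap L), hf.comp ?_⟩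
  rintro ⟨y, hy⟩
  obtain ⟨x, rfl⟩ := hφ y
  exact ⟨⟨x, hy⟩, rfl⟩

theorem HasQd.of_subgroup {X : Type*} [Group X] (L : Subgroup X) (h : HasQd p L) : HasQd p X := by
  obtain ⟨L', f, hf⟩ := h
  let e := L'.equivMapOfInjective L.subtype L.subtype_injective
  exact ⟨L'.map L.subtype, f.comp e.symm.toMonoidHom, hf.comp e.symm.surjective⟩

theorem hasQd_iff {G : Type v} [Group G] [Finite G] : HasQd p G ↔ Cfsg.Involves ↥(Cfsg.qd p) G := by
  constructor
  · intro h
    have e := (Subgroup.topEquiv : (⊤ : Subgroup G) ≃* G)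
    obtain ⟨L, f, hf⟩ := HasQd.of_surjective e.toMonoidHom e.surjective h
    obtain ⟨K, R, hR, -, hiso⟩ := QuadSection.exists_section L f hf
    exact ⟨K, R, hR, hiso⟩
  · rintro ⟨K, R, hR, ⟨e⟩⟩
    exact ⟨K, e.toMonoidHom.comp (QuotientGroup.mk' _), e.surjective.comp (QuotientGroup.mk'_surjective _)⟩

variable [Fact p.Prime]

/-- A quadratic element outside `O_p` of the automiser of an elementary abelian subgroup gives `Qd(p)`. -/
theorem hasQd_of_not_stable (hp : p ≠ 2) {G : Type v} [Group G] [Finite G] (V : Subgroup G) [hVn : V.Normal]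
    (hV : Cfsg.IsElementaryAbelian p V) (h : ¬ Cfsg.IsPStableOn p V) : HasQd p G := by
  haveI := hV.1
  have hle : (⊤ : Subgroup G) ≤ Subgroup.normalizer (V : Set G) := by rw [Subgroup.normalizer_eq_top]
  let ρ₀ : G →* (AddMonoid.End (Additive V))ˣ := (conjEnd V ⊤ hle).comp Subgroup.topEquiv.symm.toMonoidHom
  have happ : ∀ (g : G) (u : Additive V),
      ((Additive.toMul ((ρ₀ g : AddMonoid.End (Additive V)) u) : V) : G) =
        g * ((Additive.toMul u : V) : G) * g⁻¹ := fun g u => conjEnd_apply V ⊤ hle ⟨g, trivial⟩ u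
  set C := Subgroup.centralizer (V : Set G) with hC
  have hker : ∀ g : G, ρ₀ g = 1 ↔ g ∈ C := by
    intro g
    rw [hC, Subgroup.mem_centralizer_iff]
    constructor
    · intro e v hv
      have h1 := happ g (Additive.ofMul ⟨v, hv⟩)
      rw [e] at h1
      exact (mul_inv_eq_iff_eq_mul.mp h1.symm).symm
    · intro e
      refine Units.ext (AddMonoidHom.ext fun u => ?_)
      apply Additive.toMul.injective
      apply Subtype.ext
      refine (happ g u).trans ?_
      rw [← e _ (Additive.toMul u : V).2, mul_inv_cancel_right]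
      rfl
  let ρ : G ⧸ C →* (AddMonoid.End (Additive V))ˣ := QuotientGroup.lift _ ρ₀ fun g hg => (hker g).mpr hg
  have hρ : Function.Injective ρ := by
    rw [injective_iff_map_eq_one]
    intro x hx
    obtain ⟨g, rfl⟩ := QuotientGroup.mk'_surjective _ x
    exact (QuotientGroup.eq_one_iff g).mpr ((hker g).mp hx)
  unfold Cfsg.IsPStableOn at h
  push Not at h
  obtain ⟨a, hq, hna⟩ := h
  have hqa : IsQuad ρ (QuotientGroup.mk a) := conjEnd_isQuad hle (Subgroup.mem_top a) hq
  obtain ⟨L, a', b', hgen, hqa', hqb', hnp⟩ := exists_pair (additive_exponent hV) ρ hρ hqa hna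
  obtain ⟨c, hc, hc1⟩ := exists_coprime_ne_one hnp
  obtain ⟨L₀, π₀, W₂, θ, hπ₀, hθ, he⟩ := QdNatural.exists_natQuot hp a' b' hgen (Nat.card (Additive V))
    (Additive V) rfl (additive_exponent hV) (ρ.comp L.subtype) hqa' hqb' c hc
    (fun e => hc1 ((hρ.comp L.subtype_injective) (e.trans (map_one _).symm)))
  set M := (L₀.map L.subtype).comap (QuotientGroup.mk' C) with hM
  let q : M →* L₀ := (L₀.equivMapOfInjective L.subtype L.subtype_injective).symm.toMonoidHom.comp
    ((QuotientGroup.mk' C).subgroupComap (L₀.map L.subtype))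
  have hqs : Function.Surjective q := by
    refine (L₀.equivMapOfInjective L.subtype L.subtype_injective).symm.surjective.comp ?_
    rintro ⟨y, hy⟩
    obtain ⟨x, rfl⟩ := QuotientGroup.mk'_surjective C y
    exact ⟨⟨x, hy⟩, rfl⟩
  have hqv : ∀ m : M, ((q m : L) : G ⧸ C) = QuotientGroup.mk (m : G) := fun m =>
    congrArg Subtype.val ((L₀.equivMapOfInjective L.subtype L.subtype_injective).apply_symm_apply _)
  let V₂ : Subgroup G :=
    { carrier := {x | ∃ hx : x ∈ V, Additive.ofMul (⟨x, hx⟩ : V) ∈ W₂}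
      one_mem' := ⟨V.one_mem, W₂.zero_mem⟩
      mul_mem' := fun {x y} ⟨hx, hx'⟩ ⟨hy, hy'⟩ => ⟨V.mul_mem hx hy, W₂.add_mem hx' hy'⟩
      inv_mem' := fun {x} ⟨hx, hx'⟩ => ⟨V.inv_mem hx, W₂.neg_mem hx'⟩ }
  set U := V₂.subgroupOf M with hU
  have hmemV : ∀ m : M, m ∈ U → (m : G) ∈ V := fun m hm => Exists.fst hm
  let θ' : U →* Multiplicative (Fin 2 → ZMod p) :=
    MonoidHom.mk' (fun m => Multiplicative.ofAdd (θ ⟨Additive.ofMul ⟨((m : M) : G), hmemV m m.2⟩, m.2.2⟩))
      (fun m n => by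
        rw [← ofAdd_add, ← map_add]
        rfl)
  have hact : ∀ (g : M) (u : W₂), ((Additive.toMul
      ((ρ.comp L.subtype (q g : L) : AddMonoid.End (Additive V)) u) : V) : G) =
        (g : G) * ((Additive.toMul (u : Additive V) : V) : G) * (g : G)⁻¹ := by
    intro g u
    show ((Additive.toMul ((ρ ((q g : L) : G ⧸ C) : AddMonoid.End (Additive V)) u) : V) : G) = _
    rw [hqv]
    exact happ g u
  haveI hUn : U.Normal := by
    refine ⟨fun m hm g => ?_⟩
    obtain ⟨hu, -⟩ := he (q g) ⟨_, hm.2⟩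
    refine ⟨hVn.conj_mem _ (hmemV m hm) g, ?_⟩
    convert hu using 1
    exact Additive.toMul.injective (Subtype.ext (hact g ⟨_, hm.2⟩).symm)
  have hVp : IsPGroup p V := fun x => ⟨1, Subtype.ext (by simpa using hV.2 _ x.2)⟩
  have hUp : IsPGroup p U := (hVp.to_le (show V₂ ≤ V from fun x hx => Exists.fst hx)).comap_of_injective _ M.subtype_injective
  have hθs : Function.Surjective θ' := by
    intro z
    obtain ⟨⟨u, hu⟩, hz⟩ := hθ z.toAdd
    have hm : ((Additive.toMul u : V) : G) ∈ M := by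
      rw [hM, Subgroup.mem_comap, show QuotientGroup.mk' C ((Additive.toMul u : V) : G) = 1 from
        (QuotientGroup.eq_one_iff _).mpr (Subgroup.le_centralizer V (Additive.toMul u : V).2)]
      exact one_mem _
    exact ⟨⟨⟨_, hm⟩, (Additive.toMul u : V).2, hu⟩, congrArg Multiplicative.ofAdd hz⟩
  have hcomp : ∀ (g : M) (v : U), θ' ⟨g * v * g⁻¹, hUn.conj_mem _ v.2 g⟩ =
      Multiplicative.ofAdd ((π₀.comp q g).1.mulVec (θ' v).toAdd) := by
    intro g v
    obtain ⟨hu, hθu⟩ := he (q g) ⟨_, v.2.2⟩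
    show Multiplicative.ofAdd _ = Multiplicative.ofAdd ((π₀ (q g)).1.mulVec (θ ⟨_, v.2.2⟩))
    rw [← hθu]
    congr 2
    exact Subtype.ext (Additive.toMul.injective (Subtype.ext (hact g ⟨_, v.2.2⟩).symm))
  obtain ⟨M', f, hf⟩ := QdSplit.exists_hom_qd hp U hUp (π₀.comp q) (hπ₀.comp hqs) θ' hθs hcomp
  exact HasQd.of_subgroup M ⟨M', f, hf⟩

/-- Without a section `Qd(p)` the action on every normal `p`-subgroup is `p`-stable. -/
theorem isPStableOn_of_free (hp : p ≠ 2) {G : Type v} [Group G] [Finite G] (h : ¬ HasQd p G)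
    (P : Subgroup G) [hPn : P.Normal] (hP : IsPGroup p P) : Cfsg.IsPStableOn p P := by
  set Φ := (frattini ↥P).map P.subtype with hΦ
  haveI : Φ.Normal := inferInstance
  set π := QuotientGroup.mk' Φ with hπ
  have hπs := QuotientGroup.mk'_surjective Φ
  set V := P.map π with hV
  haveI : V.Normal := Subgroup.Normal.map inferInstance π hπs
  have hVEA : Cfsg.IsElementaryAbelian p V := by
    refine ⟨isMulCommutative_subgroup_iff.mpr ?_, ?_⟩
    · rintro _ ⟨x, hx, rfl⟩ _ ⟨y, hy, rfl⟩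
      rw [← commutatorElement_eq_one_iff_mul_comm, ← map_commutatorElement]
      exact (QuotientGroup.eq_one_iff _).mpr ⟨⁅(⟨x, hx⟩ : P), ⟨y, hy⟩⁆,
        CfsgLib.PGroup.Frattini.commutatorElement_mem_frattini hP _ _, rfl⟩
    · rintro _ ⟨x, hx, rfl⟩
      rw [← map_pow]
      exact (QuotientGroup.eq_one_iff _).mpr ⟨(⟨x, hx⟩ : P) ^ p,
        CfsgLib.PGroup.Frattini.pow_mem_frattini hP _, rfl⟩
  set C := Subgroup.centralizer (V : Set (G ⧸ Φ)) with hC
  let θ : G →* (G ⧸ Φ) ⧸ C := (QuotientGroup.mk' C).comp π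
  have hθs : Function.Surjective θ := (QuotientGroup.mk'_surjective C).comp hπs
  have hst : Cfsg.IsPStableOn p V := by
    by_contra hns
    exact h ((hasQd_of_not_stable hp V hVEA hns).of_surjective π hπs)
  intro a hq
  set CP := Subgroup.centralizer (P : Set G) with hCP
  haveI : CP.Normal := inferInstance
  have hθa : θ a ∈ Cfsg.pCore p ((G ⧸ Φ) ⧸ C) := hst (π a) (by
    rw [← MonoidHom.map_zpowers, hV, ← Subgroup.map_commutator, ← Subgroup.map_commutator, hq, Subgroup.map_bot])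
  haveI : (Cfsg.pCore p ((G ⧸ Φ) ⧸ C)).Normal := Subgroup.sSup_normal _ fun _ h => h.1
  set D := (Cfsg.pCore p ((G ⧸ Φ) ⧸ C)).comap θ with hD
  haveI : (D.map (QuotientGroup.mk' CP)).Normal :=
    Subgroup.Normal.map (Subgroup.Normal.comap inferInstance θ) _ (QuotientGroup.mk'_surjective CP)
  refine Cores.le_pCore ?_ (Subgroup.mem_map_of_mem (QuotientGroup.mk' CP) (show a ∈ D from hθa))
  rintro ⟨_, x, hx, rfl⟩
  obtain ⟨x₁, b, hxab, ⟨i, hi⟩, hb, -, hbmem⟩ : ∃ x₁ b : G, x = x₁ * b ∧ (∃ i, orderOf x₁ = p ^ i) ∧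
      (orderOf b).Coprime p ∧ x₁ ∈ Subgroup.zpowers x ∧ b ∈ Subgroup.zpowers x :=
    ZJConstrained.isPStableOn_quotient.exists_parts x
  have hbD : b ∈ D := Subgroup.zpowers_le.mpr hx hbmem
  have hθb : θ b = 1 := congrArg Subtype.val (CfsgLib.Fusion.Basic.eq_one_of_isPGroup_of_coprime
    (Cores.isPGroup_pCore (G := (G ⧸ Φ) ⧸ C) p) (x := ⟨θ b, hbD⟩) (by
      rw [← Subgroup.orderOf_coe]
      exact Nat.Coprime.coprime_dvd_left (orderOf_map_dvd θ b) hb))
  have hπb : π b ∈ C := (QuotientGroup.eq_one_iff (π b)).mp hθb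
  have hbP : b ∈ CP := by
    refine (Coprime.le_centralizer_of_frattini (A := Subgroup.zpowers b) (K := P)
      (by rw [Subgroup.normalizer_eq_top]; exact le_top) ?_ ?_) (Subgroup.mem_zpowers b)
    · obtain ⟨j, hj⟩ := IsPGroup.iff_card.mp (hP.to_subgroup (frattini P))
      rw [Nat.card_zpowers, hj]
      exact hb.pow_right j
    · intro c hc' y hy
      obtain ⟨j, rfl⟩ := hc'
      have hcj : π (b ^ j) ∈ C := by rw [map_zpow]; exact C.zpow_mem hπb j
      rw [← hΦ, ← QuotientGroup.eq_one_iff]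
      show π ⁅b ^ j, y⁆ = 1
      rw [map_commutatorElement, commutatorElement_eq_one_iff_mul_comm]
      exact (Subgroup.mem_centralizer_iff.mp hcj _ (Subgroup.mem_map_of_mem _ hy)).symm
  refine ⟨i, Subtype.ext ?_⟩
  rw [Subgroup.coe_pow, Subgroup.coe_one]
  show (QuotientGroup.mk' CP x) ^ p ^ i = 1
  rw [hxab, map_mul, (QuotientGroup.eq_one_iff b).mpr hbP |> fun e => (show QuotientGroup.mk' CP b = 1 from e),
    mul_one, ← map_pow, ← hi, pow_orderOf_eq_one, map_one]

/-- Stability of all normalizer actions is `p`-stability in the normalizer form. -/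
theorem isNormalizerPStable_of_stableOn {G : Type*} [Group G] [Finite G]
    (h : ∀ P : Subgroup G, IsPGroup p P →
      haveI : (P.subgroupOf (Subgroup.normalizer (P : Set G))).Normal := Subgroup.normal_in_normalizer
      Cfsg.IsPStableOn p (P.subgroupOf (Subgroup.normalizer (P : Set G)))) :
    Cfsg.IsNormalizerPStable p G := by
  intro P hP g hg hq
  set N := Subgroup.normalizer (P : Set G) with hN
  haveI : (P.subgroupOf N).Normal := Subgroup.normal_in_normalizer
  have hq' : ⁅⁅P.subgroupOf N, Subgroup.zpowers (⟨g, hg⟩ : N)⁆, Subgroup.zpowers (⟨g, hg⟩ : N)⁆ = ⊥ := by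
    rw [← Subgroup.map_eq_bot_iff_of_injective _ N.subtype_injective, Subgroup.map_commutator,
      Subgroup.map_commutator, MonoidHom.map_zpowers, Subgroup.map_subgroupOf_eq_of_le Subgroup.le_normalizer]
    exact hq
  have h1 := h P hP ⟨g, hg⟩ hq'
  have heq : Subgroup.centralizer ((P.subgroupOf N : Subgroup N) : Set N) =
      (Subgroup.centralizer (P : Set G)).subgroupOf N := by
    ext x
    simp only [Subgroup.mem_centralizer_iff, Subgroup.mem_subgroupOf, SetLike.mem_coe]
    exact ⟨fun hx y hy => congrArg Subtype.val (hx ⟨y, Subgroup.le_normalizer hy⟩ hy),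
      fun hx y hy => Subtype.ext (hx y hy)⟩
  haveI := Subgroup.sSup_normal {K : Subgroup (N ⧸ Subgroup.centralizer ((P.subgroupOf N : Subgroup N) : Set N)) |
    K.Normal ∧ IsPGroup p K} fun _ hK => hK.1
  exact Cores.le_pCore ((Cores.isPGroup_pCore p).map (QuotientGroup.quotientMulEquivOfEq heq).toMonoidHom)
    (hn := Subgroup.Normal.map inferInstance _ (QuotientGroup.quotientMulEquivOfEq heq).surjective)
    (Subgroup.mem_map_of_mem _ h1)

/-- Every group without a section `Qd(p)` is `p`-stable in the normalizer form. -/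
theorem isNormalizerPStable_of_free (hp : p ≠ 2) {G : Type v} [Group G] [Finite G] (h : ¬ HasQd p G) :
    Cfsg.IsNormalizerPStable p G :=
  isNormalizerPStable_of_stableOn fun P hP =>
    haveI : (P.subgroupOf (Subgroup.normalizer (P : Set G))).Normal := Subgroup.normal_in_normalizer
    isPStableOn_of_free hp (fun h' => h (h'.of_subgroup _)) _ (hP.comap_of_injective _ (Subgroup.subtype_injective _))

/-- The sections of a group without a section `Qd(p)` are `p`-stable. -/
theorem sections_stable (hp : p ≠ 2) {G : Type v} [Group G] [Finite G]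
    (h : ¬ Cfsg.Involves ↥(Cfsg.qd p) G) (K R : Subgroup G) [(R.subgroupOf K).Normal] :
    Cfsg.IsNormalizerPStable p (↥K ⧸ R.subgroupOf K) :=
  isNormalizerPStable_of_free hp fun h' =>
    h (hasQd_iff.mp (.of_subgroup K (h'.of_surjective (QuotientGroup.mk' _) (QuotientGroup.mk'_surjective _))))

end CfsgLib.KGroups.QdStable

namespace CfsgLib.KGroups.QdStable

open CfsgLib.Solvable CfsgLib.Fusion CfsgLib.Fusion.SL2Sections
open scoped MatrixGroups

variable {p : ℕ} [Fact p.Prime]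

/-- No local subgroup involves `SL(2, p)`: every section is `p`-stable. -/
theorem stable_of_local (hp : p ≠ 2) {G : Type*} [Group G] [Finite G]
    (h : ∀ P : Subgroup G, IsPGroup p ↥P → P ≠ ⊥ →
      ¬ Cfsg.Involves SL(2, ZMod p) ↥(Subgroup.normalizer (P : Set G)))
    (K R : Subgroup G) [(R.subgroupOf K).Normal] : Cfsg.IsNormalizerPStable p (↥K ⧸ R.subgroupOf K) := by
  refine isNormalizerPStable_of_stableOn fun Q hQ => ?_
  haveI : (Q.subgroupOf (Subgroup.normalizer (Q : Set (↥K ⧸ R.subgroupOf K)))).Normal :=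
    Subgroup.normal_in_normalizer
  rcases eq_or_ne Q ⊥ with rfl | hQ1
  · intro a _
    have h1 := (QuotientGroup.eq_one_iff (N := Subgroup.centralizer _) a).mpr
      (Subgroup.mem_centralizer_iff.mpr fun y (hy : y ∈ (⊥ : Subgroup (↥K ⧸ R.subgroupOf K)).subgroupOf
        (Subgroup.normalizer ((⊥ : Subgroup (↥K ⧸ R.subgroupOf K)) : Set (↥K ⧸ R.subgroupOf K)))) => by
      rw [show y = 1 from Subtype.ext (Subgroup.mem_bot.mp hy)]; group)
    rw [h1]
    exact one_mem _
  refine SL2Sections.isPStableOn_of_free hp (fun hs => ?_) _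
    (hQ.comap_of_injective _ (Subgroup.subtype_injective _))
  set N := Subgroup.normalizer (Q : Set (↥K ⧸ R.subgroupOf K)) with hN
  set π := QuotientGroup.mk' (R.subgroupOf K)
  -- a Sylow subgroup of the preimage
  let Q' := Q.comap π
  obtain ⟨T⟩ : Nonempty (Sylow p Q') := inferInstance
  set P := ((T : Subgroup Q').map Q'.subtype).map K.subtype with hP
  have hQ'N : Q' ≤ N.comap π := Subgroup.comap_mono Subgroup.le_normalizer
  haveI hn : (Q'.subgroupOf (N.comap π)).Normal := by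
    refine ⟨fun x hx y => ?_⟩
    show π ((y : ↥K) * (x : ↥K) * (y : ↥K)⁻¹) ∈ Q
    rw [map_mul, map_mul, map_inv]
    exact (Subgroup.mem_normalizer_iff.mp y.2 _).mp hx
  have hfr : ∀ y ∈ N.comap π, ∃ m q : ↥K, q ∈ Q' ∧ y = m * q ∧
      (m : G) ∈ Subgroup.normalizer (P : Set G) := by
    intro y hy
    let M := N.comap π
    let e := Subgroup.subgroupOfEquivOfLe hQ'N
    let T₀ : Sylow p (Q'.subgroupOf M) := T.comapOfInjective e.toMonoidHom e.injective
      (by rw [MonoidHom.range_eq_top.mpr e.surjective]; exact le_top)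
    have hsup := Sylow.normalizer_sup_eq_top T₀
    obtain ⟨m, hm, q, hq, hmq⟩ := Subgroup.mem_sup_of_normal_right.mp
      (hsup ▸ Subgroup.mem_top (⟨y, hy⟩ : M))
    refine ⟨m, q, hq, (congrArg Subtype.val hmq).symm, ?_⟩
    refine Subgroup.le_normalizer_map (K.subtype) ⟨(m : ↥K), ?_, rfl⟩
    have h1 := Subgroup.le_normalizer_map M.subtype ⟨m, hm, rfl⟩
    have heq : ((T₀ : Subgroup (Q'.subgroupOf M)).map (Q'.subgroupOf M).subtype).map M.subtype =
        (T : Subgroup Q').map Q'.subtype := by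
      ext z
      constructor
      · rintro ⟨_, ⟨w, hw, rfl⟩, rfl⟩; exact ⟨e w, hw, rfl⟩
      · rintro ⟨w, hw, rfl⟩
        exact ⟨_, ⟨e.symm w, by simpa [T₀] using hw, rfl⟩, rfl⟩
    rw [heq] at h1
    exact h1
  -- `T` covers `Q`
  have hTQ : ∀ x ∈ Q, ∃ t : ↥K, (t : G) ∈ P ∧ π t = x := by
    intro x hx
    have hs : Function.Surjective (π.subgroupComap Q) := by
      rintro ⟨y, hy⟩
      obtain ⟨z, rfl⟩ := QuotientGroup.mk'_surjective _ y
      exact ⟨⟨z, hy⟩, rfl⟩
    have htop : ((T.mapSurjective hs : Sylow p Q) : Subgroup Q) = ⊤ :=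
      ((T.mapSurjective hs).is_maximal' (hQ.to_subgroup ⊤) le_top).symm
    have hmem : (⟨x, hx⟩ : Q) ∈ (T : Subgroup Q').map (π.subgroupComap Q) := by
      rw [← Sylow.coe_mapSurjective hs T, htop]; exact Subgroup.mem_top _
    obtain ⟨t, ht, hte⟩ := hmem
    exact ⟨t, Subgroup.mem_map_of_mem _ (Subgroup.mem_map_of_mem _ ht), congrArg Subtype.val hte⟩
  have hP1 : P ≠ ⊥ := fun hb => hQ1 ((Subgroup.eq_bot_iff_forall _).mpr fun x hx => by
    obtain ⟨t, ht, rfl⟩ := hTQ x hx
    rw [hb, Subgroup.mem_bot] at ht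
    rw [show t = 1 from Subtype.ext ht, map_one])
  refine h P ((T.2.map _).map _) hP1 ?_
  let NG := Subgroup.normalizer (P : Set G)
  let M' : Subgroup NG := ((N.comap π).map K.subtype).subgroupOf NG
  let eK := (N.comap π).equivMapOfInjective K.subtype K.subtype_injective
  let toK : M' →* ↥(N.comap π) := eK.symm.toMonoidHom.comp (NG.subtype.subgroupComap ((N.comap π).map K.subtype))
  let φ : M' →* N := (π.subgroupComap N).comp toK
  have hφ : Function.Surjective φ := by
    rintro ⟨x, hx⟩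
    obtain ⟨y, rfl⟩ := QuotientGroup.mk'_surjective _ x
    obtain ⟨m, q, hq, rfl, hm⟩ := hfr y hx
    obtain ⟨t, ht, htq⟩ := hTQ (π q) hq
    refine ⟨⟨⟨((m * t : ↥K) : G), NG.mul_mem hm (Subgroup.le_normalizer ht)⟩, m * t, ?_, rfl⟩, ?_⟩
    · show π (m * t) ∈ N
      rw [map_mul, htq, ← map_mul]; exact hx
    · apply Subtype.ext
      have hmt : m * t ∈ N.comap π := by
        rw [Subgroup.mem_comap, map_mul, htq, ← map_mul]; exact hx
      show π ((eK.symm ⟨((m * t : ↥K) : G), ⟨m * t, hmt, rfl⟩⟩ : ↥(N.comap π)) : ↥K) = π (m * q)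
      rw [show eK.symm ⟨((m * t : ↥K) : G), ⟨m * t, hmt, rfl⟩⟩ = ⟨m * t, hmt⟩ from eK.symm_apply_eq.mpr rfl,
        map_mul, map_mul, htq]
  obtain ⟨L, f, hf⟩ := HasSL2Section.of_subgroup M' (hs.of_surjective φ hφ)
  obtain ⟨e⟩ : Nonempty ((⊤ : Subgroup NG) ≃* NG) := ⟨Subgroup.topEquiv⟩
  obtain ⟨L', f', hf'⟩ := HasSL2Section.of_surjective (p := p) e.toMonoidHom e.surjective ⟨L, f, hf⟩
  obtain ⟨K', R', hR', -, hiso⟩ := QuadSection.exists_section L' f' hf'
  exact ⟨K', R', hR', hiso⟩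

end CfsgLib.KGroups.QdStable
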