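import Cfsg.Agent.Lib.KGroups.QdSplit
import Cfsg.Agent.Lib.KGroups.QdStable
import Cfsg.Agent.Lib.Classical.SL2Sylow
import Cfsg.Agent.Lib.FusionSystem.SFour
import Cfsg.Agent.Lib.FusionSystem.Group
import Cfsg.Agent.Lib.FusionSystem.SectionFreeGroup

/-!
A group with self-centralizing `O_p` and a section `Qd(p)` has an automizer with a section `SL(2, p)`;
hence a saturated system without such automizers is `Qd(p)`-free.
-/

set_option autoImplicit false
set_option linter.style.haveILetI false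
set_option linter.unusedSectionVars false

namespace CfsgLib.KGroups.QdAutomizer

open Matrix CfsgLib.Fsys
open Cfsg (Involves)
open scoped MatrixGroups

variable {p : ℕ} [Fact p.Prime]

theorem eq_bot_of_normal_pGroup {U : Subgroup SL(2, ZMod p)} (hUn : U.Normal) (hU : IsPGroup p U) :
    U = ⊥ := by
  have := hUn
  haveI : Fintype (ZMod p) := ZMod.fintype p
  let P := CfsgLib.Classical.unipSLSylow (F := ZMod p) p
  have hle : U ≤ CfsgLib.Classical.unipSL (ZMod p) := by
    have h := P.3 (hU.to_sup_of_normal_left' P.2 (by rw [Subgroup.normalizer_eq_top]; exact le_top)) le_sup_right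
    exact (le_sup_left : U ≤ U ⊔ (P : Subgroup _)).trans h.le
  rw [eq_bot_iff]
  intro u hu
  obtain ⟨c, rfl⟩ := hle hu
  let w : SL(2, ZMod p) := ⟨!![0, -1; 1, 0], by simp [Matrix.det_fin_two]⟩
  obtain ⟨d, hd⟩ := hle (hUn.conj_mem _ hu w)
  have h : CfsgLib.Classical.uSL d * w = w * CfsgLib.Classical.uSL c := by rw [hd, inv_mul_cancel_right]
  have h1 := congrArg (fun M : SL(2, ZMod p) => (M : Matrix (Fin 2) (Fin 2) (ZMod p)) 1 1) h
  rw [← ofAdd_toAdd c, ← ofAdd_toAdd d] at h1
  simp only [Matrix.SpecialLinearGroup.coe_mul, CfsgLib.Classical.uSL_coe] at h1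
  simp [w, Matrix.mul_apply, Fin.sum_univ_two] at h1
  rw [Subgroup.mem_bot, show c = 1 from by rw [← ofAdd_toAdd c, ← h1]; rfl, map_one]

/-- The Levi part. -/
noncomputable def levProj : ↥(Cfsg.qd p) →* SL(2, ZMod p) where
  toFun x := ⟨!![(x : SpecialLinearGroup (Fin 3) (ZMod p)).1 0 0, (x : SpecialLinearGroup (Fin 3) (ZMod p)).1 0 1;
      (x : SpecialLinearGroup (Fin 3) (ZMod p)).1 1 0, (x : SpecialLinearGroup (Fin 3) (ZMod p)).1 1 1], by
    have hA := CfsgLib.Components.QdRankTwo.qd_le_affine x.2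
    have h : Matrix.det (x : SpecialLinearGroup (Fin 3) (ZMod p)).1 = 1 := (x : SpecialLinearGroup (Fin 3) (ZMod p)).2
    rw [Matrix.det_fin_three, hA 0, hA 1, hA 2] at h
    simp [Matrix.det_fin_two] at h ⊢
    linear_combination h⟩
  map_one' := by
    apply Subtype.ext
    ext i j
    fin_cases i <;> fin_cases j <;> simp
  map_mul' x y := by
    have hA := CfsgLib.Components.QdRankTwo.qd_le_affine y.2
    apply Subtype.ext
    set A := (x : SpecialLinearGroup (Fin 3) (ZMod p)).1
    set B := (y : SpecialLinearGroup (Fin 3) (ZMod p)).1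
    show !![(A * B) 0 0, (A * B) 0 1; (A * B) 1 0, (A * B) 1 1] =
      !![A 0 0, A 0 1; A 1 0, A 1 1] * !![B 0 0, B 0 1; B 1 0, B 1 1]
    rw [Matrix.mul_fin_two]
    have h0 : B 2 0 = 0 := by simpa using hA 0
    have h1 : B 2 1 = 0 := by simpa using hA 1
    simp [Matrix.mul_apply, Fin.sum_univ_three, h0, h1]

theorem levProj_surjective : Function.Surjective (levProj (p := p)) := fun g => ⟨QdSplit.lev g, by
  apply Subtype.ext
  show !![g.1 0 0, g.1 0 1; g.1 1 0, g.1 1 1] = g.1
  exact (Matrix.eta_fin_two g.1).symm⟩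

/-- `SL(2, p)` is a section of `L / C(O_p(L))`. -/
theorem sl_of_qd {L : Type*} [Group L] [Finite L]
    (hcon : Subgroup.centralizer (Cfsg.pCore p L : Set L) ≤ Cfsg.pCore p L)
    (h : Involves ↥(Cfsg.qd p) L) :
    Involves SL(2, ZMod p) (L ⧸ Subgroup.centralizer (Cfsg.pCore p L : Set L)) := by
  set C := Subgroup.centralizer (Cfsg.pCore p L : Set L) with hC
  obtain ⟨K, f, hf⟩ := QdStable.hasQd_iff.mpr h
  set χ := levProj.comp f with hχ
  have hχs : Function.Surjective χ := levProj_surjective.comp hf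
  have hCp : IsPGroup p C := (CfsgLib.Solvable.Cores.isPGroup_pCore p).to_le hcon
  have hker : C.subgroupOf K ≤ χ.ker := by
    have hn : ((C.subgroupOf K).map χ).Normal := Subgroup.Normal.map inferInstance _ hχs
    have hp : IsPGroup p ((C.subgroupOf K).map χ) :=
      (hCp.comap_of_injective _ (Subgroup.subtype_injective K)).map χ
    exact (Subgroup.map_eq_bot_iff _).mp (eq_bot_of_normal_pGroup hn hp)
  let π := QuotientGroup.mk' C
  have hks : Function.Surjective (π.subgroupMap K) := π.subgroupMap_surjective K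
  refine involves_of_hom (K.map π) ((π.subgroupMap K).liftOfSurjective hks ⟨χ, fun k hk => ?_⟩) ?_
  · refine hker ?_
    have hk' : π (k : L) = 1 := congrArg Subtype.val (MonoidHom.mem_ker.mp hk)
    exact (QuotientGroup.eq_one_iff (k : L)).mp hk'
  · intro y
    obtain ⟨k, rfl⟩ := hχs y
    exact ⟨π.subgroupMap K k, MonoidHom.liftOfRightInverse_comp_apply ..⟩

variable {Ω : Type*} [Group Ω] {S : Subgroup Ω} {F : Cfsg.FusionSystem S} [Finite S]

/-- An automizer of a `p`-subgroup of a realizing group is an automizer of the system. -/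
theorem involves_autGroup {H : Type*} [Group H] {G : Type*} [Group G] [Finite G] {ι : S →* G}
    (hι : F.IsRealizedBy ι) (hT : ∃ T : Sylow p G, (T : Subgroup G) = ι.range) {U : Subgroup G}
    (hU : IsPGroup p U)
    (h : Involves H (↥(Subgroup.normalizer (U : Set G)) ⧸
      (Subgroup.centralizer (U : Set G)).subgroupOf (Subgroup.normalizer (U : Set G)))) :
    ∃ P : Subgroup Ω, P ≤ S ∧ Involves H (F.autGroup P) := by
  obtain ⟨T₀, hT₀⟩ := hT
  obtain ⟨R, hR⟩ := hU.exists_le_sylow
  obtain ⟨g, hg⟩ := MulAction.exists_smul_eq G R T₀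
  let P : Subgroup Ω := ((U.map (MulAut.conj g).toMonoidHom).comap ι).map S.subtype
  have hPS : P ≤ S := Subgroup.map_subtype_le _
  let k : P →* G := (MulAut.conj g⁻¹).toMonoidHom.comp (ι.comp (Subgroup.inclusion hPS))
  have hk : Function.Injective k :=
    (MulAut.conj g⁻¹).injective.comp (hι.1.comp (Subgroup.inclusion_injective hPS))
  have hUr : U.map (MulAut.conj g).toMonoidHom ≤ ι.range := by
    rw [← hT₀, ← hg, Sylow.coe_subgroup_smul]
    rintro _ ⟨u, hu, rfl⟩
    exact Subgroup.smul_mem_pointwise_smul u (MulAut.conj g) _ (hR hu)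
  have hrange : k.range = U := by
    refine le_antisymm ?_ ?_
    · rintro _ ⟨⟨_, s, hs, rfl⟩, rfl⟩
      obtain ⟨u, hu, hue⟩ := hs
      show g⁻¹ * ι s * (g⁻¹)⁻¹ ∈ U
      rw [← hue]
      show g⁻¹ * (g * u * g⁻¹) * (g⁻¹)⁻¹ ∈ U
      simpa [mul_assoc] using hu
    · intro u hu
      obtain ⟨s, hs⟩ := hUr (Subgroup.mem_map_of_mem (MulAut.conj g).toMonoidHom hu)
      refine ⟨⟨(s : Ω), s, show ι s ∈ _ from hs ▸ Subgroup.mem_map_of_mem _ hu, rfl⟩, ?_⟩
      show g⁻¹ * ι ⟨(s : Ω), _⟩ * (g⁻¹)⁻¹ = u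
      rw [Subtype.coe_eta, hs]
      show g⁻¹ * (g * u * g⁻¹) * (g⁻¹)⁻¹ = u
      group
  rw [← hrange] at h
  have hle : (normHom k hk).range ≤ F.autGroup P := by
    rintro _ ⟨a, rfl⟩
    refine (mem_autGroup_iff_fn hPS).2 ⟨P.subtype.comp (normHom k hk a).toMonoidHom, ?_, fun x => (autFn_coe _ x).symm⟩
    refine (hι.2 P hPS _ fun x => hPS (normHom k hk a x).2).2 ⟨g * (a : G) * g⁻¹, fun x => ?_⟩
    have e := normHom_apply k hk a x
    change g⁻¹ * ι ⟨_, _⟩ * (g⁻¹)⁻¹ = a * (g⁻¹ * ι ⟨_, _⟩ * (g⁻¹)⁻¹) * (a : G)⁻¹ at e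
    have e' := congrArg (fun y => g * y * g⁻¹) e
    simp only [inv_inv, mul_assoc, mul_inv_cancel_left, mul_inv_cancel, mul_one] at e'
    simpa [mul_assoc] using e'
  exact ⟨P, hPS, involves_of_injective (Subgroup.inclusion_injective hle) ((involves_normHom_iff k hk).1 h)⟩

/-- `SL(2, p)` in no automizer gives `Qd(p)` in no model. -/
theorem sectionFree_of_automizers (hsl : ∀ P : Subgroup Ω, P ≤ S → ¬ Involves SL(2, ZMod p) (F.autGroup P)) :
    F.IsSectionFree p ↥(Cfsg.qd p) := by
  intro Q hQn _ N hN L _ ι hL hi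
  have := normalizerSystem_finite (S := S) (Q := Q)
  haveI := hL.1
  set R := Cfsg.pCore p L with hR
  set C := Subgroup.centralizer (R : Set L) with hC
  have hRn : R.Normal := inferInstance
  have hNtop : Subgroup.normalizer (R : Set L) = ⊤ := Subgroup.normalizer_eq_top R
  -- the quotient by `C` is the automizer of `R`
  let f : L →* ↥(Subgroup.normalizer (R : Set L)) :=
    (MonoidHom.id L).codRestrict _ fun x => by rw [hNtop]; trivial
  have hf : C ≤ (C.subgroupOf (Subgroup.normalizer (R : Set L))).comap f := fun c hc => hc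
  let F' := QuotientGroup.map C (C.subgroupOf (Subgroup.normalizer (R : Set L))) f hf
  have hinj : Function.Injective F' := by
    rw [injective_iff_map_eq_one]
    intro z hz
    obtain ⟨x, rfl⟩ := QuotientGroup.mk'_surjective C z
    exact (QuotientGroup.eq_one_iff x).mpr ((QuotientGroup.eq_one_iff (f x)).mp hz)
  have h' := involves_of_injective hinj (sl_of_qd hL.2.2.2 hi)
  obtain ⟨P, hP, hPi⟩ := involves_autGroup hL.2.1 hL.2.2.1 (CfsgLib.Solvable.Cores.isPGroup_pCore p) h'
  refine hsl P (hP.trans normalizerIn_le) ?_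
  have hle : N.autGroup P ≤ F.autGroup P := fun α hα =>
    (mem_autGroup_iff_fn (hP.trans normalizerIn_le)).2
      (((mem_autGroup_iff_fn hP).1 hα).of_subsystem (normalizerSystem_sub hN))
  exact involves_of_injective (Subgroup.inclusion_injective hle) hPi

end CfsgLib.KGroups.QdAutomizer
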