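import Cfsg.Agent.S2763
import Cfsg.Agent.Lib.KGroups.Functor.KInfNormal
import Cfsg.Prelude.Def_ConjugacyFunctors

/-!
No characteristic functor controls strong fusion in a group isomorphic to `Qd(p)`.
-/

set_option autoImplicit false
set_option linter.unusedSectionVars false

namespace CfsgLib.KGroups.QdFusion

open Cfsg Subgroup
open CfsgLib.Components.QdRankTwo

universe u

variable {p : ℕ} [Fact p.Prime]

theorem centralizer_trans :
    centralizer (((trans p).subgroupOf (Cfsg.qd p) : Subgroup ↥(Cfsg.qd p)) : Set ↥(Cfsg.qd p)) ≤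
      (trans p).subgroupOf (Cfsg.qd p) := by
  rintro ⟨M, hM⟩ hc
  have hA := qd_le_affine hM
  have key : ∀ a b : ZMod p, M * tV a b * M⁻¹ = tV a b := fun a b => by
    have h := congrArg Subtype.val (mem_centralizer_iff.mp hc ⟨tV a b, tV_mem a b⟩ ⟨a, b, rfl⟩)
    rw [mul_inv_eq_iff_eq_mul]
    exact h.symm
  obtain ⟨h00, h10⟩ := tV_injective ((conj_tV hA 1 0).symm.trans (key 1 0))
  obtain ⟨h01, h11⟩ := tV_injective ((conj_tV hA 0 1).symm.trans (key 0 1))
  simp at h00 h10 h01 h11
  have h0 := hA 0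
  have h1 := hA 1
  have h2 := hA 2
  refine ⟨(M : Matrix (Fin 3) (Fin 3) (ZMod p)) 0 2, (M : Matrix (Fin 3) (Fin 3) (ZMod p)) 1 2, ?_⟩
  show M = tV _ _
  apply Subtype.ext
  ext i j
  fin_cases i <;> fin_cases j <;> simp_all

/-- The translations are a normal self-centralising `p`-subgroup. -/
theorem exists_selfCentralizing_qd : ∃ V : Subgroup ↥(Cfsg.qd p),
    V.Normal ∧ IsPGroup p V ∧ centralizer (V : Set ↥(Cfsg.qd p)) ≤ V := by
  refine ⟨(trans p).subgroupOf (Cfsg.qd p), ⟨?_⟩, ?_, ?_⟩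
  · rintro ⟨M, hM⟩ hm ⟨g, hg⟩
    obtain ⟨a, b, rfl⟩ := hm
    exact ⟨_, _, conj_tV (qd_le_affine hg) a b⟩
  · exact isPGroup_trans.comap_of_injective _ (Cfsg.qd p).subtype_injective
  · exact centralizer_trans

variable {X : Type u} [Group X] [Finite X]

theorem isChar_functor {W : ∀ (Q : Type u) [Group Q], Subgroup Q} (hW : IsCharPFunctor.{u} p W)
    {Q : Type u} [Group Q] [Finite Q] (hQ : IsPGroup p Q) : (W Q).Characteristic :=
  characteristic_iff_map_eq.mpr fun φ => hW.2 Q Q hQ φ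

theorem mapped_normalizer (e : X ≃* ↥(Cfsg.qd p)) (T : Sylow p X) (U : Subgroup ↥(T : Subgroup X))
    [U.Characteristic] (hU : U ≠ ⊥) :
    normalizer ((U.map (T : Subgroup X).subtype : Subgroup X) : Set X) = normalizer ((T : Subgroup X) : Set X) ∧
      normalizer ((T : Subgroup X) : Set X) ≠ ⊤ := by
  set S : Sylow p ↥(Cfsg.qd p) := Sylow.mapSurjective (f := e.toMonoidHom) e.surjective T
  have hS : (S : Subgroup ↥(Cfsg.qd p)) = (T : Subgroup X).map e.toMonoidHom := rfl
  let φ : ↥(T : Subgroup X) ≃* ↥(S : Subgroup ↥(Cfsg.qd p)) :=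
    (e.subgroupMap (T : Subgroup X)).trans (MulEquiv.subgroupCongr hS.symm)
  set U' := U.map φ.toMonoidHom
  have hchar : U'.Characteristic := by
    refine characteristic_iff_map_eq.mpr fun ψ => ?_
    have h := (characteristic_iff_map_eq.mp (inferInstance : U.Characteristic))
      ((φ.trans ψ).trans φ.symm)
    show (U.map φ.toMonoidHom).map ψ.toMonoidHom = U.map φ.toMonoidHom
    conv_rhs => rw [← h]
    rw [map_map, map_map]
    congr 1
    ext x
    simp
  have hne : U' ≠ ⊥ := by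
    rwa [Ne, map_eq_bot_iff_of_injective _ φ.injective]
  obtain ⟨h1, h2⟩ := Cfsg.Agent.S2763.result S U' hne hchar
  have hmap : U'.map (S : Subgroup ↥(Cfsg.qd p)).subtype = (U.map (T : Subgroup X).subtype).map e.toMonoidHom := by
    show (U.map φ.toMonoidHom).map _ = _
    rw [map_map, map_map]
    rfl
  have hN : ∀ H : Subgroup X, normalizer ((H.map e.toMonoidHom : Subgroup ↥(Cfsg.qd p)) : Set ↥(Cfsg.qd p)) =
      (normalizer (H : Set X)).map e.toMonoidHom := fun H => (map_equiv_normalizer_eq H e).symm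
  rw [hmap, hS, hN, hN] at h1
  rw [hS, hN] at h2
  exact ⟨map_injective e.injective h1, fun h => h2 (by rw [h, map_top_of_surjective _ e.surjective])⟩

/-- A subgroup through which all fusion of the translations is realised is everything. -/
theorem fusion_top (e : X ≃* ↥(Cfsg.qd p)) : ∃ V : Subgroup X, V.Normal ∧ IsPGroup p V ∧
    centralizer (V : Set X) ≤ V ∧ ∀ M : Subgroup X, V ≤ M →
      (∀ g : X, ∃ x ∈ M, ∀ a ∈ V, g * a * g⁻¹ = x * a * x⁻¹) → M = ⊤ := by
  obtain ⟨V, hn, hp, hc⟩ := exists_selfCentralizing_qd (p := p)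
  have hc' : centralizer ((V.comap e.toMonoidHom : Subgroup X) : Set X) ≤ V.comap e.toMonoidHom := by
    intro x hx
    refine hc (mem_centralizer_iff.mpr fun v hv => ?_)
    have h := congrArg e (mem_centralizer_iff.mp hx (e.symm v) (by simpa using hv))
    simpa using h
  refine ⟨V.comap e.toMonoidHom, hn.comap _, hp.comap_of_injective _ e.injective, hc', ?_⟩
  intro M hM h
  refine eq_top_iff.mpr fun g _ => ?_
  obtain ⟨x, hx, hag⟩ := h g
  have hmem : x⁻¹ * g ∈ centralizer ((V.comap e.toMonoidHom : Subgroup X) : Set X) := by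
    refine mem_centralizer_iff.mpr fun a ha => ?_
    have h1 := hag a ha
    calc a * (x⁻¹ * g) = x⁻¹ * (x * a * x⁻¹) * g := by group
      _ = x⁻¹ * g * a := by rw [← h1]; group
  simpa using M.mul_mem hx (hM (hc' hmem))

/-- No family of characteristic functors controls strong fusion in `Qd(p)`. -/
theorem not_family_controls (e : X ≃* ↥(Cfsg.qd p))
    (𝓦 : Set (∀ (Q : Type u) [Group Q], Subgroup Q)) (h𝓦 : ∀ W ∈ 𝓦, IsCharPFunctor.{u} p W) :
    ¬ FamilyControlsStrongFusionIn p ((fun W => inducedFunctor (G := X) W) '' 𝓦) ⊤ := by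
  rintro ⟨T, -, hTp, hTi, hf⟩
  rw [relIndex_top_right] at hTi
  set S : Sylow p X := hTp.toSylow hTi
  obtain ⟨V, hVn, hVp, hVc, hVtop⟩ := fusion_top e
  haveI := hVn
  have hVT : V ≤ T := hVp.le_sylow_of_normal S
  have hT : T ≠ ⊥ := by
    intro hT
    have h := hVc (x := e.symm ⟨tX 1, tX_mem 1⟩) (mem_centralizer_iff.mpr fun v hv => by
      rw [show v = 1 from mem_bot.mp (hT ▸ hVT hv)]; group)
    have h1 : e.symm ⟨tX 1, tX_mem 1⟩ = 1 := mem_bot.mp (hT ▸ hVT h)
    have h2 := congrArg Subtype.val (congrArg e h1)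
    simp only [MulEquiv.apply_symm_apply, map_one, OneMemClass.coe_one] at h2
    exact one_ne_zero (tX_injective (h2.trans tX_zero.symm))
  haveI : Nontrivial ↥T := T.nontrivial_iff_ne_bot.mpr hT
  haveI : Nontrivial ↥(S : Subgroup X) := T.nontrivial_iff_ne_bot.mpr hT
  rcases eq_or_ne (normalizer (T : Set X)) ⊤ with hN | hN
  · exact (mapped_normalizer e S ⊤ (Subgroup.ne_bot_iff_exists_ne_one.mpr (by
      obtain ⟨x, hx⟩ := exists_ne (1 : ↥T); exact ⟨⟨x, mem_top _⟩, fun h => hx (congrArg Subtype.val h)⟩))).2 hN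
  · refine hN (hVtop _ (le_trans hVT le_normalizer) fun g => ?_)
    obtain ⟨n, c, hc0, hstep, -, hlast⟩ := hf (V : Set X) g (mem_top _) hVT (by
      rintro _ ⟨a, ha, rfl⟩
      exact hVT (hVn.conj_mem a ha g))
    refine ⟨c (Fin.last n), ?_, fun a ha => (hlast a ha).symm⟩
    have hall : ∀ i : Fin (n + 1), c i ∈ normalizer (T : Set X) := by
      intro i
      induction i using Fin.induction with
      | zero => rw [hc0]; exact one_mem _
      | succ i ih =>
        obtain ⟨_, ⟨W, hW, rfl⟩, hmem⟩ := hstep i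
        haveI : (W ↥(S : Subgroup X)).Characteristic := isChar_functor (h𝓦 W hW) hTp
        have hN' := (mapped_normalizer e S (W ↥(S : Subgroup X)) ((h𝓦 W hW).1 _ hTp inferInstance)).1
        have h2 : c i.succ * (c i.castSucc)⁻¹ ∈ normalizer (T : Set X) := by
          exact hN' ▸ hmem.2
        simpa using mul_mem h2 ih
    exact hall _

end CfsgLib.KGroups.QdFusion

namespace CfsgLib.KGroups.QdFusion

open Cfsg Subgroup CfsgLib.Components.QdRankTwo

/-- `Qd(p)` itself is not `p`-stable. -/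
theorem not_stable {p : ℕ} [Fact p.Prime] (hp : p ≠ 2) {X : Type*} [Group X] [Finite X] (e : X ≃* ↥(Cfsg.qd p)) :
    ¬ IsNormalizerPStable p X := by
  intro hst
  let V : Subgroup X := ((trans p).subgroupOf (Cfsg.qd p)).comap e.toMonoidHom
  haveI hn : V.Normal := by
    refine Subgroup.Normal.comap ⟨?_⟩ _
    rintro ⟨M, hM⟩ hm ⟨g, hg⟩
    obtain ⟨a, b, rfl⟩ := hm
    exact ⟨_, _, conj_tV (qd_le_affine hg) a b⟩
  have hVp : IsPGroup p V :=
    (isPGroup_trans.comap_of_injective _ (Cfsg.qd p).subtype_injective).comap_of_injective _ e.injective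
  set N := normalizer (V : Set X) with hN
  have hNtop : N = ⊤ := normalizer_eq_top_iff.mpr hn
  let x : ↥(Cfsg.qd p) := ⟨tX 1, tX_mem 1⟩
  set g := e.symm x with hg
  let f : X →* SL3 p := (Cfsg.qd p).subtype.comp e.toMonoidHom
  have hfi : Function.Injective f := (Cfsg.qd p).subtype_injective.comp e.injective
  have hfg : f g = tX 1 := by simp [f, hg, x]
  have hpow : ∀ n : ℤ, ∃ c, f (g ^ n) = tX c := by
    let h : Multiplicative (ZMod p) →* SL3 p := MonoidHom.mk' (fun c => tX c.toAdd) fun c d => (tX_mul _ _).symm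
    exact fun n => ⟨((Multiplicative.ofAdd (1 : ZMod p)) ^ n).toAdd, by
      rw [map_zpow, hfg]; exact (map_zpow h (Multiplicative.ofAdd (1 : ZMod p)) n).symm⟩
  have hq : ⁅⁅V, zpowers g⁆, zpowers g⁆ = ⊥ := by
    rw [commutator_eq_bot_iff_le_centralizer, commutator_le]
    intro v hv z hz
    obtain ⟨n, rfl⟩ := mem_zpowers_iff.mp hz
    refine mem_centralizer_iff.mpr fun w hw => ?_
    obtain ⟨m, rfl⟩ := mem_zpowers_iff.mp hw
    apply hfi
    obtain ⟨a, b, hab⟩ := hv
    obtain ⟨c, hc⟩ := hpow n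
    obtain ⟨d, hd⟩ := hpow m
    have hab' : f v = tV a b := hab
    have hcomm : tV a b * tX c * (tV a b)⁻¹ * (tX c)⁻¹ = tV (-(c * b)) 0 := by
      rw [mul_inv_eq_iff_eq_mul, mul_inv_eq_iff_eq_mul]
      apply Subtype.ext
      ext i j
      fin_cases i <;> fin_cases j <;> simp [Matrix.SpecialLinearGroup.coe_mul, Matrix.mul_apply, Fin.sum_univ_three]
    rw [map_mul, map_mul, map_commutatorElement, hab', hc, hd, commutatorElement_def, hcomm]
    apply Subtype.ext
    ext i j
    fin_cases i <;> fin_cases j <;> simp [Matrix.SpecialLinearGroup.coe_mul, Matrix.mul_apply, Fin.sum_univ_three]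
  have htopmem : ∀ y : X, y ∈ N := fun y => by rw [hNtop]; exact mem_top _
  have hmem := hst V hVp g (htopmem g) hq
  set C := (centralizer (V : Set X)).subgroupOf N
  haveI : (pCore p (N ⧸ C)).Normal := Subgroup.sSup_normal _ fun _ h => h.1
  set D := ((pCore p (N ⧸ C)).comap (QuotientGroup.mk' C)).map N.subtype
  haveI hDn : D.Normal := by
    refine Subgroup.Normal.map (Subgroup.Normal.comap inferInstance _) _ fun y => ?_
    exact ⟨⟨y, htopmem y⟩, rfl⟩
  have hCp : IsPGroup p C := by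
    refine (hVp.to_le (show centralizer (V : Set X) ≤ V from fun y hy => ?_)).comap_of_injective _ N.subtype_injective
    exact mem_comap.mpr (centralizer_trans (mem_centralizer_iff.mpr fun w hw => by
      have h := congrArg e (mem_centralizer_iff.mp hy (e.symm w) (by simpa [V] using hw))
      simpa using h))
  have hDp : IsPGroup p D := ((Solvable.Cores.isPGroup_pCore p).comap_of_ker_isPGroup _
    (by rwa [QuotientGroup.ker_mk'])).map _
  have hxD : g ∈ D := ⟨⟨g, htopmem g⟩, hmem, rfl⟩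
  set D' := D.map ((Cfsg.qd p).subtype.comp e.toMonoidHom)
  have hD'p : IsPGroup p D' := hDp.map _
  have hX : tX (1 : ZMod p) ∈ D' := ⟨g, hxD, by simp [hg, x]⟩
  have hY : tY (-1 : ZMod p) ∈ D' := by
    let s : ↥(Cfsg.qd p) := ⟨tX 1 * tY (-1) * tX 1, mul_mem (mul_mem (tX_mem 1) (tY_mem _)) (tX_mem 1)⟩
    refine ⟨_, hDn.conj_mem g hxD (e.symm s), ?_⟩
    show (e (e.symm s * g * (e.symm s)⁻¹) : SL3 p) = _
    simp only [map_mul, map_inv, hg, MulEquiv.apply_symm_apply]
    show (s : SL3 p) * tX 1 * (s : SL3 p)⁻¹ = _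
    rw [mul_inv_eq_iff_eq_mul]
    apply Subtype.ext
    ext i j
    fin_cases i <;> fin_cases j <;>
      simp [s, Matrix.SpecialLinearGroup.coe_mul, Matrix.mul_apply, Fin.sum_univ_three]
  have hT : (tT : SL3 p) ∈ D' := by
    rw [tT_eq]; exact mul_mem (mul_mem (mul_mem hX hY) hX) (mul_mem (mul_mem hX hY) hX)
  obtain ⟨k, hk⟩ := hD'p ⟨_, hT⟩
  have hk' : (tT : SL3 p) ^ p ^ k = 1 := congrArg Subtype.val hk
  obtain ⟨m, hm⟩ := ((Fact.out : p.Prime).odd_of_ne_two hp).pow (n := k)
  rw [hm, pow_succ, pow_mul, pow_two, tT_sq, one_pow, one_mul] at hk'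
  have h00 := congrArg (fun M : SL3 p => (M : Matrix (Fin 3) (Fin 3) (ZMod p)) 0 0) hk'
  simp at h00
  exact two_ne_zero' hp (by linear_combination -h00)

end CfsgLib.KGroups.QdFusion

namespace CfsgLib.KGroups.QdFusion

open Cfsg Subgroup

universe u

/-- No characteristic functor controls strong fusion in `Qd(p)` by itself. -/
theorem not_controls {p : ℕ} [Fact p.Prime] {X : Type u} [Group X] [Finite X] (e : X ≃* ↥(Cfsg.qd p))
    (T : Sylow p X) {W : ∀ (Q : Type u) [Group Q], Subgroup Q} (hW : IsCharPFunctor.{u} p W)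
    (hU : ControlsStrongFusion p (inducedFunctor W (T : Subgroup X))) : False := by
  obtain ⟨T', -, hf⟩ := hU
  obtain ⟨V, hVn, hVp, hVc, hVtop⟩ := fusion_top e
  have hVT : V ≤ T := hVp.le_sylow_of_normal T
  have hT : (T : Subgroup X) ≠ ⊥ := by
    intro hT
    rw [hT, le_bot_iff] at hVT
    subst hVT
    have h1 : e.symm ⟨Components.QdRankTwo.tX 1, Components.QdRankTwo.tX_mem 1⟩ = 1 := mem_bot.mp (hVc (mem_centralizer_iff.mpr fun v hv => by rw [mem_bot.mp hv]; group))
    have h2 := congrArg Subtype.val (congrArg e h1)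
    simp only [MulEquiv.apply_symm_apply, map_one, OneMemClass.coe_one] at h2
    exact one_ne_zero (Components.QdRankTwo.tX_injective (h2.trans Components.QdRankTwo.tX_zero.symm))
  haveI : Nontrivial ↥(T : Subgroup X) := (T : Subgroup X).nontrivial_iff_ne_bot.mpr hT
  haveI := isChar_functor hW T.2
  obtain ⟨hN, hne⟩ := mapped_normalizer e T (W ↥(T : Subgroup X)) (hW.1 _ T.2 inferInstance)
  refine hne (hN ▸ hVtop _ ((hVT.trans le_normalizer).trans hN.ge) fun g => ?_)
  obtain ⟨x, hx, hag⟩ := (hf (V : Set X) (hVp.le_sylow_of_normal T')).2 g (by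
    rintro _ ⟨a, ha, rfl⟩
    exact hVp.le_sylow_of_normal T' (hVn.conj_mem a ha g))
  exact ⟨x, hx, hag⟩

end CfsgLib.KGroups.QdFusion
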