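import Cfsg.Agent.Lib.Schur.Bound
import Cfsg.Agent.Lib.Schur.Dihedral
import Cfsg.Agent.Lib.Classical.SL2Tori
import Cfsg.Agent.Lib.Classical.SL2Quaternion

/-!
# The multiplier of `SL₂(q)` is trivial for `q ≠ 4, 9`

For the characteristic `p` the commutator pairing on lifts of the root group is invariant under the
squares, so two consecutive squares `a²`, `a² + 1 = b²` with `1 + a² + a⁻² ≠ 0` kill it.
-/

set_option autoImplicit false
set_option linter.unusedSectionVars false
set_option backward.isDefEq.respectTransparency false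

open Matrix Subgroup
open scoped MatrixGroups commutatorElement

namespace CfsgLib.KGroups.SLTwoMultiplier

open CfsgLib.Classical CfsgLib.Schur

variable {F : Type*} [Field F]

/-- The root element. -/
def u (s : F) : SL(2, F) := uSL (Multiplicative.ofAdd s)

theorem u_add (s t : F) : u (s + t) = u s * u t := by
  rw [u, u, u, ofAdd_add, map_mul]

theorem u_zero : u (0 : F) = 1 := by rw [u, ofAdd_zero, map_one]

theorem diag_conj {a : F} (ha : a ≠ 0) (s : F) :
    SpecialLinearGroup.diag2 a ha * u s * (SpecialLinearGroup.diag2 a ha)⁻¹ = u (a ^ 2 * s) := by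
  rw [mul_inv_eq_iff_eq_mul]
  refine CfsgLib.Classical.sl2_ext ?_
  show (SpecialLinearGroup.diag2 a ha).1 * (u s).1 = (u (a ^ 2 * s)).1 * (SpecialLinearGroup.diag2 a ha).1
  have e : ∀ c : F, (u c).1 = !![1, c; 0, 1] := uSL_coe
  rw [e, e, SpecialLinearGroup.diag2_coe' ha]
  ext i j
  fin_cases i <;> fin_cases j <;> simp [Matrix.mul_apply, Fin.sum_univ_two] <;> field_simp

section Pairing

variable {X : Type*} [Group X] (σ : X →* SL(2, F))

/-- The commutator pairing on lifts of root elements vanishes. -/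
theorem commute_lifts (hs : Function.Surjective σ) (hk : σ.ker ≤ center X) {a b : F} (ha : a ≠ 0)
    (hb : b ≠ 0) (hab : a ^ 2 + 1 = b ^ 2) (hw : 1 + a ^ 2 + (a⁻¹) ^ 2 ≠ 0) {x y : X} (s t : F)
    (hx : σ x = u s) (hy : σ y = u t) : Commute x y := by
  choose L hL using fun s : F => hs (u s)
  set f : F → F → X := fun s t => ⁅L s, L t⁆ with hf
  have hcen : ∀ {z : X}, σ z = 1 → ∀ w, Commute z w := fun hz w => (mem_center_iff.mp (hk hz) w).symm
  have hindep : ∀ (s t : F) (x y : X), σ x = u s → σ y = u t → ⁅x, y⁆ = f s t := by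
    intro s t x y hx hy
    have h1 : σ ((L s)⁻¹ * x) = 1 := by rw [map_mul, map_inv, hL, hx, inv_mul_cancel]
    have h2 : σ ((L t)⁻¹ * y) = 1 := by rw [map_mul, map_inv, hL, hy, inv_mul_cancel]
    obtain ⟨z, hz, rfl⟩ : ∃ z, σ z = 1 ∧ x = L s * z := ⟨_, h1, (mul_inv_cancel_left _ _).symm⟩
    obtain ⟨w, hw, rfl⟩ : ∃ w, σ w = 1 ∧ y = L t * w := ⟨_, h2, (mul_inv_cancel_left _ _).symm⟩
    simp only [hf, commutatorElement_def, _root_.mul_inv_rev]
    calc L s * z * (L t * w) * (z⁻¹ * (L s)⁻¹) * (w⁻¹ * (L t)⁻¹)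
        = L s * (z * (L t * w) * z⁻¹) * (L s)⁻¹ * (w⁻¹ * (L t)⁻¹) := by group
      _ = L s * (L t * w) * (L s)⁻¹ * (w⁻¹ * (L t)⁻¹) := by
          rw [(hcen hz (L t * w)).eq, mul_inv_cancel_right]
      _ = L s * L t * (w * (L s)⁻¹ * w⁻¹) * (L t)⁻¹ := by group
      _ = L s * L t * (L s)⁻¹ * (L t)⁻¹ := by rw [(hcen hw (L s)⁻¹).eq, mul_inv_cancel_right]
  have hker : ∀ s t : F, σ (f s t) = 1 := by
    intro s t
    rw [hf, map_commutatorElement, hL, hL, commutatorElement_eq_one_iff_mul_comm, ← u_add, ← u_add, add_comm]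
  have hfc : ∀ s t w, Commute (f s t) w := fun s t => hcen (hker s t)
  have haddl : ∀ s s' t, f (s + s') t = f s t * f s' t := by
    intro s s' t
    rw [← hindep (s + s') t (L s * L s') (L t) (by rw [map_mul, hL, hL, u_add]) (hL t)]
    simp only [hf]
    calc ⁅L s * L s', L t⁆ = L s * ⁅L s', L t⁆ * (L s)⁻¹ * ⁅L s, L t⁆ := by
          simp only [commutatorElement_def]; group
      _ = ⁅L s', L t⁆ * ⁅L s, L t⁆ := by rw [← (hfc s' t (L s)).eq, mul_inv_cancel_right]
      _ = _ := (hfc s' t _).eq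
  have haddr : ∀ s t t', f s (t + t') = f s t * f s t' := by
    intro s t t'
    rw [← hindep s (t + t') (L s) (L t * L t') (hL s) (by rw [map_mul, hL, hL, u_add])]
    simp only [hf]
    calc ⁅L s, L t * L t'⁆ = ⁅L s, L t⁆ * (L t * ⁅L s, L t'⁆ * (L t)⁻¹) := by
          simp only [commutatorElement_def]; group
      _ = _ := by rw [← (hfc s t' (L t)).eq, mul_inv_cancel_right]
  have hinv : ∀ (c : F), c ≠ 0 → ∀ s t, f (c ^ 2 * s) (c ^ 2 * t) = f s t := by
    intro c hc s t
    obtain ⟨g, hg⟩ := hs (SpecialLinearGroup.diag2 c hc)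
    rw [← hindep _ _ (g * L s * g⁻¹) (g * L t * g⁻¹)
      (by rw [map_mul, map_mul, map_inv, hg, hL, diag_conj])
      (by rw [map_mul, map_mul, map_inv, hg, hL, diag_conj]), ← conjugate_commutatorElement]
    show g * f s t * g⁻¹ = f s t
    rw [← (hfc s t g).eq, mul_inv_cancel_right]
  have hmid : ∀ s t, f (a ^ 2 * s) t * f s (a ^ 2 * t) * f s t = 1 := by
    intro s t
    have h := hinv b hb s t
    rw [← hab, add_mul, one_mul, add_mul, one_mul, haddl, haddr, haddr, hinv a ha] at h
    calc f (a ^ 2 * s) t * f s (a ^ 2 * t) * f s t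
        = (f s t)⁻¹ * (f s t * f (a ^ 2 * s) t * (f s (a ^ 2 * t) * f s t)) := by group
      _ = 1 := by rw [h, inv_mul_cancel]
  have hzero : ∀ s t, f s t = 1 := by
    intro s t
    have key : ∀ t, f s ((1 + a ^ 2 + (a⁻¹) ^ 2) * t) = 1 := by
      intro t
      have e : f (a ^ 2 * s) t = f s ((a⁻¹) ^ 2 * t) := by
        conv_lhs => rw [show t = a ^ 2 * ((a⁻¹) ^ 2 * t) by field_simp]
        exact hinv a ha _ _
      have h := hmid s t
      rw [e, ← haddr, ← haddr] at h
      rwa [show (1 + a ^ 2 + (a⁻¹) ^ 2) * t = (a⁻¹) ^ 2 * t + a ^ 2 * t + t by ring]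
    have := key ((1 + a ^ 2 + (a⁻¹) ^ 2)⁻¹ * t)
    rwa [mul_inv_cancel_left₀ hw] at this
  exact commutatorElement_eq_one_iff_mul_comm.mp ((hindep s t x y hx hy).trans (hzero s t))

end Pairing

/-- Two consecutive squares. -/
theorem exists_squares [Fintype F] (p f : ℕ) [Fact p.Prime] [CharP F p] (hf : 2 ≤ f)
    (hq : Fintype.card F = p ^ f) (h4 : Fintype.card F ≠ 4) (h9 : Fintype.card F ≠ 9) :
    ∃ a b : F, a ≠ 0 ∧ b ≠ 0 ∧ a ^ 2 + 1 = b ^ 2 ∧ 1 + a ^ 2 + (a⁻¹) ^ 2 ≠ 0 := by
  classical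
  have hp : p.Prime := Fact.out
  open Polynomial in
  have hex : ∀ P : F[X], P.Monic → P.natDegree < Fintype.card F → ∃ t : F, P.eval t ≠ 0 := by
    intro P hP hdeg
    by_contra h
    push_neg at h
    exact hP.ne_zero (Polynomial.eq_zero_of_natDegree_lt_card_of_eval_eq_zero P (f := id)
      Function.injective_id (fun t => h t) hdeg)
  by_cases hp2 : p = 2
  · subst hp2
    have hcard : 8 ≤ Fintype.card F := by
      have hne : f ≠ 2 := by rintro rfl; exact h4 (hq.trans (by norm_num))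
      rw [hq]
      exact le_of_eq_of_le (by norm_num : (8 : ℕ) = 2 ^ 3) (Nat.pow_le_pow_right two_pos (by omega))
    obtain ⟨a, ha⟩ := hex (Polynomial.X * (Polynomial.X + Polynomial.C 1) *
      (Polynomial.X ^ 4 + Polynomial.X ^ 2 + Polynomial.C 1)) (by monicity!) (by
        refine lt_of_lt_of_le ?_ hcard
        refine lt_of_le_of_lt (b := 6) ?_ (by norm_num)
        compute_degree)
    simp only [Polynomial.eval_mul, Polynomial.eval_add, Polynomial.eval_X, Polynomial.eval_C,
      Polynomial.eval_pow, mul_ne_zero_iff] at ha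
    obtain ⟨⟨ha0, ha1⟩, ha2⟩ := ha
    refine ⟨a, a + 1, ha0, ha1, ?_, fun h => ha2 ?_⟩
    · have h2 : (2 : F) = 0 := CharTwo.two_eq_zero
      linear_combination (-a) * h2
    · field_simp at h
      linear_combination h
  · have h2 : (2 : F) ≠ 0 := fun h => hp2 ((Nat.prime_dvd_prime_iff_eq hp Nat.prime_two).1
      ((CharP.cast_eq_zero_iff F p 2).1 (by exact_mod_cast h)))
    have hcard : 25 ≤ Fintype.card F := by
      rw [hq]
      rcases Nat.lt_or_ge p 5 with h5 | h5
      · have hp3 : p = 3 := by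
          have := hp.two_le
          interval_cases p
          · exact absurd rfl hp2
          · rfl
          · exact absurd hp (by norm_num)
        subst hp3
        have hne : f ≠ 2 := by rintro rfl; exact h9 (hq.trans (by norm_num))
        exact le_trans (by norm_num : 25 ≤ 3 ^ 3) (Nat.pow_le_pow_right (by norm_num) (by omega))
      · exact le_trans (le_trans (by norm_num : 25 ≤ 5 ^ 2) (Nat.pow_le_pow_left h5 2))
          (Nat.pow_le_pow_right hp.pos hf)
    obtain ⟨t, ht⟩ := hex (Polynomial.X * (Polynomial.X ^ 2 - Polynomial.C 1) *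
      (Polynomial.X ^ 2 + Polynomial.C 1) *
      (Polynomial.X ^ 8 + Polynomial.C 14 * Polynomial.X ^ 4 + Polynomial.C 1)) (by monicity!) (by
        refine lt_of_lt_of_le ?_ hcard
        refine lt_of_le_of_lt (b := 13) ?_ (by norm_num)
        compute_degree)
    simp only [Polynomial.eval_mul, Polynomial.eval_add, Polynomial.eval_sub, Polynomial.eval_X,
      Polynomial.eval_C, Polynomial.eval_pow, mul_ne_zero_iff] at ht
    obtain ⟨⟨⟨ht0, htm⟩, htp⟩, hw⟩ := ht
    refine ⟨(t - t⁻¹) / 2, (t + t⁻¹) / 2, ?_, ?_, ?_, ?_⟩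
    · intro h
      field_simp at h
      exact htm (by linear_combination h)
    · intro h
      field_simp at h
      exact htp (by linear_combination h)
    · field_simp
      ring
    · intro h
      have ha : t ^ 2 - 1 ≠ 0 := htm
      field_simp at h
      exact hw (by linear_combination h)

variable [Fintype F]

theorem two_sylows (p : ℕ) [Fact p.Prime] [CharP F p] :
    1 < Nat.card (Sylow p (⊤ : Subgroup SL(2, F))) := by
  by_contra h
  have hcard : Nat.card (Sylow p (⊤ : Subgroup SL(2, F))) = 1 := by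
    have := Nat.card_pos (α := Sylow p (⊤ : Subgroup SL(2, F)))
    omega
  have hsub := (Nat.card_eq_one_iff_unique.mp hcard).1
  obtain ⟨P⟩ : Nonempty (Sylow p (⊤ : Subgroup SL(2, F))) := inferInstance
  obtain ⟨R, hR⟩ := (P.isPGroup'.map (⊤ : Subgroup SL(2, F)).subtype).exists_le_sylow
  obtain ⟨x, hx⟩ := sylowSL2_exists_conj R
  have hmem : ∀ {i j : Fin 2} (hij : i ≠ j),
      SpecialLinearGroup.transvection hij (1 : F) ∈ (R : Subgroup SL(2, F)) := by
    intro i j hij
    set g := SpecialLinearGroup.transvection hij (1 : F)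
    have hpow : ∀ m : ℕ, g ^ m = SpecialLinearGroup.transvection hij (m : F) := by
      intro m
      induction m with
      | zero => simp
      | succ m ih => rw [pow_succ, ih, Nat.cast_succ, SpecialLinearGroup.transvection_add]
    have hgp : g ^ p = 1 := by rw [hpow, CharP.cast_eq_zero]; simp
    have hP : IsPGroup p ↥(zpowers (⟨g, mem_top g⟩ : (⊤ : Subgroup SL(2, F)))) := by
      obtain ⟨i, -, hi⟩ := (Nat.dvd_prime_pow (Fact.out : p.Prime)).mp
        (show orderOf (⟨g, mem_top g⟩ : (⊤ : Subgroup SL(2, F))) ∣ p ^ 1 by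
          rw [pow_one]; exact orderOf_dvd_of_pow_eq_one (Subtype.ext hgp))
      exact IsPGroup.of_card (n := i) (by rw [Nat.card_zpowers, hi])
    obtain ⟨P', hP'⟩ := hP.exists_le_sylow
    obtain rfl := Subsingleton.elim P' P
    exact hR (mem_map.mpr ⟨_, hP' (mem_zpowers _), rfl⟩)
  have hab : ∀ g ∈ (R : Subgroup SL(2, F)), ∀ h ∈ (R : Subgroup SL(2, F)), g * h = h * g := by
    intro g hg h hh
    rw [hx] at hg hh
    obtain ⟨g', ⟨a, rfl⟩, rfl⟩ := hg
    obtain ⟨h', ⟨b, rfl⟩, rfl⟩ := hh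
    show MulAut.conj x (uSL a) * MulAut.conj x (uSL b) = MulAut.conj x (uSL b) * MulAut.conj x (uSL a)
    rw [← map_mul, ← map_mul, ← map_mul, ← map_mul, mul_comm]
  have h01 := hab _ (hmem (zero_ne_one' (Fin 2))) _ (hmem (zero_ne_one' (Fin 2)).symm)
  have h00 := congrFun (congrFun (congrArg Subtype.val h01) 0) 0
  simp [SpecialLinearGroup.coe_mul, SpecialLinearGroup.transvection_coe, Matrix.mul_apply,
    Matrix.transvection, Fin.sum_univ_two, Matrix.one_apply, Matrix.single] at h00

theorem multiplier_trivial (h4 : Fintype.card F ≠ 4) (h9 : Fintype.card F ≠ 9) :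
    Cfsg.HasCyclicSchurMultiplier SL(2, F) 1 := by
  classical
  obtain ⟨p, hpc⟩ := CharP.exists F
  obtain ⟨⟨f, hf0⟩, hp, hq⟩ := FiniteField.card F p
  have := Fact.mk hp
  change Fintype.card F = p ^ f at hq
  refine Basic.hasCyclicSchurMultiplier_one_of fun X _ _ σ hσ => ?_
  obtain ⟨hs, hk, hc⟩ := hσ
  rw [eq_bot_iff]
  intro z hz
  rw [mem_bot]
  refine Bound.eq_one_of_pow_index z (Nat.card SL(2, F)) Nat.card_pos.ne' (fun r hr _ => ?_)
    (Bound.pow_card_eq_one σ hs hk hz (hc hz))
  have := Fact.mk hr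
  by_cases hrp : r = p
  · subst hrp
    set P := unipSLSylow (F := F) r
    refine ⟨(unipSL F).index, P.not_dvd_index, ?_⟩
    have h := Bound.pow_index_mem σ hs (unipSL F) (hk hz) (hc hz)
    have hbot : (commutator ((unipSL F).comap σ)).map ((unipSL F).comap σ).subtype = ⊥ := by
      by_cases hf1 : f = 1
      · have : IsCyclic ↥(unipSL F) := isCyclic_of_prime_card (p := r)
          (by rw [card_unipSL, Nat.card_eq_fintype_card, hq, hf1, pow_one])
        exact Bound.commutator_comap_eq_bot σ hk _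
      · obtain ⟨a, b, ha, hb, hab, hw⟩ := exists_squares r f (by omega) hq h4 h9
        have hcomm : commutator ((unipSL F).comap σ) = ⊥ := by
          rw [eq_bot_iff, _root_.commutator_def, commutator_le]
          rintro ⟨x, hx⟩ _ ⟨y, hy⟩ _
          obtain ⟨s, hs'⟩ := hx
          obtain ⟨t, ht'⟩ := hy
          rw [mem_bot, commutatorElement_eq_one_iff_mul_comm]
          exact Subtype.ext (commute_lifts σ hs hk ha hb hab hw s.toAdd t.toAdd hs'.symm ht'.symm).eq
        rw [hcomm, Subgroup.map_bot]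
    rwa [hbot, mem_bot] at h
  by_cases hr2 : r = 2
  · subst hr2
    have hp2 : p ≠ 2 := Ne.symm hrp
    obtain ⟨S₁⟩ : Nonempty (Sylow 2 (⊤ : Subgroup SL(2, F))) := inferInstance
    obtain ⟨n, -, ⟨e⟩⟩ := SL2Quaternion.sylow_two_quaternion p hp2 ⊤ (two_sylows p) S₁
    set S := (S₁ : Subgroup (⊤ : Subgroup SL(2, F))).map (⊤ : Subgroup SL(2, F)).subtype
    have hidx : ¬ 2 ∣ S.index := by
      rw [index_map_subtype, index_top, mul_one]
      exact S₁.not_dvd_index
    refine ⟨S.index, hidx, ?_⟩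
    have eS : QuaternionGroup (2 ^ n) ≃* S :=
      e.symm.trans (equivMapOfInjective _ _ (Subgroup.subtype_injective _))
    have hM : Cfsg.HasCyclicSchurMultiplier S 1 :=
      Basic.hasSchurMultiplier_of_mulEquiv eS
        (Basic.hasCyclicSchurMultiplier_one_of fun Γ _ _ τ hτ => Dihedral.quaternion_bound _ τ hτ)
    let ξ : S.comap σ →* S := (σ.comp (S.comap σ).subtype).codRestrict S fun x => x.2
    have hξs : Function.Surjective ξ := fun y => by
      obtain ⟨x, hx⟩ := hs y.1
      exact ⟨⟨x, show σ x ∈ S by rw [hx]; exact y.2⟩, Subtype.ext hx⟩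
    have hξk : ξ.ker ≤ center (S.comap σ) := fun x hx => mem_center_iff.mpr fun y => Subtype.ext
      (mem_center_iff.mp (hk (show σ x.1 = 1 from congrArg Subtype.val hx)) y.1)
    obtain ⟨w, hw, hwz⟩ := Bound.pow_index_mem σ hs S (hk hz) (hc hz)
    have hwk : w ∈ ξ.ker := Subtype.ext (by
      show σ w.1 = 1
      rw [show (w : X) = z ^ S.index from hwz, map_pow, MonoidHom.mem_ker.mp hz, one_pow])
    have hb := Basic.ker_inf_commutator_eq_bot hM ξ hξs hξk
    have hw1 : w = 1 := by
      have : w ∈ ξ.ker ⊓ commutator (S.comap σ) := ⟨hwk, hw⟩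
      rwa [hb, mem_bot] at this
    rw [← hwz, hw1]
    rfl
  · obtain ⟨R⟩ : Nonempty (Sylow r SL(2, F)) := inferInstance
    have : IsCyclic ↥(R : Subgroup SL(2, F)) := sl2_sylow_cyclic p r hr2 hrp R
    exact ⟨(R : Subgroup SL(2, F)).index, R.not_dvd_index,
      Bound.pow_index_eq_one_of_cyclic σ hs hk (R : Subgroup SL(2, F)) hz (hc hz)⟩

end CfsgLib.KGroups.SLTwoMultiplier
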