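import Cfsg.Agent.Lib.KGroups.SteinbergSmallCases

set_option autoImplicit false
set_option maxRecDepth 20000
set_option Elab.async false

/-!
Type B2 over three elements: the derived subgroup of the preimage of the positive unipotent subgroup is
elementary of order nine and meets the kernel trivially.
-/

namespace CfsgLib.KGroups.SteinbergSmall

open CfsgLib.Chevalley CfsgLib.Chevalley.Tbl CfsgLib.KnownA.SteinbergUniv
open scoped commutatorElement

universe u v

local notation "B" => Data.B2.tbl

/-- Type B2, three elements. -/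
def b2C3 : TorusCert := ⟨[1], [1], false, []⟩

theorem b2C3_kill46 : chkKill B b2C3 4 6 = true := by decide +kernel
theorem b2C3_kill57 : chkKill B b2C3 7 5 = true := by decide +kernel
theorem b2C3_kill67 : chkKill B b2C3 7 6 = true := by decide +kernel

variable {F : Type u} [Field F] [Fintype F] {E : Type v} [Group E]

theorem b2_derived_three (h : Fintype.card F = 3) (c : Cov B F E) {e : E}
    (he : e ∈ ⁅((B).rootGen F (fun s => (B).half ≤ s)).comap c.π,
      ((B).rootGen F (fun s => (B).half ≤ s)).comap c.π⁆) (h1 : c.π e = 1) : e = 1 := by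
  obtain ⟨h3, h2, hall⟩ := three_facts h
  have hT := Data.B2.valid
  have hC := Data.B2.chkComm
  have hF : FieldOk F b2C3 := ⟨fun k hk => by
      simp [b2C3] at hk; subst hk
      refine ⟨-1, fun e => one_ne_zero (α := F) ?_⟩
      have e' := congrArg Units.val e
      simp at e'
      linear_combination h3 + e',
    fun k hk => by simp [b2C3] at hk; simp [hk], fun h => by simp [b2C3] at h⟩
  have hn : (B).n = 8 := rfl
  have n4 : 4 < (B).n := by omega
  have n5 : 5 < (B).n := by omega
  have n6 : 6 < (B).n := by omega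
  have n7 : 7 < (B).n := by omega
  have self : ∀ {r : ℕ} {x y : E} {t u : F}, r < (B).n → c.π x = (B).xU F r t →
      c.π y = (B).xU F r u → Commute x y := fun hr hx hy => commute_self hT hC c hr hall hx hy
  have k46 : ∀ {x y : E} {t u : F}, c.π x = (B).xU F 4 t → c.π y = (B).xU F 6 u → Commute x y :=
    fun hx hy => commute_of_kill hT hC hF c n4 n6 (by decide +kernel) (by decide +kernel) b2C3_kill46
      hx hy
  have k75 : ∀ {x y : E} {t u : F}, c.π x = (B).xU F 7 t → c.π y = (B).xU F 5 u → Commute x y :=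
    fun hx hy => commute_of_kill hT hC hF c n7 n5 (by decide +kernel) (by decide +kernel) b2C3_kill57
      hx hy
  have k76 : ∀ {x y : E} {t u : F}, c.π x = (B).xU F 7 t → c.π y = (B).xU F 6 u → Commute x y :=
    fun hx hy => commute_of_kill hT hC hF c n7 n6 (by decide +kernel) (by decide +kernel) b2C3_kill67
      hx hy
  -- the relations in the group
  have r54 := comm_xU (F := F) hT hC n5 n4 (by decide) (by decide +kernel) (1 : F) 1
  rw [show (B).commT 5 4 = [(6, -1, 1, 1), (7, -1, 2, 1)] from by decide +kernel] at r54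
  have r56 := comm_xU (F := F) hT hC n5 n6 (by decide) (by decide +kernel) (1 : F) 1
  rw [show (B).commT 5 6 = [(7, 2, 1, 1)] from by decide +kernel] at r56
  simp only [List.map_cons, List.map_nil, List.prod_cons, List.prod_nil, mul_one, pow_one, one_pow,
    Int.cast_neg, Int.cast_one, Int.cast_ofNat, neg_one_sq, mul_neg, h2,
    _root_.neg_neg] at r54 r56
  -- the lifts
  set la := lg hT c ((B).xU F 5 1) with hla
  set lb := lg hT c ((B).xU F 4 1) with hlb
  set l6 := lg hT c ((B).xU F 6 1) with hl6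
  have ia : c.π la = (B).xU F 5 1 := img_lg hT c (xU_mem_group hT n5 _)
  have ib : c.π lb = (B).xU F 4 1 := img_lg hT c (xU_mem_group hT n4 _)
  have i6 : c.π l6 = (B).xU F 6 1 := img_lg hT c (xU_mem_group hT n6 _)
  have comm_of_rel : ∀ {p q z : GL (B).I F}, q * p = p * q * z → ⁅q⁻¹, p⁻¹⁆ = z := by
    intro p q z hz
    rw [commutatorElement_def, _root_.inv_inv, _root_.inv_inv, mul_assoc _ q p, hz]
    group
  set D := ⁅l6⁻¹, la⁻¹⁆ with hD
  have iD : c.π D = (B).xU F 7 1 := by
    rw [hD, map_commutatorElement, map_inv, map_inv, i6, ia, comm_of_rel r56]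
  set W := ⁅lb⁻¹, la⁻¹⁆ with hW
  set C := W * D with hCdef
  have iC : c.π C = (B).xU F 6 1 := by
    rw [hCdef, map_mul, hW, map_commutatorElement, map_inv, map_inv, ib, ia, comm_of_rel r54, iD,
      mul_assoc, xU_add hT n7, neg_add_cancel, xU_zero hT n7, mul_one]
  -- the pairing of the long roots
  have cAD : Commute la D := (k75 iD ia).symm
  have cCD : Commute C D := (k76 iD iC).symm
  have cBC : Commute lb C := k46 ib iC
  have hD' : D = ⁅C⁻¹, la⁻¹⁆ := commutator_congr c.ker_le (by rw [map_inv, map_inv, i6, iC]) rfl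
  have cBD : Commute lb D := by
    -- `lb` moves `la⁻¹` by an element of the group of the roots 6 and 7
    set M := la * lb * la⁻¹ * lb⁻¹ with hMdef
    have hconj : lb * D * lb⁻¹ = ⁅C⁻¹, la⁻¹ * M⁆ := by
      rw [hD']
      refine conj_commutator_eq c.ker_le ?_ ?_
      · rw [← map_inv c.π lb, ← map_mul, ← map_mul, map_mul, map_mul, map_inv, map_inv]
        rw [show c.π lb * (c.π C)⁻¹ = (c.π C)⁻¹ * c.π lb from ((cBC.map c.π).inv_right).eq,
          mul_inv_cancel_right]
      · rw [hMdef]
        simp only [map_mul, map_inv]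
        group
    -- `M` is a conjugate of `W`
    have hM : M = ⁅la, lb⁆ := by rw [hMdef, commutatorElement_def]
    have hcen : ∀ {g : E} {t : F}, c.π g = (B).xU F 6 t ∨ c.π g = (B).xU F 7 t →
        Commute g C ∧ Commute g D := by
      rintro g t (hg | hg)
      · exact ⟨self n6 hg iC, (k76 iD hg).symm⟩
      · exact ⟨k76 hg iC, self n7 hg iD⟩
    have rel2 := comm_xU (F := F) hT hC n5 n4 (by decide) (by decide +kernel) (-1 : F) (-1)
    rw [show (B).commT 5 4 = [(6, -1, 1, 1), (7, -1, 2, 1)] from by decide +kernel] at rel2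
    simp only [List.map_cons, List.map_nil, List.prod_cons, List.prod_nil, mul_one, ← xU_inv hT n5,
      ← xU_inv hT n4] at rel2
    obtain ⟨g6, hg6⟩ := c.le_range (xU_mem_group (F := F) hT n6
      (((-1 : ℤ) : F) * (-(-1 : F)) ^ 1 * (-1) ^ 1))
    obtain ⟨g7, hg7⟩ := c.le_range (xU_mem_group (F := F) hT n7
      (((-1 : ℤ) : F) * (-(-1 : F)) ^ 2 * (-1) ^ 1))
    have iM : c.π M = c.π (g6 * g7)⁻¹ := by
      rw [hM, map_commutatorElement, ia, ib, map_inv, map_mul, hg6, hg7]
      exact commutator_of_rel rel2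
    obtain ⟨c6C, c6D⟩ := hcen (Or.inl hg6)
    obtain ⟨c7C, c7D⟩ := hcen (Or.inr hg7)
    have cM : ∀ {g : E}, Commute g6 g → Commute g7 g → Commute M g := by
      intro g h6 h7
      have hh := ((h6.mul_left h7).inv_left).mul_left (ker_comm c.ker_le
        (z := (g6 * g7)⁻¹⁻¹ * M) (by rw [map_mul, map_inv, iM, inv_mul_cancel]) g).symm
      rwa [mul_inv_cancel_left] at hh
    have hCM : ⁅C⁻¹, M⁆ = 1 := commutatorElement_eq_one_iff_mul_comm.mpr
      ((cM c6C c7C).inv_right).symm.eq
    rw [commutator_mul_right (by rw [hCM]; exact Commute.one_right _), hCM, mul_one, ← hD'] at hconj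
    exact mul_inv_eq_iff_eq_mul.mp hconj
  -- exponent three
  have hker3 : ∀ {g : E} {r : ℕ}, r < (B).n → c.π g = (B).xU F r 1 → c.π (g ^ 3) = 1 := by
    intro g r hr hg
    rw [map_pow, hg, xU_pow hT hr, mul_one, Nat.cast_ofNat, h3, xU_zero hT hr]
  have hD3 : D ^ 3 = 1 := by
    rw [hD', ← commutator_pow_left (hD' ▸ cCD.inv_left), inv_pow,
      commutatorElement_eq_one_iff_mul_comm]
    exact (ker_comm c.ker_le (show c.π (C ^ 3)⁻¹ = 1 by rw [map_inv, hker3 n6 iC, inv_one]) _).symm
  have cBW : Commute lb W := by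
    have h := cBC.mul_right cBD.inv_right
    rwa [hCdef, mul_inv_cancel_right] at h
  have hW3 : W ^ 3 = 1 := by
    rw [hW, ← commutator_pow_left (hW ▸ cBW.inv_left), inv_pow,
      commutatorElement_eq_one_iff_mul_comm]
    exact (ker_comm c.ker_le (show c.π (lb ^ 3)⁻¹ = 1 by rw [map_inv, hker3 n4 ib, inv_one]) _).symm
  have cWD : Commute W D := by
    have h := cCD.mul_left ((Commute.refl D).inv_left)
    rwa [hCdef, mul_inv_cancel_right] at h
  have hC3 : C ^ 3 = 1 := by rw [hCdef, cWD.mul_pow, hW3, hD3, one_mul]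
  -- the subgroup of order nine
  let N : Subgroup E := Subgroup.closure {C, D}
  have hCN : C ∈ N := Subgroup.subset_closure (Or.inl rfl)
  have hDN : D ∈ N := Subgroup.subset_closure (Or.inr rfl)
  have hWN : W ∈ N := by
    have := mul_mem hCN (inv_mem hDN)
    rwa [hCdef, mul_inv_cancel_right] at this
  have hCA : C⁻¹ * la⁻¹ * C * la = D := by rw [hD', commutatorElement_def, _root_.inv_inv, _root_.inv_inv]
  have conjA : la⁻¹ * C * la = C * D := by rw [← hCA]; group
  have conjA' : la * C * la⁻¹ = C * D⁻¹ := by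
    calc la * C * la⁻¹ = la * (la⁻¹ * C * la) * la⁻¹ * (la * D⁻¹ * la⁻¹) := by
          rw [conjA]; group
      _ = C * D⁻¹ := by rw [cAD.inv_right.eq, mul_inv_cancel_right]; group
  have normOf : ∀ g : E, g * C * g⁻¹ ∈ N → g * D * g⁻¹ ∈ N → g⁻¹ * C * g ∈ N → g⁻¹ * D * g ∈ N →
      g ∈ Subgroup.normalizer (N : Set E) := by
    intro g a1 a2 a3 a4
    have key : ∀ k : E, k * C * k⁻¹ ∈ N → k * D * k⁻¹ ∈ N → ∀ n ∈ N, k * n * k⁻¹ ∈ N := by
      intro k b1 b2 n hn
      induction hn using Subgroup.closure_induction with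
      | mem x hx => rcases hx with rfl | rfl <;> assumption
      | one => simp
      | mul a b _ _ ha hb => simpa [mul_assoc] using mul_mem ha hb
      | inv a _ ha => simpa [mul_assoc] using inv_mem ha
    rw [Subgroup.mem_normalizer_iff]
    intro n
    refine ⟨key g a1 a2 n, fun hn => ?_⟩
    have := key g⁻¹ (by simpa using a3) (by simpa using a4) _ hn
    simpa [mul_assoc] using this
  have fixN : ∀ {g z : E}, Commute g z → z ∈ N → g * z * g⁻¹ ∈ N ∧ g⁻¹ * z * g ∈ N := fun hgz hz =>
    ⟨by rw [hgz.eq, mul_inv_cancel_right]; exact hz,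
      by rw [mul_assoc, ← hgz.eq, inv_mul_cancel_left]; exact hz⟩
  have nA : la ∈ Subgroup.normalizer (N : Set E) :=
    normOf la (conjA' ▸ mul_mem hCN (inv_mem hDN)) (fixN cAD hDN).1 (conjA ▸ mul_mem hCN hDN)
      (fixN cAD hDN).2
  have nB : lb ∈ Subgroup.normalizer (N : Set E) :=
    normOf lb (fixN cBC hCN).1 (fixN cBD hDN).1 (fixN cBC hCN).2 (fixN cBD hDN).2
  let S : Subgroup E := Subgroup.closure {la, lb, C, D}
  have hS : ⁅S, S⁆ ≤ N := by
    refine commutator_closure_le ?_ ?_
    · rw [Subgroup.closure_le]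
      rintro g (rfl | rfl | rfl | rfl)
      · exact nA
      · exact nB
      · exact Subgroup.le_normalizer hCN
      · exact Subgroup.le_normalizer hDN
    · have hAB : ⁅la, lb⁆ ∈ N := by
        have e : ⁅la, lb⁆ = la * (lb * W * lb⁻¹)⁻¹ * la⁻¹ := by
          rw [hW]; simp only [commutatorElement_def]; group
        rw [e, cBW.eq, mul_inv_cancel_right]
        exact (Subgroup.mem_normalizer_iff.mp nA _).mp (inv_mem hWN)
      have hAC : ⁅la, C⁆ ∈ N := by
        rw [commutatorElement_def, conjA']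
        exact mul_mem (mul_mem hCN (inv_mem hDN)) (inv_mem hCN)
      have triv : ∀ {g z : E}, Commute g z → ⁅g, z⁆ ∈ N := fun hgz => by
        rw [commutatorElement_eq_one_iff_mul_comm.mpr hgz.eq]; exact one_mem _
      have swap : ∀ {g z : E}, ⁅g, z⁆ ∈ N → ⁅z, g⁆ ∈ N := fun hgz => by
        rw [← commutatorElement_inv]; exact inv_mem hgz
      rintro x (rfl | rfl | rfl | rfl) y (rfl | rfl | rfl | rfl)
      · exact triv (Commute.refl _)
      · exact hAB
      · exact hAC
      · exact triv cAD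
      · exact swap hAB
      · exact triv (Commute.refl _)
      · exact triv cBC
      · exact triv cBD
      · exact swap hAC
      · exact triv cBC.symm
      · exact triv (Commute.refl _)
      · exact triv cCD
      · exact triv cAD.symm
      · exact triv cBD.symm
      · exact triv cCD.symm
      · exact triv (Commute.refl _)
  -- the preimage is covered by `S`
  have hmem : ∀ g ∈ (B).rootGen F (fun s => (B).half ≤ s), ∃ k ∈ S, c.π k = g := by
    intro g hg
    have hle : (B).rootGen F (fun s => (B).half ≤ s) ≤ S.map c.π := by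
      refine rootGen_le fun r hr hp t => ?_
      have hh : (B).half = 4 := rfl
      rw [hn] at hr
      rw [hh] at hp
      have hone : (B).xU F r 1 ∈ S.map c.π := by
        interval_cases r
        · exact ⟨lb, Subgroup.subset_closure (Or.inr (Or.inl rfl)), ib⟩
        · exact ⟨la, Subgroup.subset_closure (Or.inl rfl), ia⟩
        · exact ⟨C, Subgroup.subset_closure (Or.inr (Or.inr (Or.inl rfl))), iC⟩
        · exact ⟨D, Subgroup.subset_closure (Or.inr (Or.inr (Or.inr rfl))), iD⟩
      have hr' : r < (B).n := by omega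
      rcases hall t with rfl | rfl | rfl
      · rw [xU_zero hT hr']; exact one_mem _
      · exact hone
      · rw [← xU_inv hT hr']; exact inv_mem hone
    obtain ⟨k, hk, rfl⟩ := hle hg
    exact ⟨k, hk, rfl⟩
  have heN : e ∈ N := by
    refine (Subgroup.commutator_le.mpr fun a ha b hb => ?_ : _ ≤ N) he
    obtain ⟨k, hk, hka⟩ := hmem _ (Subgroup.mem_comap.mp ha)
    obtain ⟨l, hl, hlb'⟩ := hmem _ (Subgroup.mem_comap.mp hb)
    rw [commutator_congr c.ker_le hka.symm hlb'.symm]
    exact hS (Subgroup.commutator_mem_commutator hk hl)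
  have hform : ∀ n ∈ N, ∃ i j : ℤ, n = C ^ i * D ^ j := by
    intro n hn
    induction hn using Subgroup.closure_induction with
    | mem x hx =>
      rcases hx with rfl | rfl
      · exact ⟨1, 0, by simp⟩
      · exact ⟨0, 1, by simp⟩
    | one => exact ⟨0, 0, by simp⟩
    | mul a b _ _ ha hb =>
      obtain ⟨i, j, rfl⟩ := ha
      obtain ⟨i', j', rfl⟩ := hb
      exact ⟨i + i', j + j', by
        rw [zpow_add, zpow_add, (cCD.zpow_zpow i' j).mul_mul_mul_comm]⟩
    | inv a _ ha =>
      obtain ⟨i, j, rfl⟩ := ha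
      exact ⟨-i, -j, by rw [mul_inv_rev, zpow_neg, zpow_neg, (cCD.zpow_zpow i j).inv_inv.eq]⟩
  obtain ⟨i, j, rfl⟩ := hform e heN
  have red : ∀ (g : E), g ^ 3 = 1 → ∀ k : ℤ, ∃ m : ℕ, m < 3 ∧ g ^ k = g ^ m := by
    intro g hg k
    refine ⟨(k % 3).toNat, by omega, ?_⟩
    rw [← zpow_natCast, Int.toNat_of_nonneg (Int.emod_nonneg _ (by norm_num))]
    conv_lhs => rw [← Int.mul_ediv_add_emod k 3, zpow_add, zpow_mul,
      show g ^ (3 : ℤ) = 1 by exact_mod_cast hg, one_zpow, one_mul]
  obtain ⟨m, hm, hCm⟩ := red C hC3 i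
  obtain ⟨m', hm', hDm⟩ := red D hD3 j
  rw [hCm, hDm] at h1 ⊢
  rw [map_mul, map_pow, map_pow, iC, iD, xU_pow hT n6, xU_pow hT n7, mul_one, mul_one] at h1
  have hh : (B).half = 4 := rfl
  have hzero : ∀ k : ℕ, k < 3 → (k : F) = 0 → k = 0 := by
    intro k hk hk0
    interval_cases k
    · rfl
    · simp at hk0
    · push_cast at hk0
      exact absurd (by linear_combination h3 - hk0 : (1 : F) = 0) one_ne_zero
  obtain ⟨hm0, hrest⟩ := xU_mul_inj hT hC (k := 6) (by omega) n6 (t := (m : F)) (t' := 0)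
    (g := (B).xU F 7 (m' : F)) (g' := 1)
    (xU_mem_rootGen (P := fun s => 6 + 1 ≤ s) n7 (le_refl _) _) (one_mem _)
    (by rw [h1, xU_zero hT n6, one_mul])
  rw [hzero m hm hm0, hzero m' hm' ((xU_eq_one_iff hT n7 _).mp hrest), pow_zero, pow_zero, one_mul]

end CfsgLib.KGroups.SteinbergSmall
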