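import Cfsg.Agent.Lib.KGroups.SteinbergSmallLift
import Cfsg.Agent.Lib.KnownA.SteinbergPLift
import Cfsg.Agent.Lib.KnownA.SteinbergLaced
import Cfsg.Agent.Lib.Chevalley.Data.B2
import Cfsg.Agent.Lib.Chevalley.Data.D4
import Cfsg.Agent.Lib.Chevalley.Data.B2Comm
import Cfsg.Agent.Lib.Chevalley.Data.D4Comm
import Cfsg.Agent.Lib.Chevalley.Data.StCerts

set_option autoImplicit false
set_option maxRecDepth 20000
set_option Elab.async false

/-!
Types D4 over the field with three elements and B2 over three or four elements: the preimage of the positive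
unipotent subgroup in a central extension has derived subgroup meeting the kernel trivially.
-/

namespace CfsgLib.KGroups.SteinbergSmall

open CfsgLib.Chevalley CfsgLib.Chevalley.Tbl CfsgLib.KnownA.SteinbergUniv
open scoped commutatorElement

universe u v

/-! ### Generalities -/

section Group

variable {G : Type*} [Group G]

theorem commutator_pow_left {x y : G} (h : Commute x ⁅x, y⁆) (n : ℕ) : ⁅x ^ n, y⁆ = ⁅x, y⁆ ^ n := by
  induction n with
  | zero => simp
  | succ n ih =>
    rw [pow_succ', commutator_mul_left (ih ▸ h.pow_right n), ih, pow_succ]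

theorem inv_left_of_central {x y : G} (h : ∀ g, Commute g ⁅x, y⁆) : ⁅x⁻¹, y⁆ = ⁅x, y⁆⁻¹ := by
  refine (inv_eq_of_mul_eq_one_right ?_).symm
  rw [← commutator_mul_left (h x⁻¹), inv_mul_cancel, commutatorElement_one_left]

theorem inv_right_of_central {x y : G} (h : ∀ g, Commute g ⁅x, y⁆) : ⁅x, y⁻¹⁆ = ⁅x, y⁆⁻¹ := by
  refine (inv_eq_of_mul_eq_one_left ?_).symm
  rw [← commutator_mul_right (h y⁻¹), inv_mul_cancel, commutatorElement_one_right]

/-- The derived subgroup lies in a normalised subgroup modulo which the generators commute. -/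
theorem commutator_closure_le {s : Set G} {N : Subgroup G}
    (hN : Subgroup.closure s ≤ Subgroup.normalizer (N : Set G))
    (h : ∀ x ∈ s, ∀ y ∈ s, ⁅x, y⁆ ∈ N) : ⁅Subgroup.closure s, Subgroup.closure s⁆ ≤ N := by
  have hconj : ∀ g ∈ Subgroup.closure s, ∀ n ∈ N, g * n * g⁻¹ ∈ N := fun g hg n hn =>
    ((Subgroup.mem_normalizer_iff.mp (hN hg)) n).mp hn
  have hstep : ∀ y ∈ Subgroup.closure s, (∀ x ∈ s, ⁅x, y⁆ ∈ N) →
      ∀ x ∈ Subgroup.closure s, ⁅x, y⁆ ∈ N := by
    intro y _ hy x hx
    induction hx using Subgroup.closure_induction with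
    | mem x hx => exact hy x hx
    | one => rw [commutatorElement_one_left]; exact one_mem _
    | mul a b ha _ iha ihb =>
      rw [show ⁅a * b, y⁆ = a * ⁅b, y⁆ * a⁻¹ * ⁅a, y⁆ by simp [commutatorElement_def, mul_assoc]]
      exact mul_mem (hconj a ha _ ihb) iha
    | inv a ha iha =>
      rw [show ⁅a⁻¹, y⁆ = a⁻¹ * ⁅a, y⁆⁻¹ * a⁻¹⁻¹ by simp [commutatorElement_def, mul_assoc]]
      exact hconj _ (inv_mem ha) _ (inv_mem iha)
  refine Subgroup.commutator_le.mpr fun x hx y hy => hstep y hy (fun a ha => ?_) x hx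
  rw [← commutatorElement_inv]
  exact inv_mem (hstep a (Subgroup.subset_closure ha) (fun b hb => h b hb a ha) y hy)

end Group

/-- The field with three elements. -/
theorem three_facts {F : Type u} [Field F] [Fintype F] (h : Fintype.card F = 3) :
    ((3 : F) = 0) ∧ ((2 : F) = -1) ∧ ∀ t : F, t = 0 ∨ t = 1 ∨ t = -1 := by
  classical
  have h3 : ((Fintype.card F : ℕ) : F) = 0 := FiniteField.cast_card_eq_zero F
  rw [h] at h3
  push_cast at h3
  refine ⟨h3, by linear_combination h3, fun t => ?_⟩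
  by_contra hc
  push Not at hc
  have hne : (1 : F) ≠ -1 := fun e => one_ne_zero (α := F) (by linear_combination h3 - e)
  have h4 : ({t, 0, 1, -1} : Finset F).card = 4 := by
    rw [Finset.card_insert_of_notMem (by simp [hc.1, hc.2.1, hc.2.2]),
      Finset.card_insert_of_notMem (by simp), Finset.card_pair hne]
  have := Finset.card_le_univ ({t, 0, 1, -1} : Finset F)
  omega

section Pairs

variable {T : Tbl} {F : Type u} [Field F] {C : TorusCert} {E : Type v} [Group E]
  (hT : T.Valid) (hC : T.chkComm = true) (hF : FieldOk F C) (c : Cov T F E)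
include hT hC hF

/-- The tests needing no certificate. -/
def chkPlain (T : Tbl) (C : TorusCert) (r s : ℕ) : Bool :=
  chkKill T C r s || chkKill T C s r || chkDec T C r s || chkDec T C s r || chkDec2 T C r s

theorem commute_of_plain {r s : ℕ} (hr : r < T.n) (hs : s < T.n) (h1 : T.sum? r s = none)
    (h2 : s ≠ T.neg r) (hk : chkPlain T C r s = true) {x y : E} {t u : F}
    (hx : c.π x = T.xU F r t) (hy : c.π y = T.xU F s u) : Commute x y := by
  simp only [chkPlain, Bool.or_eq_true] at hk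
  rcases hk with (((hk | hk) | hk) | hk) | hk
  · exact commute_of_kill hT hC hF c hr hs h1 h2 hk hx hy
  · exact (commute_of_kill hT hC hF c hs hr (sum?_none hT hr hs h1).1
      (fun e => h2 (by rw [e, neg_neg' hs])) hk hy hx).symm
  · exact commute_of_dec hT hC hF c hr hs hk hx hy
  · exact (commute_of_dec hT hC hF c hs hr hk hy hx).symm
  · exact commute_of_dec2 hT hC hF c hr hs hk hx hy

omit hF in
theorem img_one_commutator {r s : ℕ} (hr : r < T.n) (hs : s < T.n) (h1 : T.sum? r s = none)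
    (h2 : s ≠ T.neg r) {x y : E} {t u : F} (hx : c.π x = T.xU F r t) (hy : c.π y = T.xU F s u) :
    c.π ⁅x, y⁆ = 1 := by
  rw [map_commutatorElement, hx, hy, commutatorElement_eq_one_iff_mul_comm]
  exact (commute_xU' hT hC hr hs h1 h2 t u).eq

omit hF in
/-- Over three elements a root subgroup is cyclic. -/
theorem commute_self {r : ℕ} (hr : r < T.n) (h3 : ∀ t : F, t = 0 ∨ t = 1 ∨ t = -1) {x y : E}
    {t u : F} (hx : c.π x = T.xU F r t) (hy : c.π y = T.xU F r u) : Commute x y := by
  set l := lg hT c (T.xU F r 1) with hl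
  have himg : c.π l = T.xU F r 1 := img_lg hT c (xU_mem_group hT hr _)
  have key : ∀ {w : E} {a : F}, c.π w = T.xU F r a → ∀ z : E, Commute l z → Commute w z := by
    intro w a hw z hz
    obtain ⟨g, hg, hgl⟩ : ∃ g : E, c.π g = c.π w ∧ Commute g z := by
      rcases h3 a with rfl | rfl | rfl
      · exact ⟨1, by rw [map_one, hw, xU_zero hT hr], Commute.one_left _⟩
      · exact ⟨l, by rw [himg, hw], hz⟩
      · exact ⟨l⁻¹, by rw [map_inv, himg, hw, xU_inv hT hr], hz.inv_left⟩
    have := hgl.mul_left (ker_comm c.ker_le (z := g⁻¹ * w)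
      (by rw [map_mul, map_inv, hg, inv_mul_cancel]) z).symm
    rwa [mul_inv_cancel_left] at this
  exact key hx y (key hy l (Commute.refl l)).symm

end Pairs

/-! ### Type D4 over three elements: the identity of Hall and Witt -/

/-- `(r, s) ↦ (a, q)` with a flag for the sign, when `s = a + b`, `q = r + b`. -/
def hwStep (T : Tbl) (C : TorusCert) (r s : ℕ) : List (ℕ × ℕ × Bool) :=
  (List.range T.n).filterMap fun a =>
    match T.sum? s (T.neg a) with
    | none => none
    | some (b, _) => match T.commT a b, T.commT r b with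
      | [(w, N, i, j)], [(q, M, k, l)] =>
        if Nat.beq w s && Nat.beq i 1 && Nat.beq j 1 && Nat.beq k 1 && Nat.beq l 1 &&
            (T.sum? r a).isNone && !(Nat.beq a (T.neg r)) && !(Nat.beq b a) &&
            !(Nat.beq b (T.neg a)) && !(Nat.beq b r) && !(Nat.beq b (T.neg r)) &&
            Nat.beq N.natAbs 1 && Nat.beq M.natAbs 1 && (T.sum? a q).isNone &&
            !(Nat.beq q (T.neg a)) && chkSep T C q s then
          some (a, q, decide (N ≠ M)) else none
      | _, _ => none

def hwNext (T : Tbl) (C : TorusCert) (r s : ℕ) : List (ℕ × ℕ × Bool) :=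
  hwStep T C r s ++ (hwStep T C s r).map fun x => (x.1, x.2.1, !x.2.2)

/-- A cycle of two steps of odd sign. -/
def chkCycle (T : Tbl) (C : TorusCert) (r s : ℕ) : Bool :=
  (hwNext T C r s).any fun x => (hwNext T C x.1 x.2.1).any fun y =>
    (Nat.beq y.1 r && Nat.beq y.2.1 s && xor x.2.2 y.2.2) ||
      (Nat.beq y.1 s && Nat.beq y.2.1 r && !(xor x.2.2 y.2.2))

section Cycle

variable {T : Tbl} {F : Type u} [Field F] {C : TorusCert} {E : Type v} [Group E]
  (hT : T.Valid) (hC : T.chkComm = true) (hF : FieldOk F C) (c : Cov T F E)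
include hT hC hF

/-- The pairing at `(1, 1)`. -/
noncomputable def zp (r s : ℕ) : E := ⁅lg hT c (T.xU F r 1), lg hT c (T.xU F s 1)⁆

/-- A pairing value or its inverse. -/
def sgn (f : Bool) (z : E) : E := bif f then z⁻¹ else z

omit hT hC hF in
theorem sgn_inv (f : Bool) (z : E) : (sgn f z)⁻¹ = sgn (!f) z := by cases f <;> simp [sgn]

omit hT hC hF in
theorem sgn_sgn (f g : Bool) (z : E) : sgn f (sgn g z) = sgn (xor f g) z := by
  cases f <;> cases g <;> simp [sgn]

omit hC hF in
theorem zp_swap (r s : ℕ) : (zp hT c r s)⁻¹ = zp hT c s r := commutatorElement_inv _ _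

omit hF in
theorem commutator_xU_one {a b w : ℕ} {N : ℤ} (ha : a < T.n) (hb : b < T.n) (hne : b ≠ a)
    (hneg : b ≠ T.neg a) (h : T.commT a b = [(w, N, 1, 1)]) (t u : F) :
    ⁅T.xU F a t, T.xU F b u⁆ = T.xU F w ((N : F) * t * u) := by
  have hw : w < T.n := commT_lt hT ha hb (w, N, 1, 1) (by simp [h])
  have hrel := comm_xU (F := F) hT hC ha hb hne hneg (-t) (-u)
  rw [h] at hrel
  simp only [List.map_cons, List.map_nil, List.prod_cons, List.prod_nil, mul_one, pow_one,
    _root_.neg_neg, ← xU_inv hT ha, ← xU_inv hT hb] at hrel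
  rw [commutator_of_rel hrel, xU_inv hT hw, mul_neg, _root_.neg_neg]

theorem hwStep_spec {r s : ℕ} (hr : r < T.n) (hs : s < T.n) {x : ℕ × ℕ × Bool}
    (hx : x ∈ hwStep T C r s) :
    x.1 < T.n ∧ x.2.1 < T.n ∧ zp hT c r s = sgn x.2.2 (zp hT c x.1 x.2.1) := by
  simp only [hwStep, List.mem_filterMap, List.mem_range] at hx
  obtain ⟨a, ha, hx⟩ := hx
  cases hsum : T.sum? s (T.neg a) with
  | none => simp [hsum] at hx
  | some p =>
    obtain ⟨b, N'⟩ := p
    have hb := sum?_lt hT hs (neg_lt' ha) hsum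
    match h1 : T.commT a b, h2 : T.commT r b with
    | [], _ => simp [hsum, h1] at hx
    | _ :: _ :: _, _ => simp [hsum, h1] at hx
    | [_], [] => simp [hsum, h1, h2] at hx
    | [_], _ :: _ :: _ => simp [hsum, h1, h2] at hx
    | [(w, N, i, j)], [(q, M, k, l)] =>
      simp only [hsum, h1, h2, Option.ite_none_right_eq_some, Option.some.injEq, Bool.and_eq_true,
        Nat.beq_eq, Bool.not_eq_true', Bool.eq_false_iff, ne_eq, Option.isNone_iff_eq_none] at hx
      obtain ⟨⟨⟨⟨⟨⟨⟨⟨⟨⟨⟨⟨⟨⟨⟨⟨hw, hi⟩, hj⟩, hk⟩, hl⟩, hra⟩, hra'⟩, hba⟩, hba'⟩, hbr⟩, hbr'⟩, hN⟩, hM⟩,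
        haq⟩, haq'⟩, hsep⟩, rfl⟩ := hx
      subst hw hi hj hk hl
      have hq : q < T.n := commT_lt hT hr hb (q, M, 1, 1) (by simp [h2])
      refine ⟨ha, hq, ?_⟩
      have hNN := cast_mul_self (F := F) hN
      set X := lg hT c (T.xU F r 1) with hXdef
      set la := lg hT c (T.xU F a (N : F))
      set lb := lg hT c (T.xU F b 1)
      set lq := lg hT c (T.xU F q (M : F))
      have iX : c.π X = T.xU F r 1 := img_lg hT c (xU_mem_group hT hr _)
      have ila : c.π la = T.xU F a (N : F) := img_lg hT c (xU_mem_group hT ha _)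
      have ilb : c.π lb = T.xU F b 1 := img_lg hT c (xU_mem_group hT hb _)
      have ilq : c.π lq = T.xU F q (M : F) := img_lg hT c (xU_mem_group hT hq _)
      have iK : c.π ⁅la, lb⁆ = T.xU F w 1 := by
        rw [map_commutatorElement, ila, ilb, commutator_xU_one hT hC ha hb hba hba' h1, mul_one, hNN]
      have hcomm : Commute lq ⁅la, lb⁆ :=
        (commute_of_sep hT hC hF c hq hs hsep ilq iK).symm
      have hconj : X * ⁅la, lb⁆ * X⁻¹ = ⁅la, lq * lb⁆ := by
        refine conj_commutator_eq c.ker_le ?_ ?_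
        · rw [iX, ila, (commute_xU' (F := F) hT hC hr ha hra hra' 1 (N : F)).eq, mul_inv_cancel_right]
        · rw [map_mul, iX, ilb, ilq]
          have h := commutator_xU_one hT hC hr hb hbr hbr' h2 (1 : F) 1
          rw [mul_one, mul_one, commutatorElement_def, mul_inv_eq_iff_eq_mul] at h
          exact h
      have hz : zp hT c r w = ⁅la, lq⁆ := by
        rw [zp, commutator_congr c.ker_le (x := lg hT c (T.xU F r 1)) (x' := X)
          (y := lg hT c (T.xU F w 1)) (y' := ⁅la, lb⁆) rfl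
          (by rw [iK, img_lg hT c (xU_mem_group hT hs _)]),
          commutatorElement_def X, hconj, commutator_mul_right hcomm, mul_inv_cancel_right]
      rw [hz]
      set A := lg hT c (T.xU F a 1)
      set Q := lg hT c (T.xU F q 1)
      have iA : c.π A = T.xU F a 1 := img_lg hT c (xU_mem_group hT ha _)
      have iQ : c.π Q = T.xU F q 1 := img_lg hT c (xU_mem_group hT hq _)
      have hone : c.π ⁅A, Q⁆ = 1 := img_one_commutator hT hC c ha hq haq haq' iA iQ
      have hcen : ∀ g, Commute g ⁅A, Q⁆ := fun g => ker_comm c.ker_le hone g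
      have hcen' : ∀ g, Commute g ⁅A, Q⁻¹⁆ := fun g => by
        rw [inv_right_of_central hcen]; exact (hcen g).inv_right
      show _ = sgn (decide (N ≠ M)) ⁅A, Q⁆
      rcases Int.natAbs_eq_iff.mp hN with rfl | rfl <;>
        rcases Int.natAbs_eq_iff.mp hM with rfl | rfl
      · exact commutator_congr c.ker_le (by rw [ila, iA]; simp) (by rw [ilq, iQ]; simp)
      · rw [commutator_congr c.ker_le (x := la) (x' := A) (y := lq) (y' := Q⁻¹)
          (by rw [ila, iA]; simp) (by rw [ilq, map_inv, iQ, xU_inv hT hq]; simp)]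
        exact inv_right_of_central hcen
      · rw [commutator_congr c.ker_le (x := la) (x' := A⁻¹) (y := lq) (y' := Q)
          (by rw [ila, map_inv, iA, xU_inv hT ha]; simp) (by rw [ilq, iQ]; simp)]
        exact inv_left_of_central hcen
      · rw [commutator_congr c.ker_le (x := la) (x' := A⁻¹) (y := lq) (y' := Q⁻¹)
          (by rw [ila, map_inv, iA, xU_inv hT ha]; simp)
          (by rw [ilq, map_inv, iQ, xU_inv hT hq]; simp)]
        rw [inv_left_of_central hcen', inv_right_of_central hcen, inv_inv]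
        rfl

theorem hwNext_spec {r s : ℕ} (hr : r < T.n) (hs : s < T.n) {x : ℕ × ℕ × Bool}
    (hx : x ∈ hwNext T C r s) :
    x.1 < T.n ∧ x.2.1 < T.n ∧ zp hT c r s = sgn x.2.2 (zp hT c x.1 x.2.1) := by
  simp only [hwNext, List.mem_append, List.mem_map] at hx
  rcases hx with hx | ⟨y, hy, rfl⟩
  · exact hwStep_spec hT hC hF c hr hs hx
  · obtain ⟨h1, h2, h3⟩ := hwStep_spec hT hC hF c hs hr hy
    refine ⟨h1, h2, ?_⟩
    rw [← zp_swap hT c s r, h3, sgn_inv]

theorem commute_of_cycle {r s : ℕ} (hr : r < T.n) (hs : s < T.n) (h1 : T.sum? r s = none)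
    (h2 : s ≠ T.neg r) (hk : chkCycle T C r s = true) (h3 : (3 : F) = 0)
    (hall : ∀ t : F, t = 0 ∨ t = 1 ∨ t = -1) {x y : E} {t u : F}
    (hx : c.π x = T.xU F r t) (hy : c.π y = T.xU F s u) : Commute x y := by
  set X := lg hT c (T.xU F r 1) with hXdef
  set Y := lg hT c (T.xU F s 1) with hYdef
  have iX : c.π X = T.xU F r 1 := img_lg hT c (xU_mem_group hT hr _)
  have iY : c.π Y = T.xU F s 1 := img_lg hT c (xU_mem_group hT hs _)
  have hinv : (zp hT c r s)⁻¹ = zp hT c r s := by
    simp only [chkCycle, List.any_eq_true] at hk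
    obtain ⟨p, hp, q, hq, hk⟩ := hk
    obtain ⟨a1, a2, e1⟩ := hwNext_spec hT hC hF c hr hs hp
    obtain ⟨-, -, e2⟩ := hwNext_spec hT hC hF c a1 a2 hq
    rw [e2, sgn_sgn] at e1
    simp only [Bool.or_eq_true, Bool.and_eq_true, Nat.beq_eq, Bool.not_eq_true'] at hk
    rcases hk with ⟨⟨q1, q2⟩, hf⟩ | ⟨⟨q1, q2⟩, hf⟩ <;> rw [q1, q2, hf] at e1 <;>
      simp only [sgn, cond_true, cond_false] at e1
    · exact e1.symm
    · rw [zp_swap hT c r s]; exact e1.symm
  have hcube : zp hT c r s ^ 3 = 1 := by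
    have hz : c.π ⁅X, Y⁆ = 1 := img_one_commutator hT hC c hr hs h1 h2 iX iY
    have hX3 : c.π (X ^ 3) = 1 := by
      rw [map_pow, iX, xU_pow hT hr, mul_one, Nat.cast_ofNat, h3, xU_zero hT hr]
    show ⁅X, Y⁆ ^ 3 = 1
    rw [← commutator_pow_left (ker_comm c.ker_le hz X), commutatorElement_eq_one_iff_mul_comm]
    exact (ker_comm c.ker_le hX3 Y).symm
  have hone : ⁅X, Y⁆ = 1 := by
    show zp hT c r s = 1
    have hsq : zp hT c r s * zp hT c r s = 1 := inv_eq_iff_mul_eq_one.mp hinv
    rwa [pow_succ, pow_two, hsq, one_mul] at hcube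
  have key : ∀ {w : E} {a : F} {j : ℕ} {l z : E}, j < T.n → c.π l = T.xU F j 1 →
      c.π w = T.xU F j a → Commute l z → Commute w z := by
    intro w a j l z hj hl hw hz
    obtain ⟨g, hg, hgl⟩ : ∃ g : E, c.π g = c.π w ∧ Commute g z := by
      rcases hall a with rfl | rfl | rfl
      · exact ⟨1, by rw [map_one, hw, xU_zero hT hj], Commute.one_left _⟩
      · exact ⟨l, by rw [hl, hw], hz⟩
      · exact ⟨l⁻¹, by rw [map_inv, hl, hw, xU_inv hT hj], hz.inv_left⟩
    have := hgl.mul_left (ker_comm c.ker_le (z := g⁻¹ * w)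
      (by rw [map_mul, map_inv, hg, inv_mul_cancel]) z).symm
    rwa [mul_inv_cancel_left] at this
  exact key hr iX hx (key hs iY hy (commutatorElement_eq_one_iff_mul_comm.mp hone :
    Commute X Y).symm).symm

end Cycle

/-! ### The certificates -/

/-- Type D4, three elements. -/
def d4C : TorusCert := ⟨[1], [1], false, []⟩

def chkD4Pos : Bool :=
  allLt (fun r => allLt (fun s => !(Nat.ble 12 r && Nat.ble 12 s) ||
    !(Data.D4.tbl.sum? r s).isNone || Nat.beq r s ||
    chkPlain Data.D4.tbl d4C r s || chkCycle Data.D4.tbl d4C r s) 24) 24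

theorem d4_chkU : chkU Data.D4.tbl d4C = true := by decide +kernel

theorem d4_chkPos : chkD4Pos = true := by decide +kernel

/-- Type B2, four elements. -/
def b2C : TorusCert := ⟨[1, 2], [1], false, []⟩

def chkB2Pos : Bool :=
  allLt (fun r => allLt (fun s => !(Nat.ble 4 r && Nat.ble 4 s) ||
    !(Data.B2.tbl.sum? r s).isNone || (Nat.beq r s && (Nat.beq r 5 || Nat.beq r 6)) ||
    chkPlain Data.B2.tbl b2C r s) 8) 8

theorem b2_chkU : chkU Data.B2.tbl b2C = true := by decide +kernel

theorem b2_chkPos : chkB2Pos = true := by decide +kernel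

section D4

variable {F : Type u} [Field F] [Fintype F] {E : Type v} [Group E]

/-- D4 over three elements. -/
theorem d4_derived (h : Fintype.card F = 3) (c : Cov Data.D4.tbl F E) {e : E}
    (he : e ∈ ⁅(Data.D4.tbl.rootGen F (fun s => Data.D4.tbl.half ≤ s)).comap c.π,
      (Data.D4.tbl.rootGen F (fun s => Data.D4.tbl.half ≤ s)).comap c.π⁆) (h1 : c.π e = 1) :
    e = 1 := by
  obtain ⟨h3, h2, hall⟩ := three_facts h
  have hF : FieldOk F d4C := ⟨fun k hk => by
      simp [d4C] at hk; subst hk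
      refine ⟨-1, fun e => one_ne_zero (α := F) ?_⟩
      have e' := congrArg Units.val e
      simp at e'
      linear_combination h3 + e',
    fun k hk => by simp [d4C] at hk; simp [hk], fun h => by simp [d4C] at h⟩
  refine eq_one_of_mem_derived Data.D4.valid Data.D4.chkComm d4_chkU hF c ?_ he h1
  intro r s hr hs hrp hsp hsum x y t u hx hy
  have hneg : s ≠ Data.D4.tbl.neg r := by unfold Tbl.neg Tbl.n at *; omega
  by_cases hrs : r = s
  · subst hrs
    exact commute_self Data.D4.valid Data.D4.chkComm c hr hall hx hy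
  have hn : Data.D4.tbl.n = 24 := rfl
  have hh : Data.D4.tbl.half = 12 := rfl
  have hp := allLt_iff.mp (allLt_iff.mp d4_chkPos r (hn ▸ hr)) s (hn ▸ hs)
  rw [Nat.ble_eq_true_of_le (hh ▸ hrp), Nat.ble_eq_true_of_le (hh ▸ hsp), hsum] at hp
  simp only [Option.isNone_none, Bool.and_self, Bool.not_true, Bool.false_or, Bool.or_eq_true,
    Nat.beq_eq, hrs, false_or] at hp
  rcases hp with hp | hp
  · exact commute_of_plain Data.D4.valid Data.D4.chkComm hF c hr hs hsum hneg hp hx hy
  · exact commute_of_cycle Data.D4.valid Data.D4.chkComm hF c hr hs hsum hneg hp h3 hall hx hy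

end D4

section B2

variable {F : Type u} [Field F] {E : Type v} [Group E]

/-- A short root subgroup: `x_r` is a commutator of elements fixed by it, modulo a long root. -/
theorem b2_commute_short (h2 : (2 : F) = 0) (hF : FieldOk F b2C) (c : Cov Data.B2.tbl F E)
    {r a b q : ℕ} (hr : r < 8) (ha : a < 8) (hb : b < 8) (hq : q < 8) (hba : b ≠ a)
    (hba' : b ≠ Data.B2.tbl.neg a) (hab : Data.B2.tbl.commT a b = [(r, -1, 1, 1), (q, -1, 2, 1)] ∨
      Data.B2.tbl.commT a b = [(r, -1, 1, 1), (q, 1, 2, 1)])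
    {K : ℤ} (hra : Data.B2.tbl.commT r a = [(q, K, 1, 1)]) (hK : K.natAbs = 2)
    (har : a ≠ r) (har' : a ≠ Data.B2.tbl.neg r)
    (hrb : Data.B2.tbl.sum? r b = none) (hrb' : b ≠ Data.B2.tbl.neg r)
    (hrq : Data.B2.tbl.sum? r q = none) (hrq' : q ≠ Data.B2.tbl.neg r)
    (hp : chkPlain Data.B2.tbl b2C r q = true) {x y : E} {t u : F}
    (hx : c.π x = Data.B2.tbl.xU F r u) (hy : c.π y = Data.B2.tbl.xU F r t) : Commute x y := by
  have hT := Data.B2.valid
  have hC := Data.B2.chkComm
  have hn : Data.B2.tbl.n = 8 := rfl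
  obtain ⟨M, hM⟩ : ∃ M : ℤ, Data.B2.tbl.commT a b = [(r, -1, 1, 1), (q, M, 2, 1)] := by
    rcases hab with h | h <;> exact ⟨_, h⟩
  have hrel := comm_xU (F := F) hT hC (hn ▸ ha) (hn ▸ hb) hba hba' (1 : F) t
  simp only [hM, List.map_cons, List.map_nil, List.prod_cons, List.prod_nil, mul_one, pow_one,
    Int.cast_neg, Int.cast_one, neg_mul_neg, one_mul] at hrel
  set la := lg hT c (Data.B2.tbl.xU F a 1)
  set lb := lg hT c (Data.B2.tbl.xU F b t)
  set lq := lg hT c (Data.B2.tbl.xU F q ((M : F) * (-1) ^ 2 * t))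
  have ila : c.π la = Data.B2.tbl.xU F a 1 := img_lg hT c (xU_mem_group hT (hn ▸ ha) _)
  have ilb : c.π lb = Data.B2.tbl.xU F b t := img_lg hT c (xU_mem_group hT (hn ▸ hb) _)
  have ilq : c.π lq = Data.B2.tbl.xU F q ((M : F) * (-1) ^ 2 * t) :=
    img_lg hT c (xU_mem_group hT (hn ▸ hq) _)
  have c1 : Commute (c.π x) (c.π la) := by
    rw [hx, ila]
    have h := comm_xU (F := F) hT hC (hn ▸ hr) (hn ▸ ha) har har' u 1
    rw [hra] at h
    simp only [List.map_cons, List.map_nil, List.prod_cons, List.prod_nil, mul_one, pow_one] at h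
    have hK0 : (K : F) = 0 := by
      rcases Int.natAbs_eq_iff.mp hK with rfl | rfl <;> simp [h2]
    rw [hK0, zero_mul, xU_zero hT (hn ▸ hq), mul_one] at h
    exact h.symm
  have c2 : Commute (c.π x) (c.π lb) := by
    rw [hx, ilb]; exact commute_xU' hT hC (hn ▸ hr) (hn ▸ hb) hrb hrb' _ _
  have cq : Commute x lq := commute_of_plain hT hC hF c (hn ▸ hr) (hn ▸ hq) hrq hrq' hp hx ilq
  have cK : Commute x ⁅lb⁻¹, la⁻¹⁆ := commute_commutator c.ker_le
    (by rw [map_inv]; exact c2.inv_right) (by rw [map_inv]; exact c1.inv_right)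
  have hW : c.π ⁅lb⁻¹, la⁻¹⁆ =
      Data.B2.tbl.xU F r t * Data.B2.tbl.xU F q ((M : F) * (-1) ^ 2 * t) := by
    rw [map_commutatorElement, map_inv, map_inv, ila, ilb, commutatorElement_def, _root_.inv_inv,
      _root_.inv_inv, mul_assoc _ (Data.B2.tbl.xU F b t) (Data.B2.tbl.xU F a 1), hrel]
    group
  have hz : c.π ((⁅lb⁻¹, la⁻¹⁆ * lq⁻¹)⁻¹ * y) = 1 := by
    rw [map_mul, map_inv, map_mul, map_inv, hW, ilq, hy]
    group
  have := (cK.mul_right cq.inv_right).mul_right (ker_comm c.ker_le hz x : Commute x _)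
  rwa [mul_inv_cancel_left] at this

variable [Fintype F]

/-- B2 over four elements. -/
theorem b2_derived_four (h : Fintype.card F = 4) (c : Cov Data.B2.tbl F E) {e : E}
    (he : e ∈ ⁅(Data.B2.tbl.rootGen F (fun s => Data.B2.tbl.half ≤ s)).comap c.π,
      (Data.B2.tbl.rootGen F (fun s => Data.B2.tbl.half ≤ s)).comap c.π⁆) (h1 : c.π e = 1) :
    e = 1 := by
  have h2 : (2 : F) = 0 := by
    have h4 : ((Fintype.card F : ℕ) : F) = 0 := FiniteField.cast_card_eq_zero F
    rw [h] at h4
    push_cast at h4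
    exact pow_eq_zero_iff (n := 2) two_ne_zero |>.mp (by linear_combination h4)
  have hF : FieldOk F b2C := ⟨fun k hk => by
      simp [b2C] at hk
      obtain ⟨g, hg⟩ := IsCyclic.exists_generator (α := Fˣ)
      refine ⟨g, fun hgk => ?_⟩
      have h3 := orderOf_dvd_of_pow_eq_one hgk
      rw [orderOf_eq_card_of_forall_mem_zpowers hg, Nat.card_units, Nat.card_eq_fintype_card, h] at h3
      rcases hk with rfl | rfl <;> omega,
    fun k hk => by simp [b2C] at hk; simp [hk], fun h => by simp [b2C] at h⟩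
  refine eq_one_of_mem_derived Data.B2.valid Data.B2.chkComm b2_chkU hF c ?_ he h1
  intro r s hr hs hrp hsp hsum x y t u hx hy
  have hneg : s ≠ Data.B2.tbl.neg r := by unfold Tbl.neg Tbl.n at *; omega
  have hn : Data.B2.tbl.n = 8 := rfl
  have hh : Data.B2.tbl.half = 4 := rfl
  have hp := allLt_iff.mp (allLt_iff.mp b2_chkPos r (hn ▸ hr)) s (hn ▸ hs)
  rw [Nat.ble_eq_true_of_le (hh ▸ hrp), Nat.ble_eq_true_of_le (hh ▸ hsp), hsum] at hp
  simp only [Option.isNone_none, Bool.and_self, Bool.not_true, Bool.false_or, Bool.or_eq_true,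
    Bool.and_eq_true, Nat.beq_eq] at hp
  rcases hp with ⟨rfl, rfl | rfl⟩ | hp
  · exact b2_commute_short h2 hF c (a := 6) (b := 3) (q := 7) (by norm_num) (by norm_num)
      (by norm_num) (by norm_num) (by decide) (by decide) (by decide +kernel) (K := 2)
      (by decide +kernel) rfl (by decide) (by decide) (by decide +kernel) (by decide +kernel)
      (by decide +kernel) (by decide +kernel) (by decide +kernel) hx hy
  · exact b2_commute_short h2 hF c (a := 5) (b := 4) (q := 7) (by norm_num) (by norm_num)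
      (by norm_num) (by norm_num) (by decide) (by decide) (by decide +kernel) (K := -2)
      (by decide +kernel) rfl (by decide) (by decide) (by decide +kernel) (by decide +kernel)
      (by decide +kernel) (by decide +kernel) (by decide +kernel) hx hy
  · exact commute_of_plain Data.B2.valid Data.B2.chkComm hF c hr hs hsum hneg hp hx hy

end B2

end CfsgLib.KGroups.SteinbergSmall
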