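import Cfsg.Agent.Lib.KnownA.SteinbergTorusLift
import Cfsg.Agent.Lib.Chevalley.PosProduct
import Cfsg.Agent.Lib.Schur.Bound

set_option autoImplicit false

/-!
Small fields: a section over the positive unipotent subgroup in a central extension, given only that lifts
of commuting positive root elements commute.
-/

namespace CfsgLib.KGroups.SteinbergSmall

open CfsgLib.Chevalley CfsgLib.Chevalley.Tbl CfsgLib.KnownA.SteinbergUniv
open scoped commutatorElement

/-- A torus element moves every root; for a sum of positive roots one fixes the smaller and moves the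
larger. -/
def chkURow (T : Tbl) (C : TorusCert) (r : ℕ) : Bool :=
  chkMove1 T C r && (!(Nat.ble T.half r) ||
    allLt (fun s => (T.sum? r s).isNone || !(Nat.blt r s) || chkKill T C r s) T.n)

/-- The certificate. -/
def chkU (T : Tbl) (C : TorusCert) : Bool := allLt (chkURow T C) T.n

universe u v

variable {T : Tbl} {F : Type u} [Field F] {E : Type v} [Group E]

/-- Lifts of commuting positive root elements commute. -/
def CommPos (c : Cov T F E) : Prop :=
  ∀ r s : ℕ, r < T.n → s < T.n → T.half ≤ r → T.half ≤ s → T.sum? r s = none →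
    ∀ (x y : E) (t u : F), c.π x = T.xU F r t → c.π y = T.xU F s u → Commute x y

variable {C : TorusCert} (hT : T.Valid) (hC : T.chkComm = true) (hS : chkU T C = true)
  (hF : FieldOk F C) (c : Cov T F E) (hcm : CommPos c)

include hT hC hS hF hcm

/-! ### The lifts -/

omit hC hcm in
theorem exists_move (r : ℕ) : ∃ χ : ℕ → Fˣ, r < T.n →
    T.IsChar χ ∧ T.dU χ ∈ T.datum.diagonalSubgroup F ∧ χ r ≠ 1 := by
  by_cases hr : r < T.n
  · have h := allLt_iff.mp hS r hr
    simp only [chkURow, chkMove1, Bool.and_eq_true, List.any_eq_true, List.mem_range] at h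
    obtain ⟨⟨v, hv, hk⟩, -⟩ := h
    obtain ⟨cc, hcc⟩ := exists_char_ne_one hT hF hk
    exact ⟨T.hCh v cc, fun _ => ⟨isChar_hCh hT v cc,
      by rw [diagonalSubgroup_eq hT]; exact Subgroup.subset_closure ⟨v, hv, cc, rfl⟩, hcc⟩⟩
  · exact ⟨1, fun h => absurd h hr⟩


/-- The chosen character moving `r`. -/
noncomputable def mvChar (r : ℕ) : ℕ → Fˣ := (exists_move hT hS hF r).choose

omit hC hcm in
theorem mvChar_spec {r : ℕ} (hr : r < T.n) :
    T.IsChar (mvChar hT hS hF r) ∧ T.dU (mvChar hT hS hF r) ∈ T.datum.diagonalSubgroup F ∧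
      ((mvChar hT hS hF r r : F) - 1) ≠ 0 := by
  obtain ⟨h1, h2, h3⟩ := (exists_move hT hS hF r).choose_spec hr
  exact ⟨h1, h2, sub_ne_zero.mpr fun h => h3 (Units.ext h)⟩

/-- The chosen lift. -/
noncomputable def yt (r : ℕ) (t : F) : E :=
  ⁅lg hT c (T.dU (mvChar hT hS hF r)), lg hT c (T.xU F r (t * ((mvChar hT hS hF r r : F) - 1)⁻¹))⁆

omit hC hcm in
theorem img_yt {r : ℕ} (hr : r < T.n) (t : F) : c.π (yt hT hS hF c r t) = T.xU F r t := by
  obtain ⟨h1, h2, h3⟩ := mvChar_spec hT hS hF hr
  rw [yt, map_commutatorElement, img_lg hT c (diag_le_group hT h2), img_lg hT c (xU_mem_group hT hr _),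
    dU_commutator_xU hT h1 hr]
  congr 1
  rw [mul_comm t, mul_inv_cancel_left₀ h3]

theorem yt_add {r : ℕ} (hr : r < T.n) (hp : T.half ≤ r) (t u : F) :
    yt hT hS hF c r t * yt hT hS hF c r u = yt hT hS hF c r (t + u) := by
  unfold yt
  set d := lg hT c (T.dU (mvChar hT hS hF r))
  set k := ((mvChar hT hS hF r r : F) - 1)⁻¹
  have hl := fun a : F => img_lg hT c (xU_mem_group (F := F) hT hr a)
  have hy : c.π ⁅d, lg hT c (T.xU F r (u * k))⁆ = T.xU F r u := img_yt hT hS hF c hr u
  have hyc := hcm r r hr hr hp hp (sum?_self hT hr) _ _ _ _ (hl (t * k)) hy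
  rw [commutator_congr c.ker_le (x := d) (x' := d) (y := lg hT c (T.xU F r ((t + u) * k)))
    (y' := lg hT c (T.xU F r (t * k)) * lg hT c (T.xU F r (u * k))) rfl
    (by rw [map_mul, hl, hl, hl, xU_add hT hr, add_mul]), commutator_mul_right hyc]

theorem yt_zero {r : ℕ} (hr : r < T.n) (hp : T.half ≤ r) : yt hT hS hF c r 0 = 1 := by
  have h := yt_add hT hC hS hF c hcm hr hp (0 : F) 0
  rw [add_zero] at h
  exact mul_eq_left.mp h

theorem yt_inv {r : ℕ} (hr : r < T.n) (hp : T.half ≤ r) (t : F) :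
    (yt hT hS hF c r t)⁻¹ = yt hT hS hF c r (-t) :=
  inv_eq_of_mul_eq_one_right (by rw [yt_add hT hC hS hF c hcm hr hp, add_neg_cancel, yt_zero hT hC hS hF c hcm hr hp])

omit hC hcm in
theorem yt_conj_torus {d : E} {χ : ℕ → Fˣ} (hχ : T.IsChar χ) (hd : c.π d = T.dU χ) {r : ℕ}
    (hr : r < T.n) (t : F) :
    d * yt hT hS hF c r t * d⁻¹ = yt hT hS hF c r ((χ r : F) * t) := by
  obtain ⟨h1, h2, -⟩ := mvChar_spec hT hS hF hr
  refine conj_commutator_eq c.ker_le ?_ ?_
  · rw [hd, img_lg hT c (diag_le_group hT h2), (dU_comm χ (mvChar hT hS hF r)).eq,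
      mul_inv_cancel_right]
  · rw [hd, img_lg hT c (xU_mem_group hT hr _), img_lg hT c (xU_mem_group hT hr _),
      dU_conj_X hT hχ hr, mul_inv_cancel_right, mul_assoc]



/-! ### Positive roots -/

/-- The subgroup generated by the chosen lifts of the roots from `k` on. -/
def yFrom (k : ℕ) : Subgroup E :=
  Subgroup.closure {e | ∃ j < T.n, k ≤ j ∧ ∃ t, e = yt hT hS hF c j t}

omit hC hcm in
theorem yt_mem_yFrom {j k : ℕ} (hj : j < T.n) (hk : k ≤ j) (t : F) :
    yt hT hS hF c j t ∈ yFrom hT hS hF c k :=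
  Subgroup.subset_closure ⟨j, hj, hk, t, rfl⟩

omit hC hcm in
theorem map_yFrom (k : ℕ) :
    (yFrom hT hS hF c k).map c.π = T.rootGen F (fun s => k ≤ s) := by
  rw [yFrom, rootGen, MonoidHom.map_closure]
  refine congrArg _ (Set.ext fun g => ⟨?_, ?_⟩)
  · rintro ⟨_, ⟨j, hj, hk, t, rfl⟩, rfl⟩
    exact ⟨j, hj, hk, t, img_yt hT hS hF c hj t⟩
  · rintro ⟨j, hj, hk, t, rfl⟩
    exact ⟨_, ⟨j, hj, hk, t, rfl⟩, img_yt hT hS hF c hj t⟩

/-- The lifted subgroup meets the kernel trivially. -/
def Inj (k : ℕ) : Prop := ∀ e ∈ yFrom hT hS hF c k, c.π e = 1 → e = 1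

omit hC hcm in
theorem Inj.eq {k : ℕ} (h : Inj hT hS hF c k) {e e' : E} (he : e ∈ yFrom hT hS hF c k)
    (he' : e' ∈ yFrom hT hS hF c k) (hi : c.π e = c.π e') : e = e' :=
  mul_inv_eq_one.mp (h _ (mul_mem he (inv_mem he')) (by rw [map_mul, map_inv, hi, mul_inv_cancel]))

/-- A lifted positive root subgroup normalises the lifts of the later roots. -/
theorem conj_mem_yFrom {k : ℕ} (hk : T.half ≤ k) (hkn : k < T.n)
    (hI : Inj hT hS hF c (k + 1)) (t : F) {e : E} (he : e ∈ yFrom hT hS hF c (k + 1)) :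
    yt hT hS hF c k t * e * (yt hT hS hF c k t)⁻¹ ∈ yFrom hT hS hF c (k + 1) := by
  set g := yt hT hS hF c k t with hg
  induction he using Subgroup.closure_induction with
  | one => simp
  | mul a b _ _ ha hb => simpa [mul_assoc] using mul_mem ha hb
  | inv a _ ha => simpa [mul_assoc] using inv_mem ha
  | mem x hx =>
    obtain ⟨s, hs, hks, u, rfl⟩ := hx
    have hneg : s ≠ T.neg k := by unfold neg n at *; omega
    by_cases hnone : T.sum? k s = none
    · have hc := hcm k s hkn hs hk (by omega) hnone _ _ _ _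
        (img_yt hT hS hF c hkn t) (img_yt hT hS hF c hs u)
      rw [hg, hc.eq, mul_inv_cancel_right]
      exact yt_mem_yFrom hT hS hF c hs hks u
    have hp := (Bool.and_eq_true _ _).mp (allLt_iff.mp hS k hkn : chkURow T C k = true)
    have hp2 : allLt (fun s => (T.sum? k s).isNone || !(Nat.blt k s) || chkKill T C k s) T.n = true := by
      have h := hp.2
      rwa [Nat.ble_eq_true_of_le hk, Bool.not_true, Bool.false_or] at h
    have hp3 := allLt_iff.mp hp2 s hs
    have hkill : chkKill T C k s = true := by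
      rw [show Nat.blt k s = true from Nat.ble_eq_true_of_le hks] at hp3
      simpa [hnone] using hp3
    simp only [chkKill, List.any_eq_true, List.mem_range, Bool.and_eq_true, decide_eq_true_eq] at hkill
    obtain ⟨v, hv, hzero, hkk⟩ := hkill
    obtain ⟨cc, hcc⟩ := exists_char_ne_one hT hF hkk
    have hχ := isChar_hCh (F := F) hT v cc
    have hk1 : T.hCh v cc k = 1 := by show cc ^ T.pair v k = 1; rw [hzero, zpow_zero]
    set b : F := ((T.hCh v cc s : Fˣ) : F) with hb
    have hb1 : b - 1 ≠ 0 := sub_ne_zero.mpr fun h => hcc (Units.ext h)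
    obtain ⟨d, hd⟩ := c.le_range (diag_le_group hT (show T.dU (T.hCh v cc) ∈ T.datum.diagonalSubgroup F by
      rw [diagonalSubgroup_eq hT]; exact Subgroup.subset_closure ⟨v, hv, cc, rfl⟩))
    have hdg : d * g * d⁻¹ = g := by
      rw [hg, yt_conj_torus hT hS hF c hχ hd hkn, hk1, Units.val_one, one_mul]
    have hex : ∀ a : F, ∃ w ∈ yFrom hT hS hF c (k + 1),
        c.π w = c.π (g * yt hT hS hF c s a * g⁻¹) := by
      intro a
      have hn := Subgroup.mem_normalizer_iff.mp
        (xU_mem_normalizer_ge (F := F) hT hC hkn hk (show T.half ≤ k + 1 by omega) t)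
        (T.xU F s a)
      have := hn.mp (xU_mem_rootGen (P := fun j => k + 1 ≤ j) hs hks a)
      rw [← map_yFrom hT hS hF c] at this
      obtain ⟨w, hw, hwi⟩ := this
      refine ⟨w, hw, ?_⟩
      rw [hwi, map_mul, map_mul, map_inv, hg, img_yt hT hS hF c hkn, img_yt hT hS hF c hs]
    choose W hW hWi using hex
    set f : F → E := fun a => g * yt hT hS hF c s a * g⁻¹ * (W a)⁻¹ with hf
    have hfz : ∀ a, c.π (f a) = 1 := fun a => by
      simp only [hf, map_mul, map_inv, hWi, mul_inv_cancel]
    have hfeq : ∀ a, g * yt hT hS hF c s a * g⁻¹ = f a * W a := fun a => by simp [hf]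
    have hWadd : ∀ a a', W (a + a') = W a * W a' := fun a a' =>
      Inj.eq hT hS hF c hI (hW _) (mul_mem (hW _) (hW _)) (by
        rw [map_mul, hWi, hWi, hWi, ← map_mul, ← yt_add hT hC hS hF c hcm hs (show T.half ≤ s by omega)]
        simp [mul_assoc])
    have hfadd : ∀ a a', f (a + a') = f a * f a' := fun a a' => by
      have e1 : g * yt hT hS hF c s (a + a') * g⁻¹ = (f a * W a) * (f a' * W a') := by
        rw [← hfeq, ← hfeq, ← yt_add hT hC hS hF c hcm hs (show T.half ≤ s by omega)]; simp [mul_assoc]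
      rw [hfeq, hWadd, mul_assoc (f a) (W a), ← mul_assoc (W a) (f a'),
        ker_comm c.ker_le (hfz a') (W a), ← mul_assoc, ← mul_assoc, ← mul_assoc] at e1
      exact mul_right_cancel (mul_right_cancel e1)
    have hdW : ∀ a, d * W a * d⁻¹ = W (b * a) := fun a => by
      refine Inj.eq hT hS hF c hI ?_ (hW _) ?_
      · have hmem := hW a
        generalize W a = w at hmem ⊢
        induction hmem using Subgroup.closure_induction with
        | mem x hx =>
          obtain ⟨j, hj, hkj, t', rfl⟩ := hx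
          rw [yt_conj_torus hT hS hF c hχ hd hj]
          exact yt_mem_yFrom hT hS hF c hj hkj _
        | one => simp
        | mul x y _ _ hx hy => simpa [mul_assoc] using mul_mem hx hy
        | inv x _ hx => simpa [mul_assoc] using inv_mem hx
      · rw [map_mul, map_mul, hWi, hWi, ← map_mul, ← map_mul]
        rw [← yt_conj_torus hT hS hF c hχ hd hs a]
        conv_rhs => rw [← hdg]
        congr 1; group
    have hfb : ∀ a, f (b * a) = f a := fun a => by
      have e1 : d * f a * d⁻¹ = f (b * a) := by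
        calc d * f a * d⁻¹ = (d * g * d⁻¹) * (d * yt hT hS hF c s a * d⁻¹) * (d * g * d⁻¹)⁻¹ *
              (d * W a * d⁻¹)⁻¹ := by simp only [hf]; group
          _ = f (b * a) := by rw [hdg, hdW, yt_conj_torus hT hS hF c hχ hd hs]
      rw [← e1, ker_comm c.ker_le (hfz a), mul_inv_cancel_right]
    have hfu : f u = 1 := by
      have h := hfadd ((b - 1) * (u / (b - 1))) (u / (b - 1))
      rw [show (b - 1) * (u / (b - 1)) + u / (b - 1) = b * (u / (b - 1)) by ring, hfb,
        right_eq_mul, show (b - 1) * (u / (b - 1)) = u by field_simp] at h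
      exact h
    rw [hfeq, hfu, one_mul]
    exact hW u

theorem inj_yFrom : ∀ m k, k + m = T.n → T.half ≤ k → Inj hT hS hF c k := by
  intro m
  induction m with
  | zero =>
    intro k hk _ e he _
    have : yFrom hT hS hF c k = ⊥ := by
      rw [yFrom, Subgroup.closure_eq_bot_iff]
      rintro _ ⟨j, hj, hkj, -⟩
      omega
    rw [this] at he
    exact Subgroup.mem_bot.mp he
  | succ m ih =>
    intro k hk hhalf
    have hkn : k < T.n := by omega
    have hI := ih (k + 1) (by omega) (by omega)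
    let S : Subgroup E :=
      { carrier := {e | ∃ t, ∃ w ∈ yFrom hT hS hF c (k + 1), e = yt hT hS hF c k t * w}
        one_mem' := ⟨0, 1, one_mem _, by rw [yt_zero hT hC hS hF c hcm hkn hhalf, mul_one]⟩
        mul_mem' := by
          rintro _ _ ⟨t, w, hw, rfl⟩ ⟨t', w', hw', rfl⟩
          have h := conj_mem_yFrom hT hC hS hF c hcm hhalf hkn hI (-t') hw
          rw [← yt_inv hT hC hS hF c hcm hkn hhalf t', inv_inv] at h
          refine ⟨t + t', _, mul_mem h hw', ?_⟩
          rw [← yt_add hT hC hS hF c hcm hkn hhalf]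
          group
        inv_mem' := by
          rintro _ ⟨t, w, hw, rfl⟩
          refine ⟨-t, _, conj_mem_yFrom hT hC hS hF c hcm hhalf hkn hI t (inv_mem hw), ?_⟩
          rw [← yt_inv hT hC hS hF c hcm hkn hhalf t]
          group }
    have hle : yFrom hT hS hF c k ≤ S := by
      rw [yFrom, Subgroup.closure_le]
      rintro _ ⟨j, hj, hkj, t, rfl⟩
      rcases Nat.eq_or_lt_of_le hkj with rfl | hlt
      · exact ⟨t, 1, one_mem _, (mul_one _).symm⟩
      · exact ⟨0, _, yt_mem_yFrom hT hS hF c hj hlt t, by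
          rw [yt_zero hT hC hS hF c hcm hkn hhalf, one_mul]⟩
    intro e he hπ
    obtain ⟨t, w, hw, rfl⟩ := hle he
    rw [map_mul, img_yt hT hS hF c hkn] at hπ
    have hwmem : c.π w ∈ T.rootGen F (fun s => k + 1 ≤ s) :=
      (map_yFrom hT hS hF c (k + 1)).le ⟨w, hw, rfl⟩
    obtain ⟨rfl, hw1⟩ := xU_mul_inj hT hC hhalf hkn (t := t) (t' := 0) hwmem (one_mem _)
      (by rw [hπ, xU_zero hT hkn, one_mul])
    rw [yt_zero hT hC hS hF c hcm hkn hhalf, one_mul]
    exact hI w hw hw1

/-- The positive unipotent subgroup splits, so its preimage has derived subgroup meeting the kernel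
trivially. -/
theorem eq_one_of_mem_derived {e : E}
    (he : e ∈ ⁅(T.rootGen F (fun s => T.half ≤ s)).comap c.π,
      (T.rootGen F (fun s => T.half ≤ s)).comap c.π⁆) (h1 : c.π e = 1) : e = 1 := by
  refine inj_yFrom hT hC hS hF c hcm T.half T.half (by show T.half + T.half = 2 * T.half; omega)
    le_rfl e ?_ h1
  refine Subgroup.commutator_le.mpr (fun a ha b hb => ?_) he
  rw [Subgroup.mem_comap, ← map_yFrom hT hS hF c] at ha hb
  obtain ⟨y, hy, hya⟩ := ha
  obtain ⟨y', hy', hyb⟩ := hb
  rw [commutator_congr c.ker_le hya.symm hyb.symm]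
  exact Subgroup.commutator_le_self _ (Subgroup.commutator_mem_commutator hy hy')

omit hT hC hS hF hcm in
/-- In a perfect group the kernel has exponent dividing the index of a subgroup whose preimage has
derived subgroup meeting it trivially. -/
theorem ker_pow_relIndex (hperf : commutator E = ⊤) (U : Subgroup (GL T.I F))
    (hfin : U.relIndex c.π.range ≠ 0)
    (hU : ∀ e ∈ ⁅U.comap c.π, U.comap c.π⁆, c.π e = 1 → e = 1) (z : E) (hz : c.π z = 1) :
    z ^ U.relIndex c.π.range = 1 := by
  have hi : (U.comap c.π).index = U.relIndex c.π.range := Subgroup.index_comap U c.π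
  have : (U.comap c.π).FiniteIndex := ⟨by rw [hi]; exact hfin⟩
  have h := CfsgLib.Schur.Bound.pow_index_mem_commutator (U.comap c.π) (c.ker_le hz)
    (hperf ▸ Subgroup.mem_top z)
  rw [Subgroup.map_subtype_commutator] at h
  rw [← hi]
  exact hU _ h (by rw [map_pow, hz, one_pow])

end CfsgLib.KGroups.SteinbergSmall
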