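import Cfsg.Agent.Lib.KGroups.SteinbergSmallB2
import Cfsg.Agent.Lib.KnownA.SteinbergProjective
import Cfsg.Agent.Lib.KnownA.SteinbergCert.R3
import Cfsg.Agent.Lib.Chevalley.Orders
import Cfsg.Agent.Lib.Chevalley.Data.SmithCerts
import Cfsg.Agent.Lib.Chevalley.Data.Steps
import Cfsg.Agent.Lib.Schur.Basic
import Cfsg.Agent.Lib.KnownA.SteinbergMultiplier

set_option autoImplicit false
set_option maxRecDepth 20000

/-!
Every finite stem extension of the presented group is trivial, given lifts in it.
-/

namespace CfsgLib.KGroups.SteinbergStemTrivial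

open CfsgLib.Chevalley CfsgLib.Chevalley.Tbl CfsgLib.KnownA.SteinbergUniv CfsgLib.KGroups.SteinbergSmall
open scoped commutatorElement

universe u

variable {T : Tbl} {F : Type u} [Field F] [Finite F]

/-- If the central extension coming from a stem extension has lifts, the stem extension is trivial. -/
theorem hasCyclicSchurMultiplier_one_of_lifts (hO : T.StOk) (hR : chkR3 T = true)
    (hperf : commutator (T.datum.SteinbergCover F) = ⊤)
    (hlift : ∀ (E : Type u) [Group E] [Finite E], commutator E = ⊤ →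
      ∀ c : Cov T F E, c.π.range = T.datum.group F → Nonempty (YLift c)) :
    Cfsg.HasCyclicSchurMultiplier (T.datum.SteinbergGroup F) 1 := by
  obtain ⟨e, -⟩ := cover_equiv (F := F) hO hR
  have := CfsgLib.KnownA.SteinbergUniv.finite_steinbergGroup (F := F) hO
  refine CfsgLib.Schur.Basic.hasCyclicSchurMultiplier_one_of fun Γ _ _ σ hσ => ?_
  let pr : Γ →* T.datum.SteinbergCover F := e.symm.toMonoidHom.comp σ
  have hpr : Function.Surjective pr := e.symm.surjective.comp hσ.1
  have hprker : pr.ker = σ.ker := by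
    ext x
    simp [pr, MonoidHom.mem_ker]
  have hc : pr.ker ≤ Subgroup.center Γ := hprker ▸ hσ.2.1
  have hQ : commutator Γ = ⊤ := by
    rw [eq_top_iff]
    intro x _
    have hmap : (commutator Γ).map pr = ⊤ := by
      rw [_root_.commutator_def, Subgroup.map_commutator, Subgroup.map_top_of_surjective pr hpr,
        ← _root_.commutator_def, hperf]
    obtain ⟨q, hq, hqx⟩ := hmap.ge (Subgroup.mem_top (pr x))
    have hk : q⁻¹ * x ∈ σ.ker := hprker ▸ (by
      rw [MonoidHom.mem_ker, map_mul, map_inv, hqx, inv_mul_cancel] : q⁻¹ * x ∈ pr.ker)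
    simpa using mul_mem hq (hσ.2.2 hk)
  have hk : ((hO.chom F).comp pr).ker ≤ Subgroup.center Γ := by
    intro z hz
    have hz' : pr z ∈ Subgroup.center (T.datum.SteinbergCover F) :=
      (coverCov hO F).ker_le (MonoidHom.mem_ker.mpr (MonoidHom.mem_ker.mp hz))
    have hcen : ∀ q : Γ, (MonoidHom.id Γ q)⁻¹ * (MulAut.conj z).toMonoidHom q ∈ Subgroup.center Γ := by
      intro q
      refine hc (MonoidHom.mem_ker.mpr ?_)
      simp only [MonoidHom.id_apply, MulEquiv.coe_toMonoidHom, MulAut.conj_apply, map_mul, map_inv]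
      rw [← Subgroup.mem_center_iff.mp hz' (pr q)]
      group
    rw [Subgroup.mem_center_iff]
    intro q
    have := DFunLike.congr_fun (hom_eq_of_central hQ (MulAut.conj z).toMonoidHom (MonoidHom.id Γ) hcen) q
    simp only [MonoidHom.id_apply, MulEquiv.coe_toMonoidHom, MulAut.conj_apply] at this
    exact (mul_inv_eq_iff_eq_mul.mp this).symm
  have hrange : ((hO.chom F).comp pr).range = T.datum.group F := by
    refine le_antisymm ?_ fun g hg => ?_
    · rintro _ ⟨x, rfl⟩
      exact chom_mem_group hO _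
    · obtain ⟨x, hx⟩ := (coverCov hO F).le_range hg
      obtain ⟨q, rfl⟩ := hpr x
      exact ⟨q, hx⟩
  let c : Cov T F Γ := { π := (hO.chom F).comp pr, ker_le := hk, le_range := hrange.ge }
  obtain ⟨L⟩ := hlift Γ hQ c hrange
  obtain ⟨φ, hφ⟩ := exists_coverHom hO L
  have hid : pr.comp φ = MonoidHom.id _ := hom_eq_of_central hperf _ _ fun x => by
    refine (coverCov hO F).ker_le (MonoidHom.mem_ker.mpr ?_)
    show hO.chom F (x⁻¹ * pr (φ x)) = 1
    rw [map_mul, map_inv, ← show hO.chom F (pr (φ x)) = hO.chom F x from DFunLike.congr_fun hφ x,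
      inv_mul_cancel]
  -- the section is onto, hence `pr` is injective
  have hcom : commutator Γ ≤ φ.range := by
    rw [_root_.commutator_def, Subgroup.commutator_le]
    intro x _ y _
    have key : ∀ w : Γ, pr (φ (pr w)) = pr w := fun w => DFunLike.congr_fun hid (pr w)
    rw [CfsgLib.KnownA.SteinbergUniv.commutator_congr (π := pr) hc (key x).symm (key y).symm,
      ← map_commutatorElement]
    exact ⟨_, rfl⟩
  rw [eq_bot_iff]
  intro z hz
  obtain ⟨x, rfl⟩ := hcom (hσ.2.2 hz)
  have hx : pr (φ x) = x := DFunLike.congr_fun hid x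
  have hz' : φ x ∈ pr.ker := hprker ▸ hz
  rw [MonoidHom.mem_ker, hx] at hz'
  rw [hz', map_one]
  exact one_mem _

/-- Lifts from a bound on the kernel by a split preimage of the positive unipotent subgroup. -/
theorem yLift_of_derived (hO : T.StOk) {W : List (List ℕ)} (hW : chkWords T W = true)
    {p : ℕ} [Fact p.Prime] [CharP F p] {m q : ℕ} (hq : Nat.card F = q)
    (horder : m * Nat.card ↥(T.datum.group F) % q ^ T.half = 0)
    (hpm : Nat.Coprime p (m * Nat.card ↥(T.datum.group F) / q ^ T.half))
    {E : Type u} [Group E] [Finite E] (hE : commutator E = ⊤) (c : Cov T F E)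
    (hrange : c.π.range = T.datum.group F)
    (hder : ∀ e ∈ ⁅(T.rootGen F (fun s => T.half ≤ s)).comap c.π,
      (T.rootGen F (fun s => T.half ≤ s)).comap c.π⁆, c.π e = 1 → e = 1) :
    Nonempty (YLift c) := by
  classical
  have := Fintype.ofFinite F
  set U := T.rootGen F (fun s => T.half ≤ s) with hU
  set i := U.relIndex c.π.range with hi
  have hfinG : Finite ↥(T.datum.group F) := by
    rw [← hrange]
    exact Finite.of_surjective _ c.π.rangeRestrict_surjective
  have hUle : U ≤ T.datum.group F := by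
    rw [hU]; exact rootGen_le fun r hr _ t => xU_mem_group hO.valid hr t
  have hcardU : Nat.card U = q ^ T.half := by
    rw [hU, ← hq, Nat.card_eq_fintype_card (α := F)]
    exact card_ge hO.valid hO.comm T.half T.half (Nat.two_mul _).symm le_rfl
  have hmul : Nat.card U * i = Nat.card ↥(T.datum.group F) := by
    rw [hi, hrange, Subgroup.relIndex,
      ← Nat.card_congr (Subgroup.subgroupOfEquivOfLe hUle).toEquiv, Subgroup.card_mul_index]
  have hi0 : i ≠ 0 := by
    intro h0
    rw [h0, mul_zero] at hmul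
    exact Nat.card_pos.ne' hmul.symm
  have hq0 : 0 < q ^ T.half := hcardU ▸ Nat.card_pos
  have hdiv : i ∣ m * Nat.card ↥(T.datum.group F) / q ^ T.half := by
    rw [← hmul, hcardU, ← mul_assoc, mul_comm m, mul_assoc, Nat.mul_div_cancel_left _ hq0]
    exact dvd_mul_left i m
  exact ⟨yLiftP c hO.valid (Nat.Coprime.coprime_dvd_right hdiv hpm)
    (fun z hz => ker_pow_relIndex c hE U hi0 hder z hz) hO.comm hW⟩

theorem b2_hlift [Fintype F] (h : Fintype.card F = 3 ∨ Fintype.card F = 4) (E : Type u) [Group E]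
    [Finite E] (hE : commutator E = ⊤) (c : Cov Data.B2.tbl F E)
    (hrange : c.π.range = Data.B2.tbl.datum.group F) : Nonempty (YLift c) := by
  have hO : Data.B2.tbl.StOk :=
    ⟨Data.B2.valid, Data.B2.chkComm, Data.B2.chkSorted, Data.B2.chkSplit⟩
  have hord := Tbl.group_order (F := F) Data.B2.valid Data.B2.chkComm rfl
    Data.B2.chkSmith Data.B2.steps_length Data.B2.chkSteps Data.B2.Reps.chkPoly_reps
  rcases h with h | h
  · have : CharP F 3 := charP_of_card_eq_prime (by exact_mod_cast h)
    refine yLift_of_derived hO b2_chkWords (p := 3) (q := 3)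
      (m := ∏ i : Fin Data.B2.tbl.rank, Nat.gcd (Fintype.card F - 1) (([1, 2] : List ℕ).getD i.val 0))
      (by rw [Nat.card_eq_fintype_card, h]) ?_ ?_ hE c hrange
      (fun e he h1 => b2_derived_three h c he h1)
    · rw [hord, h]; exact Nat.mul_mod_right _ _
    · rw [hord, h, Nat.mul_div_cancel_left _ (pow_pos (by norm_num) _)]
      decide +kernel
  · have : Fact (Nat.Prime 2) := ⟨Nat.prime_two⟩
    have : CharP F 2 := by
      obtain ⟨p, hp⟩ := CharP.exists F
      obtain ⟨n, hpp, hn⟩ := FiniteField.card F p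
      rw [h] at hn
      have : p ∣ 2 ^ 2 := by norm_num; rw [hn]; exact dvd_pow_self p n.ne_zero
      have := (Nat.prime_dvd_prime_iff_eq hpp Nat.prime_two).mp (hpp.dvd_of_dvd_pow this)
      exact this ▸ hp
    refine yLift_of_derived hO b2_chkWords (p := 2) (q := 4)
      (m := ∏ i : Fin Data.B2.tbl.rank, Nat.gcd (Fintype.card F - 1) (([1, 2] : List ℕ).getD i.val 0))
      (by rw [Nat.card_eq_fintype_card, h]) ?_ ?_ hE c hrange
      (fun e he h1 => b2_derived_four h c he h1)
    · rw [hord, h]; exact Nat.mul_mod_right _ _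
    · rw [hord, h, Nat.mul_div_cancel_left _ (pow_pos (by norm_num) _)]
      decide +kernel

theorem d4_hlift [Fintype F] (h : Fintype.card F = 3) (E : Type u) [Group E]
    [Finite E] (hE : commutator E = ⊤) (c : Cov Data.D4.tbl F E)
    (hrange : c.π.range = Data.D4.tbl.datum.group F) : Nonempty (YLift c) := by
  have hO : Data.D4.tbl.StOk :=
    ⟨Data.D4.valid, Data.D4.chkComm, Data.D4.chkSorted, Data.D4.chkSplit⟩
  have hord := Tbl.group_order (F := F) Data.D4.valid Data.D4.chkComm rfl
    Data.D4.chkSmith Data.D4.steps_length Data.D4.chkSteps Data.D4.Reps.chkPoly_reps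
  have : CharP F 3 := charP_of_card_eq_prime (by exact_mod_cast h)
  refine yLift_of_derived hO d4_chkWords (p := 3) (q := 3)
    (m := ∏ i : Fin Data.D4.tbl.rank, Nat.gcd (Fintype.card F - 1) (([1, 1, 2, 2] : List ℕ).getD i.val 0))
    (by rw [Nat.card_eq_fintype_card, h]) ?_ ?_ hE c hrange
    (fun e he h1 => d4_derived h c he h1)
  · rw [hord, h]; exact Nat.mul_mod_right _ _
  · rw [hord, h, Nat.mul_div_cancel_left _ (pow_pos (by norm_num) _)]
    decide +kernel

end CfsgLib.KGroups.SteinbergStemTrivial
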