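import Mathlib
import Cfsg.Agent.Lib.Solvable.FrattiniFitting

/-!
A 2-group of symplectic type of exponent at most 4 has squares and commutators in a central subgroup
of order at most two.
-/

set_option autoImplicit false
set_option linter.style.haveILetI false

namespace CfsgLib.KGroups.SymplecticExpFour

open scoped commutatorElement

universe u

theorem characteristic_map_subtype {T : Type*} [Group T] (C : Subgroup T) [C.Characteristic] (A : Subgroup C)
    [A.Characteristic] : (A.map C.subtype).Characteristic := by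
  refine Subgroup.characteristic_iff_map_le.mpr fun φ => ?_
  rintro _ ⟨_, ⟨a, ha, rfl⟩, rfl⟩
  have hC : ∀ x ∈ C, φ x ∈ C := fun x hx =>
    (Subgroup.characteristic_iff_map_eq.mp inferInstance φ).le ⟨x, hx, rfl⟩
  have hC' : ∀ x ∈ C, φ.symm x ∈ C := fun x hx =>
    (Subgroup.characteristic_iff_map_eq.mp inferInstance φ.symm).le ⟨x, hx, rfl⟩
  let e : ↥C ≃* ↥C :=
    { toFun := fun x => ⟨φ x, hC x x.2⟩
      invFun := fun x => ⟨φ.symm x, hC' x x.2⟩
      left_inv := fun x => Subtype.ext (φ.symm_apply_apply x)
      right_inv := fun x => Subtype.ext (φ.apply_symm_apply x)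
      map_mul' := fun x y => Subtype.ext (map_mul φ (x : T) y) }
  exact ⟨e a, (Subgroup.characteristic_iff_map_eq.mp inferInstance e).le ⟨a, ha, rfl⟩, rfl⟩

/-- All commutators are central when an element of order four generates the derived group's second-centre part. -/
theorem squares : ∀ (n : ℕ) (T : Type u) [Group T] [Finite T], Nat.card T = n →
    IsPGroup 2 T → (∀ A : Subgroup T, A.Characteristic → IsMulCommutative A → IsCyclic A) →
    (∀ x : T, x ^ 4 = 1) →
    ∃ e : T, e * e = 1 ∧ (∀ x : T, x * e = e * x) ∧ (∀ x : T, x * x = 1 ∨ x * x = e) ∧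
      (∀ x y : T, ⁅x, y⁆ = 1 ∨ ⁅x, y⁆ = e) := by
  intro n
  induction n using Nat.strong_induction_on with
  | _ n ih =>
  intro T _ _ hn hT hsymp h4
  classical
  have p4 : ∀ t : T, t * t * (t * t) = 1 := fun t => by rw [← h4 t]; simp [pow_succ, mul_assoc]
  have hZcyc : IsCyclic (Subgroup.center T) := hsymp _ inferInstance inferInstance
  -- a cyclic central group of exponent four has one involution
  have hinv : ∀ u v : T, u ∈ Subgroup.center T → v ∈ Subgroup.center T → u * u = 1 → v * v = 1 →
      u ≠ 1 → v ≠ 1 → u = v := by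
    intro u v hu hv hu2 hv2 hu1 hv1
    obtain ⟨w, hw⟩ := hZcyc.exists_generator
    obtain ⟨i, hi⟩ := Subgroup.mem_zpowers_iff.mp (hw ⟨u, hu⟩)
    obtain ⟨j, hj⟩ := Subgroup.mem_zpowers_iff.mp (hw ⟨v, hv⟩)
    have hi' : (w : T) ^ i = u := congrArg Subtype.val hi
    have hj' : (w : T) ^ j = v := congrArg Subtype.val hj
    have key : ∀ (k : ℤ) (t : T), (w : T) ^ k = t → t * t = 1 → t ≠ 1 → t = (w : T) * w ∨ t = w ∧ (w : T) * w = 1 := by
      intro k t hk ht ht1
      have h4' : (w : T) ^ (4 : ℤ) = 1 := by exact_mod_cast h4 (w : T)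
      have hk4 : (w : T) ^ (k % 4) = t := by
        rw [← hk]
        conv_rhs => rw [← Int.mul_ediv_add_emod k 4, zpow_add, zpow_mul, h4', one_zpow, one_mul]
      have h0 := Int.emod_nonneg k (show (4 : ℤ) ≠ 0 by norm_num)
      have h1 := Int.emod_lt_of_pos k (show (0 : ℤ) < 4 by norm_num)
      have hw4 : (w : T) * w * ((w : T) * w) = 1 := p4 _
      interval_cases hh : k % 4
      · exact absurd (by simpa using hk4.symm) ht1
      · have e : (w : T) = t := by simpa using hk4
        exact Or.inr ⟨e.symm, e ▸ ht⟩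
      · exact Or.inl (by rw [← hk4, zpow_two])
      · have e : (w : T) * w * w = t := by
          rw [← hk4, show (3 : ℤ) = ((3 : ℕ) : ℤ) from rfl, zpow_natCast]; simp [pow_succ]
        have h6 : (w : T) * w = 1 := by
          rw [← e] at ht
          calc (w : T) * w = (w : T) * w * ((w : T) * w * ((w : T) * w)) := by rw [hw4, mul_one]
            _ = (w : T) * w * w * ((w : T) * w * w) := by group
            _ = 1 := ht
        exact Or.inr ⟨by rw [← e, h6, one_mul], h6⟩
    rcases key i u hi' hu2 hu1 with hu' | ⟨hu', hw2⟩ <;> rcases key j v hj' hv2 hv1 with hv' | ⟨hv', hw2'⟩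
    · rw [hu', hv']
    · exact absurd (hu'.trans hw2') hu1
    · exact absurd (hv'.trans hw2) hv1
    · rw [hu', hv']
  by_cases hcl : ∀ x y : T, ⁅x, y⁆ ∈ Subgroup.center T
  · -- class two
    have hcm : ∀ x y w : T, w * ⁅x, y⁆ = ⁅x, y⁆ * w := fun x y w => Subgroup.mem_center_iff.mp (hcl x y) w
    have hsq : ∀ x y : T, ⁅x, y⁆ * ⁅x, y⁆ = 1 := by
      intro x y
      set c := ⁅x, y⁆ with hc
      have hxy : x * y = c * (y * x) := by rw [hc, commutatorElement_def]; group
      have hcomm : ∀ w : T, Commute c w := fun w => (hcm x y w).symm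
      have hpow : ∀ m : ℕ, (y * x) * (y * x) = c * (y * y * (x * x)) ∧ x * x * (y * y) = c * c * (c * c) * (y * y * (x * x)) := by
        intro _
        constructor
        · calc y * x * (y * x) = y * (x * y) * x := by group
            _ = y * (c * (y * x)) * x := by rw [hxy]
            _ = (y * c) * y * x * x := by group
            _ = (c * y) * y * x * x := by rw [(hcomm y).eq]
            _ = _ := by group
        · have h1 : x * (y * y) = c * c * (y * y * x) := by
            calc x * (y * y) = (x * y) * y := by group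
              _ = c * (y * x) * y := by rw [hxy]
              _ = c * y * (x * y) := by group
              _ = c * y * (c * (y * x)) := by rw [hxy]
              _ = c * (y * c) * y * x := by group
              _ = c * (c * y) * y * x := by rw [(hcomm y).eq]
              _ = _ := by group
          calc x * x * (y * y) = x * (x * (y * y)) := by group
            _ = x * (c * c * (y * y * x)) := by rw [h1]
            _ = (x * (c * c)) * (y * y * x) := by group
            _ = (c * c * x) * (y * y * x) := by rw [(((hcomm x).mul_left (hcomm x))).eq]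
            _ = c * c * (x * (y * y)) * x := by group
            _ = c * c * (c * c * (y * y * x)) * x := by rw [h1]
            _ = c * c * (c * c) * (y * y * (x * x)) := by group
      obtain ⟨h1, h2⟩ := hpow 0
      rw [p4 c, one_mul] at h2
      have hC : Commute c (y * y * (x * x)) := hcomm _
      have h3 := p4 (y * x)
      rw [h1] at h3
      calc c * c = c * c * ((y * y) * ((x * x) * (y * y)) * (x * x)) := by
            rw [h2, show y * y * (y * y * (x * x)) * (x * x) = (y * y * (y * y)) * (x * x * (x * x)) by group, p4, p4, one_mul, mul_one]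
        _ = c * (c * (y * y * (x * x))) * (y * y * (x * x)) := by group
        _ = c * ((y * y * (x * x)) * c) * (y * y * (x * x)) := by rw [hC.eq]
        _ = (c * (y * y * (x * x))) * (c * (y * y * (x * x))) := by group
        _ = 1 := h3
    have hsqc : ∀ x : T, x * x ∈ Subgroup.center T := fun x => Subgroup.mem_center_iff.mpr fun y => by
      set c := ⁅y, x⁆ with hc
      have hyx : y * x = c * (x * y) := by rw [hc, commutatorElement_def]; group
      calc y * (x * x) = (y * x) * x := by group
        _ = c * (x * y) * x := by rw [hyx]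
        _ = c * x * (y * x) := by group
        _ = c * x * (c * (x * y)) := by rw [hyx]
        _ = c * (x * c) * (x * y) := by group
        _ = c * (c * x) * (x * y) := by rw [hcm y x x]
        _ = (c * c) * (x * x * y) := by group
        _ = x * x * y := by rw [hsq y x, one_mul]
    by_cases he : ∃ e : T, e ∈ Subgroup.center T ∧ e * e = 1 ∧ e ≠ 1
    · obtain ⟨e, heZ, he2, he1⟩ := he
      refine ⟨e, he2, fun x => Subgroup.mem_center_iff.mp heZ x, fun x => ?_, fun x y => ?_⟩
      · by_cases hx : x * x = 1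
        · exact Or.inl hx
        · exact Or.inr (hinv _ _ (hsqc x) heZ (p4 x) he2 hx he1)
      · by_cases hx : ⁅x, y⁆ = 1
        · exact Or.inl hx
        · exact Or.inr (hinv _ _ (hcl x y) heZ (hsq x y) he2 hx he1)
    · push Not at he
      exact ⟨1, one_mul _, fun x => by rw [mul_one, one_mul],
        fun x => Or.inl (he _ (hsqc x) (p4 x)), fun x y => Or.inl (he _ (hcl x y) (hsq x y))⟩
  · exfalso
    set Z2 := Subgroup.upperCentralSeries T 2 with hZ2
    haveI : Z2.Characteristic := inferInstanceAs (Subgroup.upperCentralSeries T 2).Characteristic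
    set A := commutator T ⊓ Z2 with hA
    haveI hAc : A.Characteristic := Subgroup.characteristic_iff_map_eq.mpr fun φ => by
      rw [hA, Subgroup.map_inf _ _ _ φ.injective, Subgroup.characteristic_iff_map_eq.mp inferInstance φ,
        Subgroup.characteristic_iff_map_eq.mp inferInstance φ]
    have hZ2c : ∀ w ∈ Z2, ∀ t : T, ⁅w, t⁆ ∈ Subgroup.center T := fun w hw t => by
      rw [← Subgroup.upperCentralSeries_one]
      exact Subgroup.mem_upperCentralSeries_succ_iff.mp hw t
    have hder : ⁅commutator T, Z2⁆ = ⊥ := by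
      have h0 : ⁅⁅(⊤ : Subgroup T), Z2⁆, (⊤ : Subgroup T)⁆ = ⊥ := by
        rw [Subgroup.commutator_eq_bot_iff_le_centralizer, Subgroup.commutator_le]
        intro t _ w hw
        refine Subgroup.mem_centralizer_iff.mpr fun y _ => ?_
        have h := Subgroup.inv_mem _ (hZ2c w hw t)
        rw [commutatorElement_inv] at h
        exact Subgroup.mem_center_iff.mp h y
      rw [commutator_def]
      exact Subgroup.commutator_commutator_eq_bot_of_rotate h0 (by rwa [Subgroup.commutator_comm Z2 ⊤])
    have hAab : IsMulCommutative A := ⟨⟨fun a b => Subtype.ext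
      (Subgroup.mem_centralizer_iff.mp ((Subgroup.commutator_eq_bot_iff_le_centralizer.mp hder) a.2.1) (b : T) b.2.2).symm⟩⟩
    have hAnc : ¬ A ≤ Subgroup.center T := by
      intro hle
      haveI := hT.isNilpotent
      set Z := Subgroup.center T with hZ
      set π := QuotientGroup.mk' Z with hπ
      set N := (commutator T).map π with hN
      haveI : N.Normal := Subgroup.Normal.map inferInstance _ (QuotientGroup.mk'_surjective Z)
      haveI : Fact (Nat.Prime 2) := ⟨Nat.prime_two⟩
      have hN1 : N ≠ ⊥ := fun h => hcl fun x y => by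
        have : π ⁅x, y⁆ = 1 := Subgroup.mem_bot.mp (h ▸ Subgroup.mem_map_of_mem π
          (Subgroup.commutator_mem_commutator (Subgroup.mem_top x) (Subgroup.mem_top y)))
        exact (QuotientGroup.eq_one_iff _).mp this
      obtain ⟨v, hvN, hvc, hv1⟩ : ∃ v ∈ N, v ∈ Subgroup.center (T ⧸ Z) ∧ v ≠ 1 := by
        have hP : IsPGroup 2 (T ⧸ Z) := hT.to_quotient Z
        by_contra hcon
        push Not at hcon
        refine hN1 ?_
        haveI := hP.isNilpotent
        by_contra hN1'
        exact CfsgLib.Solvable.FrattiniFitting.inf_center_ne_bot N hN1'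
          (by rw [eq_bot_iff]; exact fun v hv => Subgroup.mem_bot.mpr (hcon v hv.1 hv.2))
      obtain ⟨t, ht, rfl⟩ := hvN
      refine hv1 ((QuotientGroup.eq_one_iff t).mpr (hle ⟨ht, ?_⟩))
      refine Subgroup.mem_upperCentralSeries_succ_iff.mpr fun y => ?_
      rw [Subgroup.upperCentralSeries_one, ← QuotientGroup.eq_one_iff]
      show π ⁅t, y⁆ = 1
      rw [map_commutatorElement, commutatorElement_eq_one_iff_mul_comm]
      exact (Subgroup.mem_center_iff.mp hvc (π y)).symm
    obtain ⟨⟨a, haA⟩, hgen⟩ := (hsymp A inferInstance hAab).exists_generator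
    have hAeq : ∀ b ∈ A, ∃ i : ℤ, a ^ i = b := fun b hb => by
      obtain ⟨i, hi⟩ := Subgroup.mem_zpowers_iff.mp (hgen ⟨b, hb⟩)
      exact ⟨i, congrArg Subtype.val hi⟩
    have hanc : a ∉ Subgroup.center T := fun h => hAnc fun b hb => by
      obtain ⟨i, rfl⟩ := hAeq b hb
      exact Subgroup.zpow_mem _ h i
    -- the action on `a`
    have haa : a * a ≠ 1 := by
      intro h
      refine hanc (Subgroup.mem_center_iff.mpr fun t => ?_)
      have hm : t * a * t⁻¹ ∈ A := (inferInstance : A.Normal).conj_mem a haA t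
      obtain ⟨i, hi⟩ := hAeq _ hm
      rcases Int.even_or_odd i with ⟨j, rfl⟩ | ⟨j, rfl⟩
      · rw [zpow_add, ← (Commute.refl a).mul_zpow, h, one_zpow] at hi
        have h1 : a = 1 := by
          calc a = t⁻¹ * (t * a * t⁻¹) * t := by group
            _ = 1 := by rw [← hi]; group
        exact absurd (h1 ▸ one_mem (Subgroup.center T)) hanc
      · rw [zpow_add, zpow_one, two_mul, zpow_add, ← (Commute.refl a).mul_zpow, h, one_zpow, one_mul] at hi
        exact mul_inv_eq_iff_eq_mul.mp hi.symm
    have ha4 : a * a * (a * a) = 1 := p4 a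
    have hact : ∀ t : T, t * a * t⁻¹ = a ∨ t * a * t⁻¹ = a⁻¹ := by
      intro t
      obtain ⟨i, hi⟩ := hAeq _ ((inferInstance : A.Normal).conj_mem a haA t)
      have h4' : a ^ (4 : ℤ) = 1 := by exact_mod_cast h4 a
      have hk4 : a ^ (i % 4) = t * a * t⁻¹ := by
        rw [← hi]
        conv_rhs => rw [← Int.mul_ediv_add_emod i 4, zpow_add, zpow_mul, h4', one_zpow, one_mul]
      have h0 := Int.emod_nonneg i (show (4 : ℤ) ≠ 0 by norm_num)
      have h1 := Int.emod_lt_of_pos i (show (0 : ℤ) < 4 by norm_num)
      interval_cases hh : i % 4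
      · exfalso
        refine hanc ?_
        rw [zpow_zero] at hk4
        rw [show a = 1 by rw [show a = t⁻¹ * (t * a * t⁻¹) * t by group, ← hk4]; group]
        exact one_mem _
      · exact Or.inl (by rw [← hk4, zpow_one])
      · exfalso
        refine haa ?_
        have h2 : t * (a * a) * t⁻¹ = 1 := by
          rw [show t * (a * a) * t⁻¹ = (t * a * t⁻¹) * (t * a * t⁻¹) by group, ← hk4,
            show a ^ (2 : ℤ) = a * a from zpow_two a, ha4]
        calc a * a = t⁻¹ * (t * (a * a) * t⁻¹) * t := by group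
          _ = 1 := by rw [h2]; group
      · refine Or.inr ?_
        rw [← hk4, eq_inv_iff_mul_eq_one, ← h4', ← zpow_add_one]
        norm_num
    set C := Subgroup.centralizer (A : Set T) with hC
    haveI hCc : C.Characteristic := inferInstance
    have hCmem : ∀ t : T, t * a * t⁻¹ = a → t ∈ C := fun t ht => Subgroup.mem_centralizer_iff.mpr fun b hb => by
      obtain ⟨i, rfl⟩ := hAeq b hb
      exact ((show Commute t a from mul_inv_eq_iff_eq_mul.mp ht).zpow_right i).eq.symm
    obtain ⟨x, hxC⟩ : ∃ x : T, x ∉ C := by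
      by_contra h
      push Not at h
      exact hanc (Subgroup.mem_center_iff.mpr fun t => (Subgroup.mem_centralizer_iff.mp (h t) a haA).symm)
    have hxa : x * a * x⁻¹ = a⁻¹ := (hact x).resolve_left fun h => hxC (hCmem x h)
    have hidx : ∀ t : T, t ∈ C ∨ t * x⁻¹ ∈ C := by
      intro t
      rcases hact t with h | h
      · exact Or.inl (hCmem t h)
      · refine Or.inr (hCmem _ ?_)
        have h1 : x⁻¹ * a * x = a⁻¹ := by
          calc x⁻¹ * a * x = (x⁻¹ * (x * a * x⁻¹)⁻¹ * x) := by rw [hxa, inv_inv]
            _ = a⁻¹ := by group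
        calc t * x⁻¹ * a * (t * x⁻¹)⁻¹ = t * (x⁻¹ * a * x) * t⁻¹ := by group
          _ = (t * a * t⁻¹)⁻¹ := by rw [h1]; group
          _ = a := by rw [h, inv_inv]
    have hCsymp : ∀ B : Subgroup C, B.Characteristic → IsMulCommutative B → IsCyclic B := by
      intro B hB hBab
      haveI := hB
      haveI := hBab
      let e := B.equivMapOfInjective C.subtype C.subtype_injective
      have hab : IsMulCommutative (B.map C.subtype) := ⟨⟨fun u v => by
        apply e.symm.injective
        rw [map_mul, map_mul, (IsMulCommutative.is_comm (M := B)).comm]⟩⟩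
      haveI := hsymp (B.map C.subtype) (characteristic_map_subtype C B) hab
      exact isCyclic_of_surjective e.symm.toMonoidHom e.symm.surjective
    obtain ⟨e, he2, hec, hesq, hecom⟩ := ih (Nat.card C) (by
      rw [← hn]
      exact lt_of_le_of_ne (Subgroup.card_le_card_group C) fun h => hxC (by
        rw [Subgroup.eq_top_of_card_eq C h]; trivial)) C rfl (hT.to_subgroup C) hCsymp
        (fun c => Subtype.ext (h4 (c : T)))
    have haC : a ∈ C := hCmem a (by group)
    have hee : (e : T) = a * a := by
      rcases hesq ⟨a, haC⟩ with h | h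
      · exact absurd (congrArg Subtype.val h) haa
      · exact (congrArg Subtype.val h).symm
    set z := a * a with hz
    have hsqC : ∀ c ∈ C, c * c = 1 ∨ c * c = z := fun c hc =>
      (hesq ⟨c, hc⟩).imp (fun h => congrArg Subtype.val h) fun h => (congrArg Subtype.val h).trans hee
    have hcomC : ∀ c ∈ C, ∀ d ∈ C, ⁅c, d⁆ = 1 ∨ ⁅c, d⁆ = z := fun c hc d hd =>
      (hecom ⟨c, hc⟩ ⟨d, hd⟩).imp (fun h => congrArg Subtype.val h) fun h => (congrArg Subtype.val h).trans hee
    have hzz : z * z = 1 := ha4
    have hzinv : z⁻¹ = z := inv_eq_of_mul_eq_one_right hzz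
    have hzc : ∀ t : T, t * z = z * t := by
      intro t
      refine mul_inv_eq_iff_eq_mul.mp ?_
      rw [hz, show t * (a * a) * t⁻¹ = (t * a * t⁻¹) * (t * a * t⁻¹) by group]
      rcases hact t with h | h
      · rw [h]
      · rw [h, ← mul_inv_rev]; exact hzinv
    haveI hZn : (Subgroup.zpowers z).Normal := ⟨fun w hw t => by
      obtain ⟨i, rfl⟩ := Subgroup.mem_zpowers_iff.mp hw
      rw [((show Commute t z from hzc t).zpow_right i).eq, mul_inv_cancel_right]
      exact Subgroup.zpow_mem_zpowers z i⟩
    set π := QuotientGroup.mk' (Subgroup.zpowers z) with hπ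
    have hπC : ∀ c ∈ C, ∀ d ∈ C, π c * π d = π d * π c := fun c hc d hd => by
      rw [← commutatorElement_eq_one_iff_mul_comm, ← map_commutatorElement, QuotientGroup.mk'_apply,
        QuotientGroup.eq_one_iff]
      rcases hcomC c hc d hd with h | h
      · rw [h]; exact one_mem _
      · rw [h]; exact Subgroup.mem_zpowers z
    haveI hCn : C.Normal := inferInstance
    have hCx : ∀ c ∈ C, x * c * x⁻¹ ∈ C := fun c hc => hCn.conj_mem c hc x
    -- the image of the derived group
    let H : Subgroup T :=
      { carrier := {y | ∃ c ∈ C, π y = π (x * c * x⁻¹ * c⁻¹)}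
        one_mem' := ⟨1, one_mem _, by simp⟩
        mul_mem' := fun {y y'} => by
          rintro ⟨c, hc, e⟩ ⟨c', hc', e'⟩
          refine ⟨c * c', C.mul_mem hc hc', ?_⟩
          rw [map_mul, e, e', show x * (c * c') * x⁻¹ * (c * c')⁻¹ =
            (x * c * x⁻¹) * (x * c' * x⁻¹ * c'⁻¹) * c⁻¹ by group]
          simp only [map_mul π]
          have hcc := hπC _ (C.mul_mem (hCx c' hc') (C.inv_mem hc')) c⁻¹ (C.inv_mem hc)
          simp only [map_mul π, map_inv] at hcc ⊢
          calc _ = π x * π c * (π x)⁻¹ * ((π c)⁻¹ * (π x * π c' * (π x)⁻¹ * (π c')⁻¹)) := by group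
            _ = π x * π c * (π x)⁻¹ * ((π x * π c' * (π x)⁻¹ * (π c')⁻¹) * (π c)⁻¹) := by rw [← hcc]
            _ = _ := by group
        inv_mem' := fun {y} => by
          rintro ⟨c, hc, e⟩
          refine ⟨c⁻¹, C.inv_mem hc, ?_⟩
          rw [map_inv, e, ← map_inv, show (x * c * x⁻¹ * c⁻¹)⁻¹ = c * (x * c⁻¹ * x⁻¹) by group,
            show x * c⁻¹ * x⁻¹ * c⁻¹⁻¹ = (x * c⁻¹ * x⁻¹) * c by group, map_mul π c,
            map_mul π (x * c⁻¹ * x⁻¹)]
          exact hπC c hc _ (hCx _ (C.inv_mem hc)) }
    have hHn : H.Normal := ⟨fun y ⟨c, hc, e⟩ t => by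
      rcases hidx t with ht | ht
      · refine ⟨c, hc, ?_⟩
        rw [map_mul, map_mul, map_inv, e, hπC t ht _ (C.mul_mem (hCx c hc) (C.inv_mem hc)), mul_inv_cancel_right]
      · refine ⟨x * c * x⁻¹, hCx c hc, ?_⟩
        set d := t * x⁻¹ with hd
        rw [map_mul, map_mul, map_inv, e, show t = d * x by rw [hd]; group, map_mul π d x,
          show π d * π x * π (x * c * x⁻¹ * c⁻¹) * (π d * π x)⁻¹ =
            π d * π (x * (x * c * x⁻¹ * c⁻¹) * x⁻¹) * (π d)⁻¹ by simp only [map_mul, map_inv]; group,
          hπC d ht _ (hCx _ (C.mul_mem (hCx c hc) (C.inv_mem hc))), mul_inv_cancel_right]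
        congr 1
        group⟩
    have hder2 : commutator T ≤ H := by
      rw [commutator_def, Subgroup.commutator_le]
      set ρ := QuotientGroup.mk' H with hρ
      have hρC : ∀ c ∈ C, ∀ d ∈ C, Commute (ρ c) (ρ d) := fun c hc d hd => by
        refine commutatorElement_eq_one_iff_commute.mp ?_
        rw [← map_commutatorElement, QuotientGroup.mk'_apply, QuotientGroup.eq_one_iff]
        refine ⟨1, one_mem _, ?_⟩
        rw [map_commutatorElement, commutatorElement_eq_one_iff_mul_comm.mpr (hπC c hc d hd)]
        simp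
      have hρx : ∀ c ∈ C, Commute (ρ x) (ρ c) := fun c hc => by
        refine commutatorElement_eq_one_iff_commute.mp ?_
        rw [← map_commutatorElement, QuotientGroup.mk'_apply, QuotientGroup.eq_one_iff]
        exact ⟨c, hc, rfl⟩
      have hgenT : ∀ t : T, ∀ w : T ⧸ H, (∀ c ∈ C, Commute (ρ c) w) → Commute (ρ x) w → Commute (ρ t) w := by
        intro t w h1 h2
        rcases hidx t with ht | ht
        · exact h1 t ht
        · have := (h1 _ ht).mul_left h2
          rwa [← map_mul, inv_mul_cancel_right] at this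
      intro g _ h _
      rw [← QuotientGroup.eq_one_iff]
      show ρ ⁅g, h⁆ = 1
      rw [map_commutatorElement, commutatorElement_eq_one_iff_commute]
      refine hgenT g _ (fun c hc => (hgenT h _ (fun d hd => hρC d hd c hc) (hρx c hc)).symm) ?_
      exact (hgenT h _ (fun d hd => (hρx d hd).symm) (Commute.refl _)).symm
    obtain ⟨c, hc, hce⟩ := hder2 haA.1
    obtain ⟨ζ, hζ, hxc⟩ : ∃ ζ : T, (∀ t : T, t * ζ = ζ * t) ∧ ζ * ζ = 1 ∧ x * c * x⁻¹ * c⁻¹ = a * ζ := by
      have h1 := QuotientGroup.eq.mp hce
      obtain ⟨i, hi⟩ := Subgroup.mem_zpowers_iff.mp h1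
      refine ⟨z ^ i, fun t => ((show Commute t z from hzc t).zpow_right i).eq, ?_, ?_⟩
      · rw [← (Commute.refl z).mul_zpow, hzz, one_zpow]
      · rw [hi]; group
    obtain ⟨hζ2, hxc⟩ := hxc
    have h1 : x * c * x⁻¹ = c * (a * ζ) := by
      calc x * c * x⁻¹ = (x * c * x⁻¹ * c⁻¹) * c := by group
        _ = a * ζ * c := by rw [hxc]
        _ = (a * c) * ζ := by rw [mul_assoc, ← hζ c]; group
        _ = c * a * ζ := by rw [(Subgroup.mem_centralizer_iff.mp hc a haA)]
        _ = _ := by group
    have hxx : x * x * c * (x * x)⁻¹ = c := by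
      calc x * x * c * (x * x)⁻¹ = x * (x * c * x⁻¹) * x⁻¹ := by group
        _ = x * (c * (a * ζ)) * x⁻¹ := by rw [h1]
        _ = (x * c * x⁻¹) * (x * a * x⁻¹) * (x * ζ * x⁻¹) := by group
        _ = c * (a * ζ) * a⁻¹ * ζ := by rw [h1, hxa, hζ x, mul_inv_cancel_right]
        _ = c * (ζ * a) * a⁻¹ * ζ := by rw [hζ a]
        _ = c * (ζ * ζ) := by group
        _ = c := by rw [hζ2, mul_one]
    -- `(c x)^4 ≠ 1`
    have hcc : (c * c) * (c * c) = 1 := p4 c
    have hcx2 : c * x * (c * x) = c * c * (a * ζ) * (x * x) := by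
      calc c * x * (c * x) = c * (x * c * x⁻¹) * (x * x) := by group
        _ = _ := by rw [h1]; group
    have hcomm1 : Commute (c * c) a :=
      let h : Commute c a := (Subgroup.mem_centralizer_iff.mp hc a haA).symm
      h.mul_left h
    have hcomm2 : Commute (x * x) c := mul_inv_eq_iff_eq_mul.mp hxx
    have hcomm3 : Commute (x * x) a := by
      refine mul_inv_eq_iff_eq_mul.mp ?_
      rw [show x * x * a * (x * x)⁻¹ = x * (x * a * x⁻¹) * x⁻¹ by group, hxa,
        show x * a⁻¹ * x⁻¹ = (x * a * x⁻¹)⁻¹ by group, hxa, inv_inv]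
    have hζc : ∀ t, Commute ζ t := fun t => (hζ t).symm
    have hw : Commute (x * x) (c * c * (a * ζ)) :=
      (hcomm2.mul_right hcomm2).mul_right (hcomm3.mul_right (hζc _).symm)
    have hp : Commute (c * c) (a * ζ) := hcomm1.mul_right (hζc _).symm
    have hfinal : (c * x * (c * x)) * (c * x * (c * x)) = z := by
      rw [hcx2]
      calc c * c * (a * ζ) * (x * x) * (c * c * (a * ζ) * (x * x))
          = c * c * (a * ζ) * ((x * x) * (c * c * (a * ζ))) * (x * x) := by group
        _ = c * c * (a * ζ) * ((c * c * (a * ζ)) * (x * x)) * (x * x) := by rw [hw.eq]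
        _ = (c * c) * ((a * ζ) * (c * c)) * (a * ζ) * (x * x * (x * x)) := by group
        _ = (c * c) * ((c * c) * (a * ζ)) * (a * ζ) := by rw [← hp.eq, p4, mul_one]
        _ = (c * c * (c * c)) * (a * (ζ * a) * ζ) := by group
        _ = a * (a * ζ) * ζ := by rw [hcc, one_mul, hζ a]
        _ = (a * a) * (ζ * ζ) := by group
        _ = z := by rw [hζ2, mul_one]
    exact haa (hfinal.symm.trans (p4 _))

end CfsgLib.KGroups.SymplecticExpFour
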