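import Cfsg.Prelude.Def_Amalgam
import Cfsg.Prelude.Def_Transfer
import Cfsg.Agent.Lib.LocalEven.SylowIn
import Cfsg.Agent.Lib.PGroup.Frattini
import Cfsg.Agent.Lib.Fusion.NormalRankTwo
import Cfsg.Agent.Lib.KGroups.CharP
import Cfsg.Agent.Lib.Fusion.ZJConstrained

/-!
A trivial-intersection elementary abelian 2-subgroup `V`, maximal among the abelian normal subgroups of its
normalizer `M` of characteristic 2, and a conjugate `B ≠ V` inside `O_2(M)`.
-/

set_option autoImplicit false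
set_option linter.style.haveILetI false
set_option linter.unusedSectionVars false

namespace CfsgLib.KGroups.TILarge

open CfsgLib.LocalEven
open CfsgLib.Solvable.Basic (isMulCommutative_subgroup_iff)
open scoped commutatorElement

universe u

variable {G : Type u} [Group G] [Finite G]

/-- The conjugate of a subgroup. -/
abbrev cnj (x : G) (V : Subgroup G) : Subgroup G := V.map (MulAut.conj x).toMonoidHom

/-- `O_2` of the normalizer. -/
abbrev QQ (V : Subgroup G) : Subgroup G := Cfsg.pCoreOf 2 (Subgroup.normalizer (V : Set G))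

/-- The centralizer of `V` in it. -/
abbrev PP (V : Subgroup G) : Subgroup G := QQ V ⊓ Subgroup.centralizer (V : Set G)

/-- The hypotheses on `V`. -/
structure Hyp (V : Subgroup G) : Prop where
  ea : Cfsg.IsElementaryAbelian 2 V
  cq : Subgroup.normalizer (V : Set G) ⊓ Subgroup.centralizer (QQ V : Set G) ≤ QQ V
  hmax : ∀ A : Subgroup G, V ≤ A → A ≤ Subgroup.normalizer (V : Set G) → IsMulCommutative ↥A →
    (∀ m ∈ Subgroup.normalizer (V : Set G), ∀ a ∈ A, m * a * m⁻¹ ∈ A) → A = V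
  ti : ∀ x : G, cnj x V = V ∨ cnj x V ⊓ V = ⊥

theorem mem_cnj {x a : G} {V : Subgroup G} : a ∈ cnj x V ↔ x⁻¹ * a * x ∈ V := by
  constructor
  · rintro ⟨v, hv, rfl⟩
    simpa [mul_assoc] using hv
  · intro h
    exact ⟨_, h, by simp [mul_assoc]⟩

theorem conj_mem_cnj {x v : G} {V : Subgroup G} (hv : v ∈ V) : x * v * x⁻¹ ∈ cnj x V := ⟨v, hv, rfl⟩

theorem cnj_cnj (x y : G) (V : Subgroup G) : cnj x (cnj y V) = cnj (x * y) V := by
  ext a
  simp only [mem_cnj, mul_inv_rev, mul_assoc]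

theorem cnj_one (V : Subgroup G) : cnj 1 V = V := by
  ext a
  simp [mem_cnj]

theorem card_cnj (x : G) (V : Subgroup G) : Nat.card (cnj x V) = Nat.card V :=
  Subgroup.card_map_of_injective (MulAut.conj x).injective

theorem cnj_eq_iff {x : G} {V : Subgroup G} : cnj x V = V ↔ x ∈ Subgroup.normalizer (V : Set G) := by
  constructor
  · intro h
    rw [Subgroup.mem_normalizer_iff]
    intro a
    constructor
    · exact fun ha => h.le (conj_mem_cnj ha)
    · intro ha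
      have := mem_cnj.mp (h.ge ha)
      simpa [mul_assoc] using this
  · intro h
    ext a
    rw [mem_cnj, (Subgroup.mem_normalizer_iff.mp h (x⁻¹ * a * x))]
    simp [mul_assoc]

theorem cnj_inv_cnj (x : G) (V : Subgroup G) : cnj x⁻¹ (cnj x V) = V := by
  rw [cnj_cnj, inv_mul_cancel, cnj_one]

theorem cnj_injective (x : G) : Function.Injective (cnj x : Subgroup G → Subgroup G) :=
  Subgroup.map_injective (MulAut.conj x).injective

theorem QQ_cnj (x : G) (V : Subgroup G) : QQ (cnj x V) = cnj x (QQ V) := by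
  show Cfsg.pCoreOf 2 _ = _
  rw [SylowIn.normalizer_map_conj]
  exact (SylowIn.pCoreOf_map_conj _ x).symm

theorem centralizer_cnj (x : G) (V : Subgroup G) :
    Subgroup.centralizer (cnj x V : Set G) = cnj x (Subgroup.centralizer (V : Set G)) := by
  ext a
  rw [mem_cnj, Subgroup.mem_centralizer_iff, Subgroup.mem_centralizer_iff]
  constructor
  · intro h v hv
    have h1 := h _ (conj_mem_cnj hv)
    calc v * (x⁻¹ * a * x) = x⁻¹ * ((x * v * x⁻¹) * a) * x := by group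
      _ = x⁻¹ * (a * (x * v * x⁻¹)) * x := by rw [h1]
      _ = x⁻¹ * a * x * v := by group
  · intro h w hw
    have h1 := h _ (mem_cnj.mp hw)
    calc w * a = x * ((x⁻¹ * w * x) * (x⁻¹ * a * x)) * x⁻¹ := by group
      _ = x * ((x⁻¹ * a * x) * (x⁻¹ * w * x)) * x⁻¹ := by rw [h1]
      _ = a * w := by group

theorem PP_cnj (x : G) (V : Subgroup G) : PP (cnj x V) = cnj x (PP V) := by
  show QQ (cnj x V) ⊓ _ = _
  rw [QQ_cnj, centralizer_cnj]
  exact (Subgroup.map_inf _ _ _ (MulAut.conj x).injective).symm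

theorem Hyp.conj {V : Subgroup G} (h : Hyp V) (x : G) : Hyp (cnj x V) := by
  refine ⟨⟨isMulCommutative_subgroup_iff.mpr ?_, ?_⟩, ?_, fun A hA hAN hAc hAn => ?_, fun y => ?_⟩
  · rintro _ ⟨a, ha, rfl⟩ _ ⟨b, hb, rfl⟩
    simp only [← map_mul]
    rw [isMulCommutative_subgroup_iff.mp h.ea.1 a ha b hb]
  · rintro _ ⟨a, ha, rfl⟩
    rw [← map_pow, h.ea.2 a ha, map_one]
  · rw [QQ_cnj, centralizer_cnj, SylowIn.normalizer_map_conj, ← Subgroup.map_inf _ _ _ (MulAut.conj x).injective]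
    exact Subgroup.map_mono h.cq
  · rw [SylowIn.normalizer_map_conj] at hAN hAn
    have hA' : cnj x⁻¹ A = V := by
      refine h.hmax _ ((cnj_inv_cnj x V).ge.trans (Subgroup.map_mono hA))
        ((Subgroup.map_mono hAN).trans (cnj_inv_cnj x _).le) ?_ ?_
      · refine isMulCommutative_subgroup_iff.mpr ?_
        rintro _ ⟨a, ha, rfl⟩ _ ⟨b, hb, rfl⟩
        simp only [← map_mul]
        rw [isMulCommutative_subgroup_iff.mp hAc a ha b hb]
      · intro m hm a ha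
        rw [mem_cnj, inv_inv] at ha ⊢
        have h1 := hAn (x * m * x⁻¹) (conj_mem_cnj hm) _ ha
        simpa [mul_assoc] using h1
    rw [← hA', cnj_cnj, mul_inv_cancel, cnj_one]
  · rcases h.ti (x⁻¹ * y * x) with h1 | h1
    · left
      have h2 := congrArg (cnj x) h1
      rw [cnj_cnj] at h2 ⊢
      rwa [show x * (x⁻¹ * y * x) = y * x by group] at h2
    · right
      have h2 := congrArg (cnj x) h1
      rw [show cnj x (cnj (x⁻¹ * y * x) V ⊓ V) = cnj x (cnj (x⁻¹ * y * x) V) ⊓ cnj x V from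
        Subgroup.map_inf _ _ _ (MulAut.conj x).injective, cnj_cnj, show x * (x⁻¹ * y * x) = y * x by group,
        ← cnj_cnj] at h2
      rw [h2]
      exact Subgroup.map_bot _

variable {V : Subgroup G}

namespace Hyp

variable (h : Hyp V)
include h

theorem comm {a b : G} (ha : a ∈ V) (hb : b ∈ V) : a * b = b * a :=
  isMulCommutative_subgroup_iff.mp h.ea.1 a ha b hb

theorem sq {a : G} (ha : a ∈ V) : a * a = 1 := by rw [← pow_two]; exact h.ea.2 a ha

theorem inv_eq {a : G} (ha : a ∈ V) : a⁻¹ = a := inv_eq_of_mul_eq_one_right (h.sq ha)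

theorem isPGroup : IsPGroup 2 V := fun a => ⟨1, Subtype.ext (by simpa using h.ea.2 _ a.2)⟩

theorem le_QQ : V ≤ QQ V := SylowIn.le_pCoreOf Subgroup.le_normalizer le_rfl h.isPGroup

theorem QQ_le : QQ V ≤ Subgroup.normalizer (V : Set G) := SylowIn.pCoreOf_le _

theorem QQ_p : IsPGroup 2 (QQ V) :=
  haveI : Fact (Nat.Prime 2) := ⟨Nat.prime_two⟩
  SylowIn.isPGroup_pCoreOf _

theorem QQ_normal {m x : G} (hm : m ∈ Subgroup.normalizer (V : Set G)) (hx : x ∈ QQ V) : m * x * m⁻¹ ∈ QQ V :=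
  (Subgroup.mem_normalizer_iff.mp (SylowIn.normalizer_pCoreOf _ hm) x).mp hx

theorem le_centralizer : V ≤ Subgroup.centralizer (V : Set G) := fun _ ha =>
  Subgroup.mem_centralizer_iff.mpr fun _ hb => h.comm hb ha

theorem le_PP : V ≤ PP V := le_inf h.le_QQ h.le_centralizer

theorem PP_le : PP V ≤ Subgroup.normalizer (V : Set G) := inf_le_left.trans h.QQ_le

theorem PP_normal {m x : G} (hm : m ∈ Subgroup.normalizer (V : Set G)) (hx : x ∈ PP V) : m * x * m⁻¹ ∈ PP V := by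
  refine ⟨h.QQ_normal hm hx.1, Subgroup.mem_centralizer_iff.mpr fun v hv => ?_⟩
  have h1 : m⁻¹ * v * m ∈ V := by
    have := (Subgroup.mem_normalizer_iff.mp (inv_mem hm) v).mp hv
    rwa [inv_inv] at this
  calc v * (m * x * m⁻¹) = m * ((m⁻¹ * v * m) * x) * m⁻¹ := by group
    _ = m * (x * (m⁻¹ * v * m)) * m⁻¹ := by rw [Subgroup.mem_centralizer_iff.mp hx.2 _ h1]
    _ = m * x * m⁻¹ * v := by group

theorem cent {p v : G} (hp : p ∈ PP V) (hv : v ∈ V) : v * p = p * v := Subgroup.mem_centralizer_iff.mp hp.2 v hv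

theorem centralizer_le {v : G} (hv : v ∈ V) (hv1 : v ≠ 1) {x : G} (hx : x * v * x⁻¹ = v) :
    x ∈ Subgroup.normalizer (V : Set G) := by
  rcases h.ti x with h1 | h1
  · exact cnj_eq_iff.mp h1
  · exact absurd (Subgroup.mem_bot.mp (h1.le ⟨hx ▸ conj_mem_cnj hv, hv⟩)) hv1

theorem eq_of_mem {x : G} {a : G} (ha : a ∈ V) (ha' : a ∈ cnj x V) (ha1 : a ≠ 1) : cnj x V = V :=
  (h.ti x).resolve_right fun e => ha1 (Subgroup.mem_bot.mp (e.le ⟨ha', ha⟩))

theorem center_mem {x : G} (hx : x ∈ PP V) (hc : ∀ y ∈ PP V, x * y = y * x) : x ∈ V := by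
  let Z : Subgroup G := PP V ⊓ Subgroup.centralizer (PP V : Set G)
  have hZ : Z = V := h.hmax Z
    (le_inf h.le_PP fun v hv => Subgroup.mem_centralizer_iff.mpr fun y hy => (h.cent hy hv).symm)
    (inf_le_left.trans h.PP_le)
    (isMulCommutative_subgroup_iff.mpr fun a ha b hb => Subgroup.mem_centralizer_iff.mp hb.2 a ha.1)
    (fun m hm a ha => ⟨h.PP_normal hm ha.1, Subgroup.mem_centralizer_iff.mpr fun y hy => by
      have h1 : m⁻¹ * y * m ∈ PP V := by
        have := h.PP_normal (inv_mem hm) hy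
        rwa [inv_inv] at this
      calc y * (m * a * m⁻¹) = m * ((m⁻¹ * y * m) * a) * m⁻¹ := by group
        _ = m * (a * (m⁻¹ * y * m)) * m⁻¹ := by rw [Subgroup.mem_centralizer_iff.mp ha.2 _ h1]
        _ = m * a * m⁻¹ * y := by group⟩)
  exact hZ.le ⟨hx, Subgroup.mem_centralizer_iff.mpr fun y hy => (hc y hy).symm⟩

theorem comm_mem {x y : G} (hx : x ∈ PP V) (hy : y ∈ PP V) : ⁅x, y⁆ ∈ V := by
  set P := PP V with hP
  set K := ⁅P, P⁆ ⊔ V with hK
  have hKP : K ≤ P := sup_le (Subgroup.commutator_le_self P) h.le_PP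
  -- the second centre
  let L : Subgroup G :=
    { carrier := {a | a ∈ P ∧ ∀ b ∈ P, ⁅a, b⁆ ∈ V}
      one_mem' := ⟨one_mem _, fun b _ => by rw [commutatorElement_one_left]; exact one_mem _⟩
      mul_mem' := fun {a c} ha hc => ⟨mul_mem ha.1 hc.1, fun b hb => by
        rw [show ⁅a * c, b⁆ = a * ⁅c, b⁆ * a⁻¹ * ⁅a, b⁆ by simp only [commutatorElement_def]; group,
          ← h.cent ha.1 (hc.2 b hb), mul_inv_cancel_right]
        exact mul_mem (hc.2 b hb) (ha.2 b hb)⟩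
      inv_mem' := fun {a} ha => ⟨inv_mem ha.1, fun b hb => by
        rw [show ⁅a⁻¹, b⁆ = a⁻¹ * ⁅a, b⁆⁻¹ * a by simp only [commutatorElement_def]; group,
          mul_assoc, h.cent ha.1 (inv_mem (ha.2 b hb)), inv_mul_cancel_left]
        exact inv_mem (ha.2 b hb)⟩ }
  have hLc : ∀ a ∈ L, ∀ k ∈ K, a * k = k * a := by
    intro a ha k hk
    have hle : K ≤ Subgroup.centralizer ({a} : Set G) := by
      refine sup_le (Subgroup.commutator_le.mpr fun s hs t ht => ?_) fun v hv => ?_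
      · rw [Subgroup.mem_centralizer_singleton_iff]
        have e1 : ∀ b ∈ P, a * b * a⁻¹ = ⁅a, b⁆ * b := fun b _ => by rw [commutatorElement_def]; group
        refine mul_inv_eq_iff_eq_mul.mp (?_ : a * ⁅s, t⁆ * a⁻¹ = ⁅s, t⁆) |>.symm
        calc a * ⁅s, t⁆ * a⁻¹ = ⁅a * s * a⁻¹, a * t * a⁻¹⁆ := by simp only [commutatorElement_def]; group
          _ = ⁅⁅a, s⁆ * s, ⁅a, t⁆ * t⁆ := by rw [e1 s hs, e1 t ht]
          _ = ⁅s, t⁆ := by
            have cs := h.cent hs (ha.2 s hs)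
            have ct : Commute (⁅a, t⁆) s := h.cent hs (ha.2 t ht)
            have cs' : Commute (⁅a, s⁆) t := h.cent ht (ha.2 s hs)
            have ct' : Commute (⁅a, t⁆) t := h.cent ht (ha.2 t ht)
            have css : Commute (⁅a, s⁆) s := cs
            have cc : Commute (⁅a, s⁆) (⁅a, t⁆) := h.comm (ha.2 s hs) (ha.2 t ht)
            simp only [commutatorElement_def] at *
            set p := a * s * a⁻¹ * s⁻¹
            set q := a * t * a⁻¹ * t⁻¹
            calc p * s * (q * t) * (p * s)⁻¹ * (q * t)⁻¹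
                = p * (s * q) * t * s⁻¹ * p⁻¹ * t⁻¹ * q⁻¹ := by group
              _ = p * q * (s * t * s⁻¹) * p⁻¹ * t⁻¹ * q⁻¹ := by rw [ct.symm.eq]; group
              _ = p * q * ((s * t * s⁻¹) * p⁻¹) * t⁻¹ * q⁻¹ := by group
              _ = p * q * (p⁻¹ * (s * t * s⁻¹)) * t⁻¹ * q⁻¹ := by
                rw [((css.mul_right cs').mul_right css.inv_right).inv_left.eq.symm]
              _ = p * q * p⁻¹ * (s * t * s⁻¹ * t⁻¹) * q⁻¹ := by group
              _ = q * ((s * t * s⁻¹ * t⁻¹) * q⁻¹) := by rw [cc.eq]; group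
              _ = q * (q⁻¹ * (s * t * s⁻¹ * t⁻¹)) := by
                rw [(((ct.mul_right ct').mul_right ct.inv_right).mul_right ct'.inv_right).inv_left.eq.symm]
              _ = s * t * s⁻¹ * t⁻¹ := by group
      · rw [Subgroup.mem_centralizer_singleton_iff]
        exact h.cent ha.1 hv
    exact (Subgroup.mem_centralizer_singleton_iff.mp (hle hk)).symm
  have hconjK : ∀ m ∈ Subgroup.normalizer (V : Set G), ∀ k ∈ K, m * k * m⁻¹ ∈ K := by
    intro m hm k hk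
    have hle : K ≤ K.comap (MulAut.conj m).toMonoidHom := by
      refine sup_le (Subgroup.commutator_le.mpr fun s hs t ht => ?_) fun v hv => ?_
      · show m * ⁅s, t⁆ * m⁻¹ ∈ K
        rw [show m * ⁅s, t⁆ * m⁻¹ = ⁅m * s * m⁻¹, m * t * m⁻¹⁆ by simp only [commutatorElement_def]; group]
        exact Subgroup.mem_sup_left (Subgroup.commutator_mem_commutator (h.PP_normal hm hs) (h.PP_normal hm ht))
      · exact Subgroup.mem_sup_right ((Subgroup.mem_normalizer_iff.mp hm v).mp hv)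
    exact hle hk
  have hA : K ⊓ L = V := h.hmax _
    (le_inf le_sup_right fun v hv => ⟨h.le_PP hv, fun b hb => by
      rw [commutatorElement_eq_one_iff_mul_comm.mpr (h.cent hb hv)]; exact one_mem _⟩)
    (inf_le_left.trans (hKP.trans h.PP_le))
    (isMulCommutative_subgroup_iff.mpr fun a ha b hb => hLc a ha.2 b hb.1)
    (fun m hm a ha => ⟨hconjK m hm a ha.1, h.PP_normal hm ha.2.1, fun b hb => by
      have h1 : m⁻¹ * b * m ∈ P := by
        have := h.PP_normal (inv_mem hm) hb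
        rwa [inv_inv] at this
      rw [show ⁅m * a * m⁻¹, b⁆ = m * ⁅a, m⁻¹ * b * m⁆ * m⁻¹ by simp only [commutatorElement_def]; group]
      exact (Subgroup.mem_normalizer_iff.mp hm _).mp (ha.2.2 _ h1)⟩)
  by_contra hxy
  have hKV : ¬ K.subgroupOf P ≤ V.subgroupOf P := fun hle => hxy
    (hle (x := ⟨⁅x, y⁆, Subgroup.commutator_le_self P (Subgroup.commutator_mem_commutator hx hy)⟩)
      (Subgroup.mem_sup_left (Subgroup.commutator_mem_commutator hx hy)))
  haveI : Fact (Nat.Prime 2) := ⟨Nat.prime_two⟩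
  haveI : (V.subgroupOf P).Normal := ⟨fun v hv g =>
    (Subgroup.mem_normalizer_iff.mp (h.PP_le g.2) _).mp hv⟩
  haveI : (K.subgroupOf P).Normal := ⟨fun k hk g => hconjK _ (h.PP_le g.2) _ hk⟩
  obtain ⟨⟨a, haP⟩, haK, haV, -, hac⟩ := CfsgLib.Fusion.NormalRankTwo.exists_central_of_lt (p := 2)
    (h.QQ_p.to_le inf_le_left : IsPGroup 2 ↥P) hKV
  refine haV (hA.le ⟨haK, haP, fun b hb => ?_⟩)
  rw [← commutatorElement_inv]
  exact inv_mem (hac ⟨b, hb⟩)

theorem comm_cent {x y z : G} (hx : x ∈ PP V) (hy : y ∈ PP V) (hz : z ∈ PP V) : Commute ⁅x, y⁆ z :=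
  h.cent hz (h.comm_mem hx hy)

theorem mul_comm_left {x y z : G} (hx : x ∈ PP V) (hy : y ∈ PP V) (hz : z ∈ PP V) :
    ⁅x * y, z⁆ = ⁅x, z⁆ * ⁅y, z⁆ := by
  rw [show ⁅x * y, z⁆ = x * ⁅y, z⁆ * x⁻¹ * ⁅x, z⁆ by simp only [commutatorElement_def]; group,
    ← (h.comm_cent hy hz hx).eq, mul_inv_cancel_right]
  exact h.comm (h.comm_mem hy hz) (h.comm_mem hx hz)

theorem comm_symm {x y : G} (hx : x ∈ PP V) (hy : y ∈ PP V) : ⁅x, y⁆ = ⁅y, x⁆ := by
  rw [← commutatorElement_inv y x, h.inv_eq (h.comm_mem hy hx)]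

theorem mul_comm_right {x y z : G} (hx : x ∈ PP V) (hy : y ∈ PP V) (hz : z ∈ PP V) :
    ⁅x, y * z⁆ = ⁅x, y⁆ * ⁅x, z⁆ := by
  rw [h.comm_symm hx (mul_mem hy hz), h.mul_comm_left hy hz hx, h.comm_symm hx hy, h.comm_symm hx hz]

theorem sq_mem {x : G} (hx : x ∈ PP V) : x * x ∈ V := h.center_mem (mul_mem hx hx) fun y hy => by
  rw [← commutatorElement_eq_one_iff_mul_comm, h.mul_comm_left hx hx hy]
  exact h.sq (h.comm_mem hx hy)

theorem eq_one_of_stable {x : G} (hxN : x ∈ Subgroup.normalizer (V : Set G))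
    (hxC : x ∈ Subgroup.centralizer (V : Set G)) (hxP : ∀ y ∈ PP V, ⁅x, y⁆ ∈ V) (hxo : (orderOf x).Coprime 2) :
    x = 1 := by
  have key : ∀ y, (hy : ⁅x, y⁆ ∈ V) → ⁅x, y⁆ = 1 := by
    intro y hy
    set c := ⁅x, y⁆ with hcdef
    have hfix : x * c * x⁻¹ = c := by
      rw [← Subgroup.mem_centralizer_iff.mp hxC c hy, mul_inv_cancel_right]
    have hpow : ∀ n : ℕ, x ^ n * y * (x ^ n)⁻¹ = c ^ n * y := by
      intro n
      induction n with
      | zero => simp
      | succ n ih =>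
        calc x ^ (n + 1) * y * (x ^ (n + 1))⁻¹ = x * (x ^ n * y * (x ^ n)⁻¹) * x⁻¹ := by rw [pow_succ']; group
          _ = (x * c ^ n * x⁻¹) * (x * y * x⁻¹) := by rw [ih]; group
          _ = c ^ n * (c * y) := by
            rw [← conj_pow, hfix, hcdef, commutatorElement_def]; group
          _ = c ^ (n + 1) * y := by rw [pow_succ]; group
    have h1 := hpow (orderOf x)
    rw [pow_orderOf_eq_one, one_mul, inv_one, mul_one, eq_comm, mul_eq_right] at h1
    exact CharP.eq_one_of_pow_coprime hxo h1 (k := 1) (by rw [pow_one]; exact h.ea.2 c hy)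
  have hP : ∀ a ∈ PP V, x * a = a * x := fun a ha =>
    commutatorElement_eq_one_iff_mul_comm.mp (key a (hxP a ha))
  have hQ : x ∈ Subgroup.centralizer (QQ V : Set G) := by
    refine Subgroup.mem_centralizer_iff.mpr fun y hy => ?_
    refine (commutatorElement_eq_one_iff_mul_comm.mp (key y ?_)).symm
    have hcQ : ⁅x, y⁆ ∈ QQ V := by
      rw [commutatorElement_def]; exact mul_mem (h.QQ_normal hxN hy) (inv_mem hy)
    have hcomm : ∀ a ∈ PP V, ⁅x, y⁆ * a = a * ⁅x, y⁆ := by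
      intro a ha
      have h1 : y⁻¹ * a * y ∈ PP V := by simpa using h.PP_normal (inv_mem (h.QQ_le hy)) ha
      have e1 := hP _ h1
      have e2 := hP a ha
      calc ⁅x, y⁆ * a = x * y * (x⁻¹ * (y⁻¹ * a * y)) * y⁻¹ := by rw [commutatorElement_def]; group
        _ = x * y * ((y⁻¹ * a * y) * x⁻¹) * y⁻¹ := by
          rw [show x⁻¹ * (y⁻¹ * a * y) = (y⁻¹ * a * y) * x⁻¹ from
            calc x⁻¹ * (y⁻¹ * a * y) = x⁻¹ * ((y⁻¹ * a * y) * x) * x⁻¹ := by group
              _ = x⁻¹ * (x * (y⁻¹ * a * y)) * x⁻¹ := by rw [e1]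
              _ = _ := by group]
        _ = (x * a) * y * x⁻¹ * y⁻¹ := by group
        _ = (a * x) * y * x⁻¹ * y⁻¹ := by rw [e2]
        _ = a * ⁅x, y⁆ := by rw [commutatorElement_def]; group
    have hcP : ⁅x, y⁆ ∈ PP V := ⟨hcQ, Subgroup.mem_centralizer_iff.mpr fun b hb => (hcomm b (h.le_PP hb)).symm⟩
    exact h.center_mem hcP hcomm
  obtain ⟨k, hk⟩ := h.QQ_p ⟨x, h.cq ⟨hxN, hQ⟩⟩
  exact CharP.eq_one_of_pow_coprime hxo (pow_orderOf_eq_one x) (congrArg Subtype.val hk)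

end Hyp

/-- A conjugate of `V` different from it inside `O_2(N(V))`. -/
structure Mate (V B : Subgroup G) : Prop where
  conj : ∃ g : G, B = cnj g V
  ne : B ≠ V
  le : B ≤ QQ V

variable {B : Subgroup G}

namespace Mate

variable (m : Mate V B) (h : Hyp V)
include m h

theorem hyp : Hyp B := by
  obtain ⟨g, rfl⟩ := m.conj
  exact h.conj g

theorem card_eq : Nat.card B = Nat.card V := by
  obtain ⟨g, rfl⟩ := m.conj
  exact card_cnj g V

theorem disjoint {a : G} (hB : a ∈ B) (hV : a ∈ V) : a = 1 := by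
  obtain ⟨g, rfl⟩ := m.conj
  by_contra ha
  exact m.ne (h.eq_of_mem hV hB ha)

theorem V_le : V ≤ Subgroup.normalizer (B : Set G) := by
  intro v hv
  by_contra hvB
  have hB := m.hyp h
  set V₀ := V ⊓ Subgroup.normalizer (B : Set G) with hV₀
  have hBN : ∀ b ∈ B, ∀ w ∈ V, b * w * b⁻¹ ∈ V := fun b hb w hw =>
    (Subgroup.mem_normalizer_iff.mp (h.QQ_le (m.le hb)) w).mp hw
  let f : B → G := fun b => ⁅(b : G), v⁆
  have hfV : ∀ b : B, f b ∈ V := fun b => by
    show ⁅(b : G), v⁆ ∈ V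
    rw [commutatorElement_def]
    exact mul_mem (hBN _ b.2 v hv) (inv_mem hv)
  have hne : ∀ b : B, (b : G) ≠ 1 → f b ≠ 1 := fun b hb e => hvB (hB.centralizer_le b.2 hb (by
    have e' : (b : G) * v = v * b := commutatorElement_eq_one_iff_mul_comm.mp e
    rw [← e', mul_inv_cancel_right]))
  have hV₀m : ∀ b : B, f b ∈ V₀ := fun b => by
    rcases eq_or_ne (b : G) 1 with hb | hb
    · show ⁅(b : G), v⁆ ∈ V₀
      rw [hb, commutatorElement_one_left]; exact one_mem _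
    · refine ⟨hfV b, hB.centralizer_le b.2 hb ?_⟩
      have e : (b : G) * f b * (b : G)⁻¹ = f b := by
        conv_rhs => rw [← h.inv_eq (hfV b)]
        show (b : G) * ⁅(b : G), v⁆ * (b : G)⁻¹ = ⁅(b : G), v⁆⁻¹
        rw [commutatorElement_def]
        calc (b : G) * ((b : G) * v * (b : G)⁻¹ * v⁻¹) * (b : G)⁻¹
            = ((b : G) * b) * v * (b : G)⁻¹ * v⁻¹ * (b : G)⁻¹ := by group
          _ = ((b : G) * v * (b : G)⁻¹ * v⁻¹)⁻¹ := by
            rw [hB.sq b.2, one_mul, mul_inv_rev, mul_inv_rev, mul_inv_rev, inv_inv, inv_inv, h.inv_eq hv,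
              hB.inv_eq b.2]
            group
      rw [show f b * (b : G) * (f b)⁻¹ = b from mul_inv_eq_iff_eq_mul.mpr (mul_inv_eq_iff_eq_mul.mp e).symm]
  have hinj : Function.Injective f := by
    intro a b e
    by_contra hab
    refine hne (a⁻¹ * b) (fun e' => hab (Subtype.ext (inv_mul_eq_one.mp e'))) ?_
    -- `V₀` centralises `B`
    have hc : (a : G) * f b * (a : G)⁻¹ = f b := by
      have h1 : ⁅(a : G), f b⁆ ∈ B := by
        rw [commutatorElement_def, mul_assoc (a : G), mul_assoc]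
        refine mul_mem a.2 ?_
        exact (Subgroup.mem_normalizer_iff.mp (hV₀m b).2 _).mp (inv_mem a.2)
      have h2 : ⁅(a : G), f b⁆ ∈ V := by
        rw [commutatorElement_def]; exact mul_mem (hBN _ a.2 _ (hfV b)) (inv_mem (hfV b))
      exact mul_inv_eq_one.mp (m.disjoint h h1 h2)
    show ⁅((a⁻¹ * b : B) : G), v⁆ = 1
    rw [Subgroup.coe_mul, Subgroup.coe_inv, hB.inv_eq a.2,
      show ⁅(a : G) * b, v⁆ = a * f b * (a : G)⁻¹ * f a from by
        show _ = a * ⁅(b : G), v⁆ * (a : G)⁻¹ * ⁅(a : G), v⁆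
        simp only [commutatorElement_def]; group, hc, e]
    exact h.sq (hfV b)
  have hcard : Nat.card B ≤ Nat.card V₀ :=
    Nat.card_le_card_of_injective (fun b => (⟨f b, hV₀m b⟩ : V₀)) fun a b e => hinj (congrArg Subtype.val e)
  have heq : V₀ = V := Subgroup.eq_of_le_of_card_ge inf_le_left (by rw [← m.card_eq h]; exact hcard)
  exact hvB (heq.ge hv).2

theorem comm {v b : G} (hv : v ∈ V) (hb : b ∈ B) : v * b = b * v := by
  rw [← commutatorElement_eq_one_iff_mul_comm]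
  refine m.disjoint h ?_ ?_
  · rw [commutatorElement_def]
    exact mul_mem ((Subgroup.mem_normalizer_iff.mp (m.V_le h hv) b).mp hb) (inv_mem hb)
  · rw [commutatorElement_def, mul_assoc, mul_assoc]
    refine mul_mem hv ?_
    rw [← mul_assoc]
    exact (Subgroup.mem_normalizer_iff.mp (h.QQ_le (m.le hb)) _).mp (inv_mem hv)

theorem le_PP : B ≤ PP V := le_inf m.le fun _ hb => Subgroup.mem_centralizer_iff.mpr fun _ hv => m.comm h hv hb

theorem V_le_centralizer : V ≤ Subgroup.centralizer (B : Set G) := fun _ hv =>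
  Subgroup.mem_centralizer_iff.mpr fun _ hb => (m.comm h hv hb).symm

theorem commute_of_mem {p : G} (hp : p ∈ PP V) (hN : p ∈ Subgroup.normalizer (B : Set G)) {b : G} (hb : b ∈ B) :
    ⁅p, b⁆ = 1 := by
  refine m.disjoint h ?_ (h.comm_mem hp (m.le_PP h hb))
  rw [commutatorElement_def]
  exact mul_mem ((Subgroup.mem_normalizer_iff.mp hN b).mp hb) (inv_mem hb)

theorem commute_of_one {p : G} (hp : p ∈ PP V) {b₀ : G} (hb₀ : b₀ ∈ B) (h0 : b₀ ≠ 1) (he : ⁅p, b₀⁆ = 1) {b : G}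
    (hb : b ∈ B) : ⁅p, b⁆ = 1 :=
  m.commute_of_mem h hp ((m.hyp h).centralizer_le hb₀ h0 (by
    rw [commutatorElement_eq_one_iff_mul_comm.mp he, mul_inv_cancel_right])) hb

end Mate

/-- Two mates that do not commute. -/
structure Partner (V B A : Subgroup G) : Prop where
  left : Mate V B
  right : Mate V A
  nc : ∀ a ∈ A, a ≠ 1 → ∀ b ∈ B, b ≠ 1 → ⁅a, b⁆ ≠ 1

theorem Mate.exists_partner (m : Mate V B) (h : Hyp V) : ∃ A, Partner V B A := by
  by_contra hno
  push Not at hno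
  have hall : ∀ x ∈ Subgroup.normalizer (V : Set G), Mate V (cnj x B) := by
    intro x hx
    obtain ⟨g, hg⟩ := m.conj
    refine ⟨⟨x * g, by rw [hg, cnj_cnj]⟩, fun e => m.ne ?_, ?_⟩
    · rw [← cnj_inv_cnj x B, e, cnj_eq_iff.mpr (inv_mem hx)]
    · rintro _ ⟨b, hb, rfl⟩; exact h.QQ_normal hx (m.le hb)
  have hcomm : ∀ x ∈ Subgroup.normalizer (V : Set G), ∀ a ∈ cnj x B, ∀ b ∈ B, ⁅a, b⁆ = 1 := by
    intro x hx
    have hn := hno (cnj x B)
    by_contra hne
    apply hn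
    refine ⟨m, hall x hx, fun a ha ha1 b hb hb1 e => hne ?_⟩
    intro a' ha' b' hb'
    have hA := hall x hx
    have hb'a : ⁅b', a⁆ = 1 := by
      rw [h.comm_symm (m.le_PP h hb') (hA.le_PP h ha)]
      exact m.commute_of_one h (hA.le_PP h ha) hb hb1 e hb'
    rw [h.comm_symm (hA.le_PP h ha') (m.le_PP h hb')]
    exact hA.commute_of_one h (m.le_PP h hb') ha ha1 hb'a ha'
  set U := Subgroup.closure {y : G | y ∈ V ∨ ∃ x ∈ Subgroup.normalizer (V : Set G), y ∈ cnj x B} with hU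
  have hUV : U = V := by
    refine h.hmax U (fun v hv => Subgroup.subset_closure (Or.inl hv)) ((Subgroup.closure_le _).mpr ?_) ?_ ?_
    · rintro y (hy | ⟨x, hx, hy⟩)
      · exact Subgroup.le_normalizer hy
      · exact h.QQ_le ((hall x hx).le hy)
    · refine Subgroup.isMulCommutative_closure ?_
      rintro a (ha | ⟨x, hx, ha⟩) b (hb | ⟨y, hy, hb⟩)
      · exact h.comm ha hb
      · exact (hall y hy).comm h ha hb
      · exact ((hall x hx).comm h hb ha).symm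
      · obtain ⟨b₀, hb₀, rfl⟩ := hb
        have h1 := hcomm (y⁻¹ * x) (mul_mem (inv_mem hy) hx) (y⁻¹ * a * y) (by
          rw [← cnj_cnj, mem_cnj, inv_inv]; simpa [mul_assoc] using ha) b₀ hb₀
        show a * (y * b₀ * y⁻¹) = y * b₀ * y⁻¹ * a
        rw [← commutatorElement_eq_one_iff_mul_comm,
          show ⁅a, y * b₀ * y⁻¹⁆ = y * ⁅y⁻¹ * a * y, b₀⁆ * y⁻¹ by simp only [commutatorElement_def]; group, h1]
        group
    · intro n hn a ha
      have hle : U ≤ U.comap (MulAut.conj n).toMonoidHom := (Subgroup.closure_le _).mpr (by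
        rintro y (hy | ⟨x, hx, hy⟩)
        · exact Subgroup.subset_closure (Or.inl ((Subgroup.mem_normalizer_iff.mp hn y).mp hy))
        · refine Subgroup.subset_closure (Or.inr ⟨n * x, mul_mem hn hx, ?_⟩)
          rw [← cnj_cnj]; exact conj_mem_cnj hy)
      exact hle ha
  have hBV : B ≤ V := hUV ▸ fun b hb => Subgroup.subset_closure (Or.inr ⟨1, one_mem _, by rwa [cnj_one]⟩)
  exact m.ne (Subgroup.eq_of_le_of_card_ge hBV (m.card_eq h).ge)

namespace Partner

variable {A : Subgroup G} (p : Partner V B A) (h : Hyp V)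
include p h

theorem symm : Partner V A B := ⟨p.right, p.left, fun b hb hb1 a ha ha1 => by
  rw [h.comm_symm (p.left.le_PP h hb) (p.right.le_PP h ha)]; exact p.nc a ha ha1 b hb hb1⟩

theorem surj {b v : G} (hb : b ∈ B) (hb1 : b ≠ 1) (hv : v ∈ V) : ∃ a ∈ A, ⁅a, b⁆ = v := by
  let f : A → V := fun a => ⟨⁅(a : G), b⁆, h.comm_mem (p.right.le_PP h a.2) (p.left.le_PP h hb)⟩
  have hinj : Function.Injective f := by
    intro a c e
    by_contra hac
    refine p.nc ((a : G) * c) (mul_mem a.2 c.2) (fun e' => hac (Subtype.ext ?_)) b hb hb1 ?_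
    · rw [mul_eq_one_iff_eq_inv.mp e', (p.right.hyp h).inv_eq c.2]
    · rw [h.mul_comm_left (p.right.le_PP h a.2) (p.right.le_PP h c.2) (p.left.le_PP h hb)]
      rw [show ⁅(a : G), b⁆ = ⁅(c : G), b⁆ from congrArg Subtype.val e]
      exact h.sq (h.comm_mem (p.right.le_PP h c.2) (p.left.le_PP h hb))
  obtain ⟨⟨a, ha⟩, e⟩ := ((Nat.bijective_iff_injective_and_card f).mpr ⟨hinj, p.right.card_eq h⟩).2 ⟨v, hv⟩
  exact ⟨a, ha, congrArg Subtype.val e⟩

theorem decomp {x : G} (hx : x ∈ PP V) : ∃ a ∈ A, ∀ b ∈ B, ⁅a * x, b⁆ = 1 := by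
  rcases Subgroup.bot_or_exists_ne_one B with hB | ⟨b₀, hb₀, h0⟩
  · exact ⟨1, one_mem _, fun b hb => by rw [hB, Subgroup.mem_bot] at hb; rw [hb, commutatorElement_one_right]⟩
  obtain ⟨a, ha, e⟩ := p.surj h hb₀ h0 (h.comm_mem hx (p.left.le_PP h hb₀))
  refine ⟨a, ha, fun b hb => p.left.commute_of_one h (mul_mem (p.right.le_PP h ha) hx) hb₀ h0 ?_ hb⟩
  rw [h.mul_comm_left (p.right.le_PP h ha) hx (p.left.le_PP h hb₀), e]
  exact h.sq (h.comm_mem hx (p.left.le_PP h hb₀))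

end Partner

namespace Mate

variable (m : Mate V B) (h : Hyp V)
include m h

/-- The product `V B`. -/
def sup' : Subgroup G where
  carrier := {w | ∃ v ∈ V, ∃ b ∈ B, w = v * b}
  one_mem' := ⟨1, one_mem _, 1, one_mem _, (mul_one _).symm⟩
  mul_mem' := by
    rintro _ _ ⟨v, hv, b, hb, rfl⟩ ⟨v', hv', b', hb', rfl⟩
    refine ⟨v * v', mul_mem hv hv', b * b', mul_mem hb hb', ?_⟩
    calc v * b * (v' * b') = v * (b * v') * b' := by group
      _ = v * (v' * b) * b' := by rw [m.comm h hv' hb]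
      _ = v * v' * (b * b') := by group
  inv_mem' := by
    rintro _ ⟨v, hv, b, hb, rfl⟩
    exact ⟨v⁻¹, inv_mem hv, b⁻¹, inv_mem hb, by rw [mul_inv_rev, ← m.comm h (inv_mem hv) (inv_mem hb)]⟩

theorem sup_eq : V ⊔ B = m.sup' h := le_antisymm
  (sup_le (fun v hv => ⟨v, hv, 1, one_mem _, (mul_one v).symm⟩) (fun b hb => ⟨1, one_mem _, b, hb, (one_mul b).symm⟩))
  (by rintro _ ⟨v, hv, b, hb, rfl⟩; exact Subgroup.mul_mem_sup hv hb)

theorem mem_sup {w : G} : w ∈ V ⊔ B ↔ ∃ v ∈ V, ∃ b ∈ B, w = v * b := by rw [m.sup_eq h]; rfl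

theorem unique {v v' b b' : G} (hv : v ∈ V) (hv' : v' ∈ V) (hb : b ∈ B) (hb' : b' ∈ B)
    (e : v * b = v' * b') : v = v' ∧ b = b' := by
  have h1 : v'⁻¹ * v = b' * b⁻¹ := by
    rw [eq_mul_inv_iff_mul_eq, mul_assoc, e, inv_mul_cancel_left]
  have h2 : v'⁻¹ * v = 1 := m.disjoint h (h1 ▸ mul_mem hb' (inv_mem hb)) (mul_mem (inv_mem hv') hv)
  refine ⟨(inv_mul_eq_one.mp h2).symm, ?_⟩
  rw [h2] at h1
  exact (mul_inv_eq_one.mp h1.symm).symm

theorem conj_sup {p : G} (hp : p ∈ PP V) {w : G} (hw : w ∈ V ⊔ B) : p * w * p⁻¹ ∈ V ⊔ B := by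
  obtain ⟨v, hv, b, hb, rfl⟩ := (m.mem_sup h).mp hw
  rw [show p * (v * b) * p⁻¹ = (p * v * p⁻¹) * (⁅p, b⁆ * b) by rw [commutatorElement_def]; group]
  refine Subgroup.mul_mem _ (Subgroup.mem_sup_left ?_)
    (Subgroup.mul_mem_sup (h.comm_mem hp (m.le_PP h hb)) hb)
  rw [← h.cent hp hv, mul_inv_cancel_right]
  exact hv

theorem cnj_sup {p : G} (hp : p ∈ PP V) : cnj p (V ⊔ B) = V ⊔ B := by
  refine Subgroup.eq_of_le_of_card_ge ?_ (card_cnj p _).ge
  rintro _ ⟨w, hw, rfl⟩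
  exact m.conj_sup h hp hw

theorem cnj_B_le {p : G} (hp : p ∈ PP V) : cnj p B ≤ V ⊔ B := by
  rintro _ ⟨b, hb, rfl⟩
  exact m.conj_sup h hp (Subgroup.mem_sup_right hb)

theorem exists_cover {v b : G} (hv : v ∈ V) (hb : b ∈ B) (hb1 : b ≠ 1) :
    ∃ p ∈ PP V, p * b * p⁻¹ = v * b := by
  obtain ⟨A, hA⟩ := m.exists_partner h
  obtain ⟨a, ha, e⟩ := hA.surj h hb hb1 hv
  refine ⟨a, hA.right.le_PP h ha, ?_⟩
  rw [← e, commutatorElement_def]
  group

theorem conj_in_sup {x : G} (hle : cnj x V ≤ V ⊔ B) (hne : cnj x V ≠ V) : ∃ p ∈ PP V, cnj x V = cnj p B := by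
  obtain ⟨g, hg⟩ := m.conj
  rcases Subgroup.bot_or_exists_ne_one V with hV | ⟨v₀, hv₀, h0⟩
  · exact absurd ((congrArg (cnj x) hV).trans ((Subgroup.map_bot _).trans hV.symm)) hne
  set w := x * v₀ * x⁻¹ with hwdef
  have hw : w ∈ cnj x V := conj_mem_cnj hv₀
  have hw1 : w ≠ 1 := fun e => h0 (by rwa [conj_eq_one_iff] at e)
  obtain ⟨v, hv, b, hb, hwe⟩ := (m.mem_sup h).mp (hle hw)
  have hb1 : b ≠ 1 := fun e => hne (h.eq_of_mem (a := w) (by rw [hwe, e, mul_one]; exact hv) hw hw1)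
  obtain ⟨p, hp, hpe⟩ := m.exists_cover h hv hb hb1
  refine ⟨p, hp, ?_⟩
  have hwp : w ∈ cnj (p * g) V := by
    rw [← cnj_cnj, ← hg, hwe, ← hpe]; exact conj_mem_cnj hb
  rw [hg, cnj_cnj]
  have h1 := (h.conj x).eq_of_mem (x := p * g * x⁻¹) hw
  rw [cnj_cnj, show p * g * x⁻¹ * x = p * g by group] at h1
  exact (h1 hwp hw1).symm

/-- An element moving `V` within `V B` gives one interchanging `V` and `B`. -/
theorem swap_of_move (hmv : ∃ a : G, cnj a (V ⊔ B) = V ⊔ B ∧ cnj a V ≠ V) :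
    ∃ s : G, cnj s V = B ∧ cnj s B = V := by
  obtain ⟨a, haW, haV⟩ := hmv
  obtain ⟨p, hp, hpe⟩ := m.conj_in_sup h (haW ▸ Subgroup.map_mono le_sup_left) haV
  set k := p⁻¹ * a with hk
  have hkV : cnj k V = B := by rw [hk, ← cnj_cnj, hpe, cnj_inv_cnj]
  have hkW : cnj k (V ⊔ B) = V ⊔ B := by rw [hk, ← cnj_cnj, haW, m.cnj_sup h (inv_mem hp)]
  have hC : cnj k⁻¹ V ≤ V ⊔ B := by
    refine (Subgroup.map_mono (le_sup_left : V ≤ V ⊔ B)).trans (le_of_eq ?_)
    exact (congrArg (cnj k⁻¹) hkW.symm).trans (cnj_inv_cnj k _)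
  have hCne : cnj k⁻¹ V ≠ V := fun e => m.ne (by
    rw [← hkV]; conv_lhs => rw [← e]
    rw [cnj_cnj, mul_inv_cancel, cnj_one])
  obtain ⟨q, hq, hqe⟩ := m.conj_in_sup h hC hCne
  refine ⟨k * q, ?_, ?_⟩
  · rw [← cnj_cnj, cnj_eq_iff.mpr (h.PP_le hq), hkV]
  · rw [← cnj_cnj, ← hqe, cnj_cnj, mul_inv_cancel, cnj_one]

theorem le_QQ_of_swap {s : G} (hs : cnj s V = B ∧ cnj s B = V) : V ≤ QQ B := by
  rw [← hs.1, QQ_cnj]
  conv_lhs => rw [← hs.2]
  exact Subgroup.map_mono m.le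

theorem le_QQ_of_central (hc : ∀ y ∈ PP B, ∀ v ∈ V, ⁅y, v⁆ ∈ B) : V ≤ QQ B := by
  have hB := m.hyp h
  haveI : Fact (Nat.Prime 2) := ⟨Nat.prime_two⟩
  set M := Subgroup.normalizer (B : Set G) with hM
  let N : Subgroup G :=
    { carrier := {x | x ∈ M ∧ x ∈ Subgroup.centralizer (B : Set G) ∧ ∀ y ∈ PP B, ⁅x, y⁆ ∈ B}
      one_mem' := ⟨one_mem _, one_mem _, fun y _ => by rw [commutatorElement_one_left]; exact one_mem _⟩
      mul_mem' := fun {a c} ha hc => ⟨mul_mem ha.1 hc.1, mul_mem ha.2.1 hc.2.1, fun y hy => by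
        rw [show ⁅a * c, y⁆ = a * ⁅c, y⁆ * a⁻¹ * ⁅a, y⁆ by simp only [commutatorElement_def]; group,
          ← Subgroup.mem_centralizer_iff.mp ha.2.1 _ (hc.2.2 y hy), mul_inv_cancel_right]
        exact mul_mem (hc.2.2 y hy) (ha.2.2 y hy)⟩
      inv_mem' := fun {a} ha => ⟨inv_mem ha.1, inv_mem ha.2.1, fun y hy => by
        rw [show ⁅a⁻¹, y⁆ = a⁻¹ * ⁅a, y⁆⁻¹ * a by simp only [commutatorElement_def]; group, mul_assoc,
          Subgroup.mem_centralizer_iff.mp ha.2.1 _ (inv_mem (ha.2.2 y hy)), inv_mul_cancel_left]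
        exact inv_mem (ha.2.2 y hy)⟩ }
  have hNn : M ≤ Subgroup.normalizer (N : Set G) := by
    refine SylowIn.le_normalizer_of_map_conj fun g hg => ?_
    refine Subgroup.eq_of_le_of_card_ge ?_ (Subgroup.card_map_of_injective (MulAut.conj g).injective).ge
    rintro _ ⟨a, ha, rfl⟩
    refine ⟨mul_mem (mul_mem hg ha.1) (inv_mem hg), Subgroup.mem_centralizer_iff.mpr fun b hb => ?_, fun y hy => ?_⟩
    · show b * (g * a * g⁻¹) = g * a * g⁻¹ * b
      have h1 : g⁻¹ * b * g ∈ B := by simpa using (Subgroup.mem_normalizer_iff.mp (inv_mem hg) b).mp hb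
      calc b * (g * a * g⁻¹) = g * ((g⁻¹ * b * g) * a) * g⁻¹ := by group
        _ = g * (a * (g⁻¹ * b * g)) * g⁻¹ := by rw [Subgroup.mem_centralizer_iff.mp ha.2.1 _ h1]
        _ = _ := by group
    · show ⁅g * a * g⁻¹, y⁆ ∈ B
      have h1 : g⁻¹ * y * g ∈ PP B := by simpa using hB.PP_normal (inv_mem hg) hy
      rw [show ⁅g * a * g⁻¹, y⁆ = g * ⁅a, g⁻¹ * y * g⁆ * g⁻¹ by simp only [commutatorElement_def]; group]
      exact (Subgroup.mem_normalizer_iff.mp hg _).mp (ha.2.2 _ h1)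
  have hVN : V ≤ N := fun v hv => ⟨m.V_le h hv, m.V_le_centralizer h hv, fun y hy => by
    rw [← commutatorElement_inv y v]; exact inv_mem (hc y hy v hv)⟩
  have hodd : ∀ x ∈ N, (orderOf x).Coprime 2 → x = 1 := fun x hx => hB.eq_one_of_stable hx.1 hx.2.1 hx.2.2
  have hNp : IsPGroup 2 N := by
    rintro ⟨x, hx⟩
    obtain ⟨x₁, y₁, hxy, ⟨i, hi⟩, hy, -, ⟨j, hj⟩⟩ : ∃ x₁ y₁ : G, x = x₁ * y₁ ∧ (∃ i, orderOf x₁ = 2 ^ i) ∧
        (orderOf y₁).Coprime 2 ∧ x₁ ∈ Subgroup.zpowers x ∧ y₁ ∈ Subgroup.zpowers x :=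
      CfsgLib.Fusion.ZJConstrained.isPStableOn_quotient.exists_parts x
    have hy1 : y₁ = 1 := hodd y₁ (hj ▸ zpow_mem hx j) hy
    exact ⟨i, Subtype.ext (by
      show x ^ 2 ^ i = 1
      rw [hxy, hy1, mul_one, ← hi, pow_orderOf_eq_one])⟩
  exact hVN.trans (SylowIn.le_pCoreOf (fun x hx => hx.1) hNn hNp)

end Mate

end CfsgLib.KGroups.TILarge
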