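import Cfsg.Agent.Lib.KGroups.TILarge
import Cfsg.Agent.Lib.LocalEven.Residual

/-!
`V` lies in `O_2` of the normalizer of each of its mates; the interchange of `V` and `B`; additivity of the
inverse maps of the commutator pairing; transitivity on `V`.
-/

set_option autoImplicit false
set_option linter.style.haveILetI false
set_option linter.unusedSectionVars false

namespace CfsgLib.KGroups.TILarge

open CfsgLib.LocalEven
open CfsgLib.Solvable.Basic (isMulCommutative_subgroup_iff)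
open scoped commutatorElement

universe u

variable {G : Type u} [Group G] [Finite G] {V B : Subgroup G}

theorem Mate.conj_mate (m : Mate V B) (x : G) : Mate (cnj x V) (cnj x B) := by
  obtain ⟨g, hg⟩ := m.conj
  refine ⟨⟨x * g * x⁻¹, ?_⟩, fun e => m.ne (cnj_injective x e), ?_⟩
  · rw [hg, cnj_cnj, cnj_cnj, inv_mul_cancel_right]
  · rw [QQ_cnj]; exact Subgroup.map_mono m.le

/-- A subgroup inside the union of two subgroups lies in one of them. -/
theorem le_or_le {K S T : Subgroup G} (h : ∀ x ∈ K, x ∈ S ∨ x ∈ T) : K ≤ S ∨ K ≤ T := by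
  by_contra hne
  rw [not_or, SetLike.not_le_iff_exists, SetLike.not_le_iff_exists] at hne
  obtain ⟨⟨a, ha, haS⟩, ⟨b, hb, hbT⟩⟩ := hne
  have haT := (h a ha).resolve_left haS
  have hbS := (h b hb).resolve_right hbT
  rcases h (a * b) (mul_mem ha hb) with h1 | h1
  · exact haS ((mul_mem_cancel_right hbS).mp h1)
  · exact hbT ((mul_mem_cancel_left haT).mp h1)

/-- The commutator identity behind the three subgroups argument, in a quotient. -/
theorem comm_comm_eq_one {X : Type*} [Group X] {d₁ d₂ a e₁ e₂ : X} (h₁ : d₁ * a * d₁⁻¹ = e₁ * a)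
    (h₂ : d₂ * a * d₂⁻¹ = e₂ * a) (c₁ : Commute d₁ e₂) (c₂ : Commute d₂ e₁) (c₃ : Commute e₁ e₂)
    (c₄ : Commute d₁ e₁) (c₅ : Commute d₂ e₂) (ca₁ : Commute a e₁) (ca₂ : Commute a e₂) :
    ⁅⁅d₁, d₂⁆, a⁆ = 1 := by
  rw [commutatorElement_eq_one_iff_mul_comm]
  set k := e₂ * e₁ with hk
  have hu : d₁ * d₂ * a = k * a * (d₁ * d₂) := by
    calc d₁ * d₂ * a = d₁ * (d₂ * a * d₂⁻¹) * d₂ := by group
      _ = (d₁ * e₂) * a * d₂ := by rw [h₂]; group
      _ = e₂ * (d₁ * a * d₁⁻¹) * d₁ * d₂ := by rw [c₁.eq]; group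
      _ = _ := by rw [h₁, hk]; group
  have hw : d₂ * d₁ * a = k * a * (d₂ * d₁) := by
    calc d₂ * d₁ * a = d₂ * (d₁ * a * d₁⁻¹) * d₁ := by group
      _ = (d₂ * e₁) * a * d₁ := by rw [h₁]; group
      _ = e₁ * (d₂ * a * d₂⁻¹) * d₂ * d₁ := by rw [c₂.eq]; group
      _ = (e₁ * e₂) * a * d₂ * d₁ := by rw [h₂]; group
      _ = _ := by rw [c₃.eq, hk]; group
  have hka : Commute a k := ca₂.mul_right ca₁
  have hkw : Commute (d₂ * d₁) k :=
    (c₅.mul_right c₂).mul_left (c₁.mul_right c₄)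
  have hw' : (d₂ * d₁)⁻¹ * a = k⁻¹ * a * (d₂ * d₁)⁻¹ := by
    calc (d₂ * d₁)⁻¹ * a = (d₂ * d₁)⁻¹ * k⁻¹ * (k * a * (d₂ * d₁)) * (d₂ * d₁)⁻¹ := by group
      _ = k⁻¹ * ((d₂ * d₁)⁻¹ * (d₂ * d₁ * a)) * (d₂ * d₁)⁻¹ := by
        rw [(hkw.inv_left.inv_right).eq, ← hw]; group
      _ = k⁻¹ * a * (d₂ * d₁)⁻¹ := by group
  calc ⁅d₁, d₂⁆ * a = (d₁ * d₂) * ((d₂ * d₁)⁻¹ * a) := by rw [commutatorElement_def]; group
    _ = (d₁ * d₂) * (a * k⁻¹) * (d₂ * d₁)⁻¹ := by rw [hw', hka.inv_right.eq]; group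
    _ = (d₁ * d₂ * a) * k⁻¹ * (d₂ * d₁)⁻¹ := by group
    _ = k * a * ((d₁ * d₂) * k⁻¹) * (d₂ * d₁)⁻¹ := by rw [hu]; group
    _ = k * a * (k⁻¹ * (d₁ * d₂)) * (d₂ * d₁)⁻¹ := by
      rw [(((c₁.mul_right c₄).mul_left (c₅.mul_right c₂)).inv_right).eq]
    _ = (k * a) * k⁻¹ * ⁅d₁, d₂⁆ := by rw [commutatorElement_def]; group
    _ = a * ⁅d₁, d₂⁆ := by rw [← hka.eq, mul_inv_cancel_right]

/-- An element of odd order respects a set of two things that it permutes. -/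
theorem fix_of_odd {x : G} {S T : Subgroup G} (hxo : (orderOf x).Coprime 2) (hT : cnj x T = S ∨ cnj x T = T)
    (hS : cnj x S = S ∨ cnj x S = T) : cnj x S = S := by
  rcases hS with e | e
  · exact e
  rcases hT with f | f
  · have hsq : cnj (x * x) S = S := by rw [← cnj_cnj, e, f]
    have hN := cnj_eq_iff.mp hsq
    have hx : x ∈ Subgroup.zpowers (x * x) := by
      rw [Subgroup.mem_zpowers_iff]
      obtain ⟨r, hr⟩ := Nat.coprime_two_right.mp hxo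
      refine ⟨(r + 1 : ℕ), ?_⟩
      rw [zpow_natCast, ← pow_two, ← pow_mul, show 2 * (r + 1) = orderOf x + 1 by omega, pow_succ, pow_orderOf_eq_one,
        one_mul]
    exact cnj_eq_iff.mpr (Subgroup.zpowers_le.mpr hN hx)
  · exact cnj_eq_iff.mpr (by
      have : S = T := cnj_injective x (e.trans f.symm)
      rw [this]; exact cnj_eq_iff.mp f)

namespace Mate

variable (m : Mate V B) (h : Hyp V)
include m h

theorem mem_normalizer_of_comm_mem (hno : ¬ ∃ a : G, cnj a (V ⊔ B) = V ⊔ B ∧ cnj a V ≠ V) {y v : G}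
    (hy : y ∈ PP B) (hv : v ∈ V) (hv1 : v ≠ 1) (hc : ⁅y, v⁆ ∈ V ⊔ B) :
    y ∈ Subgroup.normalizer (V : Set G) := by
  have hB := m.hyp h
  obtain ⟨g, hg⟩ := m.conj
  set w := y * v * y⁻¹ with hwdef
  have hwy : w ∈ cnj y V := conj_mem_cnj hv
  have hw1 : w ≠ 1 := fun e => hv1 (conj_eq_one_iff.mp e)
  have hwW : w ∈ V ⊔ B := by
    rw [show w = ⁅y, v⁆ * v by rw [hwdef, commutatorElement_def]; group]
    exact mul_mem hc (Subgroup.mem_sup_left hv)
  obtain ⟨v', hv', b, hb, hwe⟩ := (m.mem_sup h).mp hwW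
  by_contra hyN
  have hne : cnj y V ≠ V := fun e => hyN (cnj_eq_iff.mp e)
  have hb1 : b ≠ 1 := fun e => hne (h.eq_of_mem (a := w) (by rw [hwe, e, mul_one]; exact hv') hwy hw1)
  obtain ⟨p, hp, hpe⟩ := m.exists_cover h hv' hb hb1
  have hwp : w ∈ cnj (p * g) V := by
    rw [← cnj_cnj, ← hg, hwe, ← hpe]; exact conj_mem_cnj hb
  have h1 := (h.conj y).eq_of_mem (x := p * g * y⁻¹) hwy
  rw [cnj_cnj, show p * g * y⁻¹ * y = p * g by group] at h1
  have hVy : cnj y V ≤ V ⊔ B := by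
    rw [← h1 hwp hw1, ← cnj_cnj, ← hg]
    exact m.cnj_B_le h hp
  have hBy : cnj y B = B := cnj_eq_iff.mpr (hB.PP_le hy)
  refine hno ⟨y, Subgroup.eq_of_le_of_card_ge ?_ (card_cnj y _).ge, hne⟩
  show Subgroup.map _ (V ⊔ B) ≤ _
  rw [Subgroup.map_sup]
  exact sup_le hVy (le_of_eq_of_le hBy le_sup_right)

theorem PP_B_inf (hno : ¬ ∃ a : G, cnj a (V ⊔ B) = V ⊔ B ∧ cnj a V ≠ V) {z : G} (hz : z ∈ PP B) (hzV : z ∈ V) :
    z = 1 := by
  have hB := m.hyp h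
  by_contra hz1
  refine hz1 (m.disjoint h ?_ hzV)
  refine hB.center_mem hz fun y hy => ?_
  have hcB : ⁅y, z⁆ ∈ B := hB.comm_mem hy hz
  have hyN := m.mem_normalizer_of_comm_mem h hno hy hzV hz1 (Subgroup.mem_sup_right hcB)
  refine (commutatorElement_eq_one_iff_mul_comm.mp (m.disjoint h hcB ?_)).symm
  rw [commutatorElement_def]
  exact mul_mem ((Subgroup.mem_normalizer_iff.mp hyN z).mp hzV) (inv_mem hzV)

theorem centralizer_D {A : Subgroup G} (hA : Partner V B A) {x : G} (hx : x ∈ PP V)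
    (hxB : x ∈ Subgroup.centralizer (B : Set G))
    (hc : ∀ d ∈ PP V, d ∈ Subgroup.centralizer (B : Set G) → x * d = d * x) : x ∈ V ⊔ B := by
  obtain ⟨b, hb, hba⟩ := (hA.symm h).decomp h hx
  have hbP := m.le_PP h hb
  have hbx : b * x ∈ PP V := mul_mem hbP hx
  have hD : ∀ d ∈ PP V, d ∈ Subgroup.centralizer (B : Set G) → Commute (b * x) d := fun d hd hdB =>
    (show Commute b d from Subgroup.mem_centralizer_iff.mp hdB b hb).mul_left (hc d hd hdB)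
  have hfV : b * x ∈ V := by
    refine h.center_mem hbx fun y hy => ?_
    obtain ⟨a, ha, hay⟩ := hA.decomp h hy
    have h1 : Commute (b * x) (a * y) := hD _ (mul_mem (hA.right.le_PP h ha) hy)
      (Subgroup.mem_centralizer_iff.mpr fun b' hb' =>
        (commutatorElement_eq_one_iff_mul_comm.mp (hay b' hb')).symm)
    have h2 : Commute (b * x) a := commutatorElement_eq_one_iff_mul_comm.mp (hba a ha)
    have := (h2.inv_right.mul_right h1).eq
    simpa [mul_assoc] using this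
  rw [show x = b⁻¹ * (b * x) by group]
  exact mul_mem (Subgroup.mem_sup_right (inv_mem hb)) (Subgroup.mem_sup_left hfV)

theorem PP_inf_le (hno : ¬ ∃ a : G, cnj a (V ⊔ B) = V ⊔ B ∧ cnj a V ≠ V) {x : G} (hx : x ∈ PP V)
    (hx' : x ∈ PP B) : x ∈ B := by
  have hB := m.hyp h
  obtain ⟨A, hA⟩ := m.exists_partner h
  have hxW : x ∈ V ⊔ B := by
    refine m.centralizer_D h hA hx hx'.2 fun d hd hdB => ?_
    rw [← commutatorElement_eq_one_iff_mul_comm]
    refine m.PP_B_inf h hno ?_ (h.comm_mem hx hd)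
    rw [show ⁅x, d⁆ = x * (d * x⁻¹ * d⁻¹) by rw [commutatorElement_def]; group]
    exact mul_mem hx' (hB.PP_normal (Subgroup.centralizer_le_normalizer (B : Set G) hdB) (inv_mem hx'))
  obtain ⟨v, hv, b, hb, rfl⟩ := (m.mem_sup h).mp hxW
  have hv1 : v = 1 := m.PP_B_inf h hno ((mul_mem_cancel_right (hB.le_PP hb)).mp hx') hv
  rw [hv1, one_mul]
  exact hb

theorem comm_DD_mem (hno : ¬ ∃ a : G, cnj a (V ⊔ B) = V ⊔ B ∧ cnj a V ≠ V) {e d : G} (he : e ∈ PP B)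
    (heN : e ∈ Subgroup.normalizer (V : Set G)) (hd : d ∈ PP V)
    (hdB : d ∈ Subgroup.centralizer (B : Set G)) : ⁅e, d⁆ ∈ B := by
  have hB := m.hyp h
  have hdN : d ∈ Subgroup.normalizer (B : Set G) := Subgroup.centralizer_le_normalizer (B : Set G) hdB
  refine m.PP_inf_le h hno ?_ ?_
  · rw [commutatorElement_def]
    exact mul_mem (h.PP_normal heN hd) (inv_mem hd)
  · rw [show ⁅e, d⁆ = e * (d * e⁻¹ * d⁻¹) by rw [commutatorElement_def]; group]
    exact mul_mem he (hB.PP_normal hdN (inv_mem he))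

theorem false_of_nonabelian (hno : ¬ ∃ a : G, cnj a (V ⊔ B) = V ⊔ B ∧ cnj a V ≠ V)
    (hnN : ¬ PP B ≤ Subgroup.normalizer (V : Set G))
    {d₁ d₂ : G} (hd₁ : d₁ ∈ PP V) (hd₁B : d₁ ∈ Subgroup.centralizer (B : Set G)) (hd₂ : d₂ ∈ PP V)
    (hd₂B : d₂ ∈ Subgroup.centralizer (B : Set G)) (hd : ⁅d₁, d₂⁆ ≠ 1) : False := by
  haveI : Fact (Nat.Prime 2) := ⟨Nat.prime_two⟩
  have hB := m.hyp h
  set D : Subgroup G := PP V ⊓ Subgroup.centralizer (B : Set G) with hDdef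
  have hDN : D ≤ Subgroup.normalizer (B : Set G) := inf_le_right.trans (Subgroup.centralizer_le_normalizer _)
  have hDP : D ≤ Subgroup.normalizer (PP B : Set G) := fun d hd => by
    rw [Subgroup.mem_normalizer_iff]
    exact fun a => ⟨fun ha => hB.PP_normal (hDN hd) ha, fun ha => by
      simpa [mul_assoc] using hB.PP_normal (inv_mem (hDN hd)) ha⟩
  set X : Subgroup G := D ⊔ PP B with hXdef
  have hX : IsPGroup 2 ↥X := IsPGroup.to_sup_of_normal_right' (h.QQ_p.to_le (inf_le_left.trans inf_le_left))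
    (hB.QQ_p.to_le inf_le_left) hDP
  set D' : Subgroup G := PP B ⊓ Subgroup.normalizer (V : Set G) with hD'def
  have hBD' : B ≤ D' := le_inf hB.le_PP fun b hb => h.QQ_le (m.le hb)
  have hn : X ≤ Subgroup.normalizer (D' : Set G) := by
    refine sup_le (fun d hd => ?_) fun y hy => ?_
    · have h1 : ∀ e ∈ D', d * e * d⁻¹ ∈ D' := fun e he => ⟨hB.PP_normal (hDN hd) he.1,
        (Subgroup.normalizer (V : Set G)).mul_mem ((Subgroup.normalizer (V : Set G)).mul_mem (h.PP_le hd.1) he.2)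
          (Subgroup.inv_mem _ (h.PP_le hd.1))⟩
      have h1' : ∀ e ∈ D', d⁻¹ * e * d⁻¹⁻¹ ∈ D' := fun e he => ⟨hB.PP_normal (inv_mem (hDN hd)) he.1,
        (Subgroup.normalizer (V : Set G)).mul_mem ((Subgroup.normalizer (V : Set G)).mul_mem
          (Subgroup.inv_mem _ (h.PP_le hd.1)) he.2) (Subgroup.inv_mem _ (Subgroup.inv_mem _ (h.PP_le hd.1)))⟩
      rw [Subgroup.mem_normalizer_iff]
      exact fun e => ⟨h1 e, fun he => by simpa [mul_assoc] using h1' _ he⟩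
    · have h1 : ∀ y ∈ PP B, ∀ e ∈ D', y * e * y⁻¹ ∈ D' := fun y hy e he => by
        rw [show y * e * y⁻¹ = ⁅y, e⁆ * e by rw [commutatorElement_def]; group]
        exact mul_mem (hBD' (hB.comm_mem hy he.1)) he
      rw [Subgroup.mem_normalizer_iff]
      exact fun e => ⟨h1 y hy e, fun he => by simpa [mul_assoc] using h1 _ (inv_mem hy) _ he⟩
  haveI : (D'.subgroupOf X).Normal := ⟨fun e he g => (Subgroup.mem_normalizer_iff.mp (hn g.2) _).mp he⟩
  have hXP : X ≤ Subgroup.normalizer (PP B : Set G) := sup_le hDP Subgroup.le_normalizer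
  haveI : ((PP B).subgroupOf X).Normal := ⟨fun e he g => (Subgroup.mem_normalizer_iff.mp (hXP g.2) _).mp he⟩
  have hne : ¬ (PP B).subgroupOf X ≤ D'.subgroupOf X := fun hle => hnN fun y hy =>
    (hle (x := ⟨y, Subgroup.mem_sup_right hy⟩) hy).2
  obtain ⟨⟨a, haX⟩, haP, haD, -, hac⟩ :=
    CfsgLib.Fusion.NormalRankTwo.exists_central_of_lt (p := 2) hX hne
  replace haP : a ∈ PP B := haP
  have he₁ : ⁅d₁, a⁆ ∈ D' := hac ⟨d₁, Subgroup.mem_sup_left ⟨hd₁, hd₁B⟩⟩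
  have he₂ : ⁅d₂, a⁆ ∈ D' := hac ⟨d₂, Subgroup.mem_sup_left ⟨hd₂, hd₂B⟩⟩
  have hNB : X ≤ Subgroup.normalizer (B : Set G) := sup_le hDN hB.PP_le
  haveI : (B.subgroupOf X).Normal := ⟨fun e he g => (Subgroup.mem_normalizer_iff.mp (hNB g.2) _).mp he⟩
  let π := QuotientGroup.mk' (B.subgroupOf X)
  let δ₁ : X := ⟨d₁, Subgroup.mem_sup_left ⟨hd₁, hd₁B⟩⟩
  let δ₂ : X := ⟨d₂, Subgroup.mem_sup_left ⟨hd₂, hd₂B⟩⟩
  let α : X := ⟨a, haX⟩
  have hcm : ∀ x y : X, ⁅(x : G), (y : G)⁆ ∈ B → Commute (π x) (π y) := by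
    intro x y hxy
    have h1 : π ⁅x, y⁆ = 1 := (QuotientGroup.eq_one_iff _).mpr hxy
    rw [map_commutatorElement, commutatorElement_eq_one_iff_mul_comm] at h1
    exact h1
  have key := comm_comm_eq_one (d₁ := π δ₁) (d₂ := π δ₂) (a := π α) (e₁ := π ⁅δ₁, α⁆) (e₂ := π ⁅δ₂, α⁆)
    (by rw [← map_inv, ← map_mul, ← map_mul, ← map_mul]; congr 1; rw [commutatorElement_def]; group)
    (by rw [← map_inv, ← map_mul, ← map_mul, ← map_mul]; congr 1; rw [commutatorElement_def]; group)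
    (hcm _ _ (m.comm_DD_mem h hno he₂.1 he₂.2 hd₁ hd₁B |> fun e => by
      rw [← commutatorElement_inv]; exact inv_mem e))
    (hcm _ _ (m.comm_DD_mem h hno he₁.1 he₁.2 hd₂ hd₂B |> fun e => by
      rw [← commutatorElement_inv]; exact inv_mem e))
    (hcm _ _ (hB.comm_mem he₁.1 he₂.1))
    (hcm _ _ (m.comm_DD_mem h hno he₁.1 he₁.2 hd₁ hd₁B |> fun e => by
      rw [← commutatorElement_inv]; exact inv_mem e))
    (hcm _ _ (m.comm_DD_mem h hno he₂.1 he₂.2 hd₂ hd₂B |> fun e => by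
      rw [← commutatorElement_inv]; exact inv_mem e))
    (hcm _ _ (hB.comm_mem haP he₁.1)) (hcm _ _ (hB.comm_mem haP he₂.1))
  rw [← map_commutatorElement, ← map_commutatorElement, QuotientGroup.mk'_apply, QuotientGroup.eq_one_iff] at key
  have hkey : ⁅⁅d₁, d₂⁆, a⁆ ∈ B := key
  have : ⁅a, ⁅d₁, d₂⁆⁆ ∈ B := by rw [← commutatorElement_inv]; exact inv_mem hkey
  exact haD ⟨haP, m.mem_normalizer_of_comm_mem h hno haP (h.comm_mem hd₁ hd₂) hd (Subgroup.mem_sup_right this)⟩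

end Mate

/-- `B` times a mate. -/
theorem Partner.eq_mul {A : Subgroup G} (p : Partner V B A) (h : Hyp V)
    (hD : ∀ x ∈ PP V, x ∈ Subgroup.centralizer (B : Set G) → x ∈ V ⊔ B) {x : G} (hx : x ∈ PP V) :
    ∃ a ∈ A, ∃ w ∈ V ⊔ B, x = a * w := by
  obtain ⟨a, ha, hax⟩ := p.decomp h hx
  refine ⟨a⁻¹, inv_mem ha, a * x, hD _ (mul_mem (p.right.le_PP h ha) hx)
    (Subgroup.mem_centralizer_iff.mpr fun b hb => (commutatorElement_eq_one_iff_mul_comm.mp (hax b hb)).symm), ?_⟩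
  group

theorem Partner.sq_eq_one {A : Subgroup G} (p : Partner V B A) (h : Hyp V)
    (hD : ∀ x ∈ PP V, x ∈ Subgroup.centralizer (B : Set G) → x ∈ V ⊔ B) {x : G} (hx : x ∈ PP V)
    (hx2 : x * x = 1) : x ∈ V ⊔ A ∨ x ∈ V ⊔ B := by
  obtain ⟨a, ha, w, hw, rfl⟩ := p.eq_mul h hD hx
  obtain ⟨v, hv, b, hb, rfl⟩ := (p.left.mem_sup h).mp hw
  rcases eq_or_ne a 1 with rfl | ha1
  · exact Or.inr (by rw [one_mul]; exact hw)
  rcases eq_or_ne b 1 with rfl | hb1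
  · exact Or.inl (by rw [mul_one]; exact mul_mem (Subgroup.mem_sup_right ha) (Subgroup.mem_sup_left hv))
  exfalso
  refine p.nc a ha ha1 b hb hb1 ?_
  have hvab : Commute v (a * b) := (show Commute v a from p.right.comm h hv ha).mul_right (p.left.comm h hv hb)
  calc ⁅a, b⁆ = a * b * (a * b) := by
        rw [commutatorElement_def, (p.right.hyp h).inv_eq ha, (p.left.hyp h).inv_eq hb]; group
    _ = (v * v) * (a * b * (a * b)) := by rw [h.sq hv, one_mul]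
    _ = (v * (a * b)) * (v * (a * b)) := (hvab.symm.mul_mul_mul_comm v (a * b)).symm
    _ = a * (v * b) * (a * (v * b)) := by
        rw [← mul_assoc a v b, ← mul_assoc v a b, (p.right.comm h hv ha)]
    _ = 1 := hx2

namespace Mate

variable (m : Mate V B) (h : Hyp V)
include m h

theorem false_of_abelian (hno : ¬ ∃ a : G, cnj a (V ⊔ B) = V ⊔ B ∧ cnj a V ≠ V) (hV : ¬ V ≤ QQ B)
    (hnN : ¬ PP B ≤ Subgroup.normalizer (V : Set G))
    (hab : ∀ d₁ ∈ PP V, d₁ ∈ Subgroup.centralizer (B : Set G) → ∀ d₂ ∈ PP V,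
      d₂ ∈ Subgroup.centralizer (B : Set G) → d₁ * d₂ = d₂ * d₁) : False := by
  have hB := m.hyp h
  obtain ⟨A, hA⟩ := m.exists_partner h
  have hD : ∀ x ∈ PP V, x ∈ Subgroup.centralizer (B : Set G) → x ∈ V ⊔ B := fun x hx hxB =>
    m.centralizer_D h hA hx hxB fun d hd hdB => hab x hx hxB d hd hdB
  obtain ⟨g, hg⟩ := m.conj
  -- the same inside `PP B`
  have mB : Mate B (cnj g B) := by have := m.conj_mate g; rwa [← hg] at this
  have mA : Mate B (cnj g A) := by have := hA.right.conj_mate g; rwa [← hg] at this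
  set S₂ := B ⊔ cnj g B with hS₂
  set S₁ := B ⊔ cnj g A with hS₁
  have hgB : cnj g (V ⊔ B) = S₂ := by rw [hS₂]; conv_rhs => arg 1; rw [hg]
                                      exact Subgroup.map_sup _ _ _
  have hgA : cnj g (V ⊔ A) = S₁ := by rw [hS₁]; conv_rhs => arg 1; rw [hg]
                                      exact Subgroup.map_sup _ _ _
  have hS₂P : S₂ ≤ PP B := sup_le hB.le_PP (mB.le_PP hB)
  have hS₁P : S₁ ≤ PP B := sup_le hB.le_PP (mA.le_PP hB)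
  have hcase : ∀ x ∈ PP B, x * x = 1 → x ∈ S₁ ∨ x ∈ S₂ := by
    intro x hx hx2
    rw [← hgA, ← hgB, mem_cnj, mem_cnj]
    refine hA.sq_eq_one h hD ?_ ?_
    · rw [hg, PP_cnj, mem_cnj] at hx; exact hx
    · calc g⁻¹ * x * g * (g⁻¹ * x * g) = g⁻¹ * (x * x) * g := by group
        _ = 1 := by rw [hx2, mul_one, inv_mul_cancel]
  have hsq₂ : ∀ x ∈ S₂, x * x = 1 := by
    intro x hx
    obtain ⟨b, hb, b', hb', rfl⟩ := (mB.mem_sup hB).mp hx
    calc b * b' * (b * b') = b * (b' * b) * b' := by group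
      _ = b * (b * b') * b' := by rw [mB.comm hB hb hb']
      _ = (b * b) * (b' * b') := by group
      _ = 1 := by rw [(mB.hyp hB).sq hb', hB.sq hb, mul_one]
  have hsq₁ : ∀ x ∈ S₁, x * x = 1 := by
    intro x hx
    obtain ⟨b, hb, b', hb', rfl⟩ := (mA.mem_sup hB).mp hx
    calc b * b' * (b * b') = b * (b' * b) * b' := by group
      _ = b * (b * b') * b' := by rw [mA.comm hB hb hb']
      _ = (b * b) * (b' * b') := by group
      _ = 1 := by rw [(mA.hyp hB).sq hb', hB.sq hb, mul_one]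
  have hperm : ∀ x ∈ Subgroup.normalizer (B : Set G), ∀ S : Subgroup G, (S = S₁ ∨ S = S₂) →
      cnj x S ≤ S₁ ∨ cnj x S ≤ S₂ := by
    intro x hx S hS
    refine le_or_le ?_
    rintro _ ⟨s, hs, rfl⟩
    rcases hS with rfl | rfl
    · exact hcase _ (hB.PP_normal hx (hS₁P hs)) (by
        show x * s * x⁻¹ * (x * s * x⁻¹) = 1
        rw [show x * s * x⁻¹ * (x * s * x⁻¹) = x * (s * s) * x⁻¹ by group, hsq₁ s hs]; group)
    · exact hcase _ (hB.PP_normal hx (hS₂P hs)) (by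
        show x * s * x⁻¹ * (x * s * x⁻¹) = 1
        rw [show x * s * x⁻¹ * (x * s * x⁻¹) = x * (s * s) * x⁻¹ by group, hsq₂ s hs]; group)
  have hcard : Nat.card S₁ = Nat.card S₂ := by
    rw [← hgA, ← hgB, card_cnj, card_cnj]
    -- both are products of `V` with a mate
    let e : (C : Subgroup G) → Mate V C → (↥V × ↥C ≃ ↥(V ⊔ C)) := fun C mC => Equiv.ofBijective
      (fun x => ⟨(x.1 : G) * x.2, Subgroup.mul_mem_sup x.1.2 x.2.2⟩)
      ⟨fun x y e => by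
        obtain ⟨e1, e2⟩ := mC.unique h x.1.2 y.1.2 x.2.2 y.2.2 (congrArg Subtype.val e)
        exact Prod.ext (Subtype.ext e1) (Subtype.ext e2),
      fun w => by
        obtain ⟨v, hv, c, hc, e⟩ := (mC.mem_sup h).mp w.2
        exact ⟨(⟨v, hv⟩, ⟨c, hc⟩), Subtype.ext e.symm⟩⟩
    rw [← Nat.card_congr (e A hA.right), ← Nat.card_congr (e B m), Nat.card_prod, Nat.card_prod,
      hA.right.card_eq h, m.card_eq h]
  have hperm' : ∀ x ∈ Subgroup.normalizer (B : Set G),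
      (cnj x S₁ = S₁ ∨ cnj x S₁ = S₂) ∧ (cnj x S₂ = S₂ ∨ cnj x S₂ = S₁) := by
    refine fun x hx => ⟨(hperm x hx S₁ (Or.inl rfl)).imp ?_ ?_, (hperm x hx S₂ (Or.inr rfl)).symm.imp ?_ ?_⟩ <;>
      intro hle <;> refine Subgroup.eq_of_le_of_card_ge hle ?_ <;> rw [card_cnj] <;> omega
  -- an element fixing both halves and centralizing `B` fixes everything modulo `B`
  obtain ⟨b₀, hb₀, hb₀1⟩ : ∃ b ∈ B, b ≠ 1 := by
    rcases Subgroup.bot_or_exists_ne_one B with hb | hb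
    · refine absurd ?_ m.ne
      rw [hb, eq_comm, Subgroup.eq_bot_iff_card, ← m.card_eq h, hb]
      exact Subgroup.card_bot
    · exact hb
  have pB : Partner B (cnj g B) (cnj g A) := by
    refine ⟨mB, mA, ?_⟩
    rintro _ ⟨a, ha, rfl⟩ ha1 _ ⟨b, hb, rfl⟩ hb1 e
    rw [← map_commutatorElement, map_eq_one_iff (MulAut.conj g).toMonoidHom (MulAut.conj g).injective] at e
    exact hA.nc a ha (fun q => ha1 (by rw [q, map_one])) b hb (fun q => hb1 (by rw [q, map_one])) e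
  have hfix : ∀ x ∈ Subgroup.normalizer (B : Set G), x ∈ Subgroup.centralizer (B : Set G) →
      cnj x S₁ = S₁ → cnj x S₂ = S₂ →
      (∃ s ∈ cnj g B, s ≠ 1 ∧ ⁅x, s⁆ ∈ B) → ∀ s ∈ cnj g A, ⁅x, s⁆ ∈ B := by
    intro x hx hxC h1 h2 hs₀ t ht
    obtain ⟨s, hs, hs1, hsB⟩ := hs₀
    have htS : x * t * x⁻¹ ∈ S₁ := h1.le (conj_mem_cnj (Subgroup.mem_sup_right ht))
    obtain ⟨b, hb, t', ht', e⟩ := (mA.mem_sup hB).mp htS
    rcases eq_or_ne (t * t') 1 with e1 | e1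
    · rw [show ⁅x, t⁆ = x * t * x⁻¹ * t⁻¹ by rw [commutatorElement_def], e, mul_assoc,
        mul_eq_one_iff_eq_inv.mp e1, inv_inv, (mA.hyp hB).sq ht', mul_one]
      exact hb
    exfalso
    have hsP := mB.le_PP hB hs
    have htP := mA.le_PP hB ht
    have ht'P := mA.le_PP hB ht'
    have hxs : x * s * x⁻¹ = ⁅x, s⁆ * s := by rw [commutatorElement_def]; group
    refine pB.nc (t * t') (mul_mem ht ht') e1 s hs hs1 ?_
    have h3 : ⁅x * t * x⁻¹, x * s * x⁻¹⁆ = ⁅t, s⁆ := by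
      rw [show ⁅x * t * x⁻¹, x * s * x⁻¹⁆ = x * ⁅t, s⁆ * x⁻¹ by simp only [commutatorElement_def]; group,
        ← Subgroup.mem_centralizer_iff.mp hxC _ (hB.comm_mem htP hsP), mul_inv_cancel_right]
    have hz : ∀ {c y : G}, c ∈ B → y ∈ PP B → ⁅c, y⁆ = 1 := fun hc hy =>
      commutatorElement_eq_one_iff_mul_comm.mpr (hB.cent hy hc)
    rw [e, hxs, hB.mul_comm_left (hB.le_PP hb) ht'P (mul_mem (hB.le_PP hsB) hsP), hz hb (mul_mem (hB.le_PP hsB) hsP),
      one_mul, hB.mul_comm_right ht'P (hB.le_PP hsB) hsP, hB.comm_symm ht'P (hB.le_PP hsB), hz hsB ht'P,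
      one_mul] at h3
    rw [hB.mul_comm_left htP ht'P hsP, h3]
    exact hB.sq (hB.comm_mem htP hsP)
  -- symmetric
  have hfix' : ∀ x ∈ Subgroup.normalizer (B : Set G), x ∈ Subgroup.centralizer (B : Set G) →
      cnj x S₁ = S₁ → cnj x S₂ = S₂ →
      (∃ s ∈ cnj g A, s ≠ 1 ∧ ⁅x, s⁆ ∈ B) → ∀ s ∈ cnj g B, ⁅x, s⁆ ∈ B := by
    intro x hx hxC h1 h2 hs₀ t ht
    obtain ⟨s, hs, hs1, hsB⟩ := hs₀
    have htS : x * t * x⁻¹ ∈ S₂ := h2.le (conj_mem_cnj (Subgroup.mem_sup_right ht))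
    obtain ⟨b, hb, t', ht', e⟩ := (mB.mem_sup hB).mp htS
    rcases eq_or_ne (t * t') 1 with e1 | e1
    · rw [show ⁅x, t⁆ = x * t * x⁻¹ * t⁻¹ by rw [commutatorElement_def], e, mul_assoc,
        mul_eq_one_iff_eq_inv.mp e1, inv_inv, (mB.hyp hB).sq ht', mul_one]
      exact hb
    exfalso
    have hsP := mA.le_PP hB hs
    have htP := mB.le_PP hB ht
    have ht'P := mB.le_PP hB ht'
    have hxs : x * s * x⁻¹ = ⁅x, s⁆ * s := by rw [commutatorElement_def]; group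
    refine (pB.symm hB).nc (t * t') (mul_mem ht ht') e1 s hs hs1 ?_
    have h3 : ⁅x * t * x⁻¹, x * s * x⁻¹⁆ = ⁅t, s⁆ := by
      rw [show ⁅x * t * x⁻¹, x * s * x⁻¹⁆ = x * ⁅t, s⁆ * x⁻¹ by simp only [commutatorElement_def]; group,
        ← Subgroup.mem_centralizer_iff.mp hxC _ (hB.comm_mem htP hsP), mul_inv_cancel_right]
    have hz : ∀ {c y : G}, c ∈ B → y ∈ PP B → ⁅c, y⁆ = 1 := fun hc hy =>
      commutatorElement_eq_one_iff_mul_comm.mpr (hB.cent hy hc)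
    rw [e, hxs, hB.mul_comm_left (hB.le_PP hb) ht'P (mul_mem (hB.le_PP hsB) hsP), hz hb (mul_mem (hB.le_PP hsB) hsP),
      one_mul, hB.mul_comm_right ht'P (hB.le_PP hsB) hsP, hB.comm_symm ht'P (hB.le_PP hsB), hz hsB ht'P,
      one_mul] at h3
    rw [hB.mul_comm_left htP ht'P hsP, h3]
    exact hB.sq (hB.comm_mem htP hsP)
  -- hence all of `PP B` is centralized modulo `B` when a point is
  have hstab : ∀ x ∈ Subgroup.normalizer (B : Set G), x ∈ Subgroup.centralizer (B : Set G) →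
      cnj x S₁ = S₁ → cnj x S₂ = S₂ → (∃ s ∈ cnj g B, s ≠ 1 ∧ ⁅x, s⁆ ∈ B) → ∀ y ∈ PP B, ⁅x, y⁆ ∈ B := by
    intro x hx hxC h1 h2 hs₀
    have hA' := hfix x hx hxC h1 h2 hs₀
    have ha₁ : ∃ s ∈ cnj g A, s ≠ 1 := by
      rcases Subgroup.bot_or_exists_ne_one (cnj g A) with hb | hb
      · refine absurd ?_ hb₀1
        have := mA.card_eq hB
        rw [hb, Subgroup.card_bot] at this
        rw [Subgroup.eq_bot_of_card_eq B this.symm, Subgroup.mem_bot] at hb₀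
        exact hb₀
      · exact hb
    obtain ⟨a₁, ha₁, ha₁1⟩ := ha₁
    have hB' := hfix' x hx hxC h1 h2 ⟨a₁, ha₁, ha₁1, hA' a₁ ha₁⟩
    have hz : ∀ y z : G, ⁅x, y⁆ ∈ B → ⁅x, z⁆ ∈ B → y ∈ PP B → ⁅x, y * z⁆ ∈ B := by
      intro y z hy hz hyP
      rw [show ⁅x, y * z⁆ = ⁅x, y⁆ * (y * ⁅x, z⁆ * y⁻¹) by simp only [commutatorElement_def]; group,
        ← hB.cent hyP hz, mul_inv_cancel_right]
      exact mul_mem hy hz
    intro y hy
    obtain ⟨a, ha, w, hw, rfl⟩ := pB.eq_mul hB (fun z hz hzC => by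
      rw [hg] at hz
      rw [PP_cnj, mem_cnj] at hz
      rw [centralizer_cnj, mem_cnj] at hzC
      rw [← hS₂, ← hgB, mem_cnj]
      exact hD _ hz hzC) hy
    obtain ⟨b, hb, b', hb', rfl⟩ := (mB.mem_sup hB).mp hw
    refine hz a _ (hA' a ha) (hz b b' ?_ (hB' b' hb') (hB.le_PP hb)) (mA.le_PP hB ha)
    rw [commutatorElement_eq_one_iff_mul_comm.mpr (Subgroup.mem_centralizer_iff.mp hxC b hb).symm]
    exact one_mem _
  -- every involution of `V` interchanges the two halves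
  have hSne : S₁ ≠ S₂ := by
    intro e
    obtain ⟨a, ha, ha1⟩ : ∃ s ∈ cnj g A, s ≠ 1 := by
      rcases Subgroup.bot_or_exists_ne_one (cnj g A) with hb | hb
      · refine absurd ?_ hb₀1
        have := mA.card_eq hB
        rw [hb, Subgroup.card_bot] at this
        rw [Subgroup.eq_bot_of_card_eq B this.symm, Subgroup.mem_bot] at hb₀
        exact hb₀
      · exact hb
    obtain ⟨b, hb, b', hb', e'⟩ := (mB.mem_sup hB).mp (e.le (Subgroup.mem_sup_right ha) : a ∈ S₂)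
    have hb'1 : b' ≠ 1 := fun q => ha1 (mA.disjoint hB ha (by rw [e', q, mul_one]; exact hb))
    refine pB.nc a ha ha1 b' hb' hb'1 ?_
    rw [e', hB.mul_comm_left (hB.le_PP hb) (mB.le_PP hB hb') (mB.le_PP hB hb'),
      commutatorElement_eq_one_iff_mul_comm.mpr (mB.comm hB hb hb'), commutatorElement_self, mul_one]
  have hswap : ∀ v ∈ V, v ≠ 1 → cnj v S₂ = S₁ ∧ cnj v S₁ = S₂ := by
    intro v hv hv1
    have hvN := m.V_le h hv
    have hvC := m.V_le_centralizer h hv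
    obtain ⟨e1, e2⟩ := hperm' v hvN
    rcases e2 with e2 | e2
    · exfalso
      have e1' : cnj v S₁ = S₁ := e1.resolve_right fun q => hSne (cnj_injective v (q.trans e2.symm))
      -- a fixed point of the involution `v` on `S₂` modulo `B`
      obtain ⟨c, hc, hc1⟩ : ∃ s ∈ cnj g B, s ≠ 1 := by
        refine ⟨g * b₀ * g⁻¹, conj_mem_cnj hb₀, fun q => hb₀1 (conj_eq_one_iff.mp q)⟩
      obtain ⟨b, hb, c', hc', e⟩ := (mB.mem_sup hB).mp (e2.le (conj_mem_cnj (Subgroup.mem_sup_right hc)))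
      have hs₀ : ∃ s ∈ cnj g B, s ≠ 1 ∧ ⁅v, s⁆ ∈ B := by
        rcases eq_or_ne (c' * c) 1 with q | q
        · refine ⟨c, hc, hc1, ?_⟩
          rw [commutatorElement_def, e, (mB.hyp hB).inv_eq hc, mul_assoc, q, mul_one]
          exact hb
        · refine ⟨c' * c, mul_mem hc' hc, q, ?_⟩
          have h3 : v * c' * v⁻¹ = b⁻¹ * c := by
            calc v * c' * v⁻¹ = v * (b⁻¹ * (b * c')) * v⁻¹ := by group
              _ = v * b⁻¹ * (v * c * v⁻¹) * v⁻¹ := by rw [e]; group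
              _ = (v * b⁻¹) * v * c * (v⁻¹ * v⁻¹) := by group
              _ = b⁻¹ * (v * v) * c * (v * v)⁻¹ := by
                rw [← Subgroup.mem_centralizer_iff.mp hvC _ (inv_mem hb)]; group
              _ = b⁻¹ * c := by rw [h.sq hv]; group
          rw [commutatorElement_def, show v * (c' * c) * v⁻¹ = (v * c' * v⁻¹) * (v * c * v⁻¹) by group, h3, e]
          have hcb : c * b = b * c := (mB.comm hB hb hc).symm
          rw [show (c' * c)⁻¹ = c'⁻¹ * c⁻¹ by rw [← mul_inv_rev, (mB.hyp hB).comm hc hc'],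
            show b⁻¹ * c * (b * c') * (c'⁻¹ * c⁻¹) = b⁻¹ * (c * b) * c⁻¹ by group, hcb,
            show b⁻¹ * (b * c) * c⁻¹ = 1 by group]
          exact one_mem _
      have hall := hstab v hvN hvC e1' e2 hs₀
      refine hnN fun y hy => m.mem_normalizer_of_comm_mem h hno hy hv hv1 (Subgroup.mem_sup_right ?_)
      rw [← commutatorElement_inv]
      exact inv_mem (hall y hy)
    · exact ⟨e2, e1.resolve_left fun q => hSne (cnj_injective v (q.trans e2.symm))⟩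
  have h2 : ∀ v ∈ V, v ≠ 1 → ∀ w ∈ V, w ≠ 1 → v = w := by
    intro v hv hv1 w hw hw1
    by_contra hne
    have hvw : v * w ≠ 1 := fun q => hne (by rw [mul_eq_one_iff_eq_inv.mp q, h.inv_eq hw])
    have := (hswap _ (mul_mem hv hw) hvw).1
    rw [← cnj_cnj, (hswap w hw hw1).1, (hswap v hv hv1).2] at this
    exact hSne this.symm
  have hV2 : Nat.card V ≤ 2 := by
    rcases Subgroup.bot_or_exists_ne_one V with hb | ⟨v, hv, hv1⟩
    · rw [hb, Subgroup.card_bot]; omega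
    · calc Nat.card V ≤ Nat.card ↥({1, ⟨v, hv⟩} : Set V) :=
            Nat.card_le_card_of_injective (fun x => ⟨x, by
              rcases eq_or_ne (x : G) 1 with q | q
              · exact Or.inl (Subtype.ext q)
              · exact Or.inr (Subtype.ext (h2 _ x.2 q v hv hv1))⟩) fun x y q => congrArg Subtype.val q
        _ ≤ 2 := by
          rw [Nat.card_coe_set_eq]; refine le_trans (Set.ncard_insert_le _ _) ?_; rw [Set.ncard_singleton]
  have huniq : ∀ {C : Subgroup G}, Mate B C → ∀ c ∈ C, c ≠ 1 → ∀ c' ∈ C, c' ≠ 1 → c = c' := by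
    intro C mC c hc hc1 c' hc' hc'1
    by_contra hne
    have : 2 < Nat.card C := by
      have h3 : ({⟨1, one_mem _⟩, ⟨c, hc⟩, ⟨c', hc'⟩} : Set C).ncard = 3 := by
        rw [Set.ncard_eq_three]
        exact ⟨_, _, _, fun q => hc1 (congrArg Subtype.val q).symm, fun q => hc'1 (congrArg Subtype.val q).symm,
          fun q => hne (congrArg Subtype.val q), rfl⟩
      have := Set.ncard_le_card ({⟨1, one_mem _⟩, ⟨c, hc⟩, ⟨c', hc'⟩} : Set C)
      omega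
    rw [mC.card_eq hB, m.card_eq h] at this
    omega
  have hodd : ∀ x ∈ Subgroup.normalizer (B : Set G), (orderOf x).Coprime 2 → x = 1 := by
    intro x hx hxo
    have hxC : x ∈ Subgroup.centralizer (B : Set G) := by
      refine Subgroup.mem_centralizer_iff.mpr fun b hb => ?_
      rcases eq_or_ne b 1 with rfl | hb1
      · simp
      · have h3 := (Subgroup.mem_normalizer_iff.mp hx b).mp hb
        have h4 : x * b * x⁻¹ = b := by
          by_contra q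
          have h5 : 2 < Nat.card B := by
            have h6 : ({⟨1, one_mem _⟩, ⟨b, hb⟩, ⟨_, h3⟩} : Set B).ncard = 3 := by
              rw [Set.ncard_eq_three]
              exact ⟨_, _, _, fun e => hb1 (congrArg Subtype.val e).symm,
                fun e => hb1 (conj_eq_one_iff.mp (congrArg Subtype.val e).symm),
                fun e => q (congrArg Subtype.val e).symm, rfl⟩
            have := Set.ncard_le_card ({⟨1, one_mem _⟩, ⟨b, hb⟩, ⟨_, h3⟩} : Set B)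
            omega
          rw [m.card_eq h] at h5
          omega
        exact (mul_inv_eq_iff_eq_mul.mp h4).symm
    have f1 : cnj x S₁ = S₁ := fix_of_odd hxo (hperm' x hx).2.symm (hperm' x hx).1
    have f2 : cnj x S₂ = S₂ := fix_of_odd hxo (hperm' x hx).1.symm (hperm' x hx).2
    refine hB.eq_one_of_stable hx hxC (hstab x hx hxC f1 f2 ?_) hxo
    obtain ⟨c, hc, hc1⟩ : ∃ s ∈ cnj g B, s ≠ 1 :=
      ⟨g * b₀ * g⁻¹, conj_mem_cnj hb₀, fun q => hb₀1 (conj_eq_one_iff.mp q)⟩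
    refine ⟨c, hc, hc1, ?_⟩
    obtain ⟨b, hb, c', hc', e⟩ := (mB.mem_sup hB).mp (f2.le (conj_mem_cnj (Subgroup.mem_sup_right hc)))
    have hc'1 : c' ≠ 1 := fun q => hc1 (mB.disjoint hB hc (by
      rw [q, mul_one] at e
      have h7 : x⁻¹ * b * x ∈ B := by simpa using (Subgroup.mem_normalizer_iff.mp (inv_mem hx) b).mp hb
      rwa [← e, show x⁻¹ * (x * c * x⁻¹) * x = c by group] at h7))
    rw [commutatorElement_def, e, huniq mB c' hc' hc'1 c hc hc1, mul_inv_cancel_right]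
    exact hb
  have hNp : IsPGroup 2 (Subgroup.normalizer (B : Set G)) :=
    haveI : Fact (Nat.Prime 2) := ⟨Nat.prime_two⟩
    Residual.isPGroup_of_forall_coprime hodd
  exact hV ((m.V_le h).trans (SylowIn.le_pCoreOf le_rfl Subgroup.le_normalizer hNp))

/-- `V` lies in `O_2(N(B))`. -/
theorem le_QQ : V ≤ QQ B := by
  have hB := m.hyp h
  by_contra hV
  have hno : ¬ ∃ a : G, cnj a (V ⊔ B) = V ⊔ B ∧ cnj a V ≠ V := fun hmv => by
    obtain ⟨s, hs⟩ := m.swap_of_move h hmv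
    exact hV (m.le_QQ_of_swap h hs)
  have hnN : ¬ PP B ≤ Subgroup.normalizer (V : Set G) := fun hN => hV (m.le_QQ_of_central h fun y hy v hv => by
    have hcV : ⁅y, v⁆ ∈ V := by
      rw [commutatorElement_def]
      exact mul_mem ((Subgroup.mem_normalizer_iff.mp (hN hy) v).mp hv) (inv_mem hv)
    have hcP : ⁅y, v⁆ ∈ PP B := by
      rw [show ⁅y, v⁆ = y * (v * y⁻¹ * v⁻¹) by rw [commutatorElement_def]; group]
      exact mul_mem hy (hB.PP_normal (m.V_le h hv) (inv_mem hy))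
    rw [m.PP_B_inf h hno hcP hcV]
    exact one_mem _)
  by_cases hab : ∀ d₁ ∈ PP V, d₁ ∈ Subgroup.centralizer (B : Set G) → ∀ d₂ ∈ PP V,
      d₂ ∈ Subgroup.centralizer (B : Set G) → d₁ * d₂ = d₂ * d₁
  · exact m.false_of_abelian h hno hV hnN hab
  · push Not at hab
    obtain ⟨d₁, h₁, h₁B, d₂, h₂, h₂B, hd⟩ := hab
    exact m.false_of_nonabelian h hno hnN h₁ h₁B h₂ h₂B fun e =>
      hd (commutatorElement_eq_one_iff_mul_comm.mp e)

theorem symm_mate : Mate B V := by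
  refine ⟨?_, m.ne.symm, m.le_QQ h⟩
  obtain ⟨g, rfl⟩ := m.conj
  exact ⟨g⁻¹, (cnj_inv_cnj g V).symm⟩

/-- Some element interchanges `V` and `B`. -/
theorem exists_swap : ∃ s : G, cnj s V = B ∧ cnj s B = V := by
  have hB := m.hyp h
  have m' := m.symm_mate h
  obtain ⟨C, hC⟩ := m'.exists_partner hB
  rcases Subgroup.bot_or_exists_ne_one V with hb | ⟨v, hv, hv1⟩
  · exact absurd (by rw [hb]; exact Subgroup.eq_bot_of_card_eq B (by rw [m.card_eq h, hb, Subgroup.card_bot]))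
      m.ne
  rcases Subgroup.bot_or_exists_ne_one C with hb | ⟨c, hc, hc1⟩
  · refine absurd ?_ hv1
    have := hC.right.card_eq hB
    rw [hb, Subgroup.card_bot, m.card_eq h] at this
    rwa [Subgroup.eq_bot_of_card_eq V this.symm, Subgroup.mem_bot] at hv
  refine m.swap_of_move h ⟨c, ?_, fun e => hC.nc c hc hc1 v hv hv1 ?_⟩
  · rw [sup_comm]; exact m'.cnj_sup hB (hC.right.le_PP hB hc)
  · refine m.disjoint h (hB.comm_mem (hC.right.le_PP hB hc) (m'.le_PP hB hv)) ?_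
    rw [commutatorElement_def]
    exact mul_mem (e.le (conj_mem_cnj hv)) (inv_mem hv)

/-- An element of `P` moving `B` comes with one moving `V`. -/
theorem exists_dual {x : G} (hx : x ∈ PP V) {b₀ : G} (hb₀ : b₀ ∈ B) (hb₀1 : b₀ ≠ 1) (hxb : ⁅x, b₀⁆ ≠ 1) :
    ∃ z ∈ PP B, cnj z V = cnj x B ∧ (∀ v ∈ V, ⁅x, ⁅z, v⁆⁆ = v) ∧ ∀ b ∈ B, ⁅z, ⁅x, b⁆⁆ = b := by
  have hB := m.hyp h
  have m' := m.symm_mate h
  have hne : cnj x B ≠ B := fun e => hxb (m.commute_of_mem h hx (cnj_eq_iff.mp e) hb₀)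
  obtain ⟨z, hz, e⟩ := m'.conj_in_sup hB (x := x) ((m.cnj_B_le h hx).trans (le_of_eq (sup_comm _ _))) hne
  have h1 : ∀ v ∈ V, ⁅x, ⁅z, v⁆⁆ = v := by
    intro v hv
    obtain ⟨b', hb', hbe⟩ : z * v * z⁻¹ ∈ cnj x B := e.ge (conj_mem_cnj hv)
    change x * b' * x⁻¹ = _ at hbe
    have h3 : v * ⁅z, v⁆ = ⁅x, b'⁆ * b' := by
      rw [m.comm h hv (hB.comm_mem hz (m'.le_PP hB hv))]
      calc ⁅z, v⁆ * v = z * v * z⁻¹ := by rw [commutatorElement_def]; group
        _ = x * b' * x⁻¹ := hbe.symm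
        _ = _ := by rw [commutatorElement_def]; group
    obtain ⟨h4, h5⟩ := m.unique h hv (h.comm_mem hx (m.le_PP h hb')) (hB.comm_mem hz (m'.le_PP hB hv)) hb' h3
    rw [h5, ← h4]
  refine ⟨z, hz, e.symm, h1, fun b hb => ?_⟩
  have hv : ⁅x, b⁆ ∈ V := h.comm_mem hx (m.le_PP h hb)
  have hc : ⁅z, ⁅x, b⁆⁆ ∈ B := hB.comm_mem hz (m'.le_PP hB hv)
  by_contra hne'
  refine hxb (m.commute_of_one h hx (mul_mem hc hb) (fun q => hne' ?_) ?_ hb₀)
  · rw [mul_eq_one_iff_eq_inv.mp q, hB.inv_eq hb]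
  · rw [h.mul_comm_right hx (m.le_PP h hc) (m.le_PP h hb), h1 _ hv, h.sq hv]

end Mate

namespace Partner

variable {A : Subgroup G} (p : Partner V B A) (h : Hyp V)
include p h

theorem invAdd {x y : G} (hx : x ∈ A) (hx1 : x ≠ 1) (hy : y ∈ A) (hy1 : y ≠ 1) (hxy : x ≠ y) :
    ∃ s ∈ A, ∀ a ∈ B, ∀ a' ∈ B, ⁅x, a⁆ = ⁅y, a'⁆ → ⁅s, a * a'⁆ = ⁅x, a⁆ := by
  have m := p.left
  have hB := m.hyp h
  have m' := m.symm_mate h
  rcases Subgroup.bot_or_exists_ne_one B with hb | ⟨b₀, hb₀, h0⟩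
  · refine ⟨1, one_mem _, fun a ha a' ha' _ => ?_⟩
    rw [hb, Subgroup.mem_bot] at ha
    rw [ha, commutatorElement_one_left, commutatorElement_one_right]
  have hxP := p.right.le_PP h hx
  have hyP := p.right.le_PP h hy
  obtain ⟨zx, hzx, -, hx₁, hx₂⟩ := m.exists_dual h hxP hb₀ h0 (p.nc x hx hx1 b₀ hb₀ h0)
  obtain ⟨zy, hzy, -, hy₁, hy₂⟩ := m.exists_dual h hyP hb₀ h0 (p.nc y hy hy1 b₀ hb₀ h0)
  have hz : zx * zy ∈ PP B := mul_mem hzx hzy
  have hmv : cnj (zx * zy) V ≠ V := by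
    intro e
    obtain ⟨v, hv, hv1⟩ : ∃ v ∈ V, v ≠ 1 := ⟨⁅x, b₀⁆, h.comm_mem hxP (m.le_PP h hb₀), p.nc x hx hx1 b₀ hb₀ h0⟩
    have hzv : ⁅zx * zy, v⁆ = 1 := m'.commute_of_mem hB hz (cnj_eq_iff.mp e) hv
    rw [hB.mul_comm_left hzx hzy (m'.le_PP hB hv)] at hzv
    have hzB : ⁅zx, v⁆ ∈ B := hB.comm_mem hzx (m'.le_PP hB hv)
    have heq : ⁅zx, v⁆ = ⁅zy, v⁆ := by
      rw [mul_eq_one_iff_eq_inv.mp hzv, hB.inv_eq (hB.comm_mem hzy (m'.le_PP hB hv))]
    refine p.nc (x * y) (mul_mem hx hy) (fun q => hxy ?_) ⁅zx, v⁆ hzB (fun q => hv1 ?_) ?_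
    · rw [mul_eq_one_iff_eq_inv.mp q, (p.right.hyp h).inv_eq hy]
    · rw [← hx₁ v hv, q, commutatorElement_one_right]
    · rw [h.mul_comm_left hxP hyP (m.le_PP h hzB), hx₁ v hv, heq, hy₁ v hv, h.sq hv]
  have hzle : cnj (zx * zy) V ≤ V ⊔ B := (Subgroup.map_mono le_sup_right).trans
    (le_of_eq ((m'.cnj_sup hB hz).trans (sup_comm _ _)))
  obtain ⟨q, hq, hqe⟩ := m.conj_in_sup h hzle hmv
  obtain ⟨s, hs, hsq⟩ := p.decomp h hq
  have hqs : cnj q B = cnj s⁻¹ B := by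
    have : cnj (s * q) B = B := cnj_eq_iff.mpr (Subgroup.centralizer_le_normalizer (B : Set G)
      (Subgroup.mem_centralizer_iff.mpr fun b hb => (commutatorElement_eq_one_iff_mul_comm.mp (hsq b hb)).symm))
    conv_rhs => rw [← this]
    rw [cnj_cnj, inv_mul_cancel_left]
  rw [(p.right.hyp h).inv_eq hs] at hqs
  refine ⟨s, hs, fun a ha a' ha' e => ?_⟩
  have hv : ⁅x, a⁆ ∈ V := h.comm_mem hxP (m.le_PP h ha)
  obtain ⟨b', hb', hbe⟩ : (zx * zy) * ⁅x, a⁆ * (zx * zy)⁻¹ ∈ cnj s B := (hqe.trans hqs).le (conj_mem_cnj hv)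
  change s * b' * s⁻¹ = _ at hbe
  have haa : ⁅zx * zy, ⁅x, a⁆⁆ = a * a' := by
    rw [hB.mul_comm_left hzx hzy (m'.le_PP hB hv), hx₂ a ha, e, hy₂ a' ha']
  have h3 : ⁅x, a⁆ * (a * a') = ⁅s, b'⁆ * b' := by
    rw [m.comm h hv (mul_mem ha ha'), ← haa]
    calc ⁅zx * zy, ⁅x, a⁆⁆ * ⁅x, a⁆ = zx * zy * ⁅x, a⁆ * (zx * zy)⁻¹ := by
          rw [commutatorElement_def (zx * zy)]; group
      _ = s * b' * s⁻¹ := hbe.symm
      _ = _ := by rw [commutatorElement_def]; group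
  obtain ⟨h4, h5⟩ := m.unique h hv (h.comm_mem (p.right.le_PP h hs) (m.le_PP h hb')) (mul_mem ha ha') hb' h3
  rw [h5, ← h4]

/-- `N(V)` is transitive on `V`. -/
theorem transitive {v₁ v₂ : G} (hv₁ : v₁ ∈ V) (hv₁' : v₁ ≠ 1) (hv₂ : v₂ ∈ V) (hv₂' : v₂ ≠ 1) :
    ∃ n ∈ Subgroup.normalizer (V : Set G), n * v₁ * n⁻¹ = v₂ := by
  have m := p.left
  have hB := m.hyp h
  have m' := m.symm_mate h
  rcases Subgroup.bot_or_exists_ne_one B with hb | ⟨b₀, hb₀, h0⟩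
  · refine absurd ?_ hv₁'
    have := m.card_eq h
    rw [hb, Subgroup.card_bot] at this
    rwa [Subgroup.eq_bot_of_card_eq V this.symm, Subgroup.mem_bot] at hv₁
  obtain ⟨x, hx, hxe⟩ := p.surj h hb₀ h0 hv₁
  have hxP := p.right.le_PP h hx
  obtain ⟨z, hz, -, hz₁, hz₂⟩ := m.exists_dual h hxP hb₀ h0 (by rw [hxe]; exact hv₁')
  obtain ⟨y, hy, hye⟩ := p.surj h hb₀ h0 hv₂
  have hyP := p.right.le_PP h hy
  obtain ⟨w, hw, -, hw₁, hw₂⟩ := m.exists_dual h hyP hb₀ h0 (by rw [hye]; exact hv₂')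
  -- `x z x` interchanges `V` and `B`
  have key : ∀ {x z : G}, x ∈ PP V → z ∈ PP B → (∀ b ∈ B, ⁅z, ⁅x, b⁆⁆ = b) → (∀ v ∈ V, ⁅x, ⁅z, v⁆⁆ = v) →
      (∀ v ∈ V, (x * z * x) * v * (x * z * x)⁻¹ = ⁅z, v⁆) ∧ ∀ b ∈ B, (x * z * x) * b * (x * z * x)⁻¹ = ⁅x, b⁆ := by
    intro x z hx hz hb' hv'
    have xv : ∀ v ∈ V, x * v * x⁻¹ = v := fun v hv => by rw [← h.cent hx hv, mul_inv_cancel_right]
    have zb : ∀ b ∈ B, z * b * z⁻¹ = b := fun b hb => by rw [← hB.cent hz hb, mul_inv_cancel_right]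
    have xb : ∀ b, x * b * x⁻¹ = ⁅x, b⁆ * b := fun b => by rw [commutatorElement_def]; group
    have zv : ∀ v, z * v * z⁻¹ = ⁅z, v⁆ * v := fun v => by rw [commutatorElement_def]; group
    have split : ∀ u a c : G, u * (a * c) * u⁻¹ = (u * a * u⁻¹) * (u * c * u⁻¹) := fun u a c => by group
    refine ⟨fun v hv => ?_, fun b hb => ?_⟩
    · have hc : ⁅z, v⁆ ∈ B := hB.comm_mem hz (m'.le_PP hB hv)
      rw [show x * z * x * v * (x * z * x)⁻¹ = x * (z * (x * v * x⁻¹) * z⁻¹) * x⁻¹ by group, xv v hv, zv v, split,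
        xb ⁅z, v⁆, xv v hv, hv' v hv, mul_assoc, ← m.comm h hv hc, ← mul_assoc, h.sq hv, one_mul]
    · have hc : ⁅x, b⁆ ∈ V := h.comm_mem hx (m.le_PP h hb)
      rw [show x * z * x * b * (x * z * x)⁻¹ = x * (z * (x * b * x⁻¹) * z⁻¹) * x⁻¹ by group, xb b, split z, zv ⁅x, b⁆,
        hb' b hb, zb b hb,
        show b * ⁅x, b⁆ * b = ⁅x, b⁆ by rw [mul_assoc, m.comm h hc hb, ← mul_assoc, hB.sq hb, one_mul], xv _ hc]
  obtain ⟨kx, -⟩ := key hxP hz hz₂ hz₁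
  obtain ⟨-, ky⟩ := key hyP hw hw₂ hw₁
  have hn : ∀ v ∈ V, (y * w * y * (x * z * x)) * v * (y * w * y * (x * z * x))⁻¹ = ⁅y, ⁅z, v⁆⁆ := by
    intro v hv
    rw [show (y * w * y * (x * z * x)) * v * (y * w * y * (x * z * x))⁻¹ =
      (y * w * y) * ((x * z * x) * v * (x * z * x)⁻¹) * (y * w * y)⁻¹ by group, kx v hv,
      ky _ (hB.comm_mem hz (m'.le_PP hB hv))]
  refine ⟨y * w * y * (x * z * x), cnj_eq_iff.mp ?_, ?_⟩
  · refine Subgroup.eq_of_le_of_card_ge ?_ (card_cnj _ _).ge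
    rintro _ ⟨v, hv, rfl⟩
    show _ * v * _ ∈ V
    rw [hn v hv]
    exact h.comm_mem hyP (m.le_PP h (hB.comm_mem hz (m'.le_PP hB hv)))
  · rw [hn v₁ hv₁]
    conv_lhs => rw [← hxe, hz₂ b₀ hb₀, hye]

theorem PP_eq : PP V = QQ V := by
  haveI : Fact (Nat.Prime 2) := ⟨Nat.prime_two⟩
  refine le_antisymm inf_le_left (le_inf le_rfl fun q hq => Subgroup.mem_centralizer_iff.mpr fun v₂ hv₂ => ?_)
  rcases eq_or_ne v₂ 1 with rfl | hv₂'
  · simp
  haveI : (V.subgroupOf (QQ V)).Normal := ⟨fun a ha g =>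
    (Subgroup.mem_normalizer_iff.mp (h.QQ_le g.2) _).mp ha⟩
  have hne : ¬ V.subgroupOf (QQ V) ≤ ⊥ := fun hle => hv₂' (congrArg Subtype.val
    (Subgroup.mem_bot.mp (hle (x := ⟨v₂, h.le_QQ hv₂⟩) hv₂)))
  obtain ⟨⟨v₁, hv₁Q⟩, hv₁, hv₁', -, hc⟩ :=
    CfsgLib.Fusion.NormalRankTwo.exists_central_of_lt (p := 2) h.QQ_p hne
  replace hv₁ : v₁ ∈ V := hv₁
  have hv₁1 : v₁ ≠ 1 := fun e => hv₁' (Subgroup.mem_bot.mpr (Subtype.ext e))
  obtain ⟨n, hn, hne'⟩ := p.transitive h hv₁ hv₁1 hv₂ hv₂'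
  have hq' : n⁻¹ * q * n ∈ QQ V := by simpa using h.QQ_normal (inv_mem hn) hq
  have h1 : n⁻¹ * q * n * v₁ = v₁ * (n⁻¹ * q * n) :=
    congrArg Subtype.val (commutatorElement_eq_one_iff_mul_comm.mp (Subgroup.mem_bot.mp (hc ⟨_, hq'⟩)))
  calc v₂ * q = n * (v₁ * (n⁻¹ * q * n)) * n⁻¹ := by rw [← hne']; group
    _ = n * (n⁻¹ * q * n * v₁) * n⁻¹ := by rw [h1]
    _ = q * v₂ := by rw [← hne']; group

end Partner

end CfsgLib.KGroups.TILarge
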