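import Mathlib
import Cfsg.Agent.Lib.Schur.Basic

/-!
# The triple covers of the alternating groups of degree six and seven

The group generated by the pairs (`(0 1 i)`, a matrix of order three) and a scalar of order three: Carmichael's
relations, which hold modulo the scalar, bound its order by three times that of the alternating group.
-/

set_option autoImplicit false
set_option maxRecDepth 20000

open Equiv Equiv.Perm Subgroup
open scoped commutatorElement

namespace CfsgLib.KGroups.TripleAlt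

/-! ### Carmichael's bound -/

section Bound

variable {G : Type*} [Group G]

/-- One step of the coset count. -/
theorem card_step [Finite G] (s : Finset G) (y : G) (hy : y ^ 3 = 1)
    (h3 : ∀ x ∈ s, x ^ 3 = 1) (hxy : ∀ x ∈ s, (x * y) ^ 2 = 1)
    (hxx : ∀ x ∈ s, ∀ x' ∈ s, x ≠ x' → (x * x') ^ 2 = 1) :
    Nat.card (closure (insert y (s : Set G))) ≤ (s.card + 3) * Nat.card (closure (s : Set G)) := by
  classical
  set H := closure (s : Set G) with hH
  let R : Finset G := {1, y, y ^ 2} ∪ s.image fun x => y ^ 2 * x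
  let S : Set G := {g | ∃ h ∈ H, ∃ r ∈ R, g = h * r}
  have hR : ∀ {h r : G}, h ∈ H → r ∈ R → h * r ∈ S := fun hh hr => ⟨_, hh, _, hr, rfl⟩
  have rW : ∀ {x : G}, x ∈ s → y ^ 2 * x ∈ R := fun hx =>
    Finset.mem_union_right _ (Finset.mem_image.2 ⟨_, hx, rfl⟩)
  have r0 : (1 : G) ∈ R := by simp [R]
  have r1 : y ∈ R := by simp [R]
  have r2 : y ^ 2 ∈ R := by simp [R]
  have inv2 : ∀ {g : G}, g ^ 3 = 1 → g⁻¹ = g ^ 2 := fun {g} hg =>
    inv_eq_of_mul_eq_one_right (by rw [← pow_succ', hg])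
  have flip : ∀ {a b : G}, a ^ 3 = 1 → b ^ 3 = 1 → (a * b) ^ 2 = 1 → a * b = b ^ 2 * a ^ 2 := by
    intro a b ha hb hab
    rw [← inv2 ha, ← inv2 hb, ← mul_inv_rev]
    exact (inv_eq_of_mul_eq_one_right (by rw [← sq, hab])).symm
  have swap : ∀ {a b : G}, (a * b) ^ 2 = 1 → (b * a) ^ 2 = 1 := fun {a b} h => by
    calc (b * a) ^ 2 = b * (a * b) ^ 2 * b⁻¹ := by rw [sq, sq]; group
      _ = 1 := by rw [h]; group
  have hclosed : ∀ g ∈ S, ∀ t ∈ insert y (s : Set G), g * t ∈ S := by
    rintro _ ⟨h, hh, r, hr, rfl⟩ t ht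
    rw [mul_assoc]
    simp only [R, Finset.mem_union, Finset.mem_insert, Finset.mem_singleton, Finset.mem_image] at hr
    rcases Set.mem_insert_iff.1 ht with e | ht
    · rw [e]
      rcases hr with (rfl | rfl | rfl) | ⟨x, hx, rfl⟩
      · rw [one_mul]; exact hR hh r1
      · rw [← sq]; exact hR hh r2
      · rw [← pow_succ, hy]; exact hR hh r0
      · have e1 : y ^ 2 * x * y = y * x ^ 2 := by
          rw [mul_assoc, flip (h3 x hx) hy (hxy x hx), ← mul_assoc, ← pow_add,
            show 2 + 2 = 3 + 1 from rfl, pow_add, hy, one_mul, pow_one]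
        have e2 : y * x ^ 2 = x ^ 2 * (y ^ 2 * x) := by
          rw [sq x, ← mul_assoc, flip hy (h3 x hx) (swap (hxy x hx)), mul_assoc, sq x]
        rw [e1, e2, ← mul_assoc]
        exact hR (mul_mem hh (pow_mem (subset_closure hx) 2)) (rW hx)
    · have hx : t ∈ s := ht
      rcases hr with (rfl | rfl | rfl) | ⟨x, hx', rfl⟩
      · rw [one_mul]
        simpa using hR (mul_mem hh (subset_closure hx)) r0
      · rw [flip hy (h3 t hx) (swap (hxy t hx)), ← mul_assoc]
        exact hR (mul_mem hh (pow_mem (subset_closure hx) 2)) r2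
      · exact hR hh (rW hx)
      · rcases eq_or_ne x t with rfl | hne
        · have e : y ^ 2 * x * x = x * y := by
            rw [mul_assoc, ← sq, ← flip (h3 x hx) hy (hxy x hx)]
          rw [e, ← mul_assoc]
          exact hR (mul_mem hh (subset_closure hx)) r1
        · have e1 : y ^ 2 * x * t = t * (y * x ^ 2) := by
            rw [mul_assoc, flip (h3 x hx') (h3 t hx) (hxx x hx' t hx hne), ← mul_assoc,
              ← flip (h3 t hx) hy (hxy t hx), mul_assoc]
          have e2 : y * x ^ 2 = x ^ 2 * (y ^ 2 * x) := by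
            rw [sq x, ← mul_assoc, flip hy (h3 x hx') (swap (hxy x hx')), mul_assoc, sq x]
          rw [e1, e2, ← mul_assoc, ← mul_assoc]
          exact hR (mul_mem (mul_mem hh (subset_closure hx)) (pow_mem (subset_closure hx') 2)) (rW hx')
  have hsub : (closure (insert y (s : Set G)) : Set G) ⊆ S := by
    intro g hg
    rw [SetLike.mem_coe, ← mem_toSubmonoid, closure_toSubmonoid_of_finite] at hg
    induction hg using Submonoid.closure_induction_right with
    | one => simpa using hR (one_mem H) r0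
    | mul_right a _ b hb ih => exact hclosed a ih b hb
  have hle : Nat.card (closure (insert y (s : Set G))) ≤ Nat.card (↥H × ↥R) := by
    choose f hf r hr he using fun g : closure (insert y (s : Set G)) => hsub g.2
    exact Nat.card_le_card_of_injective (fun g => ((⟨f g, hf g⟩ : ↥H), (⟨r g, hr g⟩ : ↥R)))
      fun a b hab => by
        simp only [Prod.mk.injEq, Subtype.mk.injEq] at hab
        exact Subtype.ext (by rw [he a, he b, hab.1, hab.2])
  refine hle.trans ?_
  rw [Nat.card_prod, mul_comm, Nat.card_eq_fintype_card, Fintype.card_coe]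
  refine Nat.mul_le_mul_right _ ((Finset.card_union_le _ _).trans ?_)
  have := Finset.card_le_three (a := (1 : G)) (b := y) (c := y ^ 2)
  have := Finset.card_image_le (s := s) (f := fun x => y ^ 2 * x)
  omega

/-- `m` generators with Carmichael's relations generate at most `(m + 2)! / 2` elements. -/
theorem card_le [Finite G] : ∀ (m : ℕ) (x : Fin m → G), (∀ i, x i ^ 3 = 1) →
    (∀ i j, i ≠ j → (x i * x j) ^ 2 = 1) → 2 * Nat.card (closure (Set.range x)) ≤ (m + 2).factorial := by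
  classical
  intro m
  induction m with
  | zero =>
    intro x _ _
    have : closure (Set.range x) = ⊥ := by rw [Set.range_eq_empty, Subgroup.closure_empty]
    rw [this, Subgroup.card_bot]
    rfl
  | succ m ih =>
    intro x h3 h2
    have h1 := ih (x ∘ Fin.castSucc) (fun i => h3 _)
      (fun i j hij => h2 _ _ fun e => hij (Fin.castSucc_injective _ e))
    set s : Finset G := Finset.univ.image (x ∘ Fin.castSucc) with hs
    have hsr : (s : Set G) = Set.range (x ∘ Fin.castSucc) := by rw [hs, Finset.coe_image, Finset.coe_univ, Set.image_univ]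
    have hrange : Set.range x = insert (x (Fin.last m)) (s : Set G) := by
      rw [hsr]
      ext g
      constructor
      · rintro ⟨i, rfl⟩
        refine Fin.lastCases (Or.inl rfl) (fun j => Or.inr ⟨j, rfl⟩) i
      · rintro (rfl | ⟨j, rfl⟩) <;> exact ⟨_, rfl⟩
    have hmem : ∀ g ∈ s, ∃ j : Fin m, x j.castSucc = g := fun g hg => by
      simpa [hs] using hg
    have hstep := card_step s (x (Fin.last m)) (h3 _)
      (fun g hg => by obtain ⟨j, rfl⟩ := hmem g hg; exact h3 _)
      (fun g hg => by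
        obtain ⟨j, rfl⟩ := hmem g hg
        exact h2 _ _ (Fin.castSucc_lt_last j).ne)
      (fun g hg g' hg' hne => by
        obtain ⟨j, rfl⟩ := hmem g hg
        obtain ⟨k, rfl⟩ := hmem g' hg'
        exact h2 _ _ fun e => hne (by rw [e]))
    have hc : s.card ≤ m := Finset.card_image_le.trans (by simp)
    rw [← hrange, hsr] at hstep
    calc 2 * Nat.card (closure (Set.range x))
        ≤ 2 * ((s.card + 3) * Nat.card (closure (Set.range (x ∘ Fin.castSucc)))) :=
          Nat.mul_le_mul_left _ hstep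
      _ = (s.card + 3) * (2 * Nat.card (closure (Set.range (x ∘ Fin.castSucc)))) := by ring
      _ ≤ (m + 3) * (m + 2).factorial := Nat.mul_le_mul (by omega) h1
      _ = (m + 1 + 2).factorial := (Nat.factorial_succ (m + 2)).symm

end Bound

/-! ### The matrices -/

/-- Six by six matrices modulo five: three by three ones over the field with 25 elements. -/
abbrev GM : Type := (Matrix (Fin 6) (Fin 6) (ZMod 5))ˣ

def mat : Fin 5 → Matrix (Fin 6) (Fin 6) (ZMod 5) :=
  ![!![1, 4, 1, 2, 2, 0; 2, 1, 1, 1, 0, 2; 1, 1, 3, 0, 4, 2; 3, 1, 0, 3, 1, 4; 0, 0, 4, 1, 1, 1; 0, 0, 3, 4, 3, 1],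
    !![4, 1, 1, 2, 1, 2; 3, 4, 1, 1, 1, 1; 3, 1, 3, 0, 2, 4; 3, 3, 0, 3, 2, 2; 3, 3, 4, 1, 3, 4; 4, 3, 3, 4, 2, 3],
    !![3, 0, 1, 2, 4, 1; 0, 3, 1, 1, 3, 4; 4, 2, 2, 0, 1, 1; 1, 4, 0, 2, 3, 1; 4, 4, 4, 1, 0, 0; 2, 4, 3, 4, 0, 0],
    !![1, 2, 3, 1, 2, 1; 1, 1, 3, 3, 3, 2; 1, 1, 3, 4, 2, 2; 3, 1, 2, 3, 1, 2; 4, 3, 1, 3, 1, 4; 4, 4, 4, 1, 2, 1],
    !![0, 2, 3, 3, 4, 0; 1, 0, 4, 3, 0, 4; 4, 3, 4, 0, 4, 0; 4, 4, 0, 4, 0, 4; 1, 3, 1, 1, 1, 3; 4, 1, 3, 1, 4, 1]]

def omegaMat : Matrix (Fin 6) (Fin 6) (ZMod 5) :=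
  !![2, 1, 0, 0, 0, 0; 3, 2, 0, 0, 0, 0; 0, 0, 2, 1, 0, 0; 0, 0, 3, 2, 0, 0; 0, 0, 0, 0, 2, 1; 0, 0, 0, 0, 3, 2]

theorem mat_inv : ∀ i, mat i * (mat i * mat i) = 1 ∧ mat i * mat i * mat i = 1 := by decide +kernel

theorem omega_inv : omegaMat * (omegaMat * omegaMat) = 1 ∧ omegaMat * omegaMat * omegaMat = 1 := by
  decide +kernel

def gm (i : Fin 5) : GM := ⟨mat i, mat i * mat i, (mat_inv i).1, (mat_inv i).2⟩

def omega : GM := ⟨omegaMat, omegaMat * omegaMat, omega_inv.1, omega_inv.2⟩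

/-! ### The cover -/

variable {n m : ℕ}

/-- The pairs. -/
def pr (c : Fin m → Equiv.Perm (Fin n)) (x : Fin m → GM) (i : Fin m) : Equiv.Perm (Fin n) × GM := (c i, x i)

/-- A stem extension by the group of order three, from matrices satisfying Carmichael's relations modulo
the scalar. -/
theorem exists_cover (c : Fin m → Equiv.Perm (Fin n)) (x : Fin m → GM) (hm : m + 2 = n)
    (hgen : closure (Set.range c) = alternatingGroup (Fin n))
    (h3 : ∀ i, pr c x i ^ 3 = 1)
    (h2 : ∀ i j, i ≠ j → ∃ k : Fin 3, (pr c x i * pr c x j) ^ 2 = ((1 : Equiv.Perm (Fin n)), omega) ^ (k : ℕ))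
    (hcom : ∀ i, x i * omega = omega * x i)
    (u v : List (Fin m)) (huv : ⁅(u.map (pr c x)).prod, (v.map (pr c x)).prod⁆ = (1, omega)) :
    ∃ (Γ : Subgroup (Equiv.Perm (Fin n) × GM)) (σ : ↥Γ →* alternatingGroup (Fin n)),
      Cfsg.IsStemExtension σ ∧ Nat.card σ.ker = 3 := by
  classical
  set z : Equiv.Perm (Fin n) × GM := (1, omega) with hz
  have hw : orderOf omega = 3 := orderOf_eq_prime (by decide +kernel) (by decide +kernel)
  have hoz : orderOf z = 3 := by rw [hz, Prod.orderOf, orderOf_one, Nat.lcm_one_left, hw]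
  set Γ := closure (insert z (Set.range (pr c x))) with hΓ
  have hzc : ∀ g ∈ Γ, z * g = g * z := by
    intro g hg
    induction hg using closure_induction with
    | mem g hg =>
      rcases hg with rfl | ⟨i, rfl⟩
      · rfl
      · exact Prod.ext (by simp [hz, pr]) (hcom i).symm
    | one => simp
    | mul a b _ _ ha hb => rw [← mul_assoc, ha, mul_assoc, hb, mul_assoc]
    | inv a _ ha => exact (Commute.inv_right ha).eq
  have hzΓ : z ∈ Γ := subset_closure (Set.mem_insert _ _)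
  have hpΓ : ∀ i, pr c x i ∈ Γ := fun i => subset_closure (Or.inr ⟨i, rfl⟩)
  set z' : ↥Γ := ⟨z, hzΓ⟩ with hz'
  have hzZ : z' ∈ center ↥Γ := mem_center_iff.2 fun g => Subtype.ext (hzc g g.2).symm
  set Z := zpowers z' with hZ
  have hZc : Z ≤ center ↥Γ := zpowers_le.2 hzZ
  haveI : Z.Normal := ⟨fun a ha g => by
    rwa [mem_center_iff.1 (hZc ha) g, mul_inv_cancel_right]⟩
  have hZcard : Nat.card Z = 3 := by
    rw [hZ, Nat.card_zpowers, ← orderOf_coe, hz', hoz]
  -- the bound
  let q : Fin m → ↥Γ ⧸ Z := fun i => QuotientGroup.mk' Z ⟨pr c x i, hpΓ i⟩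
  have hbound : 2 * Nat.card (closure (Set.range q)) ≤ n.factorial := by
    refine le_trans (card_le m q (fun i => ?_) fun i j hij => ?_) (le_of_eq (congrArg Nat.factorial hm))
    · show (QuotientGroup.mk' Z ⟨pr c x i, hpΓ i⟩) ^ 3 = 1
      rw [← map_pow, QuotientGroup.mk'_apply, QuotientGroup.eq_one_iff]
      exact (show (⟨pr c x i, hpΓ i⟩ : ↥Γ) ^ 3 = 1 from Subtype.ext (h3 i)) ▸ one_mem _
    · obtain ⟨k, hk⟩ := h2 i j hij
      show (QuotientGroup.mk' Z ⟨pr c x i, hpΓ i⟩ * QuotientGroup.mk' Z ⟨pr c x j, hpΓ j⟩) ^ 2 = 1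
      rw [← map_mul, ← map_pow, QuotientGroup.mk'_apply, QuotientGroup.eq_one_iff]
      exact mem_zpowers_iff.2 ⟨(k : ℕ), by rw [zpow_natCast]; exact Subtype.ext hk.symm⟩
  have hqtop : closure (Set.range q) = ⊤ := by
    rw [eq_top_iff]
    rintro g -
    obtain ⟨⟨w, hw⟩, rfl⟩ := QuotientGroup.mk'_surjective Z g
    induction hw using closure_induction with
    | mem w hw =>
      rcases hw with rfl | ⟨i, rfl⟩
      · rw [show QuotientGroup.mk' Z (⟨z, hzΓ⟩ : ↥Γ) = 1 from
          (QuotientGroup.eq_one_iff _).2 (mem_zpowers z')]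
        exact one_mem _
      · exact subset_closure ⟨i, rfl⟩
    | one => exact one_mem _
    | mul a b ha hb iha ihb =>
      rw [show (⟨a * b, mul_mem ha hb⟩ : ↥Γ) = ⟨a, ha⟩ * ⟨b, hb⟩ from rfl, map_mul]
      exact mul_mem iha ihb
    | inv a ha iha =>
      rw [show (⟨a⁻¹, inv_mem ha⟩ : ↥Γ) = ⟨a, ha⟩⁻¹ from rfl, map_inv]
      exact inv_mem iha
  rw [hqtop, card_top] at hbound
  -- the map
  have hfst : ∀ g : ↥Γ, g.1.1 ∈ alternatingGroup (Fin n) := by
    intro g
    rw [← hgen]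
    have : Γ ≤ (closure (Set.range c)).comap (MonoidHom.fst _ _) := by
      rw [hΓ, closure_le]
      rintro _ (rfl | ⟨i, rfl⟩)
      · exact mem_comap.2 (show ((1 : Equiv.Perm (Fin n)), omega).1 ∈ closure (Set.range c) from one_mem _)
      · exact subset_closure ⟨i, rfl⟩
    exact this g.2
  let σ : ↥Γ →* alternatingGroup (Fin n) :=
    ((MonoidHom.fst _ _).comp Γ.subtype).codRestrict _ hfst
  have hσs : Function.Surjective σ := by
    intro a
    have ha : a.1 ∈ Γ.map (MonoidHom.fst _ _) := by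
      have h : closure (Set.range c) ≤ Γ.map (MonoidHom.fst _ _) := by
        rw [closure_le]
        rintro _ ⟨i, rfl⟩
        exact ⟨_, hpΓ i, rfl⟩
      exact h (hgen.ge a.2)
    obtain ⟨g, hg, hga⟩ := ha
    exact ⟨⟨g, hg⟩, Subtype.ext hga⟩
  have hZker : Z ≤ σ.ker := zpowers_le.2 (MonoidHom.mem_ker.2 (Subtype.ext rfl))
  have hcard : Nat.card σ.ker = 3 := by
    have h1 := σ.ker.card_mul_index
    have h2' : Nat.card (↥Γ ⧸ Z) * Nat.card Z = Nat.card ↥Γ :=
      (Subgroup.card_eq_card_quotient_mul_card_subgroup Z).symm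
    rw [Subgroup.index_ker, MonoidHom.range_eq_top.2 hσs, card_top] at h1
    haveI : Nontrivial (Fin n) := Fin.nontrivial_iff_two_le.2 (by omega)
    have hA : 2 * Nat.card (alternatingGroup (Fin n)) = n.factorial := by
      rw [Nat.card_eq_fintype_card, two_mul_card_alternatingGroup, Fintype.card_perm, Fintype.card_fin]
    have h4 := Subgroup.card_le_of_le hZker
    rw [hZcard] at h2' h4
    have h5 : 0 < Nat.card (alternatingGroup (Fin n)) := Nat.card_pos
    refine le_antisymm (Nat.le_of_mul_le_mul_right ?_ h5) h4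
    rw [h1, ← h2']
    calc Nat.card (↥Γ ⧸ Z) * 3 ≤ Nat.card (alternatingGroup (Fin n)) * 3 :=
          Nat.mul_le_mul_right _ (by omega)
      _ = _ := mul_comm _ _
  have hker : σ.ker = Z :=
    (eq_of_le_of_card_ge hZker (by rw [hcard, hZcard])).symm
  refine ⟨Γ, σ, ⟨hσs, hker ▸ hZc, ?_⟩, hcard⟩
  rw [hker, zpowers_le]
  have hmem : ∀ l : List (Fin m), (l.map (pr c x)).prod ∈ Γ := fun l =>
    list_prod_mem fun g hg => by
      obtain ⟨i, -, rfl⟩ := List.mem_map.1 hg
      exact hpΓ i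
  have : z' = ⁅(⟨_, hmem u⟩ : ↥Γ), ⟨_, hmem v⟩⁆ := Subtype.ext huv.symm
  rw [this, _root_.commutator_def]
  exact commutator_mem_commutator (mem_top _) (mem_top _)

/-! ### Degrees six and seven -/

/-- The three-cycles `(0 1 i)`. -/
def cyc7 (i : Fin 5) : Equiv.Perm (Fin 7) := swap 0 1 * swap 1 ⟨i.val + 2, by omega⟩

def cyc6 (i : Fin 4) : Equiv.Perm (Fin 6) := swap 0 1 * swap 1 ⟨i.val + 2, by omega⟩

/-- The word for `(0 1 j)`. -/
def zw {k : ℕ} (f : Fin k → Equiv.Perm (Fin (k + 2))) (j : Fin (k + 2)) : Equiv.Perm (Fin (k + 2)) :=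
  if h : 2 ≤ j.val then f ⟨j.val - 2, by omega⟩ else 1

/-- The word for `(0 i j)`. -/
def ow {k : ℕ} (f : Fin k → Equiv.Perm (Fin (k + 2))) (i j : Fin (k + 2)) : Equiv.Perm (Fin (k + 2)) :=
  zw f j * (zw f i)⁻¹

theorem closure_eq_alternating {k : ℕ} (f : Fin k → Equiv.Perm (Fin (k + 2)))
    (hev : ∀ i, f i ∈ alternatingGroup (Fin (k + 2)))
    (h0 : ∀ b c : Fin (k + 2), b ≠ 0 → c ≠ 0 → b ≠ c → swap 0 b * swap b c = ow f b c)
    (h : ∀ a b c : Fin (k + 2), a ≠ 0 → b ≠ 0 → c ≠ 0 → a ≠ b → a ≠ c → b ≠ c →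
      swap a b * swap b c = ow f a b * ow f b c) :
    closure (Set.range f) = alternatingGroup (Fin (k + 2)) := by
  refine le_antisymm ((closure_le _).2 (by rintro _ ⟨i, rfl⟩; exact hev i)) ?_
  rw [← closure_three_cycles_eq_alternating, closure_le]
  intro g hg
  have hz : ∀ j, zw f j ∈ closure (Set.range f) := fun j => by
    unfold zw
    split_ifs
    · exact subset_closure ⟨_, rfl⟩
    · exact one_mem _
  have ho : ∀ i j, ow f i j ∈ closure (Set.range f) := fun i j => mul_mem (hz j) (inv_mem (hz i))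
  obtain ⟨x, hx, hx0⟩ : ∃ x, x ∈ g.support ∧ (g 0 ≠ 0 → x = 0) := by
    by_cases h : g 0 = 0
    · obtain ⟨x, hx⟩ := Finset.card_pos.1 (by rw [IsThreeCycle.card_support hg]; norm_num : 0 < g.support.card)
      exact ⟨x, hx, fun h' => absurd h h'⟩
    · exact ⟨0, mem_support.2 h, fun _ => rfl⟩
  have hgx : g x ≠ x := mem_support.1 hx
  have h12 : g x ≠ g (g x) := fun e => hgx (g.injective e).symm
  have h02 : x ≠ g (g x) := by
    intro e
    have h3 : (g ^ 3) x = x := by rw [← IsThreeCycle.orderOf hg, pow_orderOf_eq_one]; rfl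
    have h3' : g (g (g x)) = x := h3
    rw [← e] at h3'
    exact hgx h3'
  rw [SetLike.mem_coe, (IsThreeCycle.eq_swap_mul_swap_iff_mem_support hg).2 hx]
  by_cases hg0 : g 0 = 0
  · have ne0 : ∀ y, g y ≠ y → y ≠ 0 := fun y hy e => hy (e ▸ hg0)
    have hb : g (g x) ≠ g x := Ne.symm h12
    have hc : g (g (g x)) ≠ g (g x) := fun e => h12 (g.injective e).symm
    rw [h x (g x) (g (g x)) (ne0 x hgx) (ne0 _ hb) (ne0 _ hc) hgx.symm h02 h12]
    exact mul_mem (ho _ _) (ho _ _)
  · obtain rfl := hx0 hg0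
    rw [h0 _ _ hgx (Ne.symm h02) h12]
    exact ho _ _

theorem cyc7_closure : closure (Set.range cyc7) = alternatingGroup (Fin 7) :=
  closure_eq_alternating cyc7 (fun i => mem_alternatingGroup.2 (by revert i; decide +kernel)) (by decide +kernel) (by decide +kernel)

theorem cyc6_closure : closure (Set.range cyc6) = alternatingGroup (Fin 6) :=
  closure_eq_alternating cyc6 (fun i => mem_alternatingGroup.2 (by revert i; decide +kernel)) (by decide +kernel) (by decide +kernel)

theorem cover_seven : ∃ (Γ : Subgroup (Equiv.Perm (Fin 7) × GM)) (σ : ↥Γ →* alternatingGroup (Fin 7)),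
    Cfsg.IsStemExtension σ ∧ Nat.card σ.ker = 3 :=
  exists_cover cyc7 gm rfl cyc7_closure (by decide +kernel) (by decide +kernel) (by decide +kernel)
    [0] [1, 2, 3, 1, 2] (by decide +kernel)

theorem cover_six : ∃ (Γ : Subgroup (Equiv.Perm (Fin 6) × GM)) (σ : ↥Γ →* alternatingGroup (Fin 6)),
    Cfsg.IsStemExtension σ ∧ Nat.card σ.ker = 3 :=
  exists_cover cyc6 (fun i => gm i.castSucc) rfl cyc6_closure (by decide +kernel) (by decide +kernel)
    (by decide +kernel) [0] [1, 2, 3, 1, 2] (by decide +kernel)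

end CfsgLib.KGroups.TripleAlt
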