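import Cfsg.Prelude.Def_ConjugacyFunctors
import Cfsg.Agent.Lib.KGroups.ClosureControl

/-!
Two conjugacy functors, the second central: strong fusion is controlled globally if it is controlled in
every normalizer of a subgroup between the centre of a Sylow subgroup and the Sylow subgroup.
-/

set_option autoImplicit false
set_option linter.style.haveILetI false
set_option linter.unusedSectionVars false

namespace CfsgLib.KGroups.TwoFunctorFusion

open CfsgLib.LocalEven.SylowIn
open CfsgLib.KGroups.ClosureControl (cj cj_one cj_cj mem_cj cj_eq conj_cent cj_of_cent)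

variable {G : Type*} [Group G] [Finite G] {p : ℕ} [Fact p.Prime]
variable {P : Subgroup G} {W V : Subgroup G → Subgroup G}

/-- A step: normalize `W P` or centralize `V P`. -/
def Step (P : Subgroup G) (W V : Subgroup G → Subgroup G) (b : G) : Prop :=
  b ∈ Subgroup.normalizer (W P : Set G) ∨ b ∈ Subgroup.centralizer (V P : Set G)

theorem Step.inv {b : G} (h : Step P W V b) : Step P W V b⁻¹ :=
  h.elim (fun h => Or.inl (inv_mem h)) (fun h => Or.inr (inv_mem h))

/-- Successive steps carrying `A` inside `P`. -/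
inductive Chain (P : Subgroup G) (W V : Subgroup G → Subgroup G) : Subgroup G → G → Prop
  | nil (A : Subgroup G) : Chain P W V A 1
  | cons (A : Subgroup G) (b a : G) : Step P W V b → cj b⁻¹ A ≤ P → Chain P W V (cj b⁻¹ A) a →
      Chain P W V A (b * a)

theorem Chain.trans {A : Subgroup G} {a a' : G} (h : Chain P W V A a)
    (h' : Chain P W V (cj a⁻¹ A) a') : Chain P W V A (a * a') := by
  induction h with
  | nil A => rw [inv_one, cj_one] at h'; rwa [one_mul]
  | cons A b a hb hA h ih =>
    rw [mul_inv_rev, ← cj_cj] at h'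
    rw [mul_assoc]
    exact .cons A b _ hb hA (ih h')

theorem Chain.single {A : Subgroup G} {b : G} (hb : Step P W V b) (hA : cj b⁻¹ A ≤ P) :
    Chain P W V A b := by
  simpa using Chain.cons A b 1 hb hA (.nil _)

theorem Chain.anti {A B : Subgroup G} {a : G} (h : Chain P W V B a) (hle : A ≤ B) :
    Chain P W V A a := by
  induction h generalizing A with
  | nil B => exact .nil A
  | cons B b a hb hB _ ih =>
    exact .cons A b a hb ((Subgroup.map_mono hle).trans hB) (ih (Subgroup.map_mono hle))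

theorem Chain.symm {A : Subgroup G} {a : G} (h : Chain P W V A a) (hA : A ≤ P) :
    Chain P W V (cj a⁻¹ A) a⁻¹ := by
  induction h with
  | nil A => rw [inv_one, cj_one]; exact .nil A
  | cons A b a hb hbA _ ih =>
    rw [mul_inv_rev, ← cj_cj]
    refine (ih hbA).trans ?_
    rw [inv_inv, cj_cj a, mul_inv_cancel, cj_one]
    refine .single hb.inv ?_
    rwa [inv_inv, cj_cj, mul_inv_cancel, cj_one]

/-- A centralizing element followed by steps. -/
def Good (P : Subgroup G) (W V : Subgroup G → Subgroup G) (A : Subgroup G) (a : G) : Prop :=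
  ∃ c ∈ Subgroup.centralizer (A : Set G), Chain P W V A (c⁻¹ * a)

theorem Good.of_cent {A : Subgroup G} {c : G} (hc : c ∈ Subgroup.centralizer (A : Set G)) :
    Good P W V A c :=
  ⟨c, hc, by rw [inv_mul_cancel]; exact .nil A⟩

theorem Good.of_chain {A : Subgroup G} {a : G} (h : Chain P W V A a) : Good P W V A a :=
  ⟨1, one_mem _, by rwa [inv_one, one_mul]⟩

theorem cj_of_good {A : Subgroup G} {a c : G} (hc : c ∈ Subgroup.centralizer (A : Set G)) :
    cj a⁻¹ A = cj (c⁻¹ * a)⁻¹ A := by
  rw [mul_inv_rev, inv_inv, ← cj_cj, cj_of_cent hc]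

theorem Good.trans {A : Subgroup G} {a a' : G} (h : Good P W V A a)
    (h' : Good P W V (cj a⁻¹ A) a') : Good P W V A (a * a') := by
  obtain ⟨c, hc, hch⟩ := h
  obtain ⟨c', hc', hch'⟩ := h'
  rw [cj_of_good hc] at hc' hch'
  have h2 : (c⁻¹ * a) * c' * (c⁻¹ * a)⁻¹ ∈ Subgroup.centralizer (A : Set G) := by
    have := conj_cent hc'
    rwa [inv_inv] at this
  refine ⟨c * ((c⁻¹ * a) * c' * (c⁻¹ * a)⁻¹), mul_mem hc h2, ?_⟩
  have := hch.trans hch'
  rw [show (c * ((c⁻¹ * a) * c' * (c⁻¹ * a)⁻¹))⁻¹ * (a * a') = (c⁻¹ * a) * (c'⁻¹ * a') by group]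
  exact this

theorem Good.anti {A B : Subgroup G} {a : G} (h : Good P W V B a) (hle : A ≤ B) :
    Good P W V A a := by
  obtain ⟨c, hc, hch⟩ := h
  exact ⟨c, Subgroup.centralizer_le hle hc, hch.anti hle⟩

theorem Good.symm {A : Subgroup G} {a : G} (h : Good P W V A a) (hA : A ≤ P) :
    Good P W V (cj a⁻¹ A) a⁻¹ := by
  obtain ⟨c, hc, hch⟩ := h
  have h1 := (Good.of_chain (hch.symm hA)).trans (a' := c⁻¹) (by
    rw [inv_inv, cj_cj, mul_inv_cancel, cj_one]
    exact Good.of_cent (inv_mem hc))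
  rw [← cj_of_good hc] at h1
  convert h1 using 1
  group

/-- All `p`-elements centralizing `Y` lie in `Y`. -/
def Cent (p : ℕ) (Y : Subgroup G) : Prop :=
  ∀ z ∈ Subgroup.centralizer (Y : Set G), IsPGroup p (Subgroup.zpowers z) → z ∈ Y

theorem Cent.conj {Y : Subgroup G} (h : Cent p Y) (g : G) : Cent p (cj g Y) := by
  intro z hz hzp
  rw [mem_cj]
  refine h _ (conj_cent hz) ?_
  have := hzp.map (MulAut.conj g⁻¹).toMonoidHom
  rw [MonoidHom.map_zpowers] at this
  change IsPGroup p (Subgroup.zpowers (g⁻¹ * z * g⁻¹⁻¹)) at this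
  rwa [inv_inv] at this

/-- The centre of a subgroup. -/
abbrev ctr (H : Subgroup G) : Subgroup G := H ⊓ Subgroup.centralizer (H : Set G)

theorem Cent.ctr_le {Y : Subgroup G} (h : Cent p Y) (hP : IsPGroup p P) (hY : Y ≤ P) : ctr P ≤ Y :=
  fun z hz => h z (Subgroup.centralizer_le hY hz.2) (hP.to_le (Subgroup.zpowers_le.mpr hz.1))

theorem ctr_le_ctr {Y T : Subgroup G} (h : Cent p Y) (hP : IsPGroup p P) (hYT : Y ≤ T) (hT : T ≤ P) :
    ctr P ≤ ctr T :=
  fun z hz => ⟨hYT (h.ctr_le hP (hYT.trans hT) hz), Subgroup.centralizer_le hT hz.2⟩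

theorem cj_normalizer_mem {l b : G} {A : Subgroup G} (hb : b ∈ Subgroup.normalizer (A : Set G)) :
    l * b * l⁻¹ ∈ Subgroup.normalizer (cj l A : Set G) := by
  refine cj_eq.mp ?_
  rw [cj_cj, inv_mul_cancel_right, ← cj_cj, cj_eq.mpr hb]

variable (p) (P W V)

/-- Local decomposition relative to a Sylow subgroup of the normalizer of `H`. -/
def LocalAt (H : Subgroup G) : Prop :=
  ∀ T : Subgroup G, IsSylowIn p T (Subgroup.normalizer (H : Set G)) → ∀ Y ≤ T,
    ∀ a ∈ Subgroup.normalizer (H : Set G), cj a⁻¹ Y ≤ T →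
      ∃ c ∈ Subgroup.centralizer (Y : Set G), ∃ l : List G,
        (∀ b ∈ l, b ∈ Subgroup.normalizer (W T : Set G) ∨ b ∈ Subgroup.centralizer (V T : Set G)) ∧
          a = c * l.prod ∧ ∀ k : ℕ, cj ((l.take k).prod)⁻¹ Y ≤ T

variable {p P W V}

theorem good (S : Sylow p G) (hS : (S : Subgroup G) ≠ ⊥) (hW : Cfsg.IsConjugacyFunctor p W)
    (hWZ : ∀ H : Subgroup G, IsPGroup p ↥H → ctr H ≤ W H)
    (hVmono : ∀ H K : Subgroup G, IsPGroup p ↥H → IsPGroup p ↥K → H ≠ ⊥ → K ≠ ⊥ →
      ctr H ≤ ctr K → V H ≤ V K)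
    (hloc : ∀ H : Subgroup G, ctr (S : Subgroup G) ≤ H → H ≤ (S : Subgroup G) → LocalAt p W V H) :
    ∀ A : Subgroup G, A ≤ (S : Subgroup G) → ∀ g : G, cj g⁻¹ A ≤ (S : Subgroup G) →
      Good (S : Subgroup G) W V A g := by
  classical
  intro A
  induction' hk : Nat.card G - Nat.card A using Nat.strong_induction_on with k ih generalizing A
  intro hA g hg
  have IH : ∀ B : Subgroup G, Nat.card A < Nat.card B → B ≤ (S : Subgroup G) →
      ∀ y : G, cj y⁻¹ B ≤ (S : Subgroup G) → Good (S : Subgroup G) W V B y := by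
    intro B hAB
    have := Subgroup.card_le_card_group B
    exact ih _ (by omega) B rfl
  have hcard : ∀ (x : G) (Y : Subgroup G), Nat.card (cj x Y) = Nat.card Y := fun x Y =>
    Subgroup.card_map_of_injective (MulAut.conj x).injective
  -- lists of steps relative to `T`
  have hlist : ∀ T : Subgroup G, T ≤ (S : Subgroup G) →
      (∀ Y ≤ T, Cent p Y → Nat.card A = Nat.card Y → ∀ b ∈ Subgroup.normalizer (W T : Set G),
        cj b⁻¹ Y ≤ T → Good (S : Subgroup G) W V Y b) →
      ∀ l : List G, (∀ b ∈ l, b ∈ Subgroup.normalizer (W T : Set G) ∨ b ∈ Subgroup.centralizer (V T : Set G)) →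
        ∀ Y ≤ T, Cent p Y → Nat.card A = Nat.card Y → (∀ k : ℕ, cj ((l.take k).prod)⁻¹ Y ≤ T) →
          Good (S : Subgroup G) W V Y l.prod := by
    intro T hT hstep l
    induction l with
    | nil => intro _ Y _ _ _ _; exact Good.of_cent (one_mem _)
    | cons b l ihl =>
      intro hl Y hY hYc hYA htake
      rw [List.prod_cons]
      have h1 : cj b⁻¹ Y ≤ T := by simpa using htake 1
      refine Good.trans ?_ (ihl (fun x hx => hl x (List.mem_cons_of_mem b hx)) _ h1 (hYc.conj _)
        (by rw [hcard]; exact hYA) fun k => ?_)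
      · rcases hl b (List.mem_cons_self ..) with hb | hb
        · exact hstep Y hY hYc hYA b hb h1
        · refine Good.of_chain (.single (Or.inr ?_) (h1.trans hT))
          have hTne : T ≠ ⊥ := by
            rintro rfl
            refine hS (eq_bot_iff.mpr fun z hz => hY (hYc z ?_ (S.2.to_le (Subgroup.zpowers_le.mpr hz))))
            rw [le_bot_iff.mp hY, Subgroup.mem_centralizer_iff]
            intro x hx
            rw [Subgroup.mem_bot.mp hx, one_mul, mul_one]
          exact Subgroup.centralizer_le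
            (hVmono _ T S.2 (S.2.to_le hT) hS hTne (ctr_le_ctr hYc S.2 hY hT)) hb
      · have h2 := htake (k + 1)
        rw [List.take_succ_cons, List.prod_cons, mul_inv_rev, ← cj_cj] at h2
        exact h2
  -- normalizers of `W T`
  have hrec : ∀ m : ℕ, ∀ T : Subgroup G, Nat.card G - Nat.card T = m → T ≤ (S : Subgroup G) →
      ∀ Y ≤ T, Cent p Y → Nat.card A = Nat.card Y → ∀ b ∈ Subgroup.normalizer (W T : Set G),
        cj b⁻¹ Y ≤ T → Good (S : Subgroup G) W V Y b := by
    intro m
    induction m using Nat.strong_induction_on with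
    | _ m ihm =>
    intro T hm hT Y hY hYc hYA b hb hbY
    by_cases hTS : T = (S : Subgroup G)
    · exact Good.of_chain (.single (Or.inl (hTS ▸ hb)) (hbY.trans hT))
    obtain ⟨hWle, -, hWcj⟩ := hW T (S.2.to_le hT)
    have hNT : Subgroup.normalizer (T : Set G) ≤ Subgroup.normalizer (W T : Set G) :=
      le_normalizer_of_map_conj fun x hx => by rw [← hWcj, map_conj_eq_iff.mpr hx]
    set T' := (S : Subgroup G) ⊓ Subgroup.normalizer (W T : Set G) with hT'
    have hTT' : T ≤ T' := le_inf hT (Subgroup.le_normalizer.trans hNT)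
    have hlt : Nat.card T < Nat.card T' := by
      obtain ⟨d, hd, ⟨-, hdN⟩, hdT⟩ := CfsgLib.Fsys.exists_mem_normalizer_not_mem S.2 le_rfl
        (lt_of_le_of_ne hT hTS)
      refine lt_of_le_of_ne (Subgroup.card_le_of_le hTT') fun e => hdT ?_
      exact (Subgroup.eq_of_le_of_card_ge hTT' e.ge).symm ▸ ⟨hd, hNT hdN⟩
    obtain ⟨T₂, hT₂, hT'T₂⟩ := exists_isSylowIn (Subgroup.normalizer (W T : Set G))
      (inf_le_right : T' ≤ _) (S.2.to_le inf_le_left)
    obtain ⟨S', hS'⟩ := (hT₂.2.1).exists_le_sylow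
    obtain ⟨x, hx⟩ := MulAction.exists_smul_eq G S' S
    have hxT₂ : cj x T₂ ≤ (S : Subgroup G) := by
      rw [← hx, Sylow.coe_subgroup_smul]
      exact Subgroup.map_mono hS'
    have hxT' : cj x T' ≤ (S : Subgroup G) := (Subgroup.map_mono hT'T₂).trans hxT₂
    have hgood : Good (S : Subgroup G) W V T' x⁻¹ := by
      refine IH T' ?_ inf_le_left x⁻¹ (by rwa [inv_inv])
      rw [hYA]
      exact (Subgroup.card_le_of_le hY).trans_lt hlt
    set T₁ := cj x T₂ with hT₁
    set K := cj x (W T) with hK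
    have hT₁syl : IsSylowIn p T₁ (Subgroup.normalizer (K : Set G)) := by
      have h := hT₂.map_conj x
      rwa [← normalizer_map_conj] at h
    have hcjT : cj x T ≤ (S : Subgroup G) := (Subgroup.map_mono hTT').trans hxT'
    have hY₁T : cj x Y ≤ cj x T := Subgroup.map_mono hY
    have hZK : ctr (S : Subgroup G) ≤ K := by
      rw [hK, show cj x (W T) = W (cj x T) from (hWcj x).symm]
      exact (ctr_le_ctr (hYc.conj x) S.2 hY₁T hcjT).trans (hWZ _ (S.2.to_le hcjT))
    have hKS : K ≤ (S : Subgroup G) := (Subgroup.map_mono hWle).trans hcjT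
    have hYT₂ : ∀ {Z : Subgroup G}, Z ≤ T → cj x Z ≤ T₁ := fun h =>
      Subgroup.map_mono (h.trans (hTT'.trans hT'T₂))
    have hb₁ : cj (x * b * x⁻¹)⁻¹ (cj x Y) = cj x (cj b⁻¹ Y) := by
      rw [cj_cj, cj_cj]
      congr 1
      group
    obtain ⟨c, hc, l, hl, hprod, htake⟩ := hloc K hZK hKS T₁ hT₁syl (cj x Y) (hYT₂ hY) (x * b * x⁻¹)
      (cj_normalizer_mem hb) (by rw [hb₁]; exact hYT₂ hbY)
    have hm' : Nat.card G - Nat.card T₁ < m := by
      have h1 : Nat.card T' ≤ Nat.card T₂ := Subgroup.card_le_of_le hT'T₂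
      have h2 : Nat.card T₁ = Nat.card T₂ := hcard x T₂
      have h3 := Subgroup.card_le_card_group T₁
      omega
    have hg₁ : Good (S : Subgroup G) W V (cj x Y) (x * b * x⁻¹) := by
      rw [hprod]
      refine (Good.of_cent hc).trans ?_
      rw [cj_of_cent (inv_mem hc)]
      exact hlist T₁ hxT₂ (ihm _ hm' T₁ rfl hxT₂) l hl _ (hYT₂ hY) (hYc.conj x)
        (by rw [hcard]; exact hYA) htake
    have hgY : Good (S : Subgroup G) W V Y x⁻¹ := hgood.anti (hY.trans hTT')
    have hgback : Good (S : Subgroup G) W V (cj x (cj b⁻¹ Y)) x := by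
      have := (hgood.anti (hbY.trans hTT')).symm (hbY.trans hT)
      rwa [inv_inv] at this
    have h1 := (hgY.trans (a' := x * b * x⁻¹) (by rwa [inv_inv])).trans (a' := x) (by
      rw [show (x⁻¹ * (x * b * x⁻¹))⁻¹ = x * b⁻¹ by group, ← cj_cj]
      exact hgback)
    convert h1 using 1
    group
  obtain ⟨n, Q, x, hprod, hQ, hfirst, hnext⟩ := Cfsg.Agent.S0116.result S (A : Set G) g (fun a ha => hA ha) (by
    rintro _ ⟨a, ha, rfl⟩
    refine hg ⟨a, ha, ?_⟩
    show g⁻¹ * a * g⁻¹⁻¹ = g⁻¹ * a * g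
    rw [inv_inv])
  have key : ∀ i : ℕ, i ≤ n → Good (S : Subgroup G) W V A ((List.ofFn x).take i).prod := by
    intro i
    induction i with
    | zero =>
      intro _
      rw [List.take_zero, List.prod_nil]
      exact Good.of_cent (one_mem _)
    | succ i hi =>
      intro hin'
      rw [List.prod_take_succ _ i (by simpa using hin'), List.getElem_ofFn]
      set R := (S : Subgroup G) ⊓ (Q ⟨i, hin'⟩ : Subgroup G) with hR
      set a₀ := ((List.ofFn x).take i).prod with ha₀
      have hAR : cj a₀⁻¹ A ≤ R := by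
        rintro _ ⟨a, ha, rfl⟩
        show a₀⁻¹ * a * a₀⁻¹⁻¹ ∈ R
        rw [inv_inv]
        rcases i with _ | j
        · rw [ha₀, List.take_zero, List.prod_nil, inv_one, one_mul, mul_one]
          exact hfirst hin' ha
        · exact hnext ⟨j, by omega⟩ hin' ⟨a, ha, rfl⟩
      refine (hi (by omega)).trans (Good.anti ?_ hAR)
      obtain ⟨hxN, hP', -⟩ := hQ ⟨i, hin'⟩
      set y₀ := x ⟨i, hin'⟩
      set NR := Subgroup.normalizer (R : Set G) with hNR
      have hAR' : Nat.card A ≤ Nat.card R := by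
        rw [← hcard a₀⁻¹ A]
        exact Subgroup.card_le_of_le hAR
      have hxR : cj y₀⁻¹ R = R := cj_eq.mpr (inv_mem hxN)
      rcases lt_or_eq_of_le hAR' with hlt | heq
      · exact IH R hlt inf_le_left _ (hxR.le.trans inf_le_left)
      have hsyl : IsSylowIn p ((S : Subgroup G) ⊓ NR) NR :=
        CfsgLib.KGroups.Functor.isSylowIn_of_not_dvd inf_le_right (S.2.to_le inf_le_left) hP'
      set CR := Subgroup.centralizer (R : Set G) with hCR
      have hCN : CR ≤ NR := Subgroup.centralizer_le_normalizer _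
      have hNC : NR ≤ Subgroup.normalizer (CR : Set G) := le_normalizer_of_map_conj fun z hz => by
        rw [← centralizer_map_conj, map_conj_eq_iff.mpr hz]
      have hCsyl : IsSylowIn p ((S : Subgroup G) ⊓ CR) CR := by
        have := ClosureControl.sylowIn_inf hsyl hCN hNC
        rwa [inf_assoc, inf_eq_right.mpr hCN] at this
      by_cases hcen : (S : Subgroup G) ⊓ CR ≤ R
      · have hRc : Cent p R := by
          intro z hz hzp
          obtain ⟨T, hT, hzT⟩ := exists_isSylowIn CR (Subgroup.zpowers_le.mpr hz) hzp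
          obtain ⟨m, hm, e⟩ := hCsyl.conjugate hT
          have hle : T ≤ R := by
            rw [e]
            exact (Subgroup.map_mono hcen).trans (cj_of_cent hm).le
          exact hle (hzT (Subgroup.mem_zpowers z))
        have hRS : R ≤ (S : Subgroup G) ⊓ NR := le_inf inf_le_left Subgroup.le_normalizer
        obtain ⟨c, hc, l, hl, hprod', htake⟩ := hloc R (hRc.ctr_le S.2 inf_le_left) inf_le_left _ hsyl
          R hRS y₀ hxN (hxR.le.trans hRS)
        rw [hprod']
        refine (Good.of_cent hc).trans ?_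
        rw [cj_of_cent (inv_mem hc)]
        exact hlist _ inf_le_left (hrec _ _ rfl inf_le_left) l hl R hRS hRc heq htake
      · obtain ⟨c, hc, y, hy, e⟩ := frattini_argument hCsyl hNC hCN hxN
        rw [e]
        refine (Good.of_cent hc).trans ?_
        rw [cj_of_cent (inv_mem hc)]
        refine Good.anti (IH (R ⊔ (S : Subgroup G) ⊓ CR) ?_ (sup_le inf_le_left inf_le_left) y ?_) le_sup_left
        · rw [heq]
          refine lt_of_le_of_ne (Subgroup.card_le_of_le le_sup_left) fun e => hcen ?_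
          exact (Subgroup.eq_of_le_of_card_ge le_sup_left e.ge).symm ▸ le_sup_right
        · refine le_of_eq_of_le ?_ (sup_le inf_le_left inf_le_left :
            R ⊔ (S : Subgroup G) ⊓ CR ≤ (S : Subgroup G))
          show Subgroup.map _ (R ⊔ _) = _
          rw [Subgroup.map_sup, show R.map (MulAut.conj y⁻¹).toMonoidHom = R from cj_eq.mpr (inv_mem hy.1),
            show ((S : Subgroup G) ⊓ CR).map (MulAut.conj y⁻¹).toMonoidHom = _ from cj_eq.mpr (inv_mem hy.2)]
  have h := key n le_rfl
  rw [List.take_of_length_le (by simp), hprod] at h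
  exact h

theorem Chain.exists_list {A : Subgroup G} {a : G} (h : Chain P W V A a) (hA : A ≤ P) :
    ∃ l : List G, (∀ b ∈ l, Step P W V b) ∧ l.prod = a ∧ ∀ k : ℕ, cj ((l.take k).prod)⁻¹ A ≤ P := by
  induction h with
  | nil A => exact ⟨[], by simp, rfl, fun k => by simpa [cj_one] using hA⟩
  | cons A b a hb hbA _ ih =>
    obtain ⟨l, hl, e, ht⟩ := ih hbA
    refine ⟨b :: l, fun x hx => (List.mem_cons.mp hx).elim (fun e => e ▸ hb) (hl x), by rw [List.prod_cons, e],
      fun k => ?_⟩
    cases k with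
    | zero => simpa [cj_one] using hA
    | succ k =>
      rw [List.take_succ_cons, List.prod_cons, mul_inv_rev, ← cj_cj]
      exact ht k

end CfsgLib.KGroups.TwoFunctorFusion
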