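import Cfsg.Agent.Lib.LocalEven.Yoshida
import Cfsg.Agent.Lib.Fusion.MaxClass

/-!
Transfer products over a `p`-group: a nontrivial product forces the wreath product `C_p ≀ C_p` as an image.
-/

set_option autoImplicit false

namespace CfsgLib.KGroups.Wreath

open Finset

/-- An iterated commutator in a maximal subgroup outside its Frattini subgroup gives a wreath image. -/
theorem wreath_image {p : ℕ} [Fact p.Prime] {P : Type*} [Group P] [Finite P] (hP : IsPGroup p P)
    {M : Subgroup P} (hM : IsCoatom M) (x z u : P) (hu : u ∈ M) (huF : (⟨u, hu⟩ : ↥M) ∉ frattini ↥M)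
    (hiu : (fun y : P => y⁻¹ * z⁻¹ * y * z)^[p - 1] x = u) :
    ∃ (Q : Sylow p (Equiv.Perm (Fin (p ^ 2)))) (f : P →* ↥(Q : Subgroup (Equiv.Perm (Fin (p ^ 2))))),
      Function.Surjective f := by
  classical
  have hp : p.Prime := Fact.out
  obtain ⟨K, hK, huK⟩ : ∃ K : Subgroup ↥M, IsCoatom K ∧ (⟨u, hu⟩ : ↥M) ∉ K := by
    by_contra hall
    push Not at hall
    refine huF ?_
    simp only [frattini, Order.radical, Subgroup.mem_iInf, Set.mem_ofPred_eq]
    exact hall
  set K' : Subgroup P := K.map M.subtype with hK'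
  have hidx : K'.index = p * p := by
    rw [← Subgroup.relIndex_mul_index (Subgroup.map_subtype_le K),
      CfsgLib.PGroup.Frattini.index_of_isCoatom hP hM]
    congr 1
    rw [Subgroup.relIndex, Subgroup.subgroupOf, Subgroup.comap_map_eq_self_of_injective M.subtype_injective,
      CfsgLib.PGroup.Frattini.index_of_isCoatom (hP.to_subgroup M) hK]
  let eK : P ⧸ K' ≃ Fin (p ^ 2) := (Finite.equivFin _).trans (finCongr (by
    rw [← Subgroup.index_eq_card, hidx, pow_two]))
  let φ : P →* Equiv.Perm (Fin (p ^ 2)) :=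
    (Equiv.permCongrHom eK).toMonoidHom.comp (MulAction.toPermHom _ (P ⧸ K'))
  have hrange : IsPGroup p φ.range := by
    rw [MonoidHom.range_eq_map]; exact (hP.to_subgroup ⊤).map φ
  obtain ⟨Q, hQ⟩ := hrange.exists_le_sylow
  refine ⟨Q, φ.codRestrict _ (fun a => hQ ⟨a, rfl⟩), ?_⟩
  suffices hcard : Nat.card ↥(Q : Subgroup (Equiv.Perm (Fin (p ^ 2)))) ≤ Nat.card φ.range by
    have heq : φ.range = (Q : Subgroup (Equiv.Perm (Fin (p ^ 2)))) := Subgroup.eq_of_le_of_card_ge hQ hcard
    intro b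
    obtain ⟨a, ha⟩ := heq.ge b.2
    exact ⟨a, Subtype.ext ha⟩
  have hQcard : Nat.card ↥(Q : Subgroup (Equiv.Perm (Fin (p ^ 2)))) = p ^ (p + 1) := by
    rw [Sylow.card_eq_multiplicity, Nat.card_perm, Nat.card_eq_fintype_card, Fintype.card_fin,
      Nat.factorization_def _ hp, pow_two, padicValNat_factorial_mul]
    have h1 := padicValNat_factorial_mul (p := p) 1
    rw [mul_one] at h1
    rw [h1]
    simp [add_comm]
  rw [hQcard]
  obtain ⟨n, hn⟩ := hrange.exists_card_eq
  rw [hn]
  refine Nat.pow_le_pow_right hp.pos ?_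
  by_contra hlt
  have hbot : (⊤ : Subgroup φ.range).lowerCentralSeries (p - 1) = ⊥ := by
    have hp2 := hp.two_le
    haveI := hrange.isNilpotent
    rw [Subgroup.lowerCentralSeries_eq_bot_iff_nilpotencyClass_le]
    rcases le_or_gt 2 n with h2 | h2
    · exact le_trans (CfsgLib.Fusion.MaxClass.class_le' h2 hn) (by omega)
    · rw [← Subgroup.lowerCentralSeries_eq_bot_iff_nilpotencyClass_le, eq_bot_iff]
      refine le_trans (Subgroup.lowerCentralSeries_antitone _ (show 1 ≤ p - 1 by omega)) ?_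
      rw [Subgroup.top_lowerCentralSeries_one, le_bot_iff, commutator_eq_bot_iff_center_eq_top,
        Subgroup.eq_top_iff']
      haveI : IsCyclic φ.range := by
        rcases (show n = 0 ∨ n = 1 by omega) with rfl | rfl
        · haveI : Subsingleton φ.range := (Nat.card_eq_one_iff_unique.mp (by simpa using hn)).1
          infer_instance
        · exact isCyclic_of_prime_card (p := p) (by simpa using hn)
      exact fun a => Subgroup.mem_center_iff.2 fun b => (IsCyclic.isMulCommutative (α := φ.range)).is_comm.comm b a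
  have hlcs : ∀ k, φ.rangeRestrict ((fun y : P => y⁻¹ * z⁻¹ * y * z)^[k] x) ∈
      (⊤ : Subgroup φ.range).lowerCentralSeries k := by
    intro k
    induction k with
    | zero => exact Subgroup.mem_top _
    | succ k ih =>
      rw [Function.iterate_succ_apply', Subgroup.lowerCentralSeries_succ, map_mul, map_mul, map_mul, map_inv, map_inv]
      have := Subgroup.commutator_mem_commutator (inv_mem ih) (Subgroup.mem_top ((φ.rangeRestrict z)⁻¹))
      simpa [commutatorElement_def] using this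
  have hvm := hlcs (p - 1)
  rw [hbot, Subgroup.mem_bot, hiu] at hvm
  have h1 : φ u = 1 := congrArg Subtype.val hvm
  have h2 := Equiv.Perm.congr_fun ((Equiv.permCongrHom eK).injective (h1.trans (map_one _).symm))
    ((1 : P) : P ⧸ K')
  rw [MulAction.toPermHom_apply, MulAction.toPerm_apply, Equiv.Perm.one_apply, MulAction.Quotient.smul_coe,
    smul_eq_mul, mul_one, QuotientGroup.eq, mul_one] at h2
  have h3 := inv_mem_iff.mp h2
  rw [hK'] at h3
  obtain ⟨w, hw, hwe⟩ := h3
  exact huK ((Subtype.ext hwe : w = (⟨u, hu⟩ : ↥M)) ▸ hw)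

/-- A cocycle that is trivial on stabilizers is a coboundary. -/
theorem coboundary {H O A : Type*} [Group H] [MulAction H O] [CommGroup A] (e : H → O → A)
    (hc : ∀ a b o, e (a * b) o = e a (b • o) * e b o) (hs : ∀ g o, g • o = o → e g o = 1) :
    ∃ c : O → A, ∀ g o, e g o * c o = c (g • o) := by
  classical
  have hr : ∀ o : O, ∃ g : H, g • (Quotient.mk (MulAction.orbitRel H O) o).out = o := fun o => by
    have : MulAction.orbitRel H O o (Quotient.mk (MulAction.orbitRel H O) o).out :=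
      ((MulAction.orbitRel H O).symm (Quotient.mk_out (s := MulAction.orbitRel H O) o))
    exact MulAction.mem_orbit_iff.1 this
  choose γ hγ using hr
  refine ⟨fun o => e (γ o) (Quotient.mk (MulAction.orbitRel H O) o).out, fun g o => ?_⟩
  set r := (Quotient.mk (MulAction.orbitRel H O) o).out with hr'
  have hq : (Quotient.mk (MulAction.orbitRel H O) (g • o)).out = r :=
    congrArg Quotient.out (Quotient.sound (MulAction.mem_orbit o g))
  simp only [hq, ← hr']
  have hst : ((γ (g • o))⁻¹ * (g * γ o)) • r = r := by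
    rw [mul_smul, mul_smul, hr', hγ, inv_smul_eq_iff]
    conv_lhs => rw [← hγ (g • o), hq]
  calc e g o * e (γ o) r = e (g * γ o) r := by rw [hc, hr', hγ]
    _ = e (γ (g • o) * ((γ (g • o))⁻¹ * (g * γ o))) r := by rw [mul_inv_cancel_left]
    _ = e (γ (g • o)) r := by rw [hc, hst, hs _ _ hst, mul_one]

/-- A product over an invariant set of a coboundary vanishes. -/
theorem prod_eq_one {H O A : Type*} [Group H] [MulAction H O] [CommGroup A] (e : H → O → A) (c : O → A)
    (hc : ∀ g o, e g o * c o = c (g • o)) (g : H) (T : Finset O) (hT : ∀ o ∈ T, g • o ∈ T) :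
    ∏ o ∈ T, e g o = 1 := by
  classical
  have h1 : ∏ o ∈ T, c (g • o) = ∏ o ∈ T, c o := by
    refine Finset.prod_bij (fun o _ => g • o) hT (fun a _ b _ h => smul_left_cancel g h) (fun b hb => ?_) fun _ _ => rfl
    have himg : T.image (fun o => g • o) = T := Finset.eq_of_subset_of_card_le
      (Finset.image_subset_iff.2 hT) (le_of_eq (Finset.card_image_of_injective _ (MulAction.injective g)).symm)
    rw [← himg] at hb
    obtain ⟨a, ha, rfl⟩ := Finset.mem_image.1 hb
    exact ⟨a, ha, rfl⟩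
  have h2 : (∏ o ∈ T, e g o) * ∏ o ∈ T, c o = ∏ o ∈ T, c o := by
    rw [← Finset.prod_mul_distrib]
    exact (Finset.prod_congr rfl fun o _ => hc g o).trans h1
  exact mul_eq_right.1 h2

/-- Yoshida's product lemma. -/
theorem cocycle_product {p : ℕ} [Fact p.Prime] {P O A : Type*} [Group P] [Finite P] (hP : IsPGroup p P)
    [MulAction P O] [Fintype O] [CommGroup A] (e : P → O → A) (hc : ∀ a b o, e (a * b) o = e a (b • o) * e b o)
    (y : P) (h1 : ∀ t o, t • o = o → e t o ^ p = 1)
    (h2 : ∀ t o, t • o = o → orderOf t < orderOf y → e t o = 1)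
    (h3 : ∀ o, (∀ g : P, g • o = o) → e y o = 1) (hne : ∏ o, e y o ≠ 1) :
    ∃ (Q : Sylow p (Equiv.Perm (Fin (p ^ 2)))) (f : P →* ↥(Q : Subgroup (Equiv.Perm (Fin (p ^ 2))))),
      Function.Surjective f := by
  classical
  -- products over invariant sets without fixed points vanish
  have hfree : ∀ T : Finset O, (∀ o ∈ T, y • o ∈ T) → (∀ o ∈ T, y • o ≠ o) → ∏ o ∈ T, e y o = 1 := by
    intro T hT hnf
    let e' : ↥(Subgroup.zpowers y) → O → A := fun g o => if y • o = o then 1 else e g o
    have hfix : ∀ (g : ↥(Subgroup.zpowers y)) (o : O), y • (g • o) = g • o ↔ y • o = o := by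
      rintro ⟨g, hg⟩ o
      obtain ⟨k, rfl⟩ := Subgroup.mem_zpowers_iff.1 hg
      show y • (y ^ k • o) = y ^ k • o ↔ _
      rw [← mul_smul, ← (Commute.zpow_self y k).eq, mul_smul, smul_left_cancel_iff]
    obtain ⟨c, hc'⟩ := coboundary e' (fun a b o => by
      by_cases h : y • o = o
      · simp [e', h, hfix]
      · simp only [e', hfix, if_neg h]
        exact hc a b o) (fun g o hgo => by
      by_cases h : y • o = o
      · simp [e', h]
      · simp only [e', if_neg h]
        refine h2 g o hgo (lt_of_le_of_ne (Nat.le_of_dvd (orderOf_pos y) ?_) fun he => h ?_)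
        · rw [← Nat.card_zpowers, ← Nat.card_zpowers]
          exact Subgroup.card_dvd_of_le (Subgroup.zpowers_le.2 g.2)
        · have heq : Subgroup.zpowers (g : P) = Subgroup.zpowers y :=
            Subgroup.eq_of_le_of_card_ge (Subgroup.zpowers_le.2 g.2) (by rw [Nat.card_zpowers, Nat.card_zpowers, he])
          have hle : Subgroup.zpowers (g : P) ≤ MulAction.stabilizer P o := Subgroup.zpowers_le.2 hgo
          exact hle (heq.ge (Subgroup.mem_zpowers y)))
    have h := prod_eq_one e' c hc' (⟨y, Subgroup.mem_zpowers y⟩ : ↥(Subgroup.zpowers y)) T hT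
    rw [← h]
    exact Finset.prod_congr rfl fun o ho => by simp [e', hnf o ho]
  obtain ⟨cp, hcp⟩ := coboundary (fun g o => e g o ^ p) (fun a b o => by rw [hc, mul_pow]) h1
  -- an orbit with nontrivial product
  obtain ⟨q, hq⟩ : ∃ q : Quotient (MulAction.orbitRel P O),
      ∏ o ∈ univ.filter (fun o => Quotient.mk (MulAction.orbitRel P O) o = q), e y o ≠ 1 := by
    by_contra hall
    push Not at hall
    haveI : Fintype (Quotient (MulAction.orbitRel P O)) := Fintype.ofFinite _
    refine hne ?_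
    rw [← Finset.prod_fiberwise univ (fun o => Quotient.mk (MulAction.orbitRel P O) o)]
    exact Finset.prod_eq_one fun q _ => hall q
  set o₀ := q.out with ho₀
  set T := univ.filter (fun o => Quotient.mk (MulAction.orbitRel P O) o = q) with hTdef
  have hTmem : ∀ o, o ∈ T ↔ ∃ g : P, g • o₀ = o := by
    intro o
    rw [hTdef, Finset.mem_filter]
    simp only [Finset.mem_univ, true_and]
    refine ⟨fun h => ?_, ?_⟩
    · have h' : Quotient.mk (MulAction.orbitRel P O) o = Quotient.mk (MulAction.orbitRel P O) o₀ := by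
        rw [h, ho₀, Quotient.out_eq]
      exact MulAction.mem_orbit_iff.1 (Quotient.exact h')
    · rintro ⟨g, rfl⟩
      exact (Quotient.sound (MulAction.mem_orbit o₀ g)).trans (Quotient.out_eq q)
  set St := MulAction.stabilizer P o₀ with hSt
  have hSttop : St ≠ ⊤ := by
    intro htop
    have hfix : ∀ g : P, g • o₀ = o₀ := fun g => (htop.ge (Subgroup.mem_top g) : g ∈ St)
    refine hq (Finset.prod_eq_one fun o ho => ?_)
    obtain ⟨g, rfl⟩ := (hTmem o).1 ho
    rw [hfix]
    exact h3 o₀ hfix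
  obtain ⟨M, hM, hStM⟩ := (eq_top_or_exists_le_coatom St).resolve_left hSttop
  haveI := hP.isNilpotent
  haveI hMn : M.Normal := Subgroup.NormalizerCondition.normal_of_coatom M Group.normalizerCondition_of_isNilpotent hM
  have hMidx : M.index = p := CfsgLib.PGroup.Frattini.index_of_isCoatom hP hM
  let k : O → P ⧸ M := fun o => if h : ∃ g : P, g • o₀ = o then (QuotientGroup.mk h.choose) else 1
  have hk : ∀ g : P, k (g • o₀) = QuotientGroup.mk g := fun g => by
    have h : ∃ g' : P, g' • o₀ = g • o₀ := ⟨g, rfl⟩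
    simp only [k, dif_pos h]
    refine QuotientGroup.eq.2 (hStM ?_)
    show (h.choose⁻¹ * g) • o₀ = o₀
    rw [mul_smul]
    exact inv_smul_eq_iff.2 h.choose_spec.symm
  have hyM : y ∈ M := by
    by_contra hy
    refine hq (hfree T (fun o ho => ?_) fun o ho hfix => ?_)
    · obtain ⟨g, rfl⟩ := (hTmem o).1 ho
      exact (hTmem _).2 ⟨y * g, mul_smul _ _ _⟩
    · obtain ⟨g, rfl⟩ := (hTmem o).1 ho
      have h := hk (y * g)
      rw [mul_smul, hfix, hk, QuotientGroup.eq] at h
      refine hy ?_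
      have := hMn.conj_mem _ h g
      simpa [mul_assoc] using this
  let T₀ := T.filter (fun o => k o = 1)
  have hinv : ∀ m ∈ M, ∀ o ∈ T₀, m • o ∈ T₀ := by
    intro m hm o ho
    simp only [T₀, Finset.mem_filter] at ho ⊢
    obtain ⟨g, rfl⟩ := (hTmem o).1 ho.1
    refine ⟨(hTmem _).2 ⟨m * g, mul_smul _ _ _⟩, ?_⟩
    rw [← mul_smul, hk, QuotientGroup.eq_one_iff]
    rw [hk, QuotientGroup.eq_one_iff] at ho
    exact mul_mem hm ho.2
  let ψ : ↥M →* A := MonoidHom.mk' (fun m => ∏ o ∈ T₀, e m o) fun a b => by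
    show ∏ o ∈ T₀, e ((a : P) * b) o = _
    rw [Finset.prod_congr rfl fun o _ => hc (a : P) b o, Finset.prod_mul_distrib]
    congr 1
    refine Finset.prod_bij (fun o _ => (b : P) • o) (hinv b b.2) (fun _ _ _ _ h => smul_left_cancel _ h)
      (fun o ho => ⟨(b : P)⁻¹ • o, hinv _ (inv_mem b.2) o ho, smul_inv_smul _ _⟩) fun _ _ => rfl
  have hψp : ∀ m, ψ m ^ p = 1 := fun m => by
    show (∏ o ∈ T₀, e m o) ^ p = 1
    rw [← Finset.prod_pow]
    exact prod_eq_one (fun g o => e g o ^ p) cp hcp (m : P) T₀ (hinv m m.2)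
  have hfib : ∀ g : P, ∏ o ∈ T.filter (fun o => k o = QuotientGroup.mk g), e y o =
      ψ ⟨g⁻¹ * y * g, by simpa using hMn.conj_mem _ hyM g⁻¹⟩ := by
    intro g
    have hbij : ∏ o ∈ T₀, e y (g • o) = ∏ o ∈ T.filter (fun o => k o = QuotientGroup.mk g), e y o := by
      refine Finset.prod_bij (fun o _ => g • o) (fun o ho => ?_) (fun _ _ _ _ h => smul_left_cancel _ h)
        (fun o ho => ⟨g⁻¹ • o, ?_, smul_inv_smul _ _⟩) fun _ _ => rfl
      · simp only [T₀, Finset.mem_filter] at ho ⊢
        obtain ⟨a, rfl⟩ := (hTmem o).1 ho.1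
        refine ⟨(hTmem _).2 ⟨g * a, mul_smul _ _ _⟩, ?_⟩
        rw [← mul_smul, hk, QuotientGroup.mk_mul]
        rw [hk] at ho
        rw [ho.2, mul_one]
      · simp only [T₀, Finset.mem_filter] at ho ⊢
        obtain ⟨a, rfl⟩ := (hTmem o).1 ho.1
        refine ⟨(hTmem _).2 ⟨g⁻¹ * a, mul_smul _ _ _⟩, ?_⟩
        rw [← mul_smul, hk, QuotientGroup.mk_mul]
        rw [hk] at ho
        rw [ho.2, QuotientGroup.mk_inv, inv_mul_cancel]
    rw [← hbij]
    show _ = ∏ o ∈ T₀, e (g⁻¹ * y * g) o
    have key : ∀ o, e y (g • o) * e g o = e g ((g⁻¹ * y * g) • o) * e (g⁻¹ * y * g) o := fun o => by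
      rw [← hc, ← hc]
      congr 1
      group
    have h := Finset.prod_congr (rfl : T₀ = T₀) fun o _ => key o
    rw [Finset.prod_mul_distrib, Finset.prod_mul_distrib] at h
    have hperm : ∏ o ∈ T₀, e g ((g⁻¹ * y * g) • o) = ∏ o ∈ T₀, e g o := by
      have hy' : g⁻¹ * y * g ∈ M := by simpa using hMn.conj_mem _ hyM g⁻¹
      exact Finset.prod_bij (fun o _ => (g⁻¹ * y * g) • o) (hinv _ hy') (fun _ _ _ _ h => smul_left_cancel _ h)
        (fun o ho => ⟨(g⁻¹ * y * g)⁻¹ • o, hinv _ (inv_mem hy') o ho, smul_inv_smul _ _⟩) fun _ _ => rfl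
    rw [hperm, mul_comm (∏ o ∈ T₀, e g o)] at h
    exact mul_right_cancel h
  obtain ⟨z, hz⟩ : ∃ z, z ∉ M := SetLike.exists_not_mem_of_ne_top M hM.1 rfl
  set x₀ : P ⧸ M := QuotientGroup.mk z with hx₀
  have hx₀1 : x₀ ≠ 1 := fun h => hz ((QuotientGroup.eq_one_iff z).1 h)
  haveI : Fintype (P ⧸ M) := Fintype.ofFinite _
  have hcard : Nat.card (P ⧸ M) = p := by rw [← Subgroup.index_eq_card]; exact hMidx
  have hord : orderOf x₀ = p := by
    rcases (Nat.dvd_prime (Fact.out : p.Prime)).1 (hcard ▸ orderOf_dvd_natCard x₀) with h | h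
    · exact absurd (orderOf_eq_one_iff.1 h) hx₀1
    · exact h
  have himg : (univ : Finset (P ⧸ M)) = (Finset.range p).image (fun i => x₀ ^ i) := by
    refine (Finset.eq_of_subset_of_card_le (Finset.subset_univ _) ?_).symm
    rw [Finset.card_image_of_injOn, Finset.card_univ, Finset.card_range, ← Nat.card_eq_fintype_card, hcard]
    intro a ha b hb h
    exact pow_injOn_Iio_orderOf (by rw [hord]; exact Finset.mem_range.1 ha) (by rw [hord]; exact Finset.mem_range.1 hb) h
  let f : P → P := fun w => w⁻¹ * z⁻¹ * w * z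
  have hfM : ∀ j, f^[j] y ∈ M := by
    intro j
    induction j with
    | zero => exact hyM
    | succ j ih =>
      rw [Function.iterate_succ_apply']
      show (f^[j] y)⁻¹ * z⁻¹ * f^[j] y * z ∈ M
      rw [show (f^[j] y)⁻¹ * z⁻¹ * f^[j] y * z = (f^[j] y)⁻¹ * (z⁻¹ * f^[j] y * z) by group]
      exact mul_mem (inv_mem ih) (by simpa using hMn.conj_mem _ ih z⁻¹)
  let Φ : ℕ → ℕ → A := fun j i => ψ ⟨(z ^ i)⁻¹ * f^[j] y * z ^ i, by simpa using hMn.conj_mem _ (hfM j) (z ^ i)⁻¹⟩
  have hdiff := CfsgLib.LocalEven.Yoshida.diff_prod (p := p) Φ (fun j i => by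
    rw [eq_div_iff_mul_eq', mul_comm, ← map_mul]
    refine congrArg ψ (Subtype.ext ?_)
    show (z ^ i)⁻¹ * f^[j] y * z ^ i * ((z ^ i)⁻¹ * f^[j + 1] y * z ^ i) = _
    rw [Function.iterate_succ_apply']
    simp [f, pow_succ', mul_assoc]) fun i => hψp _
  have hprod : ∏ i ∈ Finset.range p, Φ 0 i ≠ 1 := by
    intro hone
    refine hq ?_
    rw [← Finset.prod_fiberwise T k, himg, Finset.prod_image (fun a ha b hb h =>
      pow_injOn_Iio_orderOf (by rw [hord]; exact Finset.mem_range.1 ha) (by rw [hord]; exact Finset.mem_range.1 hb) h)]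
    refine (Finset.prod_congr rfl fun i _ => ?_).trans hone
    simp only [hx₀, ← QuotientGroup.mk_pow]
    rw [hfib]
    rfl
  rw [← hdiff] at hprod
  have hu : f^[p - 1] y ∈ M := hfM _
  refine wreath_image hP hM y z _ hu (CfsgLib.LocalEven.Yoshida.not_mem_frattini ψ hψp ?_) rfl
  intro h
  refine hprod ?_
  show ψ _ = 1
  rw [← h]
  exact congrArg ψ (Subtype.ext (by simp))

end CfsgLib.KGroups.Wreath
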